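/-
Classes of 3-transpositions: elementary lemmas.
-/
import Cfsg.Prelude.Def_SporadicB

namespace CfsgLib.Spor.Tri

variable {G : Type*} [Group G]

/-- Conjugacy of ordered pairs. -/
def Conj2 (a b c d : G) : Prop := ∃ g : G, g * a * g⁻¹ = c ∧ g * b * g⁻¹ = d

theorem Conj2.refl (a b : G) : Conj2 a b a b := ⟨1, by simp, by simp⟩

theorem Conj2.symm {a b c d : G} (h : Conj2 a b c d) : Conj2 c d a b := by
  obtain ⟨g, rfl, rfl⟩ := h; exact ⟨g⁻¹, by group, by group⟩

theorem Conj2.trans {a b c d e f : G} (h : Conj2 a b c d) (h' : Conj2 c d e f) : Conj2 a b e f := by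
  obtain ⟨g, rfl, rfl⟩ := h; obtain ⟨k, rfl, rfl⟩ := h'
  exact ⟨k * g, by group, by group⟩

theorem Conj2.flip {a b c d : G} (h : Conj2 a b c d) : Conj2 b a d c := by
  obtain ⟨g, h1, h2⟩ := h; exact ⟨g, h2, h1⟩

/-- A conjugation-stable set of involutions with products of order at most 3, generating one class. -/
structure Hyp (D : Set G) : Prop where
  set : Cfsg.IsThreeTranspositionSet D
  conj : ∀ g : G, ∀ d ∈ D, g * d * g⁻¹ ∈ D
  transitive : ∀ a ∈ D, ∀ b ∈ D, ∃ g : G, g * a * g⁻¹ = b
  gen : Subgroup.closure D = ⊤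

theorem hyp_of_class {D : Set G} (h : Cfsg.IsThreeTranspositionClass D) : Hyp D := by
  obtain ⟨hs, ⟨d, -, hDd⟩, hg⟩ := h
  refine ⟨hs, fun g x hx => ?_, fun a ha b hb => ?_, hg⟩
  · rw [hDd] at hx ⊢
    exact IsConj.trans (hx : IsConj d x) (isConj_iff.2 ⟨g, rfl⟩)
  · rw [hDd] at ha hb
    exact isConj_iff.1 (IsConj.trans (ha : IsConj d a).symm (hb : IsConj d b))

/-- The other members commuting with a given one. -/
def perp (D : Set G) (a : G) : Set G := {x | x ∈ D ∧ x ≠ a ∧ Commute a x}

/-- Adjacency of two non-commuting members. -/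
def NAdj (D : Set G) (x y : G) : Prop := x ∈ D ∧ y ∈ D ∧ ¬ Commute x y

theorem NAdj.symm {D : Set G} {x y : G} (h : NAdj D x y) : NAdj D y x :=
  ⟨h.2.1, h.1, fun hc => h.2.2 hc.symm⟩

variable {D : Set G} (h : Hyp D)
include h

theorem Hyp.mul_self {a : G} (ha : a ∈ D) : a * a = 1 := by
  have := pow_orderOf_eq_one a; rwa [h.set.1 a ha, pow_two] at this

theorem Hyp.inv_eq {a : G} (ha : a ∈ D) : a⁻¹ = a := inv_eq_of_mul_eq_one_right (h.mul_self ha)

theorem Hyp.ne_one {a : G} (ha : a ∈ D) : a ≠ 1 := fun e => by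
  have := h.set.1 a ha; rw [e, orderOf_one] at this; exact absurd this (by norm_num)

theorem Hyp.conj_mem' {a b : G} (ha : a ∈ D) (hb : b ∈ D) : a * b * a ∈ D := by
  simpa [h.inv_eq ha] using h.conj a b hb

theorem Hyp.commute_iff_sq {a b : G} (ha : a ∈ D) (hb : b ∈ D) : Commute a b ↔ (a * b) ^ 2 = 1 := by
  constructor
  · intro hc; rw [hc.mul_pow, pow_two, pow_two, h.mul_self ha, h.mul_self hb, one_mul]
  · intro e
    rw [pow_two] at e
    show a * b = b * a
    rw [eq_inv_of_mul_eq_one_left e, mul_inv_rev, h.inv_eq ha, h.inv_eq hb]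

theorem Hyp.cube {a b : G} (ha : a ∈ D) (hb : b ∈ D) (hn : ¬ Commute a b) : (a * b) ^ 3 = 1 :=
  (h.set.2 a ha b hb).resolve_left fun e => hn ((h.commute_iff_sq ha hb).2 e)

theorem Hyp.braid {a b : G} (ha : a ∈ D) (hb : b ∈ D) (hn : ¬ Commute a b) : a * b * a = b * a * b := by
  have e := h.cube ha hb hn
  have e' : a * b * a * (b * a * b) = 1 := by rw [← e]; simp [pow_succ, mul_assoc]
  rw [eq_inv_of_mul_eq_one_left e']
  simp [mul_inv_rev, h.inv_eq ha, h.inv_eq hb, mul_assoc]

/-- `a b a` in terms of the other line points. -/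
theorem Hyp.conj_conj {a b : G} (ha : a ∈ D) : a * (a * b * a) * a = b := by
  calc a * (a * b * a) * a = (a * a) * b * (a * a) := by group
    _ = b := by rw [h.mul_self ha]; group

theorem Hyp.commute_conj {a x y : G} (ha : a ∈ D) : Commute (a * x * a) (a * y * a) ↔ Commute x y := by
  have := Commute.conj_iff (a := x) (b := y) a
  rwa [h.inv_eq ha] at this

theorem Hyp.conj_fix {a x : G} (ha : a ∈ D) (hc : Commute a x) : a * x * a = x := by
  rw [hc.eq, mul_assoc, h.mul_self ha, mul_one]

omit h in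
theorem ne_of_not_commute {a b : G} (hn : ¬ Commute a b) : a ≠ b := fun e => hn (e ▸ Commute.refl a)

theorem Hyp.third_not_commute {a b : G} (ha : a ∈ D) (_hb : b ∈ D) (hn : ¬ Commute a b) :
    ¬ Commute a (a * b * a) := fun hc => hn <| by
  have := (h.commute_conj ha (x := a) (y := a * b * a)).2 hc
  rwa [h.conj_conj ha, h.conj_fix ha (Commute.refl a)] at this

theorem Hyp.third_ne {a b : G} (ha : a ∈ D) (_hb : b ∈ D) (hn : ¬ Commute a b) : a * b * a ≠ b := fun e => by
  apply hn
  show a * b = b * a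
  calc a * b = a * b * (a * a) := by rw [h.mul_self ha, mul_one]
    _ = a * b * a * a := by group
    _ = b * a := by rw [e]

omit h in
theorem commute_third {e a b : G} (hea : Commute e a) (heb : Commute e b) : Commute e (a * b * a) :=
  (hea.mul_right heb).mul_right hea

theorem Hyp.conj2_swap {a b : G} (ha : a ∈ D) (hb : b ∈ D) (hn : ¬ Commute a b) : Conj2 a b b a := by
  have e := h.braid ha hb hn
  refine ⟨a * b * a, ?_, ?_⟩ <;>
    simp only [mul_inv_rev, h.inv_eq ha, h.inv_eq hb]
  · calc a * b * a * a * (a * (b * a)) = a * b * (a * a) * (a * (b * a)) := by group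
      _ = a * (b * a * b) * a := by rw [h.mul_self ha]; group
      _ = a * (a * b * a) * a := by rw [e]
      _ = b := h.conj_conj ha
  · calc a * b * a * b * (a * (b * a)) = (a * b) ^ 3 * a := by simp [pow_succ, mul_assoc]
      _ = a := by rw [h.cube ha hb hn, one_mul]

/-- Two commuting members not commuting with `a` are exchanged inside the centralizer of `a`. -/
theorem Hyp.conj2_of_commute {a b c : G} (ha : a ∈ D) (hb : b ∈ D) (hc : c ∈ D) (hbc : Commute b c)
    (hab : ¬ Commute a b) (hac : ¬ Commute a c) : Conj2 a b a c := by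
  have e1 := h.braid ha hb hab
  have e2 := h.braid ha hc hac
  have hbb := h.mul_self hb
  have haa := h.mul_self ha
  have hcbc : c * b * c = b := by rw [← hbc.eq, mul_assoc, h.mul_self hc, mul_one]
  have hbcb : b * c * b = c := by rw [hbc.eq, mul_assoc, hbb, mul_one]
  have hh1 : (b * a * c * a * b) * a * (b * a * c * a * b)⁻¹ = a := by
    simp only [mul_inv_rev, h.inv_eq ha, h.inv_eq hb, h.inv_eq hc]
    calc b * a * c * a * b * a * (b * (a * (c * (a * b))))
        = b * a * c * (a * b * a) * b * a * c * a * b := by group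
      _ = b * a * c * b * a * (b * b) * a * c * a * b := by rw [e1]; group
      _ = b * a * (c * b * c) * a * b := by rw [hbb, mul_one, mul_assoc (b * a * c * b) a a, haa]; group
      _ = b * (a * b * a) * b := by rw [hcbc]; group
      _ = a := by rw [e1]; simp [← mul_assoc, hbb]; rw [mul_assoc, hbb, mul_one]
  have hh2 : (b * a * c * a * b) * b * (b * a * c * a * b)⁻¹ = a * c * a := by
    simp only [mul_inv_rev, h.inv_eq ha, h.inv_eq hb, h.inv_eq hc]
    calc b * a * c * a * b * b * (b * (a * (c * (a * b))))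
        = b * a * c * a * (b * b) * b * a * c * a * b := by group
      _ = b * a * c * (a * b * a) * c * a * b := by rw [hbb]; group
      _ = b * a * ((c * b) * a * (b * c)) * a * b := by rw [e1]; group
      _ = b * a * ((b * c) * a * (c * b)) * a * b := by rw [hbc.eq]
      _ = (b * a * b) * (c * a * c) * (b * a * b) := by group
      _ = (a * b * a) * (a * c * a) * (a * b * a) := by rw [e1, e2]
      _ = a * b * (a * a) * c * (a * a) * b * a := by group
      _ = a * (b * c * b) * a := by rw [haa]; group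
      _ = a * c * a := by rw [hbcb]
  refine ⟨a * (b * a * c * a * b), ?_, ?_⟩
  · calc a * (b * a * c * a * b) * a * (a * (b * a * c * a * b))⁻¹
        = a * ((b * a * c * a * b) * a * (b * a * c * a * b)⁻¹) * a⁻¹ := by group
      _ = a := by rw [hh1]; group
  · calc a * (b * a * c * a * b) * b * (a * (b * a * c * a * b))⁻¹
        = a * ((b * a * c * a * b) * b * (b * a * c * a * b)⁻¹) * a⁻¹ := by group
      _ = c := by rw [hh2, h.inv_eq ha, h.conj_conj ha]

/-- A nonempty subset closed under conjugation by every member is the whole class. -/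
theorem Hyp.eq_of_stable [Finite G] {S : Set G} (hSD : S ⊆ D) (hne : S.Nonempty)
    (hst : ∀ d ∈ D, ∀ x ∈ S, d * x * d ∈ S) : S = D := by
  refine Set.Subset.antisymm hSD fun b hb => ?_
  obtain ⟨a, ha⟩ := hne
  obtain ⟨g, rfl⟩ := h.transitive a (hSD ha) b hb
  have key : ∀ g : G, ∀ x ∈ S, g * x * g⁻¹ ∈ S := by
    intro g
    have hg : g ∈ Subgroup.closure D := h.gen ▸ Subgroup.mem_top g
    induction hg using Subgroup.closure_induction'' with
    | mem d hd => intro x hx; rw [h.inv_eq hd]; exact hst d hd x hx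
    | inv_mem d hd => intro x hx; rw [inv_inv, h.inv_eq hd]; exact hst d hd x hx
    | one => intro x hx; simpa using hx
    | mul u v _ _ hu hv =>
      intro x hx
      have := hu _ (hv x hx)
      rwa [show u * v * x * (u * v)⁻¹ = u * (v * x * v⁻¹) * u⁻¹ by group]
  exact key g a ha

/-- Non-commuting adjacency connects the class. -/
theorem Hyp.noncomm_connected [Finite G] {a b : G} (ha : a ∈ D) (hb : b ∈ D) :
    Relation.ReflTransGen (NAdj D) a b := by
  have e := h.eq_of_stable (S := {x | x ∈ D ∧ Relation.ReflTransGen (NAdj D) a x}) (fun x hx => hx.1)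
    ⟨a, ha, Relation.ReflTransGen.refl⟩ fun d hd x ⟨hx, hax⟩ => ⟨h.conj_mem' hd hx, ?_⟩
  · exact (e.symm ▸ hb : b ∈ {x | x ∈ D ∧ Relation.ReflTransGen (NAdj D) a x}).2
  by_cases hc : Commute d x
  · rw [h.conj_fix hd hc]; exact hax
  · refine hax.tail ⟨hx, h.conj_mem' hd hx, ?_⟩
    rw [h.braid hd hx hc]
    exact h.third_not_commute hx hd fun hc' => hc hc'.symm

theorem Hyp.exists_not_commute [Finite G] {a b : G} (ha : a ∈ D) (hb : b ∈ D) (hab : a ≠ b) :
    ∃ c ∈ D, ¬ Commute a c := by
  rcases (h.noncomm_connected ha hb).cases_head with e | ⟨c, hc, -⟩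
  · exact absurd e hab
  · exact ⟨c, hc.2.1, hc.2.2⟩

/-- A central product of two members is trivial. -/
theorem Hyp.eq_of_central [Finite G] {a b : G} (ha : a ∈ D) (hb : b ∈ D)
    (hz : a * b ∈ Subgroup.center G) : a = b := by
  by_contra hab
  have hz' : ∀ g : G, g * (a * b) = a * b * g := Subgroup.mem_center_iff.1 hz
  have hcomm : Commute a b := by
    have := hz' a
    show a * b = b * a
    rw [← mul_assoc, h.mul_self ha, one_mul] at this
    calc a * b = a * b * (a * a) := by rw [h.mul_self ha, mul_one]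
      _ = a * b * a * a := by group
      _ = b * a := by rw [← this]
  obtain ⟨e, he, hea⟩ := h.exists_not_commute ha hb hab
  have hbe : ¬ Commute b e := by
    intro hbe
    apply hea
    have e1 : a = (a * b) * b := by rw [mul_assoc, h.mul_self hb, mul_one]
    rw [e1]
    exact Commute.mul_left (hz' e).symm hbe
  have h3a := h.cube ha he hea
  have h3b := h.cube hb he hbe
  have hsq : (a * b) ^ 2 = 1 := (h.commute_iff_sq ha hb).1 hcomm
  have hb' : b * e = (a * b) * (a * e) := by
    have : (a * b) * a = a * (a * b) := (hz' a).symm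
    rw [← mul_assoc, this, ← mul_assoc, h.mul_self ha, one_mul]
  rw [hb', (show Commute (a * b) (a * e) from (hz' (a * e)).symm).mul_pow, h3a, mul_one,
    pow_succ, hsq, one_mul] at h3b
  exact hab (by rw [eq_inv_of_mul_eq_one_left h3b, h.inv_eq hb])

end CfsgLib.Spor.Tri
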