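/-
Classes of 3-transpositions whose solvable normal subgroups are central: no two members share their commuting sets.
-/
import Cfsg.Agent.Lib.Spor.Tri.Basic
import Cfsg.Agent.Lib.Invol.PrimePowerClass
import Cfsg.Agent.Lib.Coprime.Core
import Cfsg.Agent.Lib.Char.Burnside

namespace CfsgLib.Spor.Tri

universe u

variable {G : Type u} [Group G]

/-- Every solvable normal subgroup is central. -/
def CentralRadical (G : Type*) [Group G] : Prop :=
  ∀ N : Subgroup G, N.Normal → Group.IsSolvable N → N ≤ Subgroup.center G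

theorem normalizer_closure_of_conj [Finite G] {S : Set G} {g : G} (h : ∀ x ∈ S, g * x * g⁻¹ ∈ Subgroup.closure S) :
    g ∈ Subgroup.normalizer (Subgroup.closure S : Set G) := by
  have hle : (Subgroup.closure S).map (MulAut.conj g).toMonoidHom ≤ Subgroup.closure S := by
    rw [MonoidHom.map_closure, Subgroup.closure_le]
    rintro _ ⟨x, hx, rfl⟩; exact h x hx
  have heq := Subgroup.eq_of_le_of_card_ge hle
    (le_of_eq (Subgroup.card_map_of_injective (MulAut.conj g).injective).symm)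
  rw [Subgroup.mem_normalizer_iff]
  intro x
  constructor
  · intro hx; rw [← heq]; exact ⟨x, hx, rfl⟩
  · intro hx
    rw [← heq] at hx
    obtain ⟨y, hy, e⟩ := hx
    have : y = x := (MulAut.conj g).injective e
    rwa [← this]

theorem sup_isSolvable_of_normal {H K : Subgroup G} (hK : K.Normal) (hs : Group.IsSolvable H)
    (ks : Group.IsSolvable K) : Group.IsSolvable ↥(H ⊔ K) := by
  haveI := hs
  haveI := ks
  haveI : (K.subgroupOf (H ⊔ K)).Normal := hK.comap _
  haveI h1 : Group.IsSolvable (K.subgroupOf (H ⊔ K)) :=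
    Group.isSolvable_of_isSolvable_injective
      (f := (Subgroup.subgroupOfEquivOfLe (le_sup_right : K ≤ H ⊔ K)).toMonoidHom)
      (Subgroup.subgroupOfEquivOfLe (le_sup_right : K ≤ H ⊔ K)).injective
  haveI h2 : Group.IsSolvable (↥(H ⊔ K) ⧸ K.subgroupOf (H ⊔ K)) := by
    refine Group.isSolvable_of_surjective (f := (QuotientGroup.mk' (K.subgroupOf (H ⊔ K))).comp
      (Subgroup.inclusion (le_sup_left : H ≤ H ⊔ K))) fun q => ?_
    obtain ⟨⟨x, hx⟩, rfl⟩ := QuotientGroup.mk'_surjective _ q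
    have hx' := hx
    rw [Subgroup.mem_sup_of_normal_right] at hx'
    obtain ⟨a, ha, b, hb, rfl⟩ := hx'
    refine ⟨⟨a, ha⟩, ?_⟩
    show QuotientGroup.mk' _ _ = QuotientGroup.mk' _ _
    rw [QuotientGroup.mk'_eq_mk']
    exact ⟨⟨b, le_sup_right (a := H) hb⟩, hb, Subtype.ext rfl⟩
  exact (Group.isSolvable_iff_subgroup_quotient _).2 ⟨h1, h2⟩

theorem isSolvable_sSup_normal [Finite G] {S : Set (Subgroup G)} (hS : ∀ N ∈ S, N.Normal ∧ Group.IsSolvable N) :
    Group.IsSolvable ↥(sSup S) :=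
  (CfsgLib.Coprime.sSup_normal_induction (P := fun N => Group.IsSolvable ↥N)
    (Group.isSolvable_of_surjective (f := (1 : Multiplicative ℤ →* (⊥ : Subgroup G)))
      fun x => ⟨1, Subsingleton.elim _ _⟩)
    (fun _ _ _ hK h1 h2 => sup_isSolvable_of_normal hK h1 h2) hS).2

theorem isSolvable_closure_of_normalized [Finite G] {ι : Type*} (T : ι → Subgroup G) {N : Subgroup G}
    (hle : ∀ i, T i ≤ N) (hgen : N ≤ ⨆ i, T i) (hnorm : ∀ i, N ≤ Subgroup.normalizer (T i : Set G))
    (hsol : ∀ i, Group.IsSolvable (T i)) : Group.IsSolvable N := by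
  have h := isSolvable_sSup_normal (S := Set.range fun i => (T i).subgroupOf N) (by
    rintro _ ⟨i, rfl⟩
    haveI := hsol i
    exact ⟨Subgroup.normal_subgroupOf_of_le_normalizer (hnorm i),
      Group.isSolvable_of_isSolvable_injective (f := (Subgroup.subgroupOfEquivOfLe (hle i)).toMonoidHom)
        (Subgroup.subgroupOfEquivOfLe (hle i)).injective⟩)
  have e : sSup (Set.range fun i => (T i).subgroupOf N) = ⊤ := by
    rw [eq_top_iff]
    rintro ⟨x, hx⟩ -
    have hle' : (⨆ i, T i) ≤ (sSup (Set.range fun i => (T i).subgroupOf N)).map N.subtype := by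
      refine iSup_le fun i y hy => ⟨⟨y, hle i hy⟩, ?_, rfl⟩
      have h1 : (T i).subgroupOf N ≤ sSup (Set.range fun i => (T i).subgroupOf N) := le_sSup ⟨i, rfl⟩
      exact h1 (Subgroup.mem_subgroupOf.2 hy)
    obtain ⟨y, hy, e⟩ := hle' (hgen hx)
    rwa [show (⟨x, hx⟩ : N) = y from Subtype.ext e.symm]
  rw [e] at h
  haveI := h
  exact Group.isSolvable_of_surjective (f := (⊤ : Subgroup N).subtype) fun x => ⟨⟨x, trivial⟩, rfl⟩

variable [Finite G] {D : Set G} (h : Hyp D) (hR : CentralRadical G)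
include h hR

/-- An invariant equivalence whose classes give solvable subgroups, each class being moved by equivalent members in
the same way, is trivial. -/
theorem Hyp.eq_of_rel (r : G → G → Prop) (hinv : ∀ g a b, r a b → r (g * a * g⁻¹) (g * b * g⁻¹))
    (hD : ∀ a b, r a b → a ∈ D ∧ b ∈ D)
    (hmove : ∀ a b x y, r a b → r x y → r ((a * b) * x * (a * b)⁻¹) x)
    (htrans : ∀ x y z, r x y → r y z → r x z) (hsymm : ∀ x y, r x y → r y x)
    (hsol : ∀ c, Group.IsSolvable (Subgroup.closure {z | ∃ x y, r c x ∧ r c y ∧ z = x * y}))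
    {a b : G} (hab : r a b) : a = b := by
  let P : Set G := {z | ∃ x y, r x y ∧ z = x * y}
  let N := Subgroup.closure P
  let T : G → Subgroup G := fun c => Subgroup.closure {z | ∃ x y, r c x ∧ r c y ∧ z = x * y}
  have hN : N.Normal := by
    rw [← Subgroup.normalizer_eq_top_iff, eq_top_iff]
    intro g _
    refine normalizer_closure_of_conj ?_
    rintro _ ⟨x, y, hxy, rfl⟩
    exact Subgroup.subset_closure ⟨_, _, hinv g x y hxy, by group⟩
  have hrefl : ∀ {x y}, r x y → r x x := fun hxy => htrans _ _ _ hxy (hsymm _ _ hxy)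
  have hTle : ∀ c, T c ≤ N := fun c => by
    rw [Subgroup.closure_le]
    rintro _ ⟨x, y, hx, hy, rfl⟩
    exact Subgroup.subset_closure ⟨x, y, htrans _ _ _ (hsymm _ _ hx) hy, rfl⟩
  have hgen : N ≤ ⨆ c, T c := by
    rw [Subgroup.closure_le]
    rintro _ ⟨x, y, hxy, rfl⟩
    exact le_iSup T x (Subgroup.subset_closure ⟨x, y, hrefl hxy, hxy, rfl⟩)
  have hnorm : ∀ c, N ≤ Subgroup.normalizer (T c : Set G) := fun c => by
    rw [Subgroup.closure_le]
    rintro _ ⟨p, q, hpq, rfl⟩
    refine normalizer_closure_of_conj ?_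
    rintro _ ⟨x, y, hx, hy, rfl⟩
    have hx' := hmove p q x c hpq (hsymm _ _ hx)
    have hy' := hmove p q y c hpq (hsymm _ _ hy)
    exact Subgroup.subset_closure ⟨_, _, htrans _ _ _ hx (hsymm _ _ hx'), htrans _ _ _ hy (hsymm _ _ hy'),
      by group⟩
  exact h.eq_of_central (hD a b hab).1 (hD a b hab).2
    (hR N hN (isSolvable_closure_of_normalized T hTle hgen hnorm hsol) (Subgroup.subset_closure ⟨a, b, hab, rfl⟩))

omit hR in
/-- As `eq_of_rel`, for classes giving `p`-groups: the products of related members lie in the `p`-core. -/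
theorem Hyp.mul_mem_pCore_of_rel (p : ℕ) (r : G → G → Prop) (hinv : ∀ g a b, r a b → r (g * a * g⁻¹) (g * b * g⁻¹))
    (hmove : ∀ a b x y, r a b → r x y → r ((a * b) * x * (a * b)⁻¹) x)
    (htrans : ∀ x y z, r x y → r y z → r x z) (hsymm : ∀ x y, r x y → r y x)
    (hp : ∀ c, IsPGroup p (Subgroup.closure {z | ∃ x y, r c x ∧ r c y ∧ z = x * y}))
    {a b : G} (hab : r a b) : a * b ∈ Cfsg.pCore p G := by
  let P : Set G := {z | ∃ x y, r x y ∧ z = x * y}
  let N := Subgroup.closure P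
  let T : G → Subgroup G := fun c => Subgroup.closure {z | ∃ x y, r c x ∧ r c y ∧ z = x * y}
  have hN : N.Normal := by
    rw [← Subgroup.normalizer_eq_top_iff, eq_top_iff]
    intro g _
    refine normalizer_closure_of_conj ?_
    rintro _ ⟨x, y, hxy, rfl⟩
    exact Subgroup.subset_closure ⟨_, _, hinv g x y hxy, by group⟩
  have hTle : ∀ c, T c ≤ N := fun c => by
    rw [Subgroup.closure_le]
    rintro _ ⟨x, y, hx, hy, rfl⟩
    exact Subgroup.subset_closure ⟨x, y, htrans _ _ _ (hsymm _ _ hx) hy, rfl⟩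
  have hnorm : ∀ c, N ≤ Subgroup.normalizer (T c : Set G) := fun c => by
    rw [Subgroup.closure_le]
    rintro _ ⟨u, v, huv, rfl⟩
    refine normalizer_closure_of_conj ?_
    rintro _ ⟨x, y, hx, hy, rfl⟩
    have hx' := hmove u v x c huv (hsymm _ _ hx)
    have hy' := hmove u v y c huv (hsymm _ _ hy)
    exact Subgroup.subset_closure ⟨_, _, htrans _ _ _ hx (hsymm _ _ hx'), htrans _ _ _ hy (hsymm _ _ hy'),
      by group⟩
  have htop : Cfsg.pCore p N = ⊤ := by
    rw [eq_top_iff]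
    have hgen : N ≤ (Cfsg.pCore p N).map N.subtype := by
      rw [Subgroup.closure_le]
      rintro _ ⟨x, y, hxy, rfl⟩
      have hmem : x * y ∈ N := Subgroup.subset_closure ⟨x, y, hxy, rfl⟩
      haveI : ((T x).subgroupOf N).Normal := Subgroup.normal_subgroupOf_of_le_normalizer (hnorm x)
      have hsub : (T x).subgroupOf N ≤ Cfsg.pCore p N :=
        CfsgLib.Coprime.le_pCore ((hp x).of_equiv (Subgroup.subgroupOfEquivOfLe (hTle x)).symm)
      refine ⟨⟨x * y, hmem⟩, hsub ?_, rfl⟩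
      rw [Subgroup.mem_subgroupOf]
      exact Subgroup.subset_closure ⟨x, y, htrans _ _ _ hxy (hsymm _ _ hxy), hxy, rfl⟩
    intro z _
    obtain ⟨w, hw, e⟩ := hgen z.2
    rwa [← Subtype.ext e]
  have hNp : IsPGroup p N := by
    have := CfsgLib.Coprime.pCore_isPGroup (G := N) p
    rw [htop] at this
    exact this.of_equiv Subgroup.topEquiv
  exact CfsgLib.Coprime.le_pCore hNp (Subgroup.subset_closure ⟨a, b, hab, rfl⟩)

omit hR in
theorem Hyp.perp_conj (g a : G) : perp D (g * a * g⁻¹) = (fun x => g * x * g⁻¹) '' perp D a := by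
  ext x
  constructor
  · rintro ⟨hx, hne, hc⟩
    refine ⟨g⁻¹ * x * g, ⟨by simpa using h.conj g⁻¹ x hx, fun e => hne (by rw [← e]; group), ?_⟩,
      by show g * (g⁻¹ * x * g) * g⁻¹ = x; group⟩
    rw [← Commute.conj_iff g]
    rwa [show g * (g⁻¹ * x * g) * g⁻¹ = x by group]
  · rintro ⟨y, ⟨hy, hne, hc⟩, rfl⟩
    exact ⟨h.conj g y hy, fun e => hne (by simpa using e), (Commute.conj_iff g).2 hc⟩

omit hR in
theorem Hyp.commute_self_conj {a x : G} (hx : x ∈ D) (hc : Commute x a) : x * a * x⁻¹ = a := by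
  rw [h.inv_eq hx, h.conj_fix hx hc]

omit hR in
theorem Hyp.conj_swap_mul {a b : G} (ha : a ∈ D) (hb : b ∈ D) (hn : ¬ Commute a b) :
    (a * b) * a * (a * b)⁻¹ = b := by
  have e := h.cube ha hb hn
  have e' : (a * b * a * b * a) * b = 1 := by rw [← e]; simp [pow_succ, mul_assoc]
  rw [mul_inv_rev, h.inv_eq ha, h.inv_eq hb]
  calc a * b * a * (b * a) = a * b * a * b * a := by group
    _ = b := by rw [eq_inv_of_mul_eq_one_left e', h.inv_eq hb]

omit hR in
theorem Hyp.perp_self_conj {a : G} (ha : a ∈ D) : (fun x => a * x * a⁻¹) '' perp D a = perp D a := by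
  rw [← h.perp_conj a a, show a * a * a⁻¹ = a by group]

omit hR in
/-- Products of members with the same other commuting members lie in the 3-core. -/
theorem Hyp.mul_mem_three_core {a b : G} (ha : a ∈ D) (hb : b ∈ D) (hab : perp D a = perp D b) :
    a * b ∈ Cfsg.pCore 3 G := by
  refine h.mul_mem_pCore_of_rel 3 (fun x y => x ∈ D ∧ y ∈ D ∧ perp D x = perp D y) ?_ ?_
    (fun x y z h1 h2 => ⟨h1.1, h2.2.1, h1.2.2.trans h2.2.2⟩) (fun x y h1 => ⟨h1.2.1, h1.1, h1.2.2.symm⟩) ?_
    ⟨ha, hb, hab⟩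
  · rintro g x y ⟨hx, hy, e⟩
    exact ⟨h.conj g x hx, h.conj g y hy, by rw [h.perp_conj, h.perp_conj, e]⟩
  · rintro p q x y ⟨hp, hq, e⟩ ⟨hx, -, -⟩
    refine ⟨h.conj _ x hx, hx, ?_⟩
    by_cases hxp : x ∈ perp D p
    · have hxq : x ∈ perp D q := e ▸ hxp
      rw [show p * q * x * (p * q)⁻¹ = p * (q * x * q⁻¹) * p⁻¹ by group,
        h.commute_self_conj hq hxq.2.2, h.commute_self_conj hp hxp.2.2]
    have hxq : x ∉ perp D q := e ▸ hxp
    have key : ∀ u ∈ D, x ∉ perp D u → perp D (u * x * u⁻¹) = (fun z => x * z * x⁻¹) '' perp D u := by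
      intro u hu hxu
      by_cases hc : Commute u x
      · have : x = u := by
          by_contra hne
          exact hxu ⟨hx, hne, hc⟩
        subst this
        rw [h.perp_self_conj hx, show x * x * x⁻¹ = x by group]
      · rw [h.inv_eq hu, h.braid hu hx hc, ← h.perp_conj, h.inv_eq hx]
    rw [show p * q * x * (p * q)⁻¹ = p * (q * x * q⁻¹) * p⁻¹ by group, h.perp_conj, key q hq hxq, ← e,
      ← key p hp hxp, ← h.perp_conj]
    congr 1
    rw [h.inv_eq hp, h.conj_conj hp]
  · intro c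
    let W : Set G := {x | c ∈ D ∧ x ∈ D ∧ perp D c = perp D x}
    let H := Subgroup.closure W
    have hWnc : ∀ x ∈ W, ∀ y ∈ W, x ≠ y → ¬ Commute x y := by
      rintro x ⟨-, hx, ex⟩ y ⟨-, hy, ey⟩ hne hc
      have : y ∈ perp D x := ⟨hy, hne.symm, hc⟩
      rw [← ex, ey] at this
      exact this.2.1 rfl
    have hWst : ∀ g ∈ H, ∀ x ∈ W, g * x * g⁻¹ ∈ W := by
      intro g hg
      induction hg using Subgroup.closure_induction'' with
      | mem u hu =>
        rintro x ⟨hc, hx, ex⟩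
        exact ⟨hc, h.conj u x hx, by rw [h.perp_conj, ← ex, hu.2.2, h.perp_self_conj hu.2.1]⟩
      | inv_mem u hu =>
        rintro x ⟨hc, hx, ex⟩
        rw [h.inv_eq hu.2.1]
        exact ⟨hc, h.conj u x hx, by rw [h.perp_conj, ← ex, hu.2.2, h.perp_self_conj hu.2.1]⟩
      | one => intro x hx; simpa using hx
      | mul u v _ _ hu hv =>
        intro x hx
        rw [show u * v * x * (u * v)⁻¹ = u * (v * x * v⁻¹) * u⁻¹ by group]
        exact hu _ (hv x hx)
    have hsub : Subgroup.closure {z | ∃ x y, x ∈ W ∧ y ∈ W ∧ z = x * y} ≤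
        (Cfsg.pCore 3 H).map H.subtype := by
      rw [Subgroup.closure_le]
      rintro _ ⟨x, y, hx, hy, rfl⟩
      refine ⟨⟨x * y, H.mul_mem (Subgroup.subset_closure hx) (Subgroup.subset_closure hy)⟩, ?_, rfl⟩
      let xH : H := ⟨x, Subgroup.subset_closure hx⟩
      obtain ⟨g, hg⟩ : ∃ g : H, g * xH * g⁻¹ = (⟨y, Subgroup.subset_closure hy⟩ : H) := by
        by_cases e : x = y
        · exact ⟨1, Subtype.ext (by simp [xH, e])⟩
        · exact ⟨xH * ⟨y, Subgroup.subset_closure hy⟩,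
            Subtype.ext (h.conj_swap_mul hx.2.1 hy.2.1 (hWnc x hx y hy e))⟩
      have key := CfsgLib.Invol.mul_conj_mem_pCore (p := 3) Nat.prime_three (by norm_num) (d := xH)
        (by rw [← Subgroup.orderOf_coe]; exact h.set.1 x hx.2.1) (fun g => by
          have hgx := hWst g g.2 x hx
          rw [← Subgroup.orderOf_coe]
          show ∃ k, orderOf (x * ((g : G) * x * (g : G)⁻¹)) = 3 ^ k
          by_cases e : x = (g : G) * x * (g : G)⁻¹
          · exact ⟨0, by rw [← e, h.mul_self hx.2.1, orderOf_one, pow_zero]⟩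
          · obtain ⟨k, -, hk⟩ := (Nat.dvd_prime_pow Nat.prime_three).1 (orderOf_dvd_of_pow_eq_one
              (h.cube hx.2.1 hgx.2.1 (hWnc x hx _ hgx e)) |>.trans (dvd_of_eq (pow_one 3).symm))
            exact ⟨k, hk⟩) g
      rw [hg] at key
      exact key
    have hp : IsPGroup 3 (Subgroup.closure {z | ∃ x y, x ∈ W ∧ y ∈ W ∧ z = x * y}) :=
      ((CfsgLib.Coprime.pCore_isPGroup (G := H) 3).map H.subtype).to_le hsub
    exact hp

/-- `W`: members with the same other commuting members are equal. -/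
theorem Hyp.eq_of_perp_eq {a b : G} (ha : a ∈ D) (hb : b ∈ D) (hab : perp D a = perp D b) : a = b := by
  haveI : Fact (Nat.Prime 3) := ⟨Nat.prime_three⟩
  haveI := (CfsgLib.Coprime.pCore_isPGroup (G := G) 3).isNilpotent
  exact h.eq_of_central ha hb
    (hR (Cfsg.pCore 3 G) (CfsgLib.Coprime.pCore_normal' 3) inferInstance (h.mul_mem_three_core ha hb hab))

omit hR in
/-- Products of members with the same commuting sets lie in the 2-core. -/
theorem Hyp.mul_mem_two_core {a b : G} (ha : a ∈ D) (hb : b ∈ D)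
    (hab : ∀ x ∈ D, Commute a x ↔ Commute b x) : a * b ∈ Cfsg.pCore 2 G := by
  refine h.mul_mem_pCore_of_rel 2 (fun x y => x ∈ D ∧ y ∈ D ∧ ∀ z ∈ D, Commute x z ↔ Commute y z) ?_
    ?_
    (fun x y z h1 h2 => ⟨h1.1, h2.2.1, fun w hw => (h1.2.2 w hw).trans (h2.2.2 w hw)⟩)
    (fun x y h1 => ⟨h1.2.1, h1.1, fun w hw => (h1.2.2 w hw).symm⟩) ?_ ⟨ha, hb, hab⟩
  · rintro g x y ⟨hx, hy, e⟩
    refine ⟨h.conj g x hx, h.conj g y hy, fun z hz => ?_⟩
    have hz' := h.conj g⁻¹ z hz
    rw [inv_inv] at hz'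
    rw [show z = g * (g⁻¹ * z * g) * g⁻¹ by group, Commute.conj_iff, Commute.conj_iff]
    exact e _ hz'
  · rintro p q x y ⟨hp, hq, e⟩ ⟨hx, -, -⟩
    refine ⟨h.conj _ x hx, hx, fun z hz => ?_⟩
    rw [show p * q * x * (p * q)⁻¹ = p * (q * x * q⁻¹) * p⁻¹ by group]
    by_cases hc : Commute p x
    · rw [h.commute_self_conj hq ((e x hx).1 hc), h.commute_self_conj hp hc]
    · have hcq : ¬ Commute q x := fun hh => hc ((e x hx).2 hh)
      rw [h.inv_eq hp, h.inv_eq hq, h.braid hq hx hcq]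
      have h1 : Commute (p * (x * q * x) * p) z ↔ Commute (x * q * x) (p * z * p) := by
        conv_lhs => rw [← h.conj_conj hp (b := z)]
        exact h.commute_conj hp
      have hw := h.conj_mem' hx (h.conj_mem' hp hz)
      have h2 : Commute (x * q * x) (p * z * p) ↔ Commute q (x * (p * z * p) * x) := by
        conv_lhs => rw [← h.conj_conj hx (b := p * z * p)]
        exact h.commute_conj hx
      have h3 : Commute p (x * (p * z * p) * x) ↔ Commute (p * (x * p * x) * p) z := by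
        conv_rhs => rw [← h.conj_conj hp (b := z)]
        rw [h.commute_conj hp]
        conv_rhs => rw [← h.conj_conj hx (b := p * z * p)]
        rw [h.commute_conj hx]
      rw [h1, h2, ← e _ hw, h3, ← h.braid hp hx hc, h.conj_conj hp]
  · intro c
    intro u
    refine ⟨1, Subtype.ext ?_⟩
    have hcomm : ∀ s ∈ {z | ∃ x y, (c ∈ D ∧ x ∈ D ∧ ∀ w ∈ D, Commute c w ↔ Commute x w) ∧
        (c ∈ D ∧ y ∈ D ∧ ∀ w ∈ D, Commute c w ↔ Commute y w) ∧ z = x * y},
        ∀ t ∈ {z | ∃ x y, (c ∈ D ∧ x ∈ D ∧ ∀ w ∈ D, Commute c w ↔ Commute x w) ∧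
        (c ∈ D ∧ y ∈ D ∧ ∀ w ∈ D, Commute c w ↔ Commute y w) ∧ z = x * y}, s * t = t * s := by
      rintro _ ⟨x, y, hx, hy, rfl⟩ _ ⟨x', y', hx', hy', rfl⟩
      have k : ∀ {x z : G}, (c ∈ D ∧ x ∈ D ∧ ∀ w ∈ D, Commute c w ↔ Commute x w) →
          (c ∈ D ∧ z ∈ D ∧ ∀ w ∈ D, Commute c w ↔ Commute z w) → Commute x z := fun {x z} h1 h2 =>
        (h1.2.2 z h2.2.1).1 ((h2.2.2 z h2.2.1).2 (Commute.refl z))
      exact ((k hx hx').mul_right (k hx hy')).mul_left ((k hy hx').mul_right (k hy hy'))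
    have := Subgroup.isMulCommutative_closure hcomm
    suffices ∀ z ∈ Subgroup.closure {z | ∃ x y, (c ∈ D ∧ x ∈ D ∧ ∀ w ∈ D, Commute c w ↔ Commute x w) ∧
        (c ∈ D ∧ y ∈ D ∧ ∀ w ∈ D, Commute c w ↔ Commute y w) ∧ z = x * y}, z ^ 2 = 1 by
      simpa using this u u.2
    intro z hz
    induction hz using Subgroup.closure_induction with
    | mem z hz =>
      obtain ⟨x, y, hx, hy, rfl⟩ := hz
      exact (h.commute_iff_sq hx.2.1 hy.2.1).1 ((hx.2.2 y hy.2.1).1 ((hy.2.2 y hy.2.1).2 (Commute.refl y)))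
    | one => simp
    | mul u v hu hv e1 e2 => rw [Commute.mul_pow (setLike_mul_comm hu hv), e1, e2, one_mul]
    | inv u _ e1 => rw [inv_pow, e1, inv_one]

/-- `V`: commuting sets containing the member itself determine it. -/
theorem Hyp.eq_of_nbhd_eq {a b : G} (ha : a ∈ D) (hb : b ∈ D)
    (hab : ∀ x ∈ D, Commute a x ↔ Commute b x) : a = b := by
  haveI : Fact (Nat.Prime 2) := ⟨Nat.prime_two⟩
  haveI := (CfsgLib.Coprime.pCore_isPGroup (G := G) 2).isNilpotent
  exact h.eq_of_central ha hb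
    (hR (Cfsg.pCore 2 G) (CfsgLib.Coprime.pCore_normal' 2) inferInstance (h.mul_mem_two_core ha hb hab))

end CfsgLib.Spor.Tri
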