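/-
Symmetric groups of degree three and four inside groups generated by involutions.
-/
import Mathlib

namespace CfsgLib.Spor.Tri

variable {G : Type*} [Group G]

def evWord {k : ℕ} {H : Type*} [Group H] (g : Fin k → H) (w : List (Fin k)) : H := (w.map g).prod

theorem evWord_mem {k : ℕ} (g : Fin k → G) (w : List (Fin k)) :
    evWord g w ∈ Subgroup.closure (Set.range g) := by
  refine Subgroup.list_prod_mem _ fun x hx => ?_
  obtain ⟨i, -, rfl⟩ := List.mem_map.1 hx
  exact Subgroup.subset_closure ⟨i, rfl⟩

/-- A hom out of a group listed by words, from a left multiplication table. -/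
theorem exists_hom_of_table {k m : ℕ} {S : Type*} [Group S] (s : Fin k → S) (g : Fin k → G)
    (W : Fin m → List (Fin k)) (T : Fin k → Fin m → Fin m) (hS : ∀ i j, s i * evWord s (W j) = evWord s (W (T i j)))
    (hG : ∀ i j, g i * evWord g (W j) = evWord g (W (T i j)))
    (hbij : Function.Bijective fun j => evWord s (W j)) :
    ∃ φ : S →* G, ∀ j, φ (evWord s (W j)) = evWord g (W j) := by
  let e := Equiv.ofBijective _ hbij
  let f : S → G := fun x => evWord g (W (e.symm x))
  have hf : ∀ j, f (evWord s (W j)) = evWord g (W j) := fun j => by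
    show evWord g (W (e.symm (e j))) = _
    rw [e.symm_apply_apply]
  have key : ∀ (w : List (Fin k)) (j : Fin m), f (evWord s w * evWord s (W j)) = evWord g w * evWord g (W j) := by
    intro w
    induction w with
    | nil => intro j; simp only [evWord, List.map_nil, List.prod_nil, one_mul]; exact hf j
    | cons i w ih =>
      intro j
      obtain ⟨l, hl⟩ := hbij.2 (evWord s w * evWord s (W j))
      have h1 := ih j
      rw [← hl, hf] at h1
      simp only [evWord, List.map_cons, List.prod_cons, mul_assoc] at h1 hl ⊢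
      rw [← hl, ← h1]
      have h2 := hS i l
      have h3 := hG i l
      simp only [evWord] at h2 h3
      rw [h2, h3]
      exact hf _
  refine ⟨MonoidHom.mk' f fun x y => ?_, hf⟩
  obtain ⟨i, rfl⟩ := hbij.2 x
  obtain ⟨j, rfl⟩ := hbij.2 y
  rw [key (W i) j, hf, hf]

def words3 : Fin 6 → List (Fin 2) := ![[], [0], [1], [1, 0], [0, 1], [0, 1, 0]]
def table3 : Fin 2 → Fin 6 → Fin 6 := ![![1, 0, 4, 5, 2, 3], ![2, 3, 0, 1, 5, 4]]
def words4 : Fin 24 → List (Fin 3) := ![[], [0], [1], [2], [1, 0], [0, 1], [2, 1], [0, 2], [1, 2], [0, 1, 0], [2, 1, 0], [0, 2, 1], [1, 2, 1], [1, 0, 2], [0, 1, 2], [0, 2, 1, 0], [1, 2, 1, 0], [1, 0, 2, 1], [0, 1, 2, 1], [0, 1, 0, 2], [1, 0, 2, 1, 0], [0, 1, 2, 1, 0], [0, 1, 0, 2, 1], [0, 1, 0, 2, 1, 0]]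
def table4 : Fin 3 → Fin 24 → Fin 24 := ![![1, 0, 5, 7, 9, 2, 11, 3, 14, 4, 15, 6, 18, 19, 8, 10, 21, 22, 12, 13, 23, 16, 17, 20], ![2, 4, 0, 8, 1, 9, 12, 13, 3, 5, 16, 17, 6, 7, 19, 20, 10, 11, 22, 14, 15, 23, 18, 21], ![3, 7, 6, 0, 10, 11, 2, 1, 12, 15, 4, 5, 8, 16, 18, 9, 13, 20, 14, 21, 17, 19, 23, 22]]
def witness4 : Fin 24 → Fin 24 × Fin 24 := ![(0, 0), (0, 17), (4, 8), (0, 17), (0, 12), (0, 14), (0, 10), (2, 5), (0, 9), (2, 13), (2, 2), (4, 4), (2, 13), (4, 4), (2, 2), (0, 11), (0, 2), (0, 1), (0, 9), (0, 2), (0, 0), (4, 8), (0, 0), (0, 1)]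

def swaps3 : Fin 2 → Equiv.Perm (Fin 3) := ![Equiv.swap 0 1, Equiv.swap 1 2]
def swaps4 : Fin 3 → Equiv.Perm (Fin 4) := ![Equiv.swap 0 1, Equiv.swap 1 2, Equiv.swap 2 3]

set_option maxRecDepth 100000 in
theorem swaps3_table : ∀ i j, swaps3 i * evWord swaps3 (words3 j) = evWord swaps3 (words3 (table3 i j)) := by
  decide

set_option maxRecDepth 100000 in
theorem swaps4_table : ∀ i j, swaps4 i * evWord swaps4 (words4 j) = evWord swaps4 (words4 (table4 i j)) := by
  decide

set_option maxRecDepth 100000 in
theorem bijective_words3 : Function.Bijective fun j => evWord swaps3 (words3 j) := by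
  rw [Fintype.bijective_iff_injective_and_card]
  exact ⟨by unfold Function.Injective; decide, by decide⟩

set_option maxRecDepth 100000 in
theorem bijective_words4 : Function.Bijective fun j => evWord swaps4 (words4 j) := by
  rw [Fintype.bijective_iff_injective_and_card]
  exact ⟨by unfold Function.Injective; decide, by decide⟩

set_option maxRecDepth 100000 in
theorem witness4_spec : ∀ j, j ≠ 0 →
    evWord swaps4 (words4 (witness4 j).1) * evWord swaps4 (words4 j) * evWord swaps4 (words4 (witness4 j).1).reverse *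
    (evWord swaps4 (words4 (witness4 j).2) * evWord swaps4 (words4 j) * evWord swaps4 (words4 (witness4 j).2).reverse) =
    Equiv.swap 0 1 * Equiv.swap 2 3 := by
  decide

theorem nonempty_equiv_perm_three {a b : G} (ha : a * a = 1) (hb : b * b = 1) (hab : b * a * b = a * b * a)
    (hne : a ≠ b) (hnc : ¬ Commute a b) : Nonempty (Subgroup.closure ({a, b} : Set G) ≃* Equiv.Perm (Fin 3)) := by
  have ra : ∀ x, a * (a * x) = x := fun x => by rw [← mul_assoc, ha, one_mul]
  have rb : ∀ x, b * (b * x) = x := fun x => by rw [← mul_assoc, hb, one_mul]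
  have rab : ∀ x, b * (a * (b * x)) = a * (b * (a * x)) := fun x => by
    simp only [← mul_assoc, hab]
  have hab' : b * (a * b) = a * (b * a) := by simpa [mul_assoc] using hab
  obtain ⟨φ, hφ⟩ := exists_hom_of_table swaps3 ![a, b] words3 table3 swaps3_table (by
    intro i j
    fin_cases i <;> fin_cases j <;> simp [evWord, words3, table3, ha, hb, hab', ra, rb, rab, mul_assoc])
    bijective_words3
  have inj : Function.Injective φ := by
    rw [injective_iff_map_eq_one]
    intro x hx
    obtain ⟨j, rfl⟩ := bijective_words3.2 x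
    dsimp only at hx ⊢
    rw [hφ] at hx
    fin_cases j <;> simp [evWord, words3] at hx ⊢
    · rw [hx] at hnc; exact absurd (Commute.one_left b) hnc
    · rw [hx] at hnc; exact absurd (Commute.one_right a) hnc
    · exact absurd (by rw [eq_inv_of_mul_eq_one_right hx, inv_eq_of_mul_eq_one_right hb] : a = b) hne
    · exact absurd (by rw [eq_inv_of_mul_eq_one_left hx, inv_eq_of_mul_eq_one_right hb] : a = b) hne
    · exact absurd (show b = 1 by simpa [ha, ra, mul_assoc] using congrArg (fun z => a * z * a) hx)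
        (fun e => hnc (e ▸ Commute.one_right a))
  have hr : φ.range = Subgroup.closure ({a, b} : Set G) := by
    refine le_antisymm ?_ ((Subgroup.closure_le _).2 ?_)
    · rintro _ ⟨x, rfl⟩
      obtain ⟨j, rfl⟩ := bijective_words3.2 x
      dsimp only
      rw [hφ]
      have := evWord_mem ![a, b] (words3 j)
      rwa [Matrix.range_cons, Matrix.range_cons, Matrix.range_empty, Set.union_empty, Set.singleton_union] at this
    · rintro y (rfl | rfl)
      · exact ⟨_, (hφ 1).trans (by simp [evWord, words3])⟩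
      · exact ⟨_, (hφ 2).trans (by simp [evWord, words3])⟩
  exact ⟨((MonoidHom.ofInjective inj).trans (MulEquiv.subgroupCongr hr)).symm⟩

theorem exists_hom_perm_four {a b c : G} (ha : a * a = 1) (hb : b * b = 1) (hc : c * c = 1)
    (hab : b * a * b = a * b * a) (hbc : c * b * c = b * c * b) (hac : c * a = a * c) (hne : a ≠ c) :
    ∃ φ : Equiv.Perm (Fin 4) →* G, Function.Injective φ ∧ φ (Equiv.swap 0 1) = a ∧ φ (Equiv.swap 1 2) = b ∧
      φ (Equiv.swap 2 3) = c := by
  have ra : ∀ x, a * (a * x) = x := fun x => by rw [← mul_assoc, ha, one_mul]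
  have rb : ∀ x, b * (b * x) = x := fun x => by rw [← mul_assoc, hb, one_mul]
  have rc : ∀ x, c * (c * x) = x := fun x => by rw [← mul_assoc, hc, one_mul]
  have rac : ∀ x, c * (a * x) = a * (c * x) := fun x => by simp only [← mul_assoc, hac]
  have rab : ∀ x, b * (a * (b * x)) = a * (b * (a * x)) := fun x => by simp only [← mul_assoc, hab]
  have rbc : ∀ x, c * (b * (c * x)) = b * (c * (b * x)) := fun x => by simp only [← mul_assoc, hbc]
  have rcbac : ∀ x, c * (b * (a * (c * x))) = b * (c * (b * (a * x))) := fun x => by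
    rw [← rac x, rbc]
  have hab' : b * (a * b) = a * (b * a) := by simpa [mul_assoc] using hab
  have hbc' : c * (b * c) = b * (c * b) := by simpa [mul_assoc] using hbc
  have hcbac' : c * (b * (a * c)) = b * (c * (b * a)) := by simpa using rcbac 1
  obtain ⟨φ, hφ⟩ := exists_hom_of_table swaps4 ![a, b, c] words4 table4 swaps4_table (by
    intro i j
    fin_cases i <;> fin_cases j <;>
      simp [evWord, words4, table4, ha, hb, hc, hac, hab', hbc', hcbac', ra, rb, rc, rac, rab, rbc, rcbac])
    bijective_words4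
  have h1 : φ (Equiv.swap 0 1) = a := by
    have := hφ 1; simpa [evWord, words4, swaps4] using this
  have h2 : φ (Equiv.swap 1 2) = b := by
    have := hφ 2; simpa [evWord, words4, swaps4] using this
  have h3 : φ (Equiv.swap 2 3) = c := by
    have := hφ 3; simpa [evWord, words4, swaps4] using this
  refine ⟨φ, ?_, h1, h2, h3⟩
  rw [injective_iff_map_eq_one]
  intro x hx
  obtain ⟨j, rfl⟩ := bijective_words4.2 x
  dsimp only at hx ⊢
  by_cases hj : j = 0
  · subst hj; rfl
  exfalso
  have hrev : ∀ w : List (Fin 3), φ (evWord swaps4 w) * φ (evWord swaps4 w.reverse) = 1 := by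
    intro w
    rw [← map_mul]
    have : evWord swaps4 w * evWord swaps4 w.reverse = 1 := by
      induction w with
      | nil => rfl
      | cons i w ih =>
        simp only [evWord, List.map_cons, List.prod_cons, List.reverse_cons, List.map_append, List.prod_append,
          List.map_nil, List.prod_nil, mul_one] at ih ⊢
        rw [← mul_assoc, mul_assoc (swaps4 i), ih, mul_one]
        fin_cases i <;> simp [swaps4]
    rw [this, map_one]
  have h := congrArg φ (witness4_spec j hj)
  simp only [map_mul, hx, mul_one, hrev, one_mul, h1, h3] at h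
  exact hne (by rw [eq_inv_of_mul_eq_one_left h.symm, inv_eq_of_mul_eq_one_right hc])

end CfsgLib.Spor.Tri
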