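/-
Elementary facts on sets of 3-transpositions.
-/
import Cfsg.Prelude.Def_SporadicB

namespace CfsgLib.Spor.Tri

variable {G : Type*} [Group G] {E : Set G} (hE : Cfsg.IsThreeTranspositionSet E)
include hE

theorem set_mul_self {a : G} (ha : a ∈ E) : a * a = 1 := by
  have := pow_orderOf_eq_one a; rwa [hE.1 a ha, pow_two] at this

theorem set_inv {a : G} (ha : a ∈ E) : a⁻¹ = a := inv_eq_of_mul_eq_one_right (set_mul_self hE ha)

theorem set_braid {a b : G} (ha : a ∈ E) (hb : b ∈ E) (hn : ¬ Commute a b) : a * b * a = b * a * b := by
  rcases hE.2 a ha b hb with e | e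
  · exfalso; apply hn
    rw [pow_two] at e
    show a * b = b * a
    rw [eq_inv_of_mul_eq_one_left e, mul_inv_rev, set_inv hE ha, set_inv hE hb]
  · have e' : a * b * a * (b * a * b) = 1 := by rw [← e]; simp [pow_succ, mul_assoc]
    rw [eq_inv_of_mul_eq_one_left e']
    simp [mul_inv_rev, set_inv hE ha, set_inv hE hb, mul_assoc]

theorem commute_mul_iff {a b e : G} (ha : a ∈ E) (hb : b ∈ E) (he : e ∈ E) (hab : a ≠ b) (hc : Commute a b) :
    Commute e (a * b) ↔ Commute e a ∧ Commute e b := by
  refine ⟨fun h => ?_, fun h => h.1.mul_right h.2⟩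
  have haa := set_mul_self hE ha
  have hbb := set_mul_self hE hb
  have hee := set_mul_self hE he
  have hb' : Commute e a → Commute e b := fun h' => by
    have := h'.mul_right h
    rwa [← mul_assoc, haa, one_mul] at this
  have ha' : Commute e b → Commute e a := fun h' => by
    have := h.mul_right h'
    rwa [mul_assoc, hbb, mul_one] at this
  by_cases hea : Commute e a
  · exact ⟨hea, hb' hea⟩
  exfalso
  have heb : ¬ Commute e b := fun h' => hea (ha' h')
  have e1 : (e * a * e) * (e * b * e) = a * b := by
    calc (e * a * e) * (e * b * e) = e * a * (e * e) * b * e := by group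
      _ = e * (a * b) * e := by rw [hee]; group
      _ = a * b := by rw [h.eq, mul_assoc, hee, mul_one]
  rw [set_braid hE he ha hea, set_braid hE he hb heb] at e1
  have e2 : a * (e * a * b * e) * b = a * 1 * b := by
    rw [mul_one, ← e1]; group
  have e3 : e * a * b * e = 1 := mul_left_cancel (mul_right_cancel e2)
  apply hab
  have e4 : a * b = 1 := by
    calc a * b = (e * e) * (a * b) * (e * e) := by rw [hee]; group
      _ = e * (e * a * b * e) * e := by group
      _ = 1 := by rw [e3, mul_one, hee]
  rw [eq_inv_of_mul_eq_one_left e4, set_inv hE hb]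

theorem commute_mul_mul_iff {a b c e : G} (ha : a ∈ E) (hb : b ∈ E) (hc : c ∈ E) (he : e ∈ E) (hab : a ≠ b)
    (hac : a ≠ c) (hbc : b ≠ c) (h1 : Commute a b) (h2 : Commute a c) (h3 : Commute b c) :
    Commute e (a * b * c) ↔ Commute e a ∧ Commute e b ∧ Commute e c := by
  refine ⟨fun h => ?_, fun h => (h.1.mul_right h.2.1).mul_right h.2.2⟩
  have haa := set_mul_self hE ha
  have hbb := set_mul_self hE hb
  have hcc := set_mul_self hE hc
  have hee := set_mul_self hE he
  have fa : Commute e a → Commute e b ∧ Commute e c := fun h' => (commute_mul_iff hE hb hc he hbc h3).1 (by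
    have := h'.mul_right h
    rwa [← mul_assoc, ← mul_assoc, haa, one_mul] at this)
  have fc : Commute e c → Commute e a ∧ Commute e b := fun h' => (commute_mul_iff hE ha hb he hab h1).1 (by
    have := h.mul_right h'
    rwa [mul_assoc, hcc, mul_one] at this)
  have fb : Commute e b → Commute e a ∧ Commute e c := fun h' => (commute_mul_iff hE ha hc he hac h2).1 (by
    have := h'.mul_right h
    rwa [h1.eq, mul_assoc b, ← mul_assoc b b, hbb, one_mul] at this)
  by_cases hea : Commute e a
  · exact ⟨hea, fa hea⟩
  by_cases heb : Commute e b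
  · exact absurd (fb heb).1 hea
  by_cases hec : Commute e c
  · exact absurd (fc hec).1 hea
  exfalso
  have e1 : (e * a * e) * (e * b * e) * (e * c * e) = a * b * c := by
    calc (e * a * e) * (e * b * e) * (e * c * e) = e * a * (e * e) * b * (e * e) * c * e := by group
      _ = e * (a * b * c) * e := by rw [hee]; group
      _ = a * b * c := by rw [h.eq, mul_assoc, hee, mul_one]
  rw [set_braid hE he ha hea, set_braid hE he hb heb, set_braid hE he hc hec] at e1
  have e2 : e * a * b * e * b * c * e = b := by
    have e2a : a * (e * a * b * e * b * c * e) * c = a * b * c := by rw [← e1]; group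
    exact mul_left_cancel (mul_right_cancel e2a)
  have e3 : a * (b * e * b * c) = b * e * b := by
    have e3a : a * b * e * b * c = e * b * e := by
      calc a * b * e * b * c = (e * e) * (a * b * e * b * c) * (e * e) := by rw [hee]; group
        _ = e * (e * a * b * e * b * c * e) * e := by group
        _ = e * b * e := by rw [e2]
    rw [set_braid hE he hb heb] at e3a
    refine Eq.trans ?_ e3a
    group
  have e4 : a * e * b * c = e * b := by
    apply mul_left_cancel (a := b)
    rw [← mul_assoc b e b, ← e3]
    simp only [← mul_assoc, h1.eq]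
  have e5 : e * a * e = c := by
    have e5a : a * e * c = e := by
      calc a * e * c = a * e * (b * b) * c := by rw [hbb, mul_one]
        _ = a * e * b * (b * c) := by group
        _ = a * e * b * c * b := by rw [h3.eq]; group
        _ = e := by rw [e4, mul_assoc, hbb, mul_one]
    calc e * a * e = e * a * e * (c * c) := by rw [hcc, mul_one]
      _ = e * (a * e * c) * c := by group
      _ = c := by rw [e5a, hee, one_mul]
  apply hea
  show e * a = a * e
  have e6 : Commute a (a * e * a) := by rw [← set_braid hE he ha hea, e5]; exact h2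
  have e7 : a * (a * e * a) = a * e * a * a := e6.eq
  calc e * a = (a * a) * (e * a) := by rw [haa, one_mul]
    _ = a * (a * e * a) := by group
    _ = a * e * (a * a) := by rw [e7]; group
    _ = a * e := by rw [haa, mul_one]

end CfsgLib.Spor.Tri
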