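/-
The 2-core and 3-core of a group generated by a class of 3-transpositions; the layer.
-/
import Cfsg.Prelude.Def_FischerSpaces
import Cfsg.Agent.Lib.Spor.Tri.Radical
import Cfsg.Agent.Lib.Spor.Tri.Elementary
import Cfsg.Agent.Lib.Spor.Tri.SmallSymmetric
import Cfsg.Agent.Lib.Coprime.Component
import Cfsg.Agent.Lib.Coprime.Fitting

namespace CfsgLib.Spor.Tri

open scoped commutatorElement

universe u

variable {G : Type u} [Group G] [Finite G] {D : Set G} (h : Hyp D)
include h

/-- Two members with product in the 2-core commute. -/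
theorem Hyp.commute_of_mem_two_core {a b : G} (ha : a ∈ D) (hb : b ∈ D) (hab : a * b ∈ Cfsg.pCore 2 G) :
    Commute a b := by
  by_contra hn
  obtain ⟨k, hk⟩ := CfsgLib.Coprime.pCore_isPGroup (G := G) 2 ⟨_, hab⟩
  have h1 : orderOf (a * b) ∣ 2 ^ k := orderOf_dvd_of_pow_eq_one (by simpa using congrArg Subtype.val hk)
  have h2 : orderOf (a * b) ∣ 3 := orderOf_dvd_of_pow_eq_one (h.cube ha hb hn)
  have h3 := orderOf_eq_one_iff.1
    (Nat.eq_one_of_dvd_coprimes (Nat.Coprime.pow_left k (by norm_num : Nat.Coprime 2 3)) h1 h2)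
  exact hn ((h.commute_iff_sq ha hb).2 (by rw [h3, one_pow]))

/-- Two commuting members with product in the 3-core are equal. -/
theorem Hyp.eq_of_mem_three_core {a b : G} (ha : a ∈ D) (hb : b ∈ D) (hab : a * b ∈ Cfsg.pCore 3 G)
    (hc : Commute a b) : a = b := by
  obtain ⟨k, hk⟩ := CfsgLib.Coprime.pCore_isPGroup (G := G) 3 ⟨_, hab⟩
  have h1 : orderOf (a * b) ∣ 3 ^ k := orderOf_dvd_of_pow_eq_one (by simpa using congrArg Subtype.val hk)
  have h2 : orderOf (a * b) ∣ 2 := orderOf_dvd_of_pow_eq_one ((h.commute_iff_sq ha hb).1 hc)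
  have h3 := orderOf_eq_one_iff.1
    (Nat.eq_one_of_dvd_coprimes (Nat.Coprime.pow_left k (by norm_num : Nat.Coprime 3 2)) h1 h2)
  rw [eq_inv_of_mul_eq_one_left h3, h.inv_eq hb]

theorem Hyp.commute_of_two_core_pair {a v e : G} (ha : a ∈ D) (hv : v ∈ D) (he : e ∈ D)
    (hav : a * v ∈ Cfsg.pCore 2 G) (hae : Commute a e) : Commute v e := by
  haveI := CfsgLib.Coprime.pCore_normal' (G := G) 2
  by_contra hn
  have hva : v * a ∈ Cfsg.pCore 2 G := by rwa [← (h.commute_of_mem_two_core ha hv hav).eq]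
  -- `e` and `v e v` differ by an element of the core
  have hm : e * (v * e * v) ∈ Cfsg.pCore 2 G := by
    have h1 : e * (v * a) * e⁻¹ * (a * v) ∈ Cfsg.pCore 2 G :=
      mul_mem (Subgroup.Normal.conj_mem inferInstance _ hva e) hav
    rwa [show e * (v * a) * e⁻¹ * (a * v) = e * (v * e * v) by
      rw [h.inv_eq he]
      calc e * (v * a) * e * (a * v) = e * v * (a * e * a) * v := by group
        _ = e * (v * e * v) := by rw [h.conj_fix ha hae]; group] at h1
  have := h.commute_of_mem_two_core he (h.conj_mem' hv he) hm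
  rw [h.braid hv he hn] at this
  exact h.third_not_commute he hv (fun hh => hn hh.symm) this

/-- Commuting sets agree exactly for members differing by an element of the 2-core. -/
theorem Hyp.nbhd_iff_two_core {d v : G} (hd : d ∈ D) (hv : v ∈ D) :
    (∀ e ∈ D, Commute v e ↔ Commute d e) ↔ d⁻¹ * v ∈ Cfsg.pCore 2 G := by
  rw [h.inv_eq hd]
  refine ⟨fun e => h.mul_mem_two_core hd hv fun x hx => (e x hx).symm, fun hdv e he =>
    ⟨fun hh => ?_, fun hh => h.commute_of_two_core_pair hd hv he hdv hh⟩⟩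
  exact h.commute_of_two_core_pair hv hd he (by rwa [← (h.commute_of_mem_two_core hd hv hdv).eq]) hh

theorem Hyp.exists_two_core_conj (hD2 : ∃ a ∈ D, ∃ b ∈ D, a ≠ b) {d v : G} (hd : d ∈ D) (hv : v ∈ D)
    (hdv : d * v ∈ Cfsg.pCore 2 G) : ∃ g ∈ Cfsg.pCore 2 G, v = g * d * g⁻¹ := by
  by_cases hne : d = v
  · exact ⟨1, one_mem _, by simp [hne]⟩
  obtain ⟨e, he, hde⟩ := h.exists_not_commute hd hv hne
  have hve : ¬ Commute v e := fun hh => hde (((h.nbhd_iff_two_core hd hv).2 (by rwa [h.inv_eq hd]) e he).1 hh)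
  haveI := CfsgLib.Coprime.pCore_normal' (G := G) 2
  refine ⟨e * (d * v) * e⁻¹, Subgroup.Normal.conj_mem inferInstance _ hdv e, ?_⟩
  rw [h.inv_eq he]
  simp only [mul_inv_rev, h.inv_eq he, h.inv_eq hd, h.inv_eq hv]
  calc v = e * (e * v * e) * e := (h.conj_conj he).symm
    _ = e * (v * e * v) * e := by rw [h.braid he hv fun hh => hve hh.symm]
    _ = e * ((d * v * d) * e * (d * v * d)) * e := by rw [h.conj_fix hd (h.commute_of_mem_two_core hd hv hdv)]
    _ = e * d * v * (d * e * d) * v * d * e := by group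
    _ = e * d * v * (e * d * e) * v * d * e := by rw [h.braid hd he hde]
    _ = _ := by group

theorem Hyp.commute_of_three_core_pair {a w y : G} (ha : a ∈ D) (hw : w ∈ D) (hy : y ∈ D)
    (haw : a * w ∈ Cfsg.pCore 3 G) (hne : a ≠ w) (hay : Commute a y) (hya : y ≠ a) : Commute w y := by
  haveI := CfsgLib.Coprime.pCore_normal' (G := G) 3
  by_contra hn
  have hnaw : ¬ Commute a w := fun hh => hne (h.eq_of_mem_three_core ha hw haw hh)
  obtain ⟨g, hg1, hg2⟩ := h.conj2_of_commute hw ha hy hay (fun hh => hnaw hh.symm) hn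
  have h1 : y * w ∈ Cfsg.pCore 3 G := by
    have := Subgroup.Normal.conj_mem inferInstance _ haw g
    rwa [show g * (a * w) * g⁻¹ = (g * a * g⁻¹) * (g * w * g⁻¹) by group, hg2, hg1] at this
  have h2 : a * y ∈ Cfsg.pCore 3 G := by
    have := mul_mem haw (inv_mem h1)
    rwa [show a * w * (y * w)⁻¹ = a * (w * w⁻¹) * y⁻¹ by group, h.inv_eq hy, mul_inv_cancel, mul_one] at this
  exact hya (h.eq_of_mem_three_core ha hy h2 hay).symm

theorem Hyp.three_core_swap {a w : G} (ha : a ∈ D) (hw : w ∈ D) (haw : a * w ∈ Cfsg.pCore 3 G) :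
    w * a ∈ Cfsg.pCore 3 G := by
  have := inv_mem haw
  rwa [mul_inv_rev, h.inv_eq ha, h.inv_eq hw] at this

/-- Sets of other commuting members agree exactly for members differing by an element of the 3-core. -/
theorem Hyp.perp_iff_three_core {d w : G} (hd : d ∈ D) (hw : w ∈ D) :
    perp D d = perp D w ↔ d⁻¹ * w ∈ Cfsg.pCore 3 G := by
  rw [h.inv_eq hd]
  refine ⟨h.mul_mem_three_core hd hw, fun hdw => ?_⟩
  by_cases hne : d = w
  · rw [hne]
  have key : ∀ {a b : G}, a ∈ D → b ∈ D → a * b ∈ Cfsg.pCore 3 G → a ≠ b → perp D a ⊆ perp D b := by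
    intro a b ha hb hab hne' y hy
    refine ⟨hy.1, ?_, h.commute_of_three_core_pair ha hb hy.1 hab hne' hy.2.2 hy.2.1⟩
    rintro rfl
    exact hne' (h.eq_of_mem_three_core ha hy.1 hab hy.2.2)
  exact Set.Subset.antisymm (key hd hw hdw hne) (key hw hd (h.three_core_swap hd hw hdw) (Ne.symm hne))

theorem Hyp.exists_three_core_conj {d w : G} (hd : d ∈ D) (hw : w ∈ D)
    (hdw : d * w ∈ Cfsg.pCore 3 G) : ∃ g ∈ Cfsg.pCore 3 G, w = g * d * g⁻¹ := by
  by_cases hne : d = w
  · exact ⟨1, one_mem _, by simp [hne]⟩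
  exact ⟨d * w, hdw, (h.conj_swap_mul hd hw fun hh => hne (h.eq_of_mem_three_core hd hw hdw hh)).symm⟩

omit [Finite G] in
theorem Hyp.mul_conj_mem {N : Subgroup G} [N.Normal] {d g : G} (hd : d ∈ D) (hg : g ∈ N) :
    d⁻¹ * (g * d * g⁻¹) ∈ N := by
  rw [show d⁻¹ * (g * d * g⁻¹) = d⁻¹ * g * d⁻¹⁻¹ * g⁻¹ by group]
  exact mul_mem (Subgroup.Normal.conj_mem inferInstance _ hg _) (inv_mem hg)

theorem Hyp.center_ne_top (hD2 : ∃ a ∈ D, ∃ b ∈ D, a ≠ b) : Subgroup.center G ≠ ⊤ := by
  intro e
  obtain ⟨a, ha, b, hb, hab⟩ := hD2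
  obtain ⟨g, hg⟩ := h.transitive a ha b hb
  apply hab
  have hga := Subgroup.mem_center_iff.1 (e ▸ Subgroup.mem_top a : a ∈ Subgroup.center G) g
  rw [← hg, hga, mul_inv_cancel_right]

/-- A normal subgroup centralised by all members is central. -/
theorem Hyp.le_center_of_commute {N : Subgroup G} (hN : ∀ d ∈ D, ∀ x ∈ N, Commute d x) :
    N ≤ Subgroup.center G := fun x hx => Subgroup.mem_center_iff.2 fun g => by
  have hle : Subgroup.closure D ≤ Subgroup.centralizer {x} := by
    rw [Subgroup.closure_le]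
    intro d hd
    rw [SetLike.mem_coe, Subgroup.mem_centralizer_singleton_iff]
    exact hN d hd x hx
  exact Subgroup.mem_centralizer_singleton_iff.1 (hle (h.gen ▸ Subgroup.mem_top g))

theorem Hyp.pCore_le_center {p : ℕ} (hp : p.Prime) (hp3 : 3 < p) : Cfsg.pCore p G ≤ Subgroup.center G := by
  haveI := CfsgLib.Coprime.pCore_normal' (G := G) p
  refine h.le_center_of_commute fun d hd x hx => ?_
  have hmem := h.mul_conj_mem (N := Cfsg.pCore p G) hd hx
  rw [h.inv_eq hd] at hmem
  obtain ⟨k, hk⟩ := CfsgLib.Coprime.pCore_isPGroup (G := G) p ⟨_, hmem⟩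
  have h1 : orderOf (d * (x * d * x⁻¹)) ∣ p ^ k := orderOf_dvd_of_pow_eq_one (by simpa using congrArg Subtype.val hk)
  have h2 : orderOf (d * (x * d * x⁻¹)) ∣ 6 := by
    rcases h.set.2 d hd _ (h.conj x d hd) with e | e
    · exact (orderOf_dvd_of_pow_eq_one e).trans (by norm_num)
    · exact (orderOf_dvd_of_pow_eq_one e).trans (by norm_num)
  have hco : Nat.Coprime (p ^ k) 6 := by
    apply Nat.Coprime.pow_left
    rw [show (6 : ℕ) = 2 * 3 by norm_num]
    exact Nat.Coprime.mul_right ((Nat.coprime_primes hp Nat.prime_two).2 (by omega))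
      ((Nat.coprime_primes hp Nat.prime_three).2 (by omega))
  have h4 := eq_inv_of_mul_eq_one_right (orderOf_eq_one_iff.1 (Nat.eq_one_of_dvd_coprimes hco h1 h2))
  rw [h.inv_eq hd] at h4
  show d * x = x * d
  conv_lhs => rw [← h4]
  group

/-- A noncentral normal subgroup moves every member. -/
theorem Hyp.exists_moved {N : Subgroup G} [hN : N.Normal] (hne : ¬ N ≤ Subgroup.center G) {d : G} (hd : d ∈ D) :
    ∃ g ∈ N, g * d * g⁻¹ ≠ d := by
  by_contra hh
  push Not at hh
  refine hne (h.le_center_of_commute fun e he x hx => ?_)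
  obtain ⟨k, rfl⟩ := h.transitive d hd e he
  have h1 := hh _ (hN.conj_mem x hx k⁻¹)
  rw [inv_inv, mul_inv_eq_iff_eq_mul] at h1
  have h2 : Commute d (k⁻¹ * x * k) := h1.symm
  have := (Commute.conj_iff k).2 h2
  rwa [show k * (k⁻¹ * x * k) * k⁻¹ = x by group] at this

theorem layer_le_centralizer_fitting {l z : G} (hl : l ∈ Cfsg.layer G) (hz : z ∈ Cfsg.fittingSubgroup G) :
    Commute l z := by
  have := Subgroup.commutator_mem_commutator hl hz
  rw [CfsgLib.Coprime.layer_commutator_fitting_eq_bot, Subgroup.mem_bot, commutatorElement_eq_one_iff_commute] at this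
  exact this

/-- If all commutators of members with the layer are central in it, the layer is trivial. -/
theorem Hyp.layer_eq_bot (hc : ∀ d ∈ D, ∀ l ∈ Cfsg.layer G, ∀ m ∈ Cfsg.layer G, Commute m (d * (l * d * l⁻¹))) :
    Cfsg.layer G = ⊥ := by
  have key : ∀ d ∈ D, ∀ x ∈ Cfsg.layer G, Commute d x := by
    intro d hd
    set φ : G → G := fun l => d * (l * d * l⁻¹) with hφ
    have hmul : ∀ l ∈ Cfsg.layer G, ∀ m ∈ Cfsg.layer G, φ (l * m) = φ l * φ m := by
      intro l hl m hm
      calc φ (l * m) = d * (l * (d * (d * (m * d * m⁻¹))) * l⁻¹) := by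
            simp only [hφ]; rw [← mul_assoc d d, h.mul_self hd]; group
        _ = d * (l * d * l⁻¹) * (l * φ m * l⁻¹) := by simp only [hφ]; group
        _ = φ l * φ m := by rw [(hc d hd m hm l hl).eq, mul_inv_cancel_right]
    have hle : ⁅Cfsg.layer G, Cfsg.layer G⁆ ≤
        (⟨⟨⟨{x | x ∈ Cfsg.layer G ∧ Commute d x}, fun hx hy => ⟨mul_mem hx.1 hy.1, hx.2.mul_right hy.2⟩⟩,
          ⟨one_mem _, Commute.one_right d⟩⟩, fun hx => ⟨inv_mem hx.1, hx.2.inv_right⟩⟩ : Subgroup G) := by
      rw [Subgroup.commutator_le]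
      intro l hl m hm
      have hlm : ⁅l, m⁆ ∈ Cfsg.layer G := mul_mem (mul_mem (mul_mem hl hm) (inv_mem hl)) (inv_mem hm)
      refine ⟨hlm, ?_⟩
      have hφmem : ∀ x ∈ Cfsg.layer G, φ x ∈ Cfsg.layer G := fun x hx => by
        haveI := CfsgLib.Coprime.layer_normal (G := G)
        have := h.mul_conj_mem (N := Cfsg.layer G) hd hx
        rwa [h.inv_eq hd] at this
      have hcomm : φ l * φ m = φ m * φ l := (hc d hd m hm _ (hφmem l hl)).eq
      have h1 : φ (⁅l, m⁆ * (m * l)) = φ (m * l) := by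
        rw [show ⁅l, m⁆ * (m * l) = l * m by rw [commutatorElement_def]; group, hmul l hl m hm, hmul m hm l hl,
          hcomm]
      rw [hmul _ hlm _ (mul_mem hm hl)] at h1
      have h2 : d * (⁅l, m⁆ * d * ⁅l, m⁆⁻¹) = 1 := mul_eq_right.1 h1
      have h3 := eq_inv_of_mul_eq_one_right h2
      rw [h.inv_eq hd, mul_inv_eq_iff_eq_mul] at h3
      exact h3.symm
    intro x hx
    rw [← CfsgLib.Coprime.layer_isPerfect] at hx
    exact (hle hx).2
  rw [← CfsgLib.Coprime.layer_isPerfect, eq_bot_iff, Subgroup.commutator_le]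
  intro x hx y hy
  rw [Subgroup.mem_bot, commutatorElement_eq_one_iff_commute]
  exact (Subgroup.mem_center_iff.1 (h.le_center_of_commute key hx) y).symm

theorem Hyp.layer_eq_bot_of_two_core (hne : ¬ Cfsg.pCore 2 G ≤ Subgroup.center G) : Cfsg.layer G = ⊥ := by
  haveI : Fact (Nat.Prime 2) := ⟨Nat.prime_two⟩
  haveI := CfsgLib.Coprime.pCore_normal' (G := G) 2
  haveI := CfsgLib.Coprime.layer_normal (G := G)
  refine h.layer_eq_bot fun d hd => ?_
  obtain ⟨g, hg, hgd⟩ := h.exists_moved hne hd
  have hvD := h.conj g d hd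
  have hz : d * (g * d * g⁻¹) ∈ Cfsg.pCore 2 G := by
    have := h.mul_conj_mem (N := Cfsg.pCore 2 G) hd hg; rwa [h.inv_eq hd] at this
  have hdv := h.commute_of_mem_two_core hd hvD hz
  have hcd : ∀ l ∈ Cfsg.layer G, Commute d (l * d * l⁻¹) := by
    intro l hl
    have hlz := layer_le_centralizer_fitting h hl (CfsgLib.Coprime.pCore_le_fitting 2 hz)
    have e : (l * d * l⁻¹) * (l * (g * d * g⁻¹) * l⁻¹) = d * (g * d * g⁻¹) := by
      calc (l * d * l⁻¹) * (l * (g * d * g⁻¹) * l⁻¹) = l * (d * (g * d * g⁻¹)) * l⁻¹ := by group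
        _ = d * (g * d * g⁻¹) := by rw [hlz.eq, mul_inv_cancel_right]
    exact ((commute_mul_iff h.set (h.conj l d hd) (h.conj l _ hvD) hd
      (fun e' => hgd (mul_left_cancel (mul_right_cancel e')).symm) ((Commute.conj_iff l).2 hdv)).1
      (e ▸ (Commute.refl d).mul_right hdv)).1
  let A := Subgroup.closure {z | ∃ l ∈ Cfsg.layer G, z = d * (l * d * l⁻¹)}
  have hcc : ∀ l ∈ Cfsg.layer G, ∀ m ∈ Cfsg.layer G, Commute (l * d * l⁻¹) (m * d * m⁻¹) := by
    intro l hl m hm
    have := (Commute.conj_iff l).2 (hcd _ (mul_mem (inv_mem hl) hm))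
    rwa [show l * (l⁻¹ * m * d * (l⁻¹ * m)⁻¹) * l⁻¹ = m * d * m⁻¹ by group] at this
  haveI hA : IsMulCommutative A := Subgroup.isMulCommutative_closure (by
    rintro _ ⟨l, hl, rfl⟩ _ ⟨m, hm, rfl⟩
    exact ((Commute.refl d).mul_right (hcd m hm)).mul_left ((hcd l hl).symm.mul_right (hcc l hl m hm)))
  have hAle : A ≤ Cfsg.layer G := by
    rw [Subgroup.closure_le]
    rintro _ ⟨l, hl, rfl⟩
    have := h.mul_conj_mem (N := Cfsg.layer G) hd hl
    rwa [h.inv_eq hd] at this
  have hnorm : Cfsg.layer G ≤ Subgroup.normalizer (A : Set G) := by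
    intro m hm
    refine normalizer_closure_of_conj ?_
    rintro _ ⟨l, hl, rfl⟩
    rw [show m * (d * (l * d * l⁻¹)) * m⁻¹ = (d * (m * d * m⁻¹))⁻¹ * (d * (m * l * d * (m * l)⁻¹)) by
      calc _ = m * (d⁻¹ * (l * d * l⁻¹)) * m⁻¹ := by rw [h.inv_eq hd]
        _ = _ := by group]
    exact mul_mem (inv_mem (Subgroup.subset_closure ⟨m, hm, rfl⟩))
      (Subgroup.subset_closure ⟨m * l, mul_mem hm hl, rfl⟩)
  haveI : (A.subgroupOf (Cfsg.layer G)).Normal := Subgroup.normal_subgroupOf_of_le_normalizer hnorm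
  have hsub : A.IsSubnormal := by
    have h2 : (A.subgroupOf (Cfsg.layer G)).IsSubnormal := Subgroup.Normal.isSubnormal inferInstance
    have h3 := (CfsgLib.Coprime.isSubnormal_map_subtype_iff
      (Subgroup.Normal.isSubnormal inferInstance) (A.subgroupOf (Cfsg.layer G))).2 h2
    rwa [Subgroup.map_subgroupOf_eq_of_le hAle] at h3
  haveI : Group.IsNilpotent A :=
    letI : CommGroup A := { (inferInstance : Group A) with mul_comm := fun x y => Subtype.ext (setLike_mul_comm x.2 y.2) }
    inferInstance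
  intro l hl m hm
  exact layer_le_centralizer_fitting h hm
    (CfsgLib.Coprime.le_fitting_of_isSubnormal hsub inferInstance (Subgroup.subset_closure ⟨l, hl, rfl⟩))

theorem Hyp.layer_eq_bot_of_three_core (hne : ¬ Cfsg.pCore 3 G ≤ Subgroup.center G) : Cfsg.layer G = ⊥ := by
  haveI : Fact (Nat.Prime 3) := ⟨Nat.prime_three⟩
  haveI := CfsgLib.Coprime.pCore_normal' (G := G) 3
  refine h.layer_eq_bot fun d hd => ?_
  obtain ⟨g, hg, hgd⟩ := h.exists_moved hne hd
  set w := g * d * g⁻¹ with hw
  have hwD : w ∈ D := h.conj g d hd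
  have hz : d * w ∈ Cfsg.pCore 3 G := by
    have := h.mul_conj_mem (N := Cfsg.pCore 3 G) hd hg; rwa [h.inv_eq hd] at this
  have hdw : ¬ Commute d w := fun hh => hgd (h.eq_of_mem_three_core hd hwD hz hh).symm
  -- a member centralising `d * w` commutes with `d`
  have hcent : ∀ f ∈ D, Commute f (d * w) → ¬ Commute f d → False := by
    intro f hf hfz hfd
    have e1 : (f * d * f) * (f * w * f) = d * w := by
      calc (f * d * f) * (f * w * f) = f * d * (f * f) * w * f := by group
        _ = f * (d * w) * f := by rw [h.mul_self hf]; group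
        _ = d * w := by rw [hfz.eq, mul_assoc, h.mul_self hf, mul_one]
    by_cases hfw : Commute f w
    · rw [h.conj_fix hf hfw] at e1
      have e2 := mul_right_cancel e1
      exact h.third_ne hf hd hfd e2
    · rw [h.braid hf hd hfd, h.braid hf hwD hfw] at e1
      apply hdw
      have e2 : f * (d * w) * f * w = w := by
        apply mul_left_cancel (a := d)
        rw [show d * (f * (d * w) * f * w) = d * f * d * (w * f * w) by group, e1]
      have e3 : f * (d * w) * f = 1 := mul_eq_right.1 e2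
      have e4 : d * w = 1 := by
        calc d * w = (f * f) * (d * w) * (f * f) := by rw [h.mul_self hf]; group
          _ = f * (f * (d * w) * f) * f := by group
          _ = 1 := by rw [e3, mul_one, h.mul_self hf]
      rw [eq_inv_of_mul_eq_one_left e4, h.inv_eq hwD]
  intro l hl m hm
  set c := l * d * l⁻¹ with hc
  have hcD : c ∈ D := h.conj l d hd
  have hlz : Commute l (d * w) := layer_le_centralizer_fitting h hl (CfsgLib.Coprime.pCore_le_fitting 3 hz)
  -- the conjugate inverts `d * w`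
  have hinv : c * (d * w) * c = (d * w)⁻¹ := by
    calc c * (d * w) * c = l * d * (l⁻¹ * (d * w) * l) * d * l⁻¹ := by rw [hc]; group
      _ = l * (d * (d * w) * d) * l⁻¹ := by
          rw [mul_assoc l⁻¹, ← hlz.eq, inv_mul_cancel_left]; group
      _ = l * (d * w)⁻¹ * l⁻¹ := by
          rw [← mul_assoc d d w, h.mul_self hd, one_mul, mul_inv_rev, h.inv_eq hd, h.inv_eq hwD]
      _ = (d * w)⁻¹ := by rw [hlz.inv_right.eq, mul_inv_cancel_right]
  have hperpz : ∀ f ∈ perp D d, Commute f (d * w) := fun f hf =>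
    hf.2.2.symm.mul_right (h.commute_of_three_core_pair hd hwD hf.1 hz (fun e => hdw (e ▸ Commute.refl d)) hf.2.2 hf.2.1).symm
  have hcne : ∀ f ∈ perp D d, f ≠ c := by
    rintro f hf rfl
    have e1 := hperpz _ hf
    have e2 : c * (d * w) * c = d * w := by rw [e1.eq, mul_assoc, h.mul_self hcD, mul_one]
    rw [hinv] at e2
    have e3 : (d * w) ^ 2 = 1 := by rw [pow_two]; nth_rewrite 1 [← e2]; rw [inv_mul_cancel]
    exact hdw ((h.commute_iff_sq hd hwD).2 e3)
  have hsub : perp D d ⊆ perp D c := by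
    intro f hf
    refine ⟨hf.1, hcne f hf, ?_⟩
    by_contra hfc
    have hgD := h.conj_mem' hcD hf.1
    have hgz : Commute (c * f * c) (d * w) := by
      have e1 : Commute f ((d * w)⁻¹) := (hperpz f hf).inv_right
      have := (h.commute_conj hcD).2 e1
      rwa [← hinv, h.conj_conj hcD] at this
    have hgd : Commute (c * f * c) d := by
      by_contra hh; exact hcent _ hgD hgz hh
    -- so `c` commutes with `d`, as does `f`
    have hcd : Commute c d := by
      rw [← h.conj_conj hf.1 (b := c)]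
      have e1 : Commute (f * c * f) d := by rw [← h.braid hcD hf.1 hfc |>.trans rfl]; exact hgd
      exact ((commute_third hf.2.2 e1.symm)).symm
    exact hcne c ⟨hcD, fun e => hfc (e ▸ hf.2.2), hcd.symm⟩ rfl
  have hcard : (perp D c).ncard = (perp D d).ncard := by
    rw [hc, h.perp_conj]; exact Set.ncard_image_of_injective _ (fun a b e' => by simpa using e')
  have hmem := h.mul_mem_three_core hd hcD (Set.eq_of_subset_of_ncard_le hsub hcard.le (Set.toFinite _))
  exact layer_le_centralizer_fitting h hm (CfsgLib.Coprime.pCore_le_fitting 3 hmem)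

theorem Hyp.layer_ne_bot (hD2 : ∃ a ∈ D, ∃ b ∈ D, a ≠ b) (h2 : Cfsg.pCore 2 G ≤ Subgroup.center G)
    (h3 : Cfsg.pCore 3 G ≤ Subgroup.center G) : Cfsg.layer G ≠ ⊥ := by
  intro e
  have hF : Cfsg.fittingSubgroup G ≤ Subgroup.center G := by
    rw [CfsgLib.Coprime.fitting_eq_iSup_pCore]
    refine iSup_le fun p => ?_
    rcases Nat.lt_or_ge 3 p.1 with hp | hp
    · exact h.pCore_le_center p.2 hp
    · have := p.2.two_le
      rcases (by omega : p.1 = 2 ∨ p.1 = 3) with e' | e' <;> rw [e'] <;> assumption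
  have hFs : Cfsg.generalizedFittingSubgroup G ≤ Subgroup.center G := by
    rw [Cfsg.generalizedFittingSubgroup, e, bot_sup_eq]; exact hF
  refine h.center_ne_top hD2 (eq_top_iff.2 fun g _ => hFs (CfsgLib.Coprime.centralizer_generalizedFitting_le ?_))
  rw [Subgroup.mem_centralizer_iff]
  intro x hx
  exact (Subgroup.mem_center_iff.1 (hFs hx) g).symm

/-- The two cores are not both noncentral. -/
theorem Hyp.not_both_noncentral (hD2 : ∃ a ∈ D, ∃ b ∈ D, a ≠ b) :
    Cfsg.pCore 2 G ≤ Subgroup.center G ∨ Cfsg.pCore 3 G ≤ Subgroup.center G := by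
  by_contra hh
  push Not at hh
  obtain ⟨d, hd, -⟩ := hD2
  haveI := CfsgLib.Coprime.pCore_normal' (G := G) 2
  haveI := CfsgLib.Coprime.pCore_normal' (G := G) 3
  obtain ⟨g, hg, hgd⟩ := h.exists_moved hh.1 hd
  obtain ⟨k, hk, hkd⟩ := h.exists_moved hh.2 hd
  set v := g * d * g⁻¹
  set w := k * d * k⁻¹
  have hv := h.conj g d hd
  have hw := h.conj k d hd
  have hn := (h.nbhd_iff_two_core hd hv).2 (h.mul_conj_mem hd hg)
  have hp := (h.perp_iff_three_core hd hw).2 (h.mul_conj_mem hd hk)
  have hndw : ¬ Commute d w := fun hc => by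
    have : w ∈ perp D d := ⟨hw, hkd, hc⟩
    rw [hp] at this
    exact this.2.1 rfl
  have hvd : v ∈ perp D d := ⟨hv, hgd, ((hn d hd).2 (Commute.refl d)).symm⟩
  rw [hp] at hvd
  exact hndw ((hn w hw).1 hvd.2.2.symm)

/-- When every member commutes only with members having its commuting set, and these classes have two
members, the group is the symmetric group of degree four. -/
theorem Hyp.nonempty_equiv_perm_four (hD2 : ∃ a ∈ D, ∃ b ∈ D, a ≠ b) {d : G} (hd : d ∈ D)
    (hV : ∀ y ∈ D, Commute d y → ∀ e ∈ D, Commute y e ↔ Commute d e)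
    (hm : {y : G | y ∈ D ∧ Commute d y}.ncard = 2) : Nonempty (G ≃* Equiv.Perm (Fin 4)) := by
  haveI := CfsgLib.Coprime.pCore_normal' (G := G) 2
  have hVall : ∀ a ∈ D, ∀ y ∈ D, Commute a y → ∀ e ∈ D, Commute y e ↔ Commute a e := by
    intro a ha y hy hay e he
    obtain ⟨g, hg⟩ := h.transitive a ha d hd
    have hc : Commute d (g * y * g⁻¹) := by rw [← hg]; exact (Commute.conj_iff g).2 hay
    have := hV _ (h.conj g y hy) hc _ (h.conj g e he)
    rwa [← hg, Commute.conj_iff, Commute.conj_iff] at this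
  have hcard : ∀ a ∈ D, {y : G | y ∈ D ∧ Commute a y}.ncard = 2 := by
    intro a ha
    obtain ⟨g, hg⟩ := h.transitive d hd a ha
    have e : {y : G | y ∈ D ∧ Commute a y} = (fun x => g * x * g⁻¹) '' {y : G | y ∈ D ∧ Commute d y} := by
      ext x
      constructor
      · rintro ⟨hx, hc⟩
        refine ⟨g⁻¹ * x * g, ⟨by simpa using h.conj g⁻¹ x hx, ?_⟩, by show g * (g⁻¹ * x * g) * g⁻¹ = x; group⟩
        rw [← Commute.conj_iff g, hg, show g * (g⁻¹ * x * g) * g⁻¹ = x by group]
        exact hc
      · rintro ⟨y, ⟨hy, hc⟩, rfl⟩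
        exact ⟨h.conj g y hy, hg ▸ (Commute.conj_iff g).2 hc⟩
    rw [e, Set.ncard_image_of_injective _ (fun x y e' => by simpa using e'), hm]
  -- two distinct members commuting with `a` determine the set
  have huniq : ∀ a ∈ D, ∀ b ∈ D, ∀ x ∈ D, Commute a b → a ≠ b → Commute a x → x = a ∨ x = b := by
    intro a ha b hb x hx hab hne hax
    have e : ({a, b} : Set G) = {y : G | y ∈ D ∧ Commute a y} :=
      Set.eq_of_subset_of_ncard_le (by rintro y (rfl | rfl); exacts [⟨ha, Commute.refl y⟩, ⟨hb, hab⟩])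
        (by rw [hcard a ha, Set.ncard_pair hne]) (Set.toFinite _)
    simpa [← e] using (show x ∈ {y : G | y ∈ D ∧ Commute a y} from ⟨hx, hax⟩)
  have hpart : ∀ a ∈ D, ∃ b ∈ D, Commute a b ∧ a ≠ b := by
    intro a ha
    obtain ⟨p, q, hpq, e⟩ := Set.ncard_eq_two.1 (hcard a ha)
    have hp : p ∈ D ∧ Commute a p := by have : p ∈ ({p, q} : Set G) := by simp
                                        rwa [← e] at this
    have hq : q ∈ D ∧ Commute a q := by have : q ∈ ({p, q} : Set G) := by simp
                                        rwa [← e] at this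
    by_cases h' : a = p
    · exact ⟨q, hq.1, hq.2, h' ▸ hpq⟩
    · exact ⟨p, hp.1, hp.2, h'⟩
  -- conjugation by a pair product moves every other member to its partner
  have hmove : ∀ {a a' b b' : G}, a ∈ D → a' ∈ D → b ∈ D → b' ∈ D → Commute a a' → a ≠ a' → Commute b b' →
      b ≠ b' → ¬ Commute a b → b * (a * a') * b = a * a' * (b * b') := by
    intro a a' b b' ha ha' hb hb' haa hane hbb hbne hab
    have hsq : (a * a') * (a * a') = 1 := by rw [← pow_two]; exact (h.commute_iff_sq ha ha').1 haa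
    have hzD : (a * a') * b * (a * a') ∈ D := by
      have := h.conj (a * a') b hb
      rwa [inv_eq_of_mul_eq_one_right hsq] at this
    have hzO : a * a' ∈ Cfsg.pCore 2 G := h.mul_mem_two_core ha ha' fun x hx => (hVall a ha a' ha' haa x hx).symm
    have hbz : b * ((a * a') * b * (a * a')) ∈ Cfsg.pCore 2 G := by
      have h1 := mul_mem (Subgroup.Normal.conj_mem inferInstance _ hzO b) hzO
      rwa [h.inv_eq hb, show b * (a * a') * b * (a * a') = b * ((a * a') * b * (a * a')) by group] at h1
    have hne : (a * a') * b * (a * a') ≠ b := fun e => hab <| by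
      have : Commute b (a * a') := by
        show b * (a * a') = a * a' * b
        calc b * (a * a') = (a * a') * b * ((a * a') * (a * a')) := by rw [← mul_assoc _ (a * a') (a * a'), e]
          _ = a * a' * b := by rw [hsq, mul_one]
      exact ((commute_mul_iff h.set ha ha' hb hane haa).1 this).1.symm
    rcases huniq b hb b' hb' _ hzD hbb hbne (h.commute_of_mem_two_core hb hzD hbz) with e | e
    · exact absurd e hne
    · rw [hbb.eq, ← e]
      calc b * (a * a') * b = (a * a' * (a * a')) * b * (a * a') * b := by rw [hsq, one_mul]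
        _ = a * a' * (a * a' * b * (a * a') * b) := by group
  obtain ⟨d', hd', hdd', hdne⟩ := hpart d hd
  obtain ⟨e, he, hde⟩ := h.exists_not_commute hd hd' hdne
  obtain ⟨φ, hinj, hφa, hφb, hφc⟩ := exists_hom_perm_four (h.mul_self hd) (h.mul_self he) (h.mul_self hd')
    (h.braid he hd fun hh => hde hh.symm)
    (h.braid hd' he fun hh => hde ((hVall d hd d' hd' hdd' e he).1 hh)) hdd'.symm.eq hdne
  obtain ⟨e', he', hee', hene⟩ := hpart e he
  have hdR : d ∈ φ.range := ⟨_, hφa⟩
  have heR : e ∈ φ.range := ⟨_, hφb⟩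
  have hd'R : d' ∈ φ.range := ⟨_, hφc⟩
  have he'R : e' ∈ φ.range := by
    have e1 := hmove hd hd' he he' hdd' hdne hee' hene hde
    have e2 : e' = e * (d * d')⁻¹ * (e * (d * d') * e) := by
      rw [e1]
      calc e' = (e * e) * e' := by rw [h.mul_self he, one_mul]
        _ = _ := by group
    rw [e2]
    exact mul_mem (mul_mem heR (inv_mem (mul_mem hdR hd'R))) (mul_mem (mul_mem heR (mul_mem hdR hd'R)) heR)
  have hsurj : Function.Surjective φ := by
    intro g
    have hle : Subgroup.closure D ≤ φ.range := by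
      rw [Subgroup.closure_le]
      intro x hx
      by_cases hxd : Commute d x
      · rcases huniq d hd d' hd' x hx hdd' hdne hxd with rfl | rfl <;> assumption
      by_cases hxe : Commute e x
      · rcases huniq e he e' he' x hx hee' hene hxe with rfl | rfl <;> assumption
      -- the third member on the line of `e` and `x`
      have hf := h.conj_mem' he hx
      by_cases hdf : Commute d (e * x * e)
      · have hxR : e * (e * x * e) * e ∈ φ.range := by
          rcases huniq d hd d' hd' _ hf hdd' hdne hdf with e1 | e1 <;> rw [e1]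
          · exact mul_mem (mul_mem heR hdR) heR
          · exact mul_mem (mul_mem heR hd'R) heR
        rwa [h.conj_conj he] at hxR
      exfalso
      obtain ⟨x', hx', hxx', hxne⟩ := hpart x hx
      have hf' := h.conj_mem' he hx'
      have hff : Commute (e * x * e) (e * x' * e) := (h.commute_conj he).2 hxx'
      have hfne : e * x * e ≠ e * x' * e := fun e1 => hxne (mul_left_cancel (mul_right_cancel e1))
      -- `z f = z x * z e`
      have e1 := hmove hx hx' he he' hxx' hxne hee' hene fun hh => hxe hh.symm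
      have e2 := hmove hx hx' hd hd' hxx' hxne hdd' hdne fun hh => hxd hh.symm
      have e3 := hmove he he' hd hd' hee' hene hdd' hdne fun hh => hde hh.symm
      have e4 := hmove hf hf' hd hd' hff hfne hdd' hdne fun hh => hdf hh.symm
      have e5 : (e * x * e) * (e * x' * e) = x * x' * (e * e') := by
        rw [← e1]
        calc e * x * e * (e * x' * e) = e * x * (e * e) * x' * e := by group
          _ = e * (x * x') * e := by rw [h.mul_self he]; group
      rw [e5] at e4
      have e6 : d * (x * x' * (e * e')) * d = (d * (x * x') * d) * (d * (e * e') * d) := by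
        calc d * (x * x' * (e * e')) * d = d * (x * x') * (d * d) * (e * e') * d := by rw [h.mul_self hd]; group
          _ = _ := by group
      rw [e6, e2, e3] at e4
      have hze : (d * d') * (e * e') = (e * e') * (d * d') := by
        have hs1 : (d * d') * (d * d') = 1 := by rw [← pow_two]; exact (h.commute_iff_sq hd hd').1 hdd'
        have hs2 : (e * e') * (e * e') = 1 := by rw [← pow_two]; exact (h.commute_iff_sq he he').1 hee'
        have hs3 : (e * e' * (d * d')) * (e * e' * (d * d')) = 1 := by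
          rw [← e3, show d * (e * e') * d * (d * (e * e') * d) = d * (e * e') * (d * d) * (e * e') * d by group,
            h.mul_self hd, mul_one, mul_assoc d (e * e'), hs2, mul_one, h.mul_self hd]
        calc d * d' * (e * e') = (d * d' * (e * e')) * ((e * e' * (d * d')) * (e * e' * (d * d'))) := by
              rw [hs3, mul_one]
          _ = d * d' * ((e * e') * (e * e')) * (d * d') * (e * e' * (d * d')) := by group
          _ = e * e' * (d * d') := by rw [hs2, mul_one, hs1, one_mul]
      have e7 : d * d' = 1 := by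
        have : x * x' * (e * e') * (d * d') * (d * d') = x * x' * (e * e') * (d * d') := by
          calc x * x' * (e * e') * (d * d') * (d * d')
              = x * x' * ((e * e') * (d * d')) * (d * d') := by group
            _ = x * x' * ((d * d') * (e * e')) * (d * d') := by rw [hze]
            _ = x * x' * (d * d') * (e * e' * (d * d')) := by group
            _ = _ := e4
        exact mul_eq_left.1 this
      exact hdne (by rw [eq_inv_of_mul_eq_one_left e7, h.inv_eq hd'])
    exact hle (h.gen ▸ Subgroup.mem_top g)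
  exact ⟨(MulEquiv.ofBijective φ ⟨hinj, hsurj⟩).symm⟩

end CfsgLib.Spor.Tri
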