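/-
Eleven does not divide the order of a six-dimensional reflection group modulo three.
-/
import Cfsg.Prelude.Def_FischerSpaces
import Cfsg.Agent.Lib.Orth.Field.Normal
import Cfsg.Agent.Lib.Classical.QuadOrder

namespace CfsgLib.Spor.Tri.Level

open Matrix

local notation "V" => (Fin 6 → ZMod 3)

theorem card_sing_six (Q : QuadraticForm (ZMod 3) V) (hQ : (QuadraticMap.polarBilin Q).Nondegenerate) :
    Nat.card {v : V // Q v = 0} = 261 ∨ Nat.card {v : V // Q v = 0} = 225 := by
  have hab : ∀ z₁ z₂ : ZMod 3, z₁ ^ 2 + 0 * z₁ * z₂ + 1 * z₂ ^ 2 = 0 → z₁ = 0 ∧ z₂ = 0 := by decide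
  haveI : Fact (Nat.Prime 3) := ⟨Nat.prime_three⟩
  rcases CfsgLib.Orth.FieldCls.exists_even_normal Q hQ (k := 2) (by simp) hab with ⟨L, hL, hv⟩ | ⟨L, hL, hv⟩
  · left
    have hbij : Function.Bijective L :=
      ⟨hL, (LinearMap.injective_iff_surjective_of_finrank_eq_finrank (by simp)).1 hL⟩
    rw [← Nat.card_congr ((Equiv.ofBijective L hbij).subtypeEquiv (p := fun x => Cfsg.quadFormPlus 3 (ZMod 3) x = 0)
      (q := fun x => Q x = 0) fun x => by rw [Equiv.ofBijective_apply, hv])]
    have := CfsgLib.Classical.card_sing_plus (F := ZMod 3) 2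
    rw [ZMod.card] at this
    norm_num at this
    simp only [Nat.card_eq_fintype_card] at this ⊢
    exact_mod_cast this
  · right
    have hbij : Function.Bijective L :=
      ⟨hL, (LinearMap.injective_iff_surjective_of_finrank_eq_finrank (by simp)).1 hL⟩
    rw [← Nat.card_congr ((Equiv.ofBijective L hbij).subtypeEquiv (p := fun x => Cfsg.quadFormMinus 2 (ZMod 3) 0 1 x = 0)
      (q := fun x => Q x = 0) fun x => by rw [Equiv.ofBijective_apply, hv])]
    have := CfsgLib.Classical.card_sing_minus (F := ZMod 3) hab 2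
    rw [ZMod.card] at this
    norm_num at this
    simp only [Nat.card_eq_fintype_card] at this ⊢
    exact_mod_cast this

theorem not_eleven_dvd_refl {X : Type*} [Group X] {μ c : ZMod 3}
    (h : Cfsg.IsProjReflectionGroupModThree X 6 μ c) : ¬ 11 ∣ Nat.card X := by
  classical
  haveI : Fact (Nat.Prime 3) := ⟨Nat.prime_three⟩
  haveI h11 : Fact (Nat.Prime 11) := ⟨by norm_num⟩
  obtain ⟨Q, hQ, -, ⟨e⟩⟩ := h
  intro hd
  rw [Nat.card_congr e.toEquiv] at hd
  have h1 := hd.trans ((Subgroup.card_quotient_dvd_card _).trans (Subgroup.card_subgroup_dvd_card _))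
  obtain ⟨g, hg⟩ := exists_prime_orderOf_dvd_card' 11 h1
  set K := Subgroup.zpowers g with hKdef
  have hK : IsPGroup 11 ↥K := IsPGroup.of_card (n := 1) (by rw [Nat.card_zpowers, hg, pow_one])
  let val : ↥K → Matrix (Fin 6) (Fin 6) (ZMod 3) := fun k => ((k.1 : GL (Fin 6) (ZMod 3)) : Matrix _ _ _)
  letI act : MulAction ↥K V :=
    { smul := fun k v => val k *ᵥ v
      one_smul := fun v => Matrix.one_mulVec v
      mul_smul := fun a b v => (Matrix.mulVec_mulVec v _ _).symm }
  letI actS : MulAction ↥K {v : V // Q v = 0} :=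
    { smul := fun k v => ⟨k • v.1, (CfsgLib.Perm.Trans.Quad.mem_iso.1 k.1.2 v.1).trans v.2⟩
      one_smul := fun v => Subtype.ext (one_smul ↥K v.1)
      mul_smul := fun a b v => Subtype.ext (mul_smul a b v.1) }
  let W : Submodule (ZMod 3) V := LinearMap.ker (Matrix.mulVecLin (val ⟨g, Subgroup.mem_zpowers g⟩ - 1))
  have hW : ∀ v, v ∈ W ↔ v ∈ MulAction.fixedPoints ↥K V := by
    intro v
    simp only [W, LinearMap.mem_ker, Matrix.mulVecLin_apply, Matrix.sub_mulVec, Matrix.one_mulVec, sub_eq_zero]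
    constructor
    · intro hv
      rintro ⟨k, hk⟩
      obtain ⟨i, hi⟩ := mem_powers_iff_mem_zpowers.2 hk
      subst hi
      induction i with
      | zero => exact Matrix.one_mulVec v
      | succ i ih =>
        have e1 : (⟨g ^ (i + 1), hk⟩ : ↥K) = ⟨g ^ i, pow_mem (Subgroup.mem_zpowers g) i⟩ * ⟨g, Subgroup.mem_zpowers g⟩ :=
          Subtype.ext (pow_succ g i)
        show (⟨g ^ (i + 1), hk⟩ : ↥K) • v = v
        rw [e1, mul_smul]
        show (⟨g ^ i, _⟩ : ↥K) • (val ⟨g, _⟩ *ᵥ v) = v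
        rw [hv]
        exact ih (pow_mem (Subgroup.mem_zpowers g) i)
    · intro hv; exact hv ⟨g, Subgroup.mem_zpowers g⟩
  have hWc : Nat.card W = 3 ^ Module.finrank (ZMod 3) W := by
    rw [Module.natCard_eq_pow_finrank (K := ZMod 3)]; simp
  have hlt : Module.finrank (ZMod 3) W < 6 := by
    have h6 : Module.finrank (ZMod 3) V = 6 := by simp
    refine lt_of_le_of_ne ((Submodule.finrank_le W).trans h6.le) fun e6 => ?_
    have htop : W = ⊤ := Submodule.eq_top_of_finrank_eq (e6.trans h6.symm)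
    have h1 : g = 1 := Subtype.ext (Units.ext (Matrix.ext_iff_mulVec.2 fun v => by
      have hv : v ∈ W := htop ▸ Submodule.mem_top
      exact ((hW v).1 hv ⟨g, Subgroup.mem_zpowers g⟩).trans (Matrix.one_mulVec v).symm))
    rw [h1, orderOf_one] at hg
    norm_num at hg
  have hfixV : Nat.card (MulAction.fixedPoints ↥K V) = Nat.card W :=
    Nat.card_congr (Equiv.subtypeEquivRight fun v => (hW v).symm)
  have hmodV := hK.card_modEq_card_fixedPoints V
  rw [hfixV, hWc, Nat.card_fun, Nat.card_zmod, Nat.card_eq_fintype_card, Fintype.card_fin] at hmodV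
  have h3 : Nat.card W = 3 := by
    rw [hWc]
    have : ∀ j < 6, 3 ^ 6 ≡ 3 ^ j [MOD 11] → j = 1 ∨ 6 ≤ j := by decide
    rcases this _ hlt hmodV with e | e
    · rw [e, pow_one]
    · omega
  have hmodS := hK.card_modEq_card_fixedPoints {v : V // Q v = 0}
  have hle : Nat.card (MulAction.fixedPoints ↥K {v : V // Q v = 0}) ≤ 3 := by
    refine le_trans (Nat.card_le_card_of_injective (β := W)
      (fun v => ⟨v.1.1, (hW _).2 fun k => congrArg Subtype.val (v.2 k)⟩) ?_) h3.le
    intro a b r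
    exact Subtype.ext (Subtype.ext (congrArg Subtype.val r :))
  rcases card_sing_six Q hQ with r | r <;> rw [r] at hmodS <;> unfold Nat.ModEq at hmodS <;> omega

end CfsgLib.Spor.Tri.Level
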