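/-
The commuting graph of a class of 3-transpositions is connected when the derived group is perfect.
-/
import Cfsg.Agent.Lib.Spor.Tri.Radical

namespace CfsgLib.Spor.Tri

open scoped commutatorElement

universe u

variable {G : Type u} [Group G] [Finite G] {D : Set G}

/-- Adjacency of two commuting members. -/
def CAdj (D : Set G) (x y : G) : Prop := x ∈ D ∧ y ∈ D ∧ Commute x y

omit [Finite G] in
theorem CAdj.symm {x y : G} (h : CAdj D x y) : CAdj D y x := ⟨h.2.1, h.1, h.2.2.symm⟩

omit [Finite G] in
theorem CAdj.conj (h : Hyp D) (g : G) {x y : G} (hxy : Relation.ReflTransGen (CAdj D) x y) :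
    Relation.ReflTransGen (CAdj D) (g * x * g⁻¹) (g * y * g⁻¹) := by
  induction hxy with
  | refl => exact .refl
  | tail _ hbc ih => exact ih.tail ⟨h.conj g _ hbc.1, h.conj g _ hbc.2.1, (Commute.conj_iff g).2 hbc.2.2⟩

omit [Finite G] in
theorem reflTransGen_symm {α : Type*} {R : α → α → Prop} (hR : ∀ x y, R x y → R y x) {a b : α}
    (h : Relation.ReflTransGen R a b) : Relation.ReflTransGen R b a := by
  induction h with
  | refl => exact .refl
  | tail _ hbc ih => exact Relation.ReflTransGen.head (hR _ _ hbc) ih

theorem commuting_connected (h : Hyp D) (hperf : ⁅commutator G, commutator G⁆ = commutator G) {a b : G}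
    (ha : a ∈ D) (hb : b ∈ D) : Relation.ReflTransGen (CAdj D) a b := by
  let r := Relation.ReflTransGen (CAdj D)
  have rsymm : ∀ {x y}, r x y → r y x := fun hxy => reflTransGen_symm (fun _ _ => CAdj.symm) hxy
  let K : Subgroup G :=
    { carrier := {g | ∀ x ∈ D, r x (g * x * g⁻¹)}
      one_mem' := fun x _ => by simpa [r] using Relation.ReflTransGen.refl
      mul_mem' := fun {u v} hu hv x hx => by
        have h1 := hu _ (h.conj v x hx)
        rw [show u * v * x * (u * v)⁻¹ = u * (v * x * v⁻¹) * u⁻¹ by group]
        exact (hv x hx).trans h1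
      inv_mem' := fun {u} hu x hx => by
        have h1 := hu _ (h.conj u⁻¹ x hx)
        rw [show u * (u⁻¹ * x * u⁻¹⁻¹) * u⁻¹ = x by group] at h1
        exact rsymm h1 }
  haveI : K.Normal := ⟨fun n hn g x hx => by
    have h1 := CAdj.conj h g (hn _ (h.conj g⁻¹ x hx))
    rwa [show g * (g⁻¹ * x * g⁻¹⁻¹) * g⁻¹ = x by group,
      show g * (n * (g⁻¹ * x * g⁻¹⁻¹) * n⁻¹) * g⁻¹ = g * n * g⁻¹ * x * (g * n * g⁻¹)⁻¹ by group] at h1⟩
  have hcommK : ∀ u ∈ D, ∀ v ∈ D, Commute u v → u * v ∈ K := by
    intro u hu v hv huv x hx
    rw [show u * v * x * (u * v)⁻¹ = u * (v * x * v⁻¹) * u⁻¹ by group]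
    by_cases hvx : Commute v x
    · rw [h.commute_self_conj hv hvx]
      by_cases hux : Commute u x
      · rw [h.commute_self_conj hu hux]
      · refine Relation.ReflTransGen.head (b := v) ⟨hx, hv, hvx.symm⟩ ?_
        exact Relation.ReflTransGen.single ⟨hv, h.conj u x hx,
          by rw [h.inv_eq hu]; exact commute_third huv.symm hvx⟩
    · rw [h.inv_eq hv, h.braid hv hx hvx, h.inv_eq hu]
      by_cases hux : Commute u x
      · have e1 : u * (x * v * x) * u = x * v * x := h.conj_fix hu (commute_third hux huv)
        rw [e1]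
        refine Relation.ReflTransGen.head (b := u) ⟨hx, hu, hux.symm⟩ ?_
        exact Relation.ReflTransGen.single ⟨hu, h.conj_mem' hx hv, commute_third hux huv⟩
      · refine Relation.ReflTransGen.single ⟨hx, h.conj_mem' hu (h.conj_mem' hx hv), ?_⟩
        have h1 : Commute (u * x * u) (x * v * x) := by
          rw [h.braid hu hx hux]; exact (h.commute_conj hx).2 huv
        have h2 := (h.commute_conj hu).2 h1
        rwa [h.conj_conj hu] at h2
  let f := QuotientGroup.mk' K
  have hab : a * b ∈ K := by
    obtain ⟨g, hg⟩ := h.transitive a ha b hb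
    by_cases hd : orderOf (f a) = 2
    · have hprod : ∀ q : G ⧸ K, ∃ k, orderOf (f a * (q * f a * q⁻¹)) = 3 ^ k := by
        intro q
        obtain ⟨g, rfl⟩ := QuotientGroup.mk'_surjective K q
        rw [← map_inv, ← map_mul, ← map_mul, ← map_mul]
        show ∃ k, orderOf (f (a * (g * a * g⁻¹))) = 3 ^ k
        by_cases hc : Commute a (g * a * g⁻¹)
        · have h1 : f (a * (g * a * g⁻¹)) = 1 :=
            (QuotientGroup.eq_one_iff _).2 (hcommK a ha _ (h.conj g a ha) hc)
          exact ⟨0, by rw [h1, orderOf_one, pow_zero]⟩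
        · have h1 : orderOf (f (a * (g * a * g⁻¹))) ∣ 3 ^ 1 := by
            rw [pow_one]
            exact orderOf_dvd_of_pow_eq_one (by rw [← map_pow, h.cube ha (h.conj g a ha) hc, map_one])
          obtain ⟨k, -, hk⟩ := (Nat.dvd_prime_pow Nat.prime_three).1 h1
          exact ⟨k, hk⟩
      have hO : ∀ q : G ⧸ K, f a * (q * f a * q⁻¹) ∈ Cfsg.pCore 3 (G ⧸ K) := fun q =>
        CfsgLib.Invol.mul_conj_mem_pCore Nat.prime_three (by norm_num) hd hprod q
      set O := Cfsg.pCore 3 (G ⧸ K) with hOdef
      haveI hOn : O.Normal := CfsgLib.Coprime.pCore_normal' 3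
      let π := QuotientGroup.mk' O
      have hgen : ∀ x : G, π (f x) ∈ Subgroup.zpowers (π (f a)) := by
        intro x
        have hx : x ∈ Subgroup.closure D := h.gen ▸ Subgroup.mem_top x
        have hle : Subgroup.closure D ≤ (Subgroup.zpowers (π (f a))).comap (π.comp f) := by
          rw [Subgroup.closure_le]
          intro d hd'
          obtain ⟨g', hg'⟩ := h.transitive a ha d hd'
          have h1 : π (f a * (f g' * f a * (f g')⁻¹)) = 1 :=
            (QuotientGroup.eq_one_iff _).2 (hO (f g'))
          rw [← map_inv, ← map_mul, ← map_mul, hg', map_mul] at h1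
          show π (f d) ∈ Subgroup.zpowers (π (f a))
          rw [eq_inv_of_mul_eq_one_right h1]
          exact inv_mem (Subgroup.mem_zpowers _)
        exact hle hx
      have hcle : commutator G ≤ O.comap f := by
        rw [commutator_def, Subgroup.commutator_le]
        intro x _ y _
        show f ⁅x, y⁆ ∈ O
        rw [← QuotientGroup.eq_one_iff]
        show π (f ⁅x, y⁆) = 1
        rw [map_commutatorElement, map_commutatorElement, commutatorElement_eq_one_iff_mul_comm]
        exact setLike_mul_comm (hgen x) (hgen y)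
      haveI : Fact (Nat.Prime 3) := ⟨Nat.prime_three⟩
      haveI := (CfsgLib.Coprime.pCore_isPGroup (G := G ⧸ K) 3).isNilpotent
      have hbot : (commutator G).map f = ⊥ := by
        set M := (commutator G).map f
        have hMle : M ≤ O := Subgroup.map_le_iff_le_comap.2 hcle
        haveI : Group.IsSolvable O := inferInstance
        haveI : Group.IsSolvable M := Group.isSolvable_of_isSolvable_injective
          (f := Subgroup.inclusion hMle) (Subgroup.inclusion_injective hMle)
        by_contra hne
        have hlt := Group.IsSolvable.commutator_lt_of_ne_bot (G := M) (H := ⊤) (by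
          intro e
          apply hne
          rw [eq_bot_iff]
          intro x hx
          have : (⟨x, hx⟩ : M) ∈ (⊥ : Subgroup M) := e ▸ Subgroup.mem_top _
          rw [Subgroup.mem_bot] at this
          exact Subgroup.mem_bot.2 (congrArg Subtype.val this))
        apply hlt.ne
        apply Subgroup.map_injective M.subtype_injective
        rw [Subgroup.map_commutator, ← MonoidHom.range_eq_map, Subgroup.range_subtype,
          ← Subgroup.map_commutator, hperf]
      rw [← QuotientGroup.eq_one_iff]
      show f (a * b) = 1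
      have hg' : f ⁅g, a⁆ = 1 := by
        have : f ⁅g, a⁆ ∈ (commutator G).map f :=
          ⟨_, Subgroup.commutator_mem_commutator (Subgroup.mem_top g) (Subgroup.mem_top a), rfl⟩
        rwa [hbot, Subgroup.mem_bot] at this
      have e : b * a⁻¹ = ⁅g, a⁆ := by rw [← hg, commutatorElement_def]
      rw [← e, h.inv_eq ha, map_mul] at hg'
      rw [map_mul, eq_inv_of_mul_eq_one_right hg', ← map_inv, h.inv_eq hb, ← map_mul, h.mul_self hb, map_one]
    · have h1 : f a ^ 2 = 1 := by rw [← map_pow, pow_two, h.mul_self ha, map_one]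
      have h2 : f a = 1 := by
        rcases (Nat.dvd_prime Nat.prime_two).1 (orderOf_dvd_of_pow_eq_one h1) with e | e
        · exact orderOf_eq_one_iff.1 e
        · exact absurd e hd
      have hfb : f b = 1 := by rw [← hg, map_mul, map_mul, h2, mul_one, ← map_mul, mul_inv_cancel, map_one]
      rw [← QuotientGroup.eq_one_iff]
      show f (a * b) = 1
      rw [map_mul, h2, hfb, one_mul]
  by_cases hc : Commute a b
  · exact Relation.ReflTransGen.single ⟨ha, hb, hc⟩
  have h1 : r b (a * b * a) := by
    have := hab b hb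
    rwa [show a * b * b * (a * b)⁻¹ = a * b * a⁻¹ by group, h.inv_eq ha] at this
  have h2 : r a (a * b * a) := by
    have := (K.inv_mem hab) a ha
    rwa [show (a * b)⁻¹ * a * (a * b)⁻¹⁻¹ = b⁻¹ * a * b by group, h.inv_eq hb, ← h.braid ha hb hc] at this
  exact h2.trans (rsymm h1)

end CfsgLib.Spor.Tri
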