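/-
The members commuting with a given one form a connected non-commuting graph.
-/
import Cfsg.Agent.Lib.Spor.Tri.Connected

namespace CfsgLib.Spor.Tri

universe u

variable {G : Type u} [Group G] {D : Set G}

/-- Non-commuting adjacency inside the commuting set of `c`. -/
def PAdj (D : Set G) (c x y : G) : Prop := x ∈ perp D c ∧ y ∈ perp D c ∧ ¬ Commute x y

/-- The component of `y` among the members commuting with `c`. -/
def comp (D : Set G) (c y : G) : Set G := {z | z ∈ perp D c ∧ Relation.ReflTransGen (PAdj D c) y z}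

theorem comp_eq_of_mem {c y z : G} (hz : z ∈ comp D c y) : comp D c z = comp D c y := by
  have hsymm : Relation.ReflTransGen (PAdj D c) z y :=
    reflTransGen_symm (fun _ _ hh => ⟨hh.2.1, hh.1, fun hc => hh.2.2 hc.symm⟩) hz.2
  ext v
  exact ⟨fun hv => ⟨hv.1, hz.2.trans hv.2⟩, fun hv => ⟨hv.1, hsymm.trans hv.2⟩⟩

theorem comp_lift {c v y z : G} (hY : comp D c y ⊆ perp D v) (hy : y ∈ perp D c)
    (hz : Relation.ReflTransGen (PAdj D c) y z) : Relation.ReflTransGen (PAdj D v) y z := by
  induction hz with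
  | refl => exact .refl
  | tail hyb hbz ih => exact ih.tail ⟨hY ⟨hbz.1, hyb⟩, hY ⟨hbz.2.1, hyb.tail hbz⟩, hbz.2.2⟩

/-- A pair defining a component of largest size. -/
def IsMaxPair (D : Set G) (c y : G) : Prop :=
  c ∈ D ∧ y ∈ perp D c ∧ ∀ c' ∈ D, ∀ y' ∈ perp D c', (comp D c' y').ncard ≤ (comp D c y).ncard

/-- The members commuting with all of a component, outside it. -/
def coreSet (D : Set G) (c y : G) : Set G := {v | v ∈ D ∧ comp D c y ⊆ perp D v}

variable [Finite G]

theorem perp_image (h : Hyp D) (g c y : G) :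
    comp D (g * c * g⁻¹) (g * y * g⁻¹) = (fun x => g * x * g⁻¹) '' comp D c y := by
  have key : ∀ (g c y : G) {z : G}, Relation.ReflTransGen (PAdj D c) y z →
      Relation.ReflTransGen (PAdj D (g * c * g⁻¹)) (g * y * g⁻¹) (g * z * g⁻¹) := by
    intro g c y z hz
    induction hz with
    | refl => exact .refl
    | tail _ hab ih =>
      refine ih.tail ⟨?_, ?_, fun hc => hab.2.2 ((Commute.conj_iff g).1 hc)⟩
      · rw [h.perp_conj]; exact ⟨_, hab.1, rfl⟩
      · rw [h.perp_conj]; exact ⟨_, hab.2.1, rfl⟩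
  ext x
  constructor
  · rintro ⟨hx, hr⟩
    rw [h.perp_conj] at hx
    obtain ⟨z, hz, rfl⟩ := hx
    refine ⟨z, ⟨hz, ?_⟩, rfl⟩
    have := key g⁻¹ _ _ hr
    simpa [mul_assoc] using this
  · rintro ⟨z, ⟨hz, hr⟩, rfl⟩
    exact ⟨by rw [h.perp_conj]; exact ⟨z, hz, rfl⟩, key g c y hr⟩

theorem IsMaxPair.conj (h : Hyp D) {c y : G} (hm : IsMaxPair D c y) (g : G) :
    IsMaxPair D (g * c * g⁻¹) (g * y * g⁻¹) := by
  refine ⟨h.conj g c hm.1, by rw [h.perp_conj]; exact ⟨y, hm.2.1, rfl⟩, fun c' hc' y' hy' => ?_⟩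
  rw [perp_image h, Set.ncard_image_of_injective _ (fun a b e => by simpa using e)]
  exact hm.2.2 c' hc' y' hy'

section Max

variable (h : Hyp D) {c y : G} (hm : IsMaxPair D c y)
include h hm

omit h in
theorem IsMaxPair.comp_eq {v : G} (hv : v ∈ coreSet D c y) : comp D v y = comp D c y := by
  refine (Set.eq_of_subset_of_ncard_le (s := comp D c y) (t := comp D v y)
    (fun z hz => ⟨hv.2 hz, comp_lift hv.2 hm.2.1 hz.2⟩)
    (hm.2.2 v hv.1 y (hv.2 (show y ∈ comp D c y from ⟨hm.2.1, .refl⟩))) (Set.toFinite _)).symm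

omit h in
theorem IsMaxPair.not_mem_comp {v : G} (hv : v ∈ coreSet D c y) : v ∉ comp D c y :=
  fun hv' => (hv.2 hv').2.1 rfl

omit h in
theorem IsMaxPair.self_mem : c ∈ coreSet D c y := ⟨hm.1, fun _ hz => hz.1⟩

omit h in
/-- Anything commuting with a core member lies in the component or in the core. -/
theorem IsMaxPair.commute_cases {v z : G} (hv : v ∈ coreSet D c y) (hz : z ∈ D) (hvz : Commute v z) :
    z ∈ comp D c y ∨ z ∈ coreSet D c y := by
  by_cases hzY : z ∈ comp D c y
  · exact Or.inl hzY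
  by_cases e : z = v
  · exact Or.inr (e ▸ hv)
  refine Or.inr ⟨hz, fun w hw => ⟨hw.1.1, fun e' => hzY (e' ▸ hw), ?_⟩⟩
  by_contra hc
  apply hzY
  rw [← hm.comp_eq hv] at hw ⊢
  exact ⟨⟨hz, e, hvz⟩, hw.2.tail ⟨hw.1, ⟨hz, e, hvz⟩, fun h' => hc h'.symm⟩⟩

omit h in
theorem IsMaxPair.commute_comp {v z : G} (hv : v ∈ coreSet D c y) (hz : z ∈ comp D c y) : Commute v z :=
  (hv.2 hz).2.2

/-- If the component is not everything, the core is smaller than it. -/
theorem IsMaxPair.core_lt (hperf : ⁅commutator G, commutator G⁆ = commutator G) :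
    (coreSet D c y).ncard < (comp D c y).ncard := by
  have hex : ∃ y1 ∈ comp D c y, ∃ w ∈ perp D y1, w ∉ comp D c y ∧ w ∉ coreSet D c y := by
    by_contra hcon
    push Not at hcon
    have hall : ∀ z ∈ D, z ∈ comp D c y ∨ z ∈ coreSet D c y := by
      intro z hz
      have hr := commuting_connected h hperf hm.1 hz
      clear hz
      induction hr with
      | refl => exact Or.inr hm.self_mem
      | @tail p q _ hpq ih =>
        rcases ih with hp | hp
        · by_cases e : q = p
          · exact Or.inl (e ▸ hp)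
          · by_cases hq : q ∈ comp D c y
            · exact Or.inl hq
            · exact Or.inr (hcon p hp q ⟨hpq.2.1, e, hpq.2.2⟩ hq)
        · exact hm.commute_cases hp hpq.2.1 hpq.2.2
    have hU : ∀ z ∈ D, z ∈ coreSet D c y := by
      intro z hz
      have hr := h.noncomm_connected hm.1 hz
      clear hz
      induction hr with
      | refl => exact hm.self_mem
      | @tail p q _ hpq ih =>
        rcases hall q hpq.2.1 with hq | hq
        · exact absurd (hm.commute_comp ih hq) hpq.2.2
        · exact hq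
    exact hm.not_mem_comp (hU y hm.2.1.1) ⟨hm.2.1, .refl⟩
  obtain ⟨y1, hy1, w, hw, hwY, hwU⟩ := hex
  have hsub : insert w (coreSet D c y) ⊆ comp D y1 w := by
    rintro u (rfl | hu)
    · exact ⟨hw, .refl⟩
    · have hu' : u ∈ perp D y1 := ⟨hu.1, fun e => (hu.2 hy1).2.1 e.symm, (hm.commute_comp hu hy1).symm⟩
      refine ⟨hu', Relation.ReflTransGen.single ⟨hw, hu', fun hc => ?_⟩⟩
      rcases hm.commute_cases hu hw.1 hc.symm with h' | h'
      exacts [hwY h', hwU h']
  have h1 := Set.ncard_le_ncard hsub (Set.toFinite _)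
  rw [Set.ncard_insert_of_notMem hwU (Set.toFinite _)] at h1
  exact lt_of_lt_of_le h1 (hm.2.2 y1 hy1.1.1 w hw)

/-- Cores of largest components are disjoint or equal. -/
theorem IsMaxPair.eq_of_meet (hperf : ⁅commutator G, commutator G⁆ = commutator G) {c' y' v : G}
    (hm' : IsMaxPair D c' y') (hv : v ∈ coreSet D c y) (hv' : v ∈ coreSet D c' y') :
    coreSet D c y = coreSet D c' y' := by
  have e : comp D c y = comp D c' y' := by
    by_contra hne
    have hdisj : ∀ z ∈ comp D c' y', z ∈ coreSet D c y := by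
      intro z hz
      have hzp := hv'.2 hz
      rcases hm.commute_cases hv hzp.1 hzp.2.2 with h' | h'
      · exfalso; apply hne
        have e1 := comp_eq_of_mem (c := v) (y := y) (z := z) (by rwa [hm.comp_eq hv])
        have e2 := comp_eq_of_mem (c := v) (y := y') (z := z) (by rwa [hm'.comp_eq hv'])
        rw [← hm.comp_eq hv, ← e1, e2, hm'.comp_eq hv']
      · exact h'
    have hsub : insert v (comp D c' y') ⊆ coreSet D c y := by
      rintro u (rfl | hu)
      exacts [hv, hdisj u hu]
    have h1 := Set.ncard_le_ncard hsub (Set.toFinite _)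
    rw [Set.ncard_insert_of_notMem (fun hh => hm'.not_mem_comp hv' hh) (Set.toFinite _)] at h1
    have h2 := hm.core_lt h hperf
    have h3 := hm.2.2 c' hm'.1 y' hm'.2.1
    have h4 := hm'.2.2 c hm.1 y hm.2.1
    omega
  simp only [coreSet, e]

omit hm in
theorem coreSet_image (g : G) : coreSet D (g * c * g⁻¹) (g * y * g⁻¹) = (fun x => g * x * g⁻¹) '' coreSet D c y := by
  ext x
  constructor
  · rintro ⟨hx, hsub⟩
    refine ⟨g⁻¹ * x * g, ⟨by simpa using h.conj g⁻¹ x hx, fun z hz => ?_⟩,
      by show g * (g⁻¹ * x * g) * g⁻¹ = x; group⟩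
    have hz' : g * z * g⁻¹ ∈ perp D x := hsub (by rw [perp_image h]; exact ⟨z, hz, rfl⟩)
    rw [show x = g * (g⁻¹ * x * g) * g⁻¹ by group, h.perp_conj] at hz'
    obtain ⟨z', hz', e⟩ := hz'
    simp only [mul_left_inj, mul_right_inj] at e
    exact e ▸ hz'
  · rintro ⟨v, ⟨hv, hsub⟩, rfl⟩
    refine ⟨h.conj g v hv, ?_⟩
    rw [perp_image h, h.perp_conj]
    exact Set.image_mono hsub

end Max

/-- Two members are related when they lie in the core of one largest component. -/
def SameCore (D : Set G) (a b : G) : Prop :=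
  ∃ c y, IsMaxPair D c y ∧ a ∈ coreSet D c y ∧ b ∈ coreSet D c y

theorem Nat.two_three_of_primes : ∀ n : ℕ, n ≠ 0 → (∀ p, p.Prime → p ∣ n → p = 2 ∨ p = 3) →
    ∃ a b, n = 2 ^ a * 3 ^ b := by
  intro n
  induction n using Nat.strong_induction_on with
  | _ n ih =>
    intro hn hp
    by_cases h1 : n = 1
    · exact ⟨0, 0, by simp [h1]⟩
    obtain ⟨p, hpp, hpn⟩ := Nat.exists_prime_and_dvd h1
    obtain ⟨m, rfl⟩ := hpn
    have hm : m ≠ 0 := by rintro rfl; simp at hn
    have hlt : m < p * m := lt_mul_of_one_lt_left (Nat.pos_of_ne_zero hm) hpp.one_lt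
    obtain ⟨a, b, rfl⟩ := ih m hlt hm fun q hq hqm => hp q hq (hqm.mul_left p)
    rcases hp p hpp (dvd_mul_right _ _) with rfl | rfl
    · exact ⟨a + 1, b, by ring⟩
    · exact ⟨a, b + 1, by ring⟩

section Core

variable (h : Hyp D) (hR : CentralRadical G) (hperf : ⁅commutator G, commutator G⁆ = commutator G)
include h hperf

theorem SameCore.conj {a b : G} (hab : SameCore D a b) (g : G) : SameCore D (g * a * g⁻¹) (g * b * g⁻¹) := by
  obtain ⟨c, y, hm, ha, hb⟩ := hab
  exact ⟨_, _, hm.conj h g, by rw [coreSet_image h]; exact ⟨a, ha, rfl⟩,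
    by rw [coreSet_image h]; exact ⟨b, hb, rfl⟩⟩

theorem SameCore.mem_of_mem {a b c y : G} (hab : SameCore D a b) (hm : IsMaxPair D c y)
    (ha : a ∈ coreSet D c y) : b ∈ coreSet D c y := by
  obtain ⟨c', y', hm', ha', hb'⟩ := hab
  rw [hm.eq_of_meet h hperf hm' ha ha']; exact hb'

omit h hperf in
theorem SameCore.symm {a b : G} (hab : SameCore D a b) : SameCore D b a := by
  obtain ⟨c, y, hm, ha, hb⟩ := hab; exact ⟨c, y, hm, hb, ha⟩

theorem SameCore.trans {a b d : G} (hab : SameCore D a b) (hbd : SameCore D b d) : SameCore D a d := by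
  obtain ⟨c, y, hm, ha, hb⟩ := hab
  exact ⟨c, y, hm, ha, hbd.mem_of_mem h hperf hm hb⟩

theorem SameCore.of_pair {c₀ y₀ : G} (hm₀ : IsMaxPair D c₀ y₀) {a : G} (ha : a ∈ D) : SameCore D a a := by
  obtain ⟨g, hg⟩ := h.transitive c₀ hm₀.1 a ha
  refine ⟨_, _, hm₀.conj h g, ?_, ?_⟩ <;>
  · rw [coreSet_image h]; exact ⟨c₀, hm₀.self_mem, hg⟩

/-- Commuting is constant between two different cores. -/
theorem SameCore.commute_iff {a a' b b' : G} (haa : SameCore D a a') (hbb : SameCore D b b')
    (hne : ¬ SameCore D a b) (hc : Commute a b) : Commute a' b' := by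
  obtain ⟨c, y, hm, ha, ha'⟩ := haa
  obtain ⟨d, z, hm', hb, hb'⟩ := hbb
  have hbY : b ∈ comp D c y := (hm.commute_cases ha hb.1 hc).resolve_right fun h' => hne ⟨c, y, hm, ha, h'⟩
  have haY : a' ∈ comp D d z := (hm'.commute_cases hb ha'.1 (hm.commute_comp ha' hbY).symm).resolve_right
    fun h' => hne (SameCore.trans h hperf (⟨c, y, hm, ha, ha'⟩ : SameCore D a a') ⟨d, z, hm', h', hb⟩)
  exact (hm'.commute_comp hb' haY).symm

/-- Products of two core mates move every core into itself. -/
theorem SameCore.move {p q x : G} (hpq : SameCore D p q) (hx : SameCore D x x) :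
    SameCore D ((p * q) * x * (p * q)⁻¹) x := by
  have hp : p ∈ D := by obtain ⟨_, _, _, hp, -⟩ := hpq; exact hp.1
  have hq : q ∈ D := by obtain ⟨_, _, _, -, hq⟩ := hpq; exact hq.1
  have hxD : x ∈ D := by obtain ⟨_, _, _, hx', -⟩ := hx; exact hx'.1
  rw [show p * q * x * (p * q)⁻¹ = p * (q * x * q⁻¹) * p⁻¹ by group]
  by_cases hpx : SameCore D p x
  · have hqx : SameCore D q x := hpq.symm.trans h hperf hpx
    have h1 := SameCore.conj h hperf hqx q
    rw [show q * q * q⁻¹ = q by group] at h1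
    have h2 : SameCore D (q * x * q⁻¹) p := h1.symm.trans h hperf hpq.symm
    have h3 := SameCore.conj h hperf h2 p
    rw [show p * p * p⁻¹ = p by group] at h3
    exact h3.trans h hperf hpx
  have hqx : ¬ SameCore D q x := fun hh => hpx (hpq.trans h hperf hh)
  by_cases hc : Commute p x
  · rw [h.commute_self_conj hq (SameCore.commute_iff h hperf hpq hx hpx hc), h.commute_self_conj hp hc]
    exact hx
  · have hcq : ¬ Commute q x := fun hh => hc (SameCore.commute_iff h hperf hpq.symm hx hqx hh)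
    have h1 := SameCore.conj h hperf hpq x
    rw [h.inv_eq hxD, ← h.braid hp hxD hc, ← h.braid hq hxD hcq] at h1
    have h2 := SameCore.conj h hperf h1.symm p
    rw [h.inv_eq hp, h.conj_conj hp] at h2
    rw [h.inv_eq hp, h.inv_eq hq]
    exact h2

/-- A member of one core is carried to any other by a product of two mates of a member it does not commute with. -/
theorem SameCore.exists_mul {u w v : G} (hu : SameCore D u u) (hwv : SameCore D w v) (hne : ¬ SameCore D u w)
    (hc : ¬ Commute u w) : ∃ u', SameCore D u u' ∧ (u' * u) * w * (u' * u)⁻¹ = v := by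
  have huD : u ∈ D := by obtain ⟨_, _, _, h', -⟩ := hu; exact h'.1
  have hwD : w ∈ D := by obtain ⟨_, _, _, h', -⟩ := hwv; exact h'.1
  have hvD : v ∈ D := by obtain ⟨_, _, _, -, h'⟩ := hwv; exact h'.1
  set t := u * w * u with ht
  have htD : t ∈ D := h.conj_mem' huD hwD
  have hnc : ¬ Commute w t := by
    rw [ht, h.braid huD hwD hc]
    exact h.third_not_commute hwD huD fun hh => hc hh.symm
  have hwtw : w * t * w = u := by rw [ht, h.braid huD hwD hc, h.conj_conj hwD]
  have htwt : t * w * t = u := by rw [← h.braid hwD htD hnc, hwtw]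
  have hnt : ¬ SameCore D w t := by
    intro hwt
    apply hne
    have h1 := SameCore.conj h hperf hwt w
    rw [show w * w * w⁻¹ = w by group, h.inv_eq hwD, hwtw] at h1
    exact h1.symm
  have htt : SameCore D t t := by
    have := SameCore.conj h hperf (hwv.trans h hperf hwv.symm) u
    rwa [h.inv_eq huD] at this
  have hvt : ¬ Commute v t := fun hh => hnc (SameCore.commute_iff h hperf hwv.symm htt
    (fun hh' => hnt (hwv.trans h hperf hh')) hh)
  refine ⟨v * t * v, ?_, ?_⟩
  · have h1 := SameCore.conj h hperf hwv t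
    rw [h.inv_eq htD, htwt, ← h.braid hvD htD hvt] at h1
    exact h1
  · have e : v * t * v = t * v * t := h.braid hvD htD hvt
    have hu'D : v * t * v ∈ D := h.conj_mem' hvD htD
    have hu't : ¬ Commute (v * t * v) t := fun hh => h.third_not_commute htD hvD (fun hh' => hvt hh'.symm)
      (e ▸ hh).symm
    rw [show v * t * v * u * w * (v * t * v * u)⁻¹ = (v * t * v) * (u * w * u⁻¹) * (v * t * v)⁻¹ by group,
      h.inv_eq huD, h.inv_eq hu'D, ← ht, h.braid hu'D htD hu't, e, h.conj_conj htD]

omit h hperf in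
theorem conj_mul_eq (s t x : G) : s * t * x * (s * t)⁻¹ = s * (t * x * t⁻¹) * s⁻¹ := by group

/-- The products of core mates generate a solvable group. -/
theorem sameCore_solvable (k : G) :
    Group.IsSolvable (Subgroup.closure {z | ∃ a b, SameCore D k a ∧ SameCore D k b ∧ z = a * b}) := by
  set T := Subgroup.closure {z | ∃ a b, SameCore D k a ∧ SameCore D k b ∧ z = a * b}
  have hTmove : ∀ τ ∈ T, ∀ x, SameCore D x x → SameCore D (τ * x * τ⁻¹) x := by
    intro τ hτ
    induction hτ using Subgroup.closure_induction'' with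
    | mem s hs =>
      obtain ⟨a, b, ha, hb, rfl⟩ := hs
      exact fun x hx => SameCore.move h hperf (ha.symm.trans h hperf hb) hx
    | inv_mem s hs =>
      obtain ⟨a, b, ha, hb, rfl⟩ := hs
      intro x hx
      have haD : a ∈ D := by obtain ⟨_, _, _, -, h'⟩ := ha; exact h'.1
      have hbD : b ∈ D := by obtain ⟨_, _, _, -, h'⟩ := hb; exact h'.1
      rw [mul_inv_rev, h.inv_eq haD, h.inv_eq hbD]
      exact SameCore.move h hperf (hb.symm.trans h hperf ha) hx
    | one => intro x hx; simpa using hx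
    | mul s t _ _ hs ht =>
      intro x hx
      have h1 := ht x hx
      rw [conj_mul_eq]
      exact (hs _ (h1.trans h hperf h1.symm)).trans h hperf h1
  have hTfix : ∀ τ ∈ T, ∀ x, SameCore D x x → ¬ SameCore D k x → Commute k x → τ * x * τ⁻¹ = x := by
    intro τ hτ x hx hne hc
    have hcomm : ∀ a, SameCore D k a → Commute x a := fun a ha =>
      (SameCore.commute_iff h hperf ha hx hne hc).symm
    have : T ≤ Subgroup.centralizer {x} := by
      rw [Subgroup.closure_le]
      rintro _ ⟨a, b, ha, hb, rfl⟩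
      rw [SetLike.mem_coe, Subgroup.mem_centralizer_singleton_iff]
      exact ((hcomm a ha).mul_right (hcomm b hb)).symm.eq
    have e := Subgroup.mem_centralizer_singleton_iff.1 (this hτ)
    rw [mul_inv_eq_iff_eq_mul]
    exact e
  have hsix : ∀ τ ∈ T, ∀ w, SameCore D w w → SameCore D k k → ¬ SameCore D k w → ¬ Commute k w →
      τ ^ 6 * w * (τ ^ 6)⁻¹ = w := by
    intro τ hτ w hw hk hne hc
    obtain ⟨u', hu', e0⟩ := SameCore.exists_mul h hperf hk (hTmove τ hτ w hw).symm hne hc
    obtain ⟨ck, yk, hmk, hkk, -⟩ := hk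
    obtain ⟨z, hz, hzw⟩ : ∃ z ∈ comp D ck yk, ¬ Commute z w := by
      by_contra hcon; push Not at hcon
      have hwD : w ∈ D := by obtain ⟨_, _, _, h', -⟩ := hw; exact h'.1
      refine hne ⟨ck, yk, hmk, hkk, hwD, fun z hz => ⟨hz.1.1, fun e => hc ?_, (hcon z hz).symm⟩⟩
      exact e ▸ hmk.commute_comp hkk hz
    have hzz : SameCore D z z := SameCore.of_pair h hperf hmk hz.1.1
    have hkz : Commute k z := hmk.commute_comp hkk hz
    have hnkz : ¬ SameCore D k z := fun hh => hmk.not_mem_comp (hh.mem_of_mem h hperf hmk hkk) hz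
    have hnzw : ¬ SameCore D z w := fun hh => hc (SameCore.commute_iff h hperf
      (⟨ck, yk, hmk, hkk, hkk⟩ : SameCore D k k) hh hnkz hkz)
    have huk : SameCore D k k := ⟨ck, yk, hmk, hkk, hkk⟩
    have hagree : ∀ v, SameCore D w v → τ * v * τ⁻¹ = (u' * k) * v * (u' * k)⁻¹ := by
      intro v hv
      obtain ⟨z', hz', ev⟩ := SameCore.exists_mul h hperf hzz hv hnzw hzw
      have hcomm : ∀ a, SameCore D k a → Commute a (z' * z) := fun a ha =>
        (SameCore.commute_iff h hperf ha hz' hnkz hkz).mul_right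
          (SameCore.commute_iff h hperf ha hzz hnkz hkz)
      have h1 : Commute τ (z' * z) := by
        have : T ≤ Subgroup.centralizer {z' * z} := by
          rw [Subgroup.closure_le]
          rintro _ ⟨a, b, ha, hb, rfl⟩
          rw [SetLike.mem_coe, Subgroup.mem_centralizer_singleton_iff]
          exact ((hcomm a ha).mul_left (hcomm b hb)).eq
        exact Subgroup.mem_centralizer_singleton_iff.1 (this hτ)
      have h2 : Commute (u' * k) (z' * z) := (hcomm u' hu').mul_left (hcomm k huk)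
      rw [← ev, ← conj_mul_eq, ← conj_mul_eq, h1.eq, h2.eq, conj_mul_eq, conj_mul_eq (z' * z) (u' * k), e0]
    have hiter : ∀ n : ℕ, τ ^ n * w * (τ ^ n)⁻¹ = (u' * k) ^ n * w * ((u' * k) ^ n)⁻¹ ∧
        SameCore D w (τ ^ n * w * (τ ^ n)⁻¹) := by
      intro n
      induction n with
      | zero => simpa using hw
      | succ n ih =>
        refine ⟨?_, ?_⟩
        · rw [pow_succ', conj_mul_eq, hagree _ ih.2, ih.1, pow_succ' (u' * k) n, conj_mul_eq (u' * k) ((u' * k) ^ n)]
        · rw [pow_succ', conj_mul_eq]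
          exact ih.2.trans h hperf (hTmove τ hτ _ (ih.2.symm.trans h hperf ih.2)).symm
    have hu'D : u' ∈ D := by obtain ⟨_, _, _, -, h'⟩ := hu'; exact h'.1
    have h6 : (u' * k) ^ 6 = 1 := by
      rcases h.set.2 u' hu'D k hkk.1 with e | e
      · rw [show (6 : ℕ) = 2 * 3 from rfl, pow_mul, e, one_pow]
      · rw [show (6 : ℕ) = 3 * 2 from rfl, pow_mul, e, one_pow]
    rw [(hiter 6).1, h6]; group
  by_cases hk : SameCore D k k
  swap
  · have hT : T = ⊥ := by
      rw [Subgroup.closure_eq_bot_iff]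
      rintro _ ⟨a, b, ha, -, rfl⟩
      exact absurd (ha.trans h hperf ha.symm) hk
    rw [hT]
    exact Group.isSolvable_of_surjective (f := (1 : Multiplicative ℤ →* (⊥ : Subgroup G)))
      fun x => ⟨1, Subsingleton.elim _ _⟩
  obtain ⟨ck, yk, hmk, hkk, -⟩ := hk
  have hk' : SameCore D k k := ⟨ck, yk, hmk, hkk, hkk⟩
  have hcent : ∀ τ ∈ T, τ ^ 6 ∈ Subgroup.center G := by
    intro τ hτ
    have hout : ∀ x ∈ D, ¬ SameCore D k x → τ ^ 6 * x * (τ ^ 6)⁻¹ = x := by
      intro x hx hne
      have hxx := SameCore.of_pair h hperf hmk hx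
      by_cases hc : Commute k x
      · exact hTfix _ (pow_mem hτ 6) x hxx hne hc
      · exact hsix τ hτ x hxx hk' hne hc
    have hall : ∀ x ∈ D, τ ^ 6 * x * (τ ^ 6)⁻¹ = x := by
      intro x hx
      by_cases hkx : SameCore D k x
      swap
      · exact hout x hx hkx
      obtain ⟨w, hw, hne, hc⟩ : ∃ w ∈ D, ¬ SameCore D x w ∧ ¬ Commute x w := by
        have hxU : x ∈ coreSet D ck yk := hkx.mem_of_mem h hperf hmk hkk
        by_contra hcon; push Not at hcon
        have hall : ∀ z ∈ D, z ∈ coreSet D ck yk := by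
          intro z hz
          have hr := h.noncomm_connected hx hz
          clear hz
          induction hr with
          | refl => exact hxU
          | @tail p q _ hpq ih =>
            by_contra hq
            have hxp : SameCore D x p := ⟨ck, yk, hmk, hxU, ih⟩
            have hxq : ¬ SameCore D x q := fun hh => hq (hh.mem_of_mem h hperf hmk hxU)
            exact hpq.2.2 (SameCore.commute_iff h hperf hxp (SameCore.of_pair h hperf hmk hpq.2.1) hxq
              (hcon q hpq.2.1 hxq))
        exact hmk.not_mem_comp (hall yk hmk.2.1.1) ⟨hmk.2.1, .refl⟩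
      have hnkw : ¬ SameCore D k w := fun hh => hne (hkx.symm.trans h hperf hh)
      have htD : w * x * w ∈ D := h.conj_mem' hw hx
      have hnkt : ¬ SameCore D k (w * x * w) := by
        intro hh
        apply hne
        have hxt : SameCore D x (w * x * w) := hkx.symm.trans h hperf hh
        have h1 := SameCore.conj h hperf hxt x
        rw [show x * x * x⁻¹ = x by group, h.inv_eq hx, ← h.braid hx hw hc, h.conj_conj hx] at h1
        exact h1
      have e1 := hout w hw hnkw
      have e2 := hout _ htD hnkt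
      conv_rhs => rw [← h.conj_conj hw (b := x)]
      conv_lhs => rw [← h.conj_conj hw (b := x)]
      rw [show τ ^ 6 * (w * (w * x * w) * w) * (τ ^ 6)⁻¹ = (τ ^ 6 * w * (τ ^ 6)⁻¹) *
        (τ ^ 6 * (w * x * w) * (τ ^ 6)⁻¹) * (τ ^ 6 * w * (τ ^ 6)⁻¹) by group, e1, e2]
    rw [Subgroup.mem_center_iff]
    intro g
    have hg : g ∈ Subgroup.centralizer {τ ^ 6} := by
      have hle : Subgroup.closure D ≤ Subgroup.centralizer {τ ^ 6} := by
        rw [Subgroup.closure_le]
        intro x hx
        rw [SetLike.mem_coe, Subgroup.mem_centralizer_singleton_iff]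
        exact (mul_inv_eq_iff_eq_mul.1 (hall x hx)).symm
      exact hle (h.gen ▸ Subgroup.mem_top g)
    exact Subgroup.mem_centralizer_singleton_iff.1 hg
  let f : T →* G ⧸ Subgroup.center G := (QuotientGroup.mk' _).comp T.subtype
  have hf6 : ∀ q ∈ f.range, q ^ 6 = 1 := by
    rintro _ ⟨τ, rfl⟩
    rw [← map_pow]
    exact (QuotientGroup.eq_one_iff _).2 (by simpa using hcent τ τ.2)
  obtain ⟨a, b, hab⟩ := Nat.two_three_of_primes (Nat.card f.range) Nat.card_pos.ne' fun p hp hpd => by
    haveI := Fact.mk hp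
    obtain ⟨q, hq⟩ := exists_prime_orderOf_dvd_card' p hpd
    have h6 : p ∣ 2 * 3 := by
      rw [← hq]; exact orderOf_dvd_of_pow_eq_one (Subtype.ext (by simpa using hf6 q q.2))
    rcases (Nat.Prime.dvd_mul hp).1 h6 with h' | h'
    · exact Or.inl ((Nat.prime_dvd_prime_iff_eq hp Nat.prime_two).1 h')
    · exact Or.inr ((Nat.prime_dvd_prime_iff_eq hp Nat.prime_three).1 h')
  haveI : Group.IsSolvable f.range :=
    CfsgLib.Char.isSolvable_of_card_two_primes Nat.prime_two Nat.prime_three f.range a b hab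
  haveI : Group.IsSolvable f.rangeRestrict.ker := Group.isSolvable_of_comm fun u v => by
    refine Subtype.ext (Subtype.ext ?_)
    have hu : ((u : T) : G) ∈ Subgroup.center G := by
      have hu2 := congrArg Subtype.val (MonoidHom.mem_ker.1 u.2)
      exact (QuotientGroup.eq_one_iff _).1 hu2
    exact (Subgroup.mem_center_iff.1 hu _).symm
  exact Group.isSolvable_of_ker_le_range f.rangeRestrict.ker.subtype f.rangeRestrict
    (by simp)

include hR in
/-- The members commuting with `c` have a connected non-commuting graph. -/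
theorem perp_connected {c x y : G} (hc : c ∈ D) (hx : x ∈ perp D c) (hy : y ∈ perp D c) :
    Relation.ReflTransGen (PAdj D c) x y := by
  obtain ⟨⟨c₀, y₀⟩, ⟨hc₀, hy₀⟩, hmax⟩ := Set.exists_max_image {p : G × G | p.1 ∈ D ∧ p.2 ∈ perp D p.1}
    (fun p => (comp D p.1 p.2).ncard) (Set.toFinite _) ⟨(c, x), hc, hx⟩
  have hm : IsMaxPair D c₀ y₀ := ⟨hc₀, hy₀, fun c' hc' y' hy' => hmax (c', y') ⟨hc', hy'⟩⟩
  obtain ⟨g, hg⟩ := h.transitive c₀ hc₀ c hc
  have hm' := hm.conj h g
  rw [hg] at hm'
  set y₁ := g * y₀ * g⁻¹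
  have hall : perp D c ⊆ comp D c y₁ := by
    intro z hz
    by_contra hzY
    have hzU : z ∈ coreSet D c y₁ := (hm'.commute_cases hm'.self_mem hz.1 hz.2.2).resolve_left hzY
    have := h.eq_of_rel hR (SameCore D) (fun g a b hab => SameCore.conj h hperf hab g)
      (fun a b hab => by obtain ⟨_, _, _, ha, hb⟩ := hab; exact ⟨ha.1, hb.1⟩)
      (fun a b p q hab hpq => SameCore.move h hperf hab (hpq.trans h hperf hpq.symm))
      (fun _ _ _ h1 h2 => h1.trans h hperf h2) (fun _ _ h1 => h1.symm) (sameCore_solvable h hperf)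
      (⟨c, y₁, hm', hm'.self_mem, hzU⟩ : SameCore D c z)
    exact hz.2.1 this.symm
  exact (reflTransGen_symm (fun _ _ hh => ⟨hh.2.1, hh.1, fun hc' => hh.2.2 hc'.symm⟩) (hall hx).2).trans
    (hall hy).2

end Core

end CfsgLib.Spor.Tri
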