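/-
Fischer's rank three property.
-/
import Cfsg.Agent.Lib.Spor.Tri.PerpConnected

namespace CfsgLib.Spor.Tri

universe u

variable {G : Type u} [Group G] [Finite G] {D : Set G}
variable (h : Hyp D) (hR : CentralRadical G) (hperf : ⁅commutator G, commutator G⁆ = commutator G)
include h hR hperf

/-- The group generated by the members commuting with `c` is transitive on them. -/
theorem exists_conj_perp {c y y' : G} (hc : c ∈ D) (hy : y ∈ perp D c) (hy' : y' ∈ perp D c) :
    ∃ g ∈ Subgroup.closure (perp D c), g * y * g⁻¹ = y' := by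
  have hr := perp_connected h hR hperf hc hy hy'
  clear hy'
  induction hr with
  | refl => exact ⟨1, one_mem _, by simp⟩
  | @tail p q _ hpq ih =>
    obtain ⟨g, hg, e⟩ := ih
    refine ⟨p * q * g, mul_mem (mul_mem (Subgroup.subset_closure hpq.1) (Subgroup.subset_closure hpq.2.1)) hg, ?_⟩
    rw [show p * q * g * y * (p * q * g)⁻¹ = (p * q) * (g * y * g⁻¹) * (p * q)⁻¹ by group, e,
      h.conj_swap_mul hpq.1.1 hpq.2.1.1 hpq.2.2]

omit h hR hperf in
theorem commute_of_mem_closure_perp {c g : G} (hg : g ∈ Subgroup.closure (perp D c)) : Commute g c := by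
  have hle : Subgroup.closure (perp D c) ≤ Subgroup.centralizer {c} := by
    rw [Subgroup.closure_le]
    intro x hx
    rw [SetLike.mem_coe, Subgroup.mem_centralizer_singleton_iff]
    exact hx.2.2.symm.eq
  exact Subgroup.mem_centralizer_singleton_iff.1 (hle hg)

omit h hR hperf in
theorem conj_eq_of_commute {c g : G} (hg : Commute g c) : g * c * g⁻¹ = c := by
  rw [hg.eq, mul_inv_cancel_right]

/-- Some member commutes with both members of a non-commuting pair. -/
theorem exists_common_perp {c d : G} (hc : c ∈ D) (hd : d ∈ D) (hcd : ¬ Commute c d) :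
    ∃ e, e ∈ perp D c ∧ e ∈ perp D d := by
  by_contra hcon
  push Not at hcon
  have key : ∀ z, Relation.ReflTransGen (CAdj D) c z → ¬ Commute z d ∧ Conj2 c d z d := by
    intro z hz
    induction hz with
    | refl => exact ⟨hcd, Conj2.refl c d⟩
    | @tail p q _ hpq ih =>
      obtain ⟨hp, hcp⟩ := ih
      have hq : ¬ Commute q d := by
        intro hqd
        obtain ⟨g, hg1, hg2⟩ := hcp.symm
        refine hcon (g * q * g⁻¹) ⟨h.conj g q hpq.2.1, ?_, ?_⟩ ⟨h.conj g q hpq.2.1, ?_, ?_⟩
        · intro e
          rw [← hg1] at e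
          exact hp ((mul_left_cancel (mul_right_cancel e) : q = p) ▸ hqd)
        · rw [← hg1]; exact (Commute.conj_iff g).2 hpq.2.2
        · intro e
          rw [← hg2] at e
          exact hp ((mul_left_cancel (mul_right_cancel e) : q = d) ▸ hpq.2.2)
        · rw [← hg2]; exact (Commute.conj_iff g).2 hqd.symm
      refine ⟨hq, hcp.trans ?_⟩
      exact (h.conj2_of_commute hd hpq.1 hpq.2.1 hpq.2.2 (fun hh => hp hh.symm) (fun hh => hq hh.symm)).flip
  exact (key d (commuting_connected h hperf hc hd)).1 (Commute.refl d)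

/-- Non-commuting members of one `c` with a common commuting member are conjugate over `c`. -/
theorem conj2_of_common {c d d' e : G} (hc : c ∈ D) (hd : d ∈ D) (hd' : d' ∈ D) (hcd : ¬ Commute c d)
    (hcd' : ¬ Commute c d') (he : e ∈ perp D c) (hed : Commute e d) (hed' : Commute e d') :
    Conj2 c d c d' := by
  by_contra hne
  have hdd' : ¬ Commute d d' := fun hh => hne (h.conj2_of_commute hc hd hd' hh hcd hcd')
  set x := d * d' * d with hx
  have hxD : x ∈ D := h.conj_mem' hd hd'
  have hcx : ¬ Commute c x := by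
    intro hh
    apply hne
    refine ⟨x, ?_, ?_⟩ <;> rw [h.inv_eq hxD]
    · exact h.conj_fix hxD hh.symm
    · have hxd : ¬ Commute x d := fun hh' => h.third_not_commute hd hd' hdd' hh'.symm
      rw [h.braid hxD hd hxd, hx, h.conj_conj hd]
  have hex : Commute e x := commute_third hed hed'
  -- the type of an edge leaving the set of members commuting with `d` and `d'`
  have edge : ∀ {z f p : G}, p ∈ D → ¬ Commute c p → z ∈ perp D c → f ∈ perp D c → Commute z p →
      ¬ Commute z f → ¬ Commute f p → Conj2 z f c p := by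
    intro z f p hp hcp hz hf hzp hzf hfp
    have h1 : Conj2 f z f p := h.conj2_of_commute hf.1 hz.1 hp hzp (fun hh => hzf hh.symm) hfp
    have h2 : Conj2 p f p c :=
      h.conj2_of_commute hp hf.1 hc hf.2.2.symm (fun hh => hfp hh.symm) (fun hh => hcp hh.symm)
    exact (h1.trans h2.flip).flip.trans (h.conj2_swap hp hc fun hh => hcp hh.symm)
  have third_of : ∀ {f : G}, Commute f d → Commute f x → Commute f d' := by
    intro f h1 h2
    have := commute_third h1 h2
    rwa [hx, h.conj_conj hd] at this
  have third_of' : ∀ {f : G}, Commute f d' → Commute f x → Commute f d := by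
    intro f h1 h2
    have h3 : Commute f (d' * x * d') := commute_third h1 h2
    rwa [hx, h.braid hd hd' hdd', h.conj_conj hd'] at h3
  let Z : Set G := {z | z ∈ perp D c ∧ Commute z d ∧ Commute z d'}
  -- one of the two members is never the one failing at an exit from `Z`
  have hexit : (∀ z ∈ Z, ∀ f ∈ perp D c, ¬ Commute z f → Commute f d) ∨
      (∀ z ∈ Z, ∀ f ∈ perp D c, ¬ Commute z f → Commute f d') := by
    by_contra hcon
    push Not at hcon
    obtain ⟨⟨z, hz, f, hf, hzf, hfd⟩, z', hz', f', hf', hzf', hfd'⟩ := hcon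
    have hf1 : Commute f d' := by
      by_contra hh
      exact hne ((edge hd hcd hz.1 hf hz.2.1 hzf hfd).symm.trans (edge hd' hcd' hz.1 hf hz.2.2 hzf hh))
    have hf2 : Commute f' d := by
      by_contra hh
      exact hne ((edge hd hcd hz'.1 hf' hz'.2.1 hzf' hh).symm.trans (edge hd' hcd' hz'.1 hf' hz'.2.2 hzf' hfd'))
    have e1 := edge hd hcd hz.1 hf hz.2.1 hzf hfd
    have e1' := edge hxD hcx hz.1 hf (commute_third hz.2.1 hz.2.2) hzf (fun hh => hfd (third_of' hf1 hh))
    have e2 := edge hd' hcd' hz'.1 hf' hz'.2.2 hzf' hfd'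
    have e2' := edge hxD hcx hz'.1 hf' (commute_third hz'.2.1 hz'.2.2) hzf' (fun hh => hfd' (third_of hf2 hh))
    exact hne ((e1.symm.trans e1').trans (e2'.symm.trans e2))
  -- shortest path to a member failing to commute with the good one
  have final : ∀ {p q : G}, p ∈ D → q ∈ D → ¬ Commute c p → ¬ Commute c q →
      (∀ z, z ∈ perp D c → Commute z p → Commute z q → z ∈ Z) → (∀ z ∈ Z, Commute z p ∧ Commute z q) →
      (∀ z ∈ Z, ∀ f ∈ perp D c, ¬ Commute z f → Commute f p) → Conj2 c q c p := by
    intro p q hp hq hcp hcq hZ1 hZ2 hgood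
    obtain ⟨g, hg, hgp⟩ : ∃ g ∈ perp D c, ¬ Commute g p := by
      by_contra hh; push Not at hh
      have hsub : perp D c ⊆ perp D p := fun z hz =>
        ⟨hz.1, fun e' => hcp (e' ▸ hz.2.2), (hh z hz).symm⟩
      obtain ⟨k, hk⟩ := h.transitive c hc p hp
      have hcard : (perp D p).ncard = (perp D c).ncard := by
        rw [← hk, h.perp_conj]; exact Set.ncard_image_of_injective _ (fun a b e' => by simpa using e')
      have := h.eq_of_perp_eq hR hc hp (Set.eq_of_subset_of_ncard_le hsub hcard.le (Set.toFinite _))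
      exact hcp (this ▸ Commute.refl c)
    let Path : ℕ → Prop := fun n => ∃ f : ℕ → G, f 0 ∈ Z ∧ (∀ i ≤ n, f i ∈ perp D c) ∧
      (∀ i < n, ¬ Commute (f i) (f (i + 1))) ∧ ¬ Commute (f n) p
    have hex : ∃ n, Path n := by
      have hr := perp_connected h hR hperf hc he hg
      have : ∀ w, Relation.ReflTransGen (PAdj D c) e w → ∃ n, ∃ f : ℕ → G, f 0 = e ∧ f n = w ∧
          (∀ i ≤ n, f i ∈ perp D c) ∧ (∀ i < n, ¬ Commute (f i) (f (i + 1))) := by
        intro w hw
        induction hw with
        | refl => exact ⟨0, fun _ => e, rfl, rfl, fun _ _ => he, fun i hi => absurd hi (Nat.not_lt_zero i)⟩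
        | @tail a b _ hab ih =>
          obtain ⟨n, f, h0, hn, hin, hadj⟩ := ih
          refine ⟨n + 1, fun i => if i ≤ n then f i else b, by simp [h0], by simp, fun i hi => ?_, fun i hi => ?_⟩
          · by_cases hi' : i ≤ n <;> simp [hi', hin, hab.2.1]
          · by_cases hi' : i < n
            · simpa [hi'.le, Nat.succ_le_of_lt hi'] using hadj i hi'
            · have : i = n := by omega
              subst this
              simpa [hn] using hab.2.2
      obtain ⟨n, f, h0, hn, hin, hadj⟩ := this g hr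
      exact ⟨n, f, by rw [h0]; exact ⟨he, hed, hed'⟩, hin, hadj, by rw [hn]; exact hgp⟩
    classical
    obtain ⟨f, h0, hin, hadj, hlast⟩ := Nat.find_spec hex
    set n := Nat.find hex with hn
    have hmin : ∀ m < n, ¬ Path m := fun m hm => Nat.find_min hex hm
    have hn2 : 2 ≤ n := by
      by_contra hh
      rcases (by omega : n = 0 ∨ n = 1) with e' | e'
      · rw [e'] at hlast; exact hlast (hZ2 _ h0).1
      · rw [e'] at hlast hadj hin
        exact hlast (hgood _ h0 _ (hin 1 le_rfl) (hadj 0 zero_lt_one))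
    have hmid : ∀ i, i < n → Commute (f i) p := by
      intro i hi; by_contra hh
      exact hmin i hi ⟨f, h0, fun j hj => hin j (by omega), fun j hj => hadj j (by omega), hh⟩
    have hnotZ : ∀ i, 0 < i → i ≤ n → f i ∉ Z := by
      intro i hi hin' hh
      exact hmin (n - i) (by omega) ⟨fun j => f (i + j), by simpa using hh, fun j hj => hin _ (by omega),
        fun j hj => by simpa [Nat.add_assoc] using hadj (i + j) (by omega),
        by simpa [Nat.add_sub_cancel' hin'] using hlast⟩
    have hskip : ∀ i, i + 2 ≤ n → Commute (f i) (f (i + 2)) := by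
      intro i hi; by_contra hh
      refine hmin (n - 1) (by omega) ⟨fun j => if j ≤ i then f j else f (j + 1), by simpa using h0,
        fun j hj => ?_, fun j hj => ?_, ?_⟩
      · by_cases h' : j ≤ i <;> simp only [h', if_true, if_false] <;> exact hin _ (by omega)
      · rcases lt_trichotomy j i with h' | h' | h'
        · simpa [h'.le, Nat.succ_le_of_lt h'] using hadj j (by omega)
        · subst h'; simpa using hh
        · simpa [Nat.not_le.2 h', show ¬ j + 1 ≤ i by omega] using hadj (j + 1) (by omega)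
      · simpa [show ¬ n - 1 ≤ i by omega, show n - 1 + 1 = n by omega] using hlast
    have htype : ∀ i, i < n → Conj2 (f i) (f (i + 1)) c q := by
      intro i hi
      induction i with
      | zero =>
        refine edge hq hcq h0.1 (hin 1 (by omega)) (hZ2 _ h0).2 (hadj 0 hi) fun hh => ?_
        exact hnotZ 1 one_pos (by omega) (hZ1 _ (hin 1 (by omega)) (hmid 1 (by omega)) hh)
      | succ i ih =>
        have h1 := h.conj2_swap (hin (i + 1) (by omega)).1 (hin (i + 2) (by omega)).1 (hadj (i + 1) hi)
        have h2 := (h.conj2_of_commute (hin (i + 1) (by omega)).1 (hin (i + 2) (by omega)).1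
          (hin i (by omega)).1 (hskip i (by omega)).symm (hadj (i + 1) hi)
          (fun hh => hadj i (by omega) hh.symm)).flip
        exact (h1.trans h2).trans (ih (by omega))
    have h1 := htype (n - 1) (by omega)
    rw [show n - 1 + 1 = n by omega] at h1
    have h2 := edge hp hcp (hin (n - 1) (by omega)) (hin n le_rfl) (hmid (n - 1) (by omega))
      (by simpa [show n - 1 + 1 = n by omega] using hadj (n - 1) (by omega)) hlast
    exact h1.symm.trans h2
  rcases hexit with hg | hg
  · exact hne (final hd hd' hcd hcd' (fun z h1 h2 h3 => ⟨h1, h2, h3⟩) (fun z hz => ⟨hz.2.1, hz.2.2⟩) hg).symm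
  · exact hne (final hd' hd hcd' hcd (fun z h1 h2 h3 => ⟨h1, h3, h2⟩) (fun z hz => ⟨hz.2.2, hz.2.1⟩) hg)

/-- The centralizer of `c` is transitive on the members not commuting with `c`. -/
theorem exists_conj_not_commute {c d d' : G} (hc : c ∈ D) (hd : d ∈ D) (hd' : d' ∈ D) (hcd : ¬ Commute c d)
    (hcd' : ¬ Commute c d') : ∃ g : G, Commute g c ∧ g * d * g⁻¹ = d' := by
  obtain ⟨e, hec, hed⟩ := exists_common_perp h hR hperf hc hd hcd
  obtain ⟨e', hec', hed'⟩ := exists_common_perp h hR hperf hc hd' hcd'
  obtain ⟨k, hk, hke⟩ := exists_conj_perp h hR hperf hc hec' hec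
  have hkc := conj_eq_of_commute (commute_of_mem_closure_perp hk)
  have h1 : Commute e (k * d' * k⁻¹) := by rw [← hke]; exact (Commute.conj_iff k).2 hed'.2.2.symm
  have h2 : ¬ Commute c (k * d' * k⁻¹) := by
    rw [← hkc]; exact fun hh => hcd' ((Commute.conj_iff k).1 hh)
  obtain ⟨g, hg1, hg2⟩ := (conj2_of_common h hR hperf hc hd (h.conj k d' hd') hcd h2 hec hed.2.2.symm h1).trans
    (⟨k⁻¹, by conv_lhs => rw [← hkc]
              group, by group⟩ : Conj2 c (k * d' * k⁻¹) c d')
  exact ⟨g, by rw [mul_inv_eq_iff_eq_mul] at hg1; exact hg1, hg2⟩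

/-- Commuting pairs of distinct members are all conjugate. -/
theorem conj2_commuting {a b c d : G} (ha : a ∈ D) (hb : b ∈ perp D a) (hc : c ∈ D) (hd : d ∈ perp D c) :
    Conj2 a b c d := by
  obtain ⟨g, hg⟩ := h.transitive a ha c hc
  have hgb : g * b * g⁻¹ ∈ perp D c := by rw [← hg, h.perp_conj]; exact ⟨b, hb, rfl⟩
  obtain ⟨k, hk, hke⟩ := exists_conj_perp h hR hperf hc hgb hd
  exact Conj2.trans ⟨g, hg, rfl⟩ ⟨k, conj_eq_of_commute (commute_of_mem_closure_perp hk), hke⟩

end CfsgLib.Spor.Tri
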