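/-
Consequences of the rank three property; maximal commuting sets.
-/
import Cfsg.Agent.Lib.Spor.Tri.RankThree

namespace CfsgLib.Spor.Tri

open scoped commutatorElement

universe u

variable {G : Type u} [Group G]

theorem centralRadical_of_sol (hsol : ∀ N : Subgroup G, N.Normal → Group.IsSolvable ↥N → N = ⊥) :
    CentralRadical G := fun N hN hs => by rw [hsol N hN hs]; exact bot_le

theorem perfect_of_simple_commutator (hs : IsSimpleGroup (commutator G))
    (hnonab : ∃ x y : commutator G, x * y ≠ y * x) : ⁅commutator G, commutator G⁆ = commutator G := by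
  haveI := hs
  rcases IsSimpleGroup.eq_bot_or_eq_top_of_normal (commutator ↥(commutator G)) inferInstance with e | e
  · obtain ⟨x, y, hxy⟩ := hnonab
    refine absurd ?_ hxy
    have : ⁅x, y⁆ ∈ commutator ↥(commutator G) :=
      Subgroup.commutator_mem_commutator (Subgroup.mem_top x) (Subgroup.mem_top y)
    rw [e, Subgroup.mem_bot, commutatorElement_eq_one_iff_commute] at this
    exact this
  · have h2 := congrArg (Subgroup.map (commutator G).subtype) e
    rwa [commutator_def ↥(commutator G), Subgroup.map_commutator, ← MonoidHom.range_eq_map,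
      Subgroup.range_subtype] at h2

theorem centralRadical_of_simple_commutator (hs : IsSimpleGroup (commutator G))
    (hnonab : ∃ x y : commutator G, x * y ≠ y * x) : CentralRadical G := by
  intro N hN hsol
  haveI := hs
  haveI := hN
  haveI := hsol
  have hbot : N.subgroupOf (commutator G) = ⊥ := by
    rcases IsSimpleGroup.eq_bot_or_eq_top_of_normal (N.subgroupOf (commutator G)) inferInstance with e | e
    · exact e
    · exfalso
      obtain ⟨x, y, hxy⟩ := hnonab
      have hle : commutator G ≤ N := Subgroup.subgroupOf_eq_top.1 e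
      haveI : Group.IsSolvable ↥(commutator G) :=
        Group.isSolvable_of_isSolvable_injective (f := Subgroup.inclusion hle) (Subgroup.inclusion_injective hle)
      exact hxy (IsSimpleGroup.comm_iff_isSolvable.2 inferInstance x y)
  intro n hn
  rw [Subgroup.mem_center_iff]
  intro g
  have hc : ⁅g, n⁆ ∈ commutator G := Subgroup.commutator_mem_commutator (Subgroup.mem_top g) (Subgroup.mem_top n)
  have hN' : (⟨⁅g, n⁆, hc⟩ : commutator G) ∈ N.subgroupOf (commutator G) := by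
    rw [Subgroup.mem_subgroupOf]
    exact mul_mem (hN.conj_mem n hn g) (inv_mem hn)
  rw [hbot, Subgroup.mem_bot] at hN'
  exact commutatorElement_eq_one_iff_commute.1 (congrArg Subtype.val hN')

variable {D : Set G}

theorem exists_commute_ne [Finite G] (h : Hyp D) (hperf : ⁅commutator G, commutator G⁆ = commutator G)
    (hne : commutator G ≠ ⊥) {a : G} (ha : a ∈ D) : ∃ b ∈ D, b ≠ a ∧ Commute a b := by
  by_contra hh
  push Not at hh
  apply hne
  have hD : D ⊆ {a} := fun b hb => by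
    have hr := commuting_connected h hperf ha hb
    induction hr with
    | refl => rfl
    | tail _ hpq ih =>
      have e := ih hpq.1
      rw [Set.mem_singleton_iff] at e
      subst e
      exact by_contra fun hne' => hh _ hpq.2.1 hne' hpq.2.2
  haveI hcomm : IsMulCommutative (⊤ : Subgroup G) := by
    rw [← h.gen]
    exact Subgroup.isMulCommutative_closure fun x hx y hy => by
      rw [Set.mem_singleton_iff.1 (hD hx), Set.mem_singleton_iff.1 (hD hy)]
  rw [commutator_def, eq_bot_iff, Subgroup.commutator_le]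
  intro x _ y _
  rw [Subgroup.mem_bot, commutatorElement_eq_one_iff_commute]
  exact setLike_mul_comm (s := (⊤ : Subgroup G)) (Subgroup.mem_top x) (Subgroup.mem_top y)

/-- Members in a 2-subgroup commute. -/
theorem commute_of_mem_two_group (h : Hyp D) {Q : Subgroup G} (hQ : IsPGroup 2 Q) {a b : G} (ha : a ∈ D)
    (hb : b ∈ D) (haQ : a ∈ Q) (hbQ : b ∈ Q) : Commute a b := by
  by_contra hn
  obtain ⟨k, hk⟩ := hQ ⟨a * b, mul_mem haQ hbQ⟩
  have h1 : orderOf (a * b) ∣ 2 ^ k := orderOf_dvd_of_pow_eq_one (by simpa using congrArg Subtype.val hk)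
  have h2 : orderOf (a * b) ∣ 3 := orderOf_dvd_of_pow_eq_one (h.cube ha hb hn)
  have h3 : orderOf (a * b) = 1 :=
    Nat.eq_one_of_dvd_coprimes (Nat.Coprime.pow_left k (by norm_num : Nat.Coprime 2 3)) h1 h2
  exact hn ((h.commute_iff_sq ha hb).2 (by rw [orderOf_eq_one_iff.1 h3, one_pow]))

theorem isPGroup_closure_commuting (h : Hyp D) {E : Set G} (hE : E ⊆ D) (hc : ∀ a ∈ E, ∀ b ∈ E, Commute a b) :
    IsPGroup 2 (Subgroup.closure E) := by
  intro x
  refine ⟨1, Subtype.ext ?_⟩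
  haveI hM := Subgroup.isMulCommutative_closure (k := E) fun a ha b hb => hc a ha b hb
  have : ∀ y ∈ Subgroup.closure E, y ^ 2 = 1 := by
    intro y hy
    induction hy using Subgroup.closure_induction with
    | mem a ha => rw [pow_two, h.mul_self (hE ha)]
    | one => simp
    | mul u v hu hv e1 e2 =>
      rw [Commute.mul_pow (setLike_mul_comm hu hv), e1, e2, one_mul]
    | inv u _ e1 => rw [inv_pow, e1, inv_one]
  simpa using this x x.2

/-- A maximum commuting set is cut out by any 2-subgroup containing it. -/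
theorem eq_inter_of_max [Finite G] (h : Hyp D) {E : Set G} (hE : E ⊆ D)
    (hmax : ∀ E' : Set G, E' ⊆ D → (∀ a ∈ E', ∀ b ∈ E', Commute a b) → E'.ncard ≤ E.ncard) {Q : Subgroup G}
    (hQ : IsPGroup 2 Q) (hEQ : E ⊆ Q) : E = {x | x ∈ D ∧ x ∈ Q} :=
  Set.eq_of_subset_of_ncard_le (fun x hx => ⟨hE hx, hEQ hx⟩)
    (hmax _ (fun _ hx => hx.1) fun _ ha _ hb => commute_of_mem_two_group h hQ ha.1 hb.1 ha.2 hb.2)
    (Set.toFinite _)

theorem exists_sylow_le_normalizer [Finite G] (h : Hyp D) {E : Set G} (hE : E ⊆ D)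
    (hc : ∀ a ∈ E, ∀ b ∈ E, Commute a b)
    (hmax : ∀ E' : Set G, E' ⊆ D → (∀ a ∈ E', ∀ b ∈ E', Commute a b) → E'.ncard ≤ E.ncard) :
    ∃ P : Sylow 2 G, (P : Subgroup G) ≤ Subgroup.normalizer E := by
  haveI : Fact (Nat.Prime 2) := ⟨Nat.prime_two⟩
  obtain ⟨T, hT⟩ := (isPGroup_closure_commuting h hE hc).exists_le_sylow
  refine ⟨T, fun t ht => ?_⟩
  rw [eq_inter_of_max h hE hmax T.isPGroup' (Subgroup.subset_closure.trans hT), Subgroup.mem_set_normalizer_iff]
  intro n
  constructor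
  · rintro ⟨h1, h2⟩
    exact ⟨h.conj t n h1, mul_mem (mul_mem ht h2) (inv_mem ht)⟩
  · rintro ⟨h1, h2⟩
    have h1' := h.conj t⁻¹ _ h1
    have h2' := mul_mem (mul_mem (inv_mem ht) h2) ht
    rw [show t⁻¹ * (t * n * t⁻¹) * t⁻¹⁻¹ = n by group] at h1'
    rw [show t⁻¹ * (t * n * t⁻¹) * t = n by group] at h2'
    exact ⟨h1', h2'⟩

theorem exists_normalizer_conj_pair [Finite G] (h : Hyp D) (hR : CentralRadical G)
    (hperf : ⁅commutator G, commutator G⁆ = commutator G) {E : Set G} (hE : E ⊆ D)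
    (hc : ∀ a ∈ E, ∀ b ∈ E, Commute a b)
    (hmax : ∀ E' : Set G, E' ⊆ D → (∀ a ∈ E', ∀ b ∈ E', Commute a b) → E'.ncard ≤ E.ncard)
    {a b c d : G} (ha : a ∈ E) (hb : b ∈ E) (hce : c ∈ E) (hd : d ∈ E) (hab : a ≠ b) (hcd : c ≠ d) :
    ∃ g ∈ Subgroup.normalizer E, g * a * g⁻¹ = c ∧ g * b * g⁻¹ = d := by
  haveI : Fact (Nat.Prime 2) := ⟨Nat.prime_two⟩
  obtain ⟨g0, hg0a, hg0b⟩ := conj2_commuting h hR hperf (hE ha) (b := b) ⟨hE hb, hab.symm, hc a ha b hb⟩
    (hE hce) (d := d) ⟨hE hd, hcd.symm, hc c hce d hd⟩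
  let F : Set G := (fun x => g0 * x * g0⁻¹) '' E
  have hFD : F ⊆ D := by rintro _ ⟨x, hx, rfl⟩; exact h.conj g0 x (hE hx)
  have hFc : ∀ u ∈ F, ∀ v ∈ F, Commute u v := by
    rintro _ ⟨x, hx, rfl⟩ _ ⟨y, hy, rfl⟩; exact (Commute.conj_iff g0).2 (hc x hx y hy)
  have hFcard : F.ncard = E.ncard := Set.ncard_image_of_injective _ fun x y e => by simpa using e
  have hFmax : ∀ E' : Set G, E' ⊆ D → (∀ u ∈ E', ∀ v ∈ E', Commute u v) → E'.ncard ≤ F.ncard :=
    fun E' h1 h2 => hFcard ▸ hmax E' h1 h2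
  let H : Subgroup G := Subgroup.centralizer {c, d}
  have hH : ∀ S : Set G, (∀ u ∈ S, ∀ v ∈ S, Commute u v) → c ∈ S → d ∈ S → Subgroup.closure S ≤ H := by
    intro S hS hcS hdS
    rw [Subgroup.closure_le]
    intro x hx
    rw [SetLike.mem_coe, Subgroup.mem_centralizer_iff]
    rintro y (rfl | rfl)
    · exact hS y hcS x hx
    · exact hS y hdS x hx
  have hHE := hH E hc hce hd
  have hHF := hH F hFc ⟨a, ha, hg0a⟩ ⟨b, hb, hg0b⟩
  obtain ⟨P, hP⟩ := ((isPGroup_closure_commuting h hE hc).comap_of_injective H.subtype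
    Subtype.coe_injective).exists_le_sylow
  obtain ⟨P', hP'⟩ := ((isPGroup_closure_commuting h hFD hFc).comap_of_injective H.subtype
    Subtype.coe_injective).exists_le_sylow
  have hEQ : E = {x | x ∈ D ∧ x ∈ (P : Subgroup H).map H.subtype} :=
    eq_inter_of_max h hE hmax (P.isPGroup'.map _) fun x hx =>
      ⟨⟨x, hHE (Subgroup.subset_closure hx)⟩, hP (Subgroup.subset_closure hx), rfl⟩
  have hFQ : F = {x | x ∈ D ∧ x ∈ (P' : Subgroup H).map H.subtype} :=
    eq_inter_of_max h hFD hFmax (P'.isPGroup'.map _) fun x hx =>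
      ⟨⟨x, hHF (Subgroup.subset_closure hx)⟩, hP' (Subgroup.subset_closure hx), rfl⟩
  obtain ⟨k, hk⟩ := MulAction.exists_smul_eq H P' P
  have hmap : ∀ x ∈ E, (k : G) * g0 * x * ((k : G) * g0)⁻¹ ∈ E := by
    intro x hx
    rw [show (k : G) * g0 * x * ((k : G) * g0)⁻¹ = (k : G) * (g0 * x * g0⁻¹) * (k : G)⁻¹ by group]
    have hxF : g0 * x * g0⁻¹ ∈ F := ⟨x, hx, rfl⟩
    rw [hFQ] at hxF
    obtain ⟨hxD, y, hy, hyx⟩ := hxF
    rw [hEQ]
    refine ⟨h.conj _ _ hxD, k * y * k⁻¹, ?_, by rw [← hyx]; rfl⟩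
    rw [← hk]
    exact Subgroup.smul_mem_pointwise_smul y (MulAut.conj k) _ hy
  refine ⟨(k : G) * g0, ?_, ?_, ?_⟩
  · rw [Subgroup.mem_set_normalizer_iff]
    intro n
    refine ⟨hmap n, fun hn => ?_⟩
    have himg : (fun x => (k : G) * g0 * x * ((k : G) * g0)⁻¹) '' E = E :=
      Set.eq_of_subset_of_ncard_le (by rintro _ ⟨x, hx, rfl⟩; exact hmap x hx)
        (le_of_eq (Set.ncard_image_of_injective _ fun x y e => by simpa using e).symm) (Set.toFinite _)
    rw [← himg] at hn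
    obtain ⟨x, hx, e⟩ := hn
    rwa [← mul_left_cancel (mul_right_cancel e)]
  all_goals
    rw [show ∀ x, (k : G) * g0 * x * ((k : G) * g0)⁻¹ = (k : G) * (g0 * x * g0⁻¹) * (k : G)⁻¹ from
      fun x => by group]
    have hk' := Subgroup.mem_centralizer_iff.1 k.2
  · rw [hg0a, mul_inv_eq_iff_eq_mul]; exact (hk' c (by simp)).symm
  · rw [hg0b, mul_inv_eq_iff_eq_mul]; exact (hk' d (by simp)).symm

end CfsgLib.Spor.Tri
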