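/-
Relations among pairwise commuting 3-transpositions: descent to the group generated by the
members commuting with one of them, taken modulo its centre.
-/
import Cfsg.Prelude.Def_FischerSpaces
import Cfsg.Agent.Lib.Spor.Tri.Cores

namespace CfsgLib.Spor.Tri.Relations

variable {G : Type*} [Group G]

/-- No nonempty product of at most `k` distinct commuting nontrivial members is trivial. -/
def NoRel (k : ℕ) (D : Set G) : Prop :=
  ∀ l : List G, l ≠ [] → l.Nodup → l.length ≤ k → (∀ a ∈ l, a ∈ D ∧ a ≠ 1) →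
    (∀ a ∈ l, ∀ b ∈ l, Commute a b) → l.prod ≠ 1

/-- A conjugation-stable generating set with the 3-transposition relations; `1` is allowed. -/
structure Pre (D : Set G) : Prop where
  invol : ∀ a ∈ D, a * a = 1
  pair : ∀ a ∈ D, ∀ b ∈ D, (a * b) ^ 2 = 1 ∨ (a * b) ^ 3 = 1
  conj : ∀ g : G, ∀ a ∈ D, g * a * g⁻¹ ∈ D
  gen : Subgroup.closure D = ⊤

/-- The nontrivial members. -/
def nz (D : Set G) : Set G := {a | a ∈ D ∧ a ≠ 1}

/-- One class, trivial centre and 2-core, and no short relation. -/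
structure Good (k : ℕ) (D : Set G) : Prop where
  trans : ∀ a ∈ nz D, ∀ b ∈ nz D, ∃ g : G, g * a * g⁻¹ = b
  nonempty : (nz D).Nonempty
  center : Subgroup.center G = ⊥
  core : Cfsg.pCore 2 G = ⊥
  norel : NoRel k D

variable {D : Set G}

theorem Pre.tset (h : Pre D) : Cfsg.IsThreeTranspositionSet (nz D) :=
  ⟨fun _ ha => orderOf_eq_prime (by rw [pow_two]; exact h.invol _ ha.1) ha.2,
    fun a ha b hb => h.pair a ha.1 b hb.1⟩

theorem Pre.of_group (h : Cfsg.IsThreeTranspositionGroup D) : Pre D where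
  invol _ ha := set_mul_self h.1 ha
  pair a ha b hb := h.1.2 a ha b hb
  conj := h.2.1
  gen := h.2.2

theorem Pre.inv_eq (h : Pre D) {a : G} (ha : a ∈ D) : a⁻¹ = a := inv_eq_of_mul_eq_one_right (h.invol a ha)

theorem Pre.commute_iff_sq (h : Pre D) {a b : G} (ha : a ∈ D) (hb : b ∈ D) :
    Commute a b ↔ (a * b) ^ 2 = 1 := by
  refine ⟨fun e => by rw [e.mul_pow, pow_two, pow_two, h.invol a ha, h.invol b hb, mul_one], fun e => ?_⟩
  rw [pow_two] at e
  show a * b = b * a
  rw [eq_inv_of_mul_eq_one_left e, mul_inv_rev, h.inv_eq ha, h.inv_eq hb]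

theorem Pre.commute_of_commute_mul (h : Pre D) {a b : G} (ha : a ∈ D) (e : Commute (a * b) a) : Commute a b := by
  show a * b = b * a
  calc a * b = (a * b * a) * a := by rw [mul_assoc (a * b), h.invol a ha, mul_one]
    _ = (a * (a * b)) * a := by rw [e.eq]
    _ = b * a := by rw [← mul_assoc, h.invol a ha, one_mul]

/-- Two members that do not commute are conjugate. -/
theorem Pre.conj_of_not_commute (h : Pre D) {a b : G} (ha : a ∈ D) (hb : b ∈ D) (hn : ¬ Commute a b) :
    ∃ g : G, g * a * g⁻¹ = b := by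
  have ha1 : a ≠ 1 := fun e => hn (e ▸ Commute.one_left b)
  have hb1 : b ≠ 1 := fun e => hn (e ▸ Commute.one_right a)
  refine ⟨a * b, ?_⟩
  calc a * b * a * (a * b)⁻¹ = a * (b * a * b) * a := by
        rw [mul_inv_rev, h.inv_eq ha, h.inv_eq hb]; group
    _ = a * (a * b * a) * a := by rw [set_braid h.tset ⟨ha, ha1⟩ ⟨hb, hb1⟩ hn]
    _ = (a * a) * b * (a * a) := by group
    _ = b := by rw [h.invol a ha, one_mul, mul_one]

theorem mem_center_of_gen {S : Set G} (hS : Subgroup.closure S = ⊤) {z : G} (hz : ∀ s ∈ S, Commute s z) :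
    z ∈ Subgroup.center G := by
  rw [Subgroup.mem_center_iff]
  intro g
  have hg : g ∈ Subgroup.closure S := hS ▸ Subgroup.mem_top g
  have hle : Subgroup.closure S ≤ Subgroup.centralizer {z} :=
    (Subgroup.closure_le _).2 fun s hs => Subgroup.mem_centralizer_singleton_iff.2 (hz s hs)
  exact Subgroup.mem_centralizer_singleton_iff.1 (hle hg)

/-! ### The local group -/

/-- The subgroup generated by the other members commuting with `d`. -/
abbrev loc (D : Set G) (d : G) : Subgroup G :=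
  Subgroup.closure {y : G | y ∈ D ∧ y ≠ d ∧ Commute d y}

/-- The image of these members modulo the centre. -/
def img (D : Set G) (d : G) : Set (↥(loc D d) ⧸ Subgroup.center ↥(loc D d)) :=
  (QuotientGroup.mk : ↥(loc D d) → _) '' {x : ↥(loc D d) | (x : G) ∈ {y : G | y ∈ D ∧ y ≠ d ∧ Commute d y}}

theorem mem_loc {d y : G} (hy : y ∈ D) (hne : y ≠ d) (hc : Commute d y) : y ∈ loc D d :=
  Subgroup.subset_closure ⟨hy, hne, hc⟩

theorem commute_loc {d g : G} (hg : g ∈ loc D d) : Commute d g := by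
  have hle : loc D d ≤ Subgroup.centralizer {d} :=
    (Subgroup.closure_le _).2 fun s hs => Subgroup.mem_centralizer_singleton_iff.2 hs.2.2.symm.eq
  exact (Subgroup.mem_centralizer_singleton_iff.1 (hle hg)).symm

theorem central_loc {d : G} {z : ↥(loc D d)}
    (hz : ∀ w : G, w ∈ D → w ≠ 1 → w ≠ d → Commute d w → Commute w (z : G)) :
    z ∈ Subgroup.center ↥(loc D d) := by
  have hle : loc D d ≤ Subgroup.centralizer {(z : G)} := by
    refine (Subgroup.closure_le _).2 fun s hs => Subgroup.mem_centralizer_singleton_iff.2 ?_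
    rcases eq_or_ne s 1 with rfl | hs1
    · simp
    · exact (hz s hs.1 hs1 hs.2.1 hs.2.2).eq
  exact Subgroup.mem_center_iff.2 fun g => Subtype.ext (Subgroup.mem_centralizer_singleton_iff.1 (hle g.2))

theorem commute_of_central {d : G} {z : ↥(loc D d)} (hz : z ∈ Subgroup.center ↥(loc D d))
    {w : G} (hw : w ∈ loc D d) : Commute w (z : G) :=
  congrArg Subtype.val (Subgroup.mem_center_iff.1 hz ⟨w, hw⟩)

theorem pre_img (h : Pre D) (d : G) : Pre (img D d) where
  invol := by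
    rintro _ ⟨x, hx, rfl⟩
    rw [← QuotientGroup.mk_mul, show x * x = 1 from Subtype.ext (h.invol _ hx.1), QuotientGroup.mk_one]
  pair := by
    rintro _ ⟨x, hx, rfl⟩ _ ⟨y, hy, rfl⟩
    rcases h.pair _ hx.1 _ hy.1 with e | e
    · left
      rw [← QuotientGroup.mk_mul, ← QuotientGroup.mk_pow, show (x * y) ^ 2 = 1 from Subtype.ext e,
        QuotientGroup.mk_one]
    · right
      rw [← QuotientGroup.mk_mul, ← QuotientGroup.mk_pow, show (x * y) ^ 3 = 1 from Subtype.ext e,
        QuotientGroup.mk_one]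
  conj := by
    intro g _ ⟨x, hx, e⟩
    subst e
    induction g using QuotientGroup.induction_on with
    | H g =>
      refine ⟨g * x * g⁻¹, ?_, by simp [QuotientGroup.mk_mul, QuotientGroup.mk_inv]⟩
      have hgd : (g : G) * d * (g : G)⁻¹ = d := by rw [← (commute_loc g.2).eq, mul_inv_cancel_right]
      refine ⟨h.conj _ _ hx.1, fun e => hx.2.1 ?_, ?_⟩
      · have e' : (g : G) * x * (g : G)⁻¹ = g * d * (g : G)⁻¹ := e.trans hgd.symm
        simpa using e'
      · have := (Commute.conj_iff (g : G)).2 hx.2.2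
        rw [hgd] at this
        exact this
  gen := by
    rw [eq_top_iff]
    intro q _
    induction q using QuotientGroup.induction_on with
    | H q =>
      have hq : q ∈ Subgroup.closure (((↑) : ↥(loc D d) → G) ⁻¹' {y : G | y ∈ D ∧ y ≠ d ∧ Commute d y}) := by
        rw [Subgroup.closure_closure_coe_preimage]; exact Subgroup.mem_top _
      have := Subgroup.mem_map_of_mem (QuotientGroup.mk' (Subgroup.center ↥(loc D d))) hq
      rw [MonoidHom.map_closure] at this
      exact this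

theorem mk_eq_one {d : G} {x : ↥(loc D d)} :
    (QuotientGroup.mk x : ↥(loc D d) ⧸ Subgroup.center ↥(loc D d)) = 1 ↔ x ∈ Subgroup.center ↥(loc D d) :=
  QuotientGroup.eq_one_iff x

/-- Two different members with the same image are central. -/
theorem central_of_eq (h : Pre D) {d : G} {x y : ↥(loc D d)} (hx : (x : G) ∈ nz D) (hy : (y : G) ∈ nz D)
    (hxy : x ≠ y) (he : (QuotientGroup.mk x : ↥(loc D d) ⧸ Subgroup.center ↥(loc D d)) = QuotientGroup.mk y) :
    x ∈ Subgroup.center ↥(loc D d) := by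
  have hz : x⁻¹ * y ∈ Subgroup.center ↥(loc D d) := QuotientGroup.eq.1 he
  have hz' : ∀ w ∈ loc D d, Commute w ((x : G) * y) := fun w hw => by
    have := commute_of_central hz hw
    simpa [h.inv_eq hx.1] using this
  have hc : Commute (x : G) y := h.commute_of_commute_mul hx.1 (hz' x x.2).symm
  exact central_loc fun w hwD hw1 hwd hwc =>
    ((commute_mul_iff h.tset hx hy ⟨hwD, hw1⟩ (fun e => hxy (Subtype.ext e)) hc).1
      (hz' w (mem_loc hwD hwd hwc))).1

/-- Members whose images commute do commute. -/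
theorem commute_lift (h : Pre D) {d : G} {x y : ↥(loc D d)} (hx : (x : G) ∈ D) (hy : (y : G) ∈ D)
    (hc : Commute (QuotientGroup.mk x : ↥(loc D d) ⧸ Subgroup.center ↥(loc D d)) (QuotientGroup.mk y))
    (hx2 : (QuotientGroup.mk (x * x) : ↥(loc D d) ⧸ Subgroup.center ↥(loc D d)) = 1) :
    Commute (x : G) y := by
  rcases h.pair _ hx _ hy with e | e
  · exact (h.commute_iff_sq hx hy).2 e
  by_contra hn
  have h3 : ((QuotientGroup.mk (x * y) : ↥(loc D d) ⧸ Subgroup.center ↥(loc D d))) ^ 3 = 1 := by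
    rw [← QuotientGroup.mk_pow, show (x * y) ^ 3 = 1 from Subtype.ext e, QuotientGroup.mk_one]
  have hy2 : (QuotientGroup.mk y : ↥(loc D d) ⧸ Subgroup.center ↥(loc D d)) * QuotientGroup.mk y = 1 := by
    rw [← QuotientGroup.mk_mul, show y * y = 1 from Subtype.ext (h.invol _ hy), QuotientGroup.mk_one]
  have h2 : ((QuotientGroup.mk (x * y) : ↥(loc D d) ⧸ Subgroup.center ↥(loc D d))) ^ 2 = 1 := by
    rw [QuotientGroup.mk_mul, hc.mul_pow, pow_two, pow_two, hy2, ← QuotientGroup.mk_mul, hx2, mul_one]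
  rw [pow_succ, h2, one_mul] at h3
  exact hn (h.commute_of_commute_mul hx (commute_of_central ((QuotientGroup.eq_one_iff _).1 h3) x.2).symm)

/-! ### Descent -/

/-- If no member commuting with `d` is central in the local group, relations descend. -/
theorem descend (h : Pre D) {d : G} (hd : d ∈ nz D)
    (htr : ∀ a ∈ nz D, ∀ b ∈ nz D, ∃ g : G, g * a * g⁻¹ = b)
    (hnc : ∀ x : ↥(loc D d), (x : G) ∈ nz D → (x : G) ≠ d → x ∉ Subgroup.center ↥(loc D d))
    {k : ℕ} (hk : NoRel k (img D d)) : NoRel (k + 1) D := by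
  classical
  intro l hl hnd hlen hmem hcomm hprod
  obtain ⟨a, ha⟩ := List.exists_mem_of_ne_nil l hl
  obtain ⟨g, hg⟩ := htr a (hmem a ha) d hd
  set φ : G →* G := (MulAut.conj g).toMonoidHom with hφ
  have hφi : Function.Injective φ := (MulAut.conj g).injective
  have hφv : ∀ x, φ x = g * x * g⁻¹ := fun x => rfl
  set l' := l.map φ with hl'
  have hnd' : l'.Nodup := hnd.map hφi
  have hmem' : ∀ b ∈ l', b ∈ D ∧ b ≠ 1 := by
    intro b hb
    obtain ⟨c, hc, rfl⟩ := List.mem_map.1 hb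
    exact ⟨h.conj g c (hmem c hc).1, fun e => (hmem c hc).2 (hφi (by rw [e, map_one]))⟩
  have hcomm' : ∀ b ∈ l', ∀ c ∈ l', Commute b c := by
    intro b hb c hc
    obtain ⟨b₀, hb₀, rfl⟩ := List.mem_map.1 hb
    obtain ⟨c₀, hc₀, rfl⟩ := List.mem_map.1 hc
    exact (hcomm b₀ hb₀ c₀ hc₀).map φ
  have hd' : d ∈ l' := List.mem_map.2 ⟨a, ha, by rw [hφv, hg]⟩
  have hprod' : l'.prod = 1 := by rw [hl', ← map_list_prod, hprod, map_one]
  set r := l'.erase d with hr
  have hperm : l'.Perm (d :: r) := List.perm_cons_erase hd'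
  have hdr : d * r.prod = 1 := by
    rw [← List.prod_cons, ← hprod']
    refine (hperm.prod_eq' ?_).symm
    exact List.pairwise_of_forall_mem_list fun b hb c hc => hcomm' b hb c hc
  have hrp : r.prod = d := by
    have := eq_inv_of_mul_eq_one_right hdr
    rwa [h.inv_eq hd.1] at this
  have hrm : ∀ b ∈ r, b ∈ nz D ∧ b ≠ d ∧ Commute d b := by
    intro b hb
    have hb' : b ∈ l' := List.mem_of_mem_erase hb
    exact ⟨hmem' b hb', ((hnd'.mem_erase_iff).1 hb).1, hcomm' d hd' b hb'⟩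
  have hrne : r ≠ [] := fun e => hd.2 (by rw [← hrp, e, List.prod_nil])
  let lift : List ↥(loc D d) :=
    r.attach.map fun b => ⟨b.1, mem_loc (hrm b.1 b.2).1.1 (hrm b.1 b.2).2.1 (hrm b.1 b.2).2.2⟩
  have hlv : lift.map (Subgroup.subtype (loc D d)) = r := by
    simp only [lift, List.map_map]
    exact List.attach_map_subtype_val r
  have hlm : ∀ x ∈ lift, (x : G) ∈ r := by
    intro x hx
    obtain ⟨b, -, rfl⟩ := List.mem_map.1 hx
    exact b.2
  have hlp : lift.prod ∈ Subgroup.center ↥(loc D d) := by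
    have e : ((lift.prod : ↥(loc D d)) : G) = d :=
      (map_list_prod (Subgroup.subtype (loc D d)) lift).trans ((congrArg List.prod hlv).trans hrp)
    exact Subgroup.mem_center_iff.2 fun y => Subtype.ext (by
      show (y : G) * _ = _ * (y : G)
      rw [e]; exact (commute_loc y.2).symm.eq)
  have hlnd : lift.Nodup := List.Nodup.of_map (Subgroup.subtype (loc D d)) (hlv ▸ hnd'.erase d)
  refine hk (lift.map (QuotientGroup.mk' (Subgroup.center ↥(loc D d)))) ?_ ?_ ?_ ?_ ?_ ?_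
  · intro e
    apply hrne
    rw [← hlv, List.map_eq_nil_iff.1 e, List.map_nil]
  · refine (List.nodup_map_iff_inj_on hlnd).2 fun x hx y hy e => ?_
    by_contra hxy
    exact hnc x (hrm _ (hlm x hx)).1 (hrm _ (hlm x hx)).2.1
      (central_of_eq h (hrm _ (hlm x hx)).1 (hrm _ (hlm y hy)).1 hxy e)
  · have e1 : l'.length = r.length + 1 := by rw [hperm.length_eq, List.length_cons]
    have e2 : lift.length = r.length := by
      have := congrArg List.length hlv
      rwa [List.length_map] at this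
    rw [List.length_map, e2]
    have e3 : l'.length = l.length := List.length_map _
    omega
  · intro q hq
    obtain ⟨x, hx, rfl⟩ := List.mem_map.1 hq
    have hx' := hrm _ (hlm x hx)
    exact ⟨⟨x, ⟨hx'.1.1, hx'.2.1, hx'.2.2⟩, rfl⟩, fun e => hnc x hx'.1 hx'.2.1 (mk_eq_one.1 e)⟩
  · intro p hp q hq
    obtain ⟨x, hx, rfl⟩ := List.mem_map.1 hp
    obtain ⟨y, hy, rfl⟩ := List.mem_map.1 hq
    refine Commute.map ?_ _
    exact Subtype.ext (hcomm' _ (List.mem_of_mem_erase (hlm x hx)) _ (List.mem_of_mem_erase (hlm y hy))).eq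
  · rw [← map_list_prod]
    exact mk_eq_one.2 hlp

/-- One level: good local data give good data. -/
theorem level [Finite G] (h : Pre D) {d : G} (hd : d ∈ nz D) (hZ : Subgroup.center G = ⊥)
    (htr : ∀ a ∈ nz D, ∀ b ∈ nz D, ∃ g : G, g * a * g⁻¹ = b) {k : ℕ} (hg : Good k (img D d)) :
    Good (k + 1) D := by
  have hH : Hyp (nz D) := by
    refine ⟨h.tset, fun g a ha => ⟨h.conj g a ha.1, fun e => ha.2 (by simpa using e)⟩, htr, ?_⟩
    rw [eq_top_iff, ← h.gen, Subgroup.closure_le]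
    intro a ha
    rcases eq_or_ne a 1 with rfl | h1
    · exact one_mem _
    · exact Subgroup.subset_closure ⟨ha, h1⟩
  let N : G → Set G := fun a => {z | z ∈ nz D ∧ Commute a z}
  have hcard : ∀ a ∈ nz D, ∀ b ∈ nz D, (N a).ncard = (N b).ncard := by
    intro a ha b hb
    obtain ⟨g, rfl⟩ := htr a ha b hb
    rw [← Set.ncard_image_of_injective (N a) (MulAut.conj g).injective]
    congr 1
    ext z
    constructor
    · rintro ⟨u, hu, rfl⟩
      exact ⟨hH.conj g u hu.1, (Commute.conj_iff g).2 hu.2⟩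
    · intro hz
      refine ⟨g⁻¹ * z * g, ⟨?_, ?_⟩, by show g * (g⁻¹ * z * g) * g⁻¹ = z; group⟩
      · simpa using hH.conj g⁻¹ z hz.1
      · have := (Commute.conj_iff g⁻¹).2 hz.2
        simpa [mul_assoc] using this
  have hnc : ∀ x : ↥(loc D d), (x : G) ∈ nz D → (x : G) ≠ d → x ∉ Subgroup.center ↥(loc D d) := by
    intro x hx hxd hxc
    have hdx : Commute d (x : G) := commute_loc x.2
    have hsub : N d ⊆ N x := fun z hz => ⟨hz.1, by
      rcases eq_or_ne z d with rfl | hzd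
      · exact hdx.symm
      · exact (commute_of_central hxc (mem_loc hz.1.1 hzd hz.2)).symm⟩
    have heq : N d = N x :=
      Set.eq_of_subset_of_ncard_le hsub (hcard _ hx _ hd).le (Set.toFinite _)
    obtain ⟨q, hq⟩ := hg.nonempty
    obtain ⟨⟨y, hy, rfl⟩, hy1⟩ := hq
    have hyn : (y : G) ∈ nz D := ⟨hy.1, fun e => hy1 (by rw [show y = 1 from Subtype.ext e, QuotientGroup.mk_one])⟩
    have hyc : y ∉ Subgroup.center ↥(loc D d) := fun e => hy1 (mk_eq_one.2 e)
    obtain ⟨g, hgy⟩ := htr d hd y hyn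
    have hy'n : g * (x : G) * g⁻¹ ∈ nz D := hH.conj g _ hx
    have hNy : N (g * (x : G) * g⁻¹) = N y := by
      ext z
      have hiff : ∀ w, w ∈ nz D → (Commute d w ↔ Commute (x : G) w) := fun w hw =>
        ⟨fun e => ((Set.ext_iff.1 heq w).1 ⟨hw, e⟩).2, fun e => ((Set.ext_iff.1 heq w).2 ⟨hw, e⟩).2⟩
      have key : ∀ w, w ∈ nz D → (Commute (y : G) w ↔ Commute (g * (x : G) * g⁻¹) w) := fun w hw => by
        have e := hiff (g⁻¹ * w * g) (by simpa using hH.conj g⁻¹ w hw)
        rw [← Commute.conj_iff g, ← Commute.conj_iff g (a := (x : G))] at e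
        rw [hgy, show g * (g⁻¹ * w * g) * g⁻¹ = w by group] at e
        exact e
      exact ⟨fun hz => ⟨hz.1, (key z hz.1).2 hz.2⟩, fun hz => ⟨hz.1, (key z hz.1).1 hz.2⟩⟩
    have hne : g * (x : G) * g⁻¹ ≠ y := fun e => hxd (by simpa using e.trans hgy.symm)
    have hdy' : Commute d (g * (x : G) * g⁻¹) :=
      ((Set.ext_iff.1 hNy d).2 ⟨hd, (commute_loc y.2).symm⟩).2.symm
    have hy'd : g * (x : G) * g⁻¹ ≠ d := by
      intro e
      rw [e] at hNy
      exact hyc (central_loc fun w hwD hw1 _ hwc => ((Set.ext_iff.1 hNy w).1 ⟨⟨hwD, hw1⟩, hwc⟩).2.symm)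
    set y' : ↥(loc D d) := ⟨g * (x : G) * g⁻¹, mem_loc hy'n.1 hy'd hdy'⟩ with hy'
    have hiffy : ∀ w, w ∈ nz D → (Commute (y' : G) w ↔ Commute (y : G) w) := fun w hw =>
      ⟨fun e => ((Set.ext_iff.1 hNy w).1 ⟨hw, e⟩).2, fun e => ((Set.ext_iff.1 hNy w).2 ⟨hw, e⟩).2⟩
    have hy'c : y' ∉ Subgroup.center ↥(loc D d) := fun e => hyc (central_loc fun w hwD hw1 hwd hwc =>
      ((hiffy w ⟨hwD, hw1⟩).1 (commute_of_central e (mem_loc hwD hwd hwc)).symm).symm)
    have hHI : Hyp (nz (img D d)) := by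
      refine ⟨(pre_img h d).tset, fun q a ha => ⟨(pre_img h d).conj q a ha.1, fun e => ha.2 (by simpa using e)⟩,
        hg.trans, ?_⟩
      rw [eq_top_iff, ← (pre_img h d).gen, Subgroup.closure_le]
      intro a ha
      rcases eq_or_ne a 1 with rfl | h1
      · exact one_mem _
      · exact Subgroup.subset_closure ⟨ha, h1⟩
    have hm1 : (QuotientGroup.mk y : ↥(loc D d) ⧸ Subgroup.center ↥(loc D d)) ∈ nz (img D d) := ⟨⟨y, hy, rfl⟩, hy1⟩
    have hm2 : (QuotientGroup.mk y' : ↥(loc D d) ⧸ Subgroup.center ↥(loc D d)) ∈ nz (img D d) :=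
      ⟨⟨y', ⟨hy'n.1, hy'd, hdy'⟩, rfl⟩, fun e => hy'c (mk_eq_one.1 e)⟩
    have hcore := hHI.mul_mem_two_core hm1 hm2 (by
      rintro _ ⟨⟨w, hw, rfl⟩, hw1⟩
      have hwn : (w : G) ∈ nz D := ⟨hw.1, fun e => hw1 (by rw [show w = 1 from Subtype.ext e, QuotientGroup.mk_one])⟩
      have hsq : ∀ u : ↥(loc D d), (u : G) ∈ D →
          (QuotientGroup.mk (u * u) : ↥(loc D d) ⧸ Subgroup.center ↥(loc D d)) = 1 := fun u hu => by
        rw [show u * u = 1 from Subtype.ext (h.invol _ hu), QuotientGroup.mk_one]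
      constructor
      · intro e
        have := (hiffy w hwn).2 (commute_lift h hy.1 hw.1 e (hsq y hy.1))
        exact Commute.map (show Commute y' w from Subtype.ext this.eq)
          (QuotientGroup.mk' (Subgroup.center ↥(loc D d)))
      · intro e
        have := (hiffy w hwn).1 (commute_lift h hy'n.1 hw.1 e (hsq y' hy'n.1))
        exact Commute.map (show Commute y w from Subtype.ext this.eq)
          (QuotientGroup.mk' (Subgroup.center ↥(loc D d))))
    rw [hg.core, Subgroup.mem_bot, mul_eq_one_iff_eq_inv, (pre_img h d).inv_eq hm2.1] at hcore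
    exact hyc (central_of_eq h hyn hy'n (fun e => hne (congrArg Subtype.val e).symm) hcore)
  refine ⟨htr, ⟨d, hd⟩, hZ, ?_, descend h hd htr hnc hg.norel⟩
  by_contra hne
  haveI := CfsgLib.Coprime.pCore_normal' (G := G) 2
  obtain ⟨n, hn, hnd⟩ := hH.exists_moved (N := Cfsg.pCore 2 G) (by rwa [hZ, le_bot_iff]) hd
  set v := n * d * n⁻¹ with hv
  have hvn : v ∈ nz D := hH.conj n d hd
  have hdv : d⁻¹ * v ∈ Cfsg.pCore 2 G := hH.mul_conj_mem hd hn
  have hiff := (hH.nbhd_iff_two_core hd hvn).2 hdv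
  have hdc : Commute d v := ((hiff d hd).2 (Commute.refl d)).symm
  refine hnc ⟨v, mem_loc hvn.1 hnd hdc⟩ hvn hnd (central_loc fun w hwD hw1 _ hwc => ?_)
  exact ((hiff w ⟨hwD, hw1⟩).2 hwc).symm

/-- Local data and a small group for the common commuting members force a single class. -/
theorem trans_of_local [Finite G] (h : Pre D) {d c : G} (hd : d ∈ D) (hc : c ∈ D) (hdc : ¬ Commute d c)
    (hZ : Subgroup.center G = ⊥) {k : ℕ} (hg : Good k (img D d)) {M : ℕ}
    (hM : M ∣ Nat.card (↥(loc D d) ⧸ Subgroup.center ↥(loc D d)))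
    (hnM : ¬ M ∣ Nat.card (↥(Subgroup.closure ({y : G | y ∈ D ∧ y ≠ d ∧ Commute d y} ∩ {y : G | y ∈ D ∧ y ≠ c ∧ Commute c y})) ⧸
      Subgroup.center ↥(Subgroup.closure ({y : G | y ∈ D ∧ y ≠ d ∧ Commute d y} ∩ {y : G | y ∈ D ∧ y ≠ c ∧ Commute c y})))) :
    ∀ a ∈ nz D, ∀ b ∈ nz D, ∃ g : G, g * a * g⁻¹ = b := by
  classical
  have hdn : d ∈ nz D := ⟨hd, fun e => hdc (e ▸ Commute.one_left c)⟩
  suffices hall : ∀ b ∈ nz D, ∃ g : G, g * d * g⁻¹ = b by
    intro a ha b hb
    obtain ⟨g, rfl⟩ := hall a ha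
    obtain ⟨g', rfl⟩ := hall b hb
    exact ⟨g' * g⁻¹, by group⟩
  by_contra hcon
  push Not at hcon
  obtain ⟨b, hb, hbn⟩ := hcon
  let InC : G → Prop := fun a => ∃ g : G, g * d * g⁻¹ = a
  have hCcomm : ∀ a ∈ nz D, InC a → ∀ e ∈ nz D, ¬ InC e → Commute a e := by
    intro a ha ⟨g, hga⟩ e he hne
    by_contra hn
    obtain ⟨g', hg'⟩ := h.conj_of_not_commute ha.1 he.1 hn
    exact hne ⟨g' * g, by rw [← hg', ← hga]; group⟩
  have hC' : ∀ e ∈ nz D, ¬ InC e → e ≠ d ∧ e ≠ c ∧ Commute d e ∧ Commute c e := by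
    intro e he hne
    have hcC : InC c := h.conj_of_not_commute hd hc hdc
    exact ⟨fun e' => hne ⟨1, by simp [e']⟩, fun e' => hne (e' ▸ hcC),
      hCcomm d hdn ⟨1, by simp⟩ e he hne,
      hCcomm c ⟨hc, fun e1 => hdc (e1 ▸ Commute.one_right d)⟩ hcC e he hne⟩
  have hbnot : ¬ InC b := fun ⟨g, hg⟩ => hbn g hg
  obtain ⟨hbd, -, hbcd, -⟩ := hC' b hb hbnot
  set yb : ↥(loc D d) := ⟨b, mem_loc hb.1 hbd hbcd⟩ with hyb
  have hybc : yb ∉ Subgroup.center ↥(loc D d) := by
    intro hcen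
    have : b ∈ Subgroup.center G := mem_center_of_gen h.gen fun s hs => by
      rcases eq_or_ne s 1 with rfl | hs1
      · exact Commute.one_left _
      by_cases hsC : InC s
      · exact hCcomm s ⟨hs, hs1⟩ hsC b hb hbnot
      · obtain ⟨hsd, -, hscd, -⟩ := hC' s ⟨hs, hs1⟩ hsC
        exact commute_of_central hcen (mem_loc hs hsd hscd)
    rw [hZ, Subgroup.mem_bot] at this
    exact hb.2 this
  have hCc : ∀ x : ↥(loc D d), (x : G) ∈ nz D → (x : G) ≠ d → InC x → x ∈ Subgroup.center ↥(loc D d) := by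
    intro x hx hxd hxC
    by_contra hxc
    obtain ⟨q, hq⟩ := hg.trans (QuotientGroup.mk yb) ⟨⟨yb, ⟨hb.1, hbd, hbcd⟩, rfl⟩, fun e => hybc (mk_eq_one.1 e)⟩
      (QuotientGroup.mk x) ⟨⟨x, ⟨hx.1, hxd, commute_loc x.2⟩, rfl⟩, fun e => hxc (mk_eq_one.1 e)⟩
    induction q using QuotientGroup.induction_on with
    | H q =>
      set y' : ↥(loc D d) := q * yb * q⁻¹ with hy'
      have hy'n : (y' : G) ∈ nz D := ⟨h.conj _ _ hb.1, fun e => hb.2 (by simpa [hy', hyb] using e)⟩
      have hy'C : ¬ InC y' := by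
        rintro ⟨g, hg⟩
        apply hbnot
        refine ⟨(q : G)⁻¹ * g, ?_⟩
        calc (q : G)⁻¹ * g * d * ((q : G)⁻¹ * g)⁻¹ = (q : G)⁻¹ * (g * d * g⁻¹) * q := by group
          _ = b := by rw [hg, hy']; simp [hyb, mul_assoc]
      refine hxc (central_of_eq h hx hy'n (fun e => hy'C (e ▸ hxC)) ?_)
      rw [hy', QuotientGroup.mk_mul, QuotientGroup.mk_mul, QuotientGroup.mk_inv, hq]
  set P := {y : G | y ∈ D ∧ y ≠ d ∧ Commute d y} ∩ {y : G | y ∈ D ∧ y ≠ c ∧ Commute c y} with hP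
  have hcard : ∀ a, InC a → Nat.card {z : G // z ∈ D ∧ Commute a z} = Nat.card {z : G // z ∈ D ∧ Commute d z} := by
    rintro a ⟨g, rfl⟩
    refine (Nat.card_congr ((MulAut.conj g).toEquiv.subtypeEquiv fun z => ?_)).symm
    show z ∈ D ∧ Commute d z ↔ g * z * g⁻¹ ∈ D ∧ Commute (g * d * g⁻¹) (g * z * g⁻¹)
    rw [Commute.conj_iff]
    refine and_congr_left' ⟨h.conj g z, fun e => ?_⟩
    simpa [mul_assoc] using h.conj g⁻¹ _ e
  have hPC : ∀ y ∈ P, y = 1 ∨ ¬ InC y := by
    intro y hy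
    by_contra hcon
    push Not at hcon
    obtain ⟨hy1, hyC⟩ := hcon
    have hyd : y ≠ d := hy.1.2.1
    set yy : ↥(loc D d) := ⟨y, mem_loc hy.1.1 hyd hy.1.2.2⟩
    have hyy := hCc yy ⟨hy.1.1, hy1⟩ hyd hyC
    have hsub : {z : G | z ∈ D ∧ Commute d z} ⊆ {z : G | z ∈ D ∧ Commute y z} := fun z hz => ⟨hz.1, by
      rcases eq_or_ne z d with rfl | hzd
      · exact hy.1.2.2.symm
      · exact (commute_of_central hyy (mem_loc hz.1 hzd hz.2)).symm⟩
    have heq := Set.eq_of_subset_of_ncard_le hsub (by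
      rw [← Nat.card_coe_set_eq, ← Nat.card_coe_set_eq]; exact (hcard y hyC).le) (Set.toFinite _)
    exact hdc ((Set.ext_iff.1 heq c).2 ⟨hc, hy.2.2.2.symm⟩).2
  have hLle : Subgroup.closure P ≤ loc D d := Subgroup.closure_mono Set.inter_subset_left
  have hLZ : Subgroup.center ↥(Subgroup.closure P) = ⊥ := by
    rw [eq_bot_iff]
    intro z hz
    rw [Subgroup.mem_bot]
    have : (z : G) ∈ Subgroup.center G := mem_center_of_gen h.gen fun s hs => by
      rcases eq_or_ne s 1 with rfl | hs1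
      · exact Commute.one_left _
      by_cases hsC : InC s
      · have hle : Subgroup.closure P ≤ Subgroup.centralizer {s} := by
          refine (Subgroup.closure_le _).2 fun y hy => Subgroup.mem_centralizer_singleton_iff.2 ?_
          rcases hPC y hy with rfl | hyC
          · simp
          · rcases eq_or_ne y 1 with rfl | hy1
            · simp
            · exact (hCcomm s ⟨hs, hs1⟩ hsC y ⟨hy.1.1, hy1⟩ hyC).symm.eq
        exact (Subgroup.mem_centralizer_singleton_iff.1 (hle z.2)).symm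
      · obtain ⟨hsd, hsc, hscd, hscc⟩ := hC' s ⟨hs, hs1⟩ hsC
        exact congrArg Subtype.val
          (Subgroup.mem_center_iff.1 hz ⟨s, Subgroup.subset_closure ⟨⟨hs, hsd, hscd⟩, hs, hsc, hscc⟩⟩)
    rw [hZ, Subgroup.mem_bot] at this
    exact Subtype.ext this
  let φ : ↥(Subgroup.closure P) →* ↥(loc D d) ⧸ Subgroup.center ↥(loc D d) :=
    (QuotientGroup.mk' _).comp (Subgroup.inclusion hLle)
  have hsurj : Function.Surjective φ := by
    rw [← MonoidHom.range_eq_top, eq_top_iff, ← (pre_img h d).gen, Subgroup.closure_le]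
    rintro _ ⟨x, hx, rfl⟩
    rcases eq_or_ne (x : G) 1 with e | hx1
    · rw [show x = 1 from Subtype.ext e, QuotientGroup.mk_one]; exact one_mem _
    by_cases hxC : InC x
    · rw [mk_eq_one.2 (hCc x ⟨hx.1, hx1⟩ hx.2.1 hxC)]; exact one_mem _
    · obtain ⟨hxd, hxc, hxcd, hxcc⟩ := hC' x ⟨hx.1, hx1⟩ hxC
      exact ⟨⟨x, Subgroup.subset_closure ⟨⟨hx.1, hxd, hxcd⟩, hx.1, hxc, hxcc⟩⟩, rfl⟩
  apply hnM
  have hdvd := Subgroup.card_dvd_of_surjective φ hsurj
  rw [Nat.card_congr ((QuotientGroup.quotientMulEquivOfEq hLZ).trans QuotientGroup.quotientBot).toEquiv]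
  exact hM.trans hdvd

end CfsgLib.Spor.Tri.Relations
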