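/-
3-transpositions of `PSU(6, 4)`: they are transvections, and at most four distinct commuting
transvections never have trivial product.
-/
import Cfsg.Agent.Lib.Spor.Tri.Relations
import Cfsg.Agent.Lib.SU.Basic
import Cfsg.Agent.Lib.SU.CenterCard
import Cfsg.Agent.Lib.SU.SemisimpleCentral
import Cfsg.Agent.Lib.Classical.PSUSimple

namespace CfsgLib.Spor.Tri.Relations

open Matrix CfsgLib.SU

variable {F : Type*} [Field F] [Fintype F] (C : UCtx F 2) (hF : Fintype.card F = 4)

local notation "V" => (Fin 6 → F)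

include hF in
theorem one_add_one : (1 : F) + 1 = 0 := by
  haveI := Fact.mk Nat.prime_two
  haveI : CharP F 2 := charP_of_card_eq_prime_pow (f := 2) (by rw [hF]; norm_num)
  exact CharTwo.add_self_eq_zero 1

include hF in
theorem add_same (v : V) : v + v = 0 := by
  funext i
  show v i + v i = 0
  linear_combination (v i) * one_add_one hF

include hF in
theorem norm_one {x : F} (hx : x ≠ 0) : x * C.bar x = 1 := by
  have := FiniteField.pow_card_sub_one_eq_one x hx
  rw [hF] at this
  rw [C.bar_eq, ← pow_succ']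
  exact this

include hF in
theorem fixed_cases {c : F} (hc : C.bar c = c) : c = 0 ∨ c = 1 := by
  rcases eq_or_ne c 0 with e | e
  · exact Or.inl e
  · right
    rw [C.bar_eq, pow_two] at hc
    exact mul_right_cancel₀ e (hc.trans (one_mul c).symm)

include hF in
theorem one_trace : (1 : F) + C.bar 1 = 0 := by rw [map_one]; exact one_add_one hF

/-- The transvection at an isotropic vector. -/
def tr1 (v : V) (hv : C.form v v = 0) : ↥(Cfsg.SU 6 F 2) := C.tv v hv 1 (one_trace C hF)

theorem tr1_mulVec (v : V) (hv : C.form v v = 0) (x : V) :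
    (tr1 C hF v hv).1.1 *ᵥ x = x + C.form x v • v := by
  rw [tr1, C.tv_mulVec, one_mul]

theorem tr1_sq (v : V) (hv : C.form v v = 0) : tr1 C hF v hv * tr1 C hF v hv = 1 := by
  refine su_ext fun x => ?_
  rw [suMat_mulVec_mul, su_one_mulVec, tr1_mulVec, tr1_mulVec, C.form_add_left, C.form_smul_left, hv,
    mul_zero, add_zero, add_assoc, add_same hF, add_zero]

theorem tr1_congr {v w : V} {hv : C.form v v = 0} {hw : C.form w w = 0} (h : v = w) :
    tr1 C hF v hv = tr1 C hF w hw := by subst h; rfl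

theorem tr1_conj (A : ↥(Cfsg.SU 6 F 2)) (v : V) (hv : C.form v v = 0) :
    A * tr1 C hF v hv * A⁻¹ = tr1 C hF (A.1.1 *ᵥ v) (by rw [C.form_su, hv]) := C.tv_conj A v hv 1 _

/-- Four vectors have a common orthogonal vector. -/
theorem exists_orth_four (v : Fin 4 → V) : ∃ z : V, z ≠ 0 ∧ ∀ i, C.form z (v i) = 0 := by
  let L : V →ₗ[F] (Fin 4 → F) :=
    { toFun := fun x i => C.form x (v i)
      map_add' := fun x y => funext fun i => C.form_add_left x y (v i)
      map_smul' := fun a x => funext fun i => C.form_smul_left a x (v i) }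
  have hlt : Module.finrank F (Fin 4 → F) < Module.finrank F V := by simp
  obtain ⟨x, hx, hx0⟩ :=
    Submodule.exists_mem_ne_zero_of_ne_bot (LinearMap.ker_ne_bot_of_finrank_lt (f := L) hlt)
  exact ⟨x, hx0, fun i => congrFun (LinearMap.mem_ker.1 hx) i⟩

include hF in
/-- An involution is a transvection or has two independent hyperbolic directions. -/
theorem invol_cases {g : ↥(Cfsg.SU 6 F 2)} (hgg : g * g = 1) (hg1 : g ≠ 1) :
    (∃ (v : V) (hv : C.form v v = 0), v ≠ 0 ∧ g = tr1 C hF v hv) ∨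
      ∃ e₁ e₂ f₁ f₂ : V, g.1.1 *ᵥ f₁ = f₁ + e₁ ∧ g.1.1 *ᵥ f₂ = f₂ + e₂ ∧
        C.form e₁ e₁ = 0 ∧ C.form e₂ e₂ = 0 ∧ C.form e₁ e₂ = 0 ∧ C.form f₁ f₁ = 0 ∧ C.form f₂ f₂ = 0 ∧
        C.form f₁ f₂ = 0 ∧ C.form e₁ f₁ = 1 ∧ C.form e₁ f₂ = 0 ∧ C.form e₂ f₁ = 0 ∧ C.form e₂ f₂ = 1 := by
  have h11 := one_add_one hF
  let N : V → V := fun x => g.1.1 *ᵥ x + x
  have hgx : ∀ x, g.1.1 *ᵥ x = x + N x := fun x => by
    show _ = x + (g.1.1 *ᵥ x + x)
    rw [add_comm (g.1.1 *ᵥ x) x, ← add_assoc, add_same hF, zero_add]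
  have hg2 : ∀ x, g.1.1 *ᵥ (g.1.1 *ᵥ x) = x := fun x => by rw [← suMat_mulVec_mul, hgg, su_one_mulVec]
  have hNN : ∀ x, N (N x) = 0 := fun x => by
    show g.1.1 *ᵥ (g.1.1 *ᵥ x + x) + (g.1.1 *ᵥ x + x) = 0
    rw [Matrix.mulVec_add, hg2, add_comm x (g.1.1 *ᵥ x)]
    exact add_same hF _
  have hsym : ∀ x y, C.form (N x) y = C.form x (N y) := fun x y => by
    have e := C.form_su g x (g.1.1 *ᵥ y)
    rw [hg2] at e
    show C.form (g.1.1 *ᵥ x + x) y = C.form x (g.1.1 *ᵥ y + y)
    rw [C.form_add_left, C.form_add_right, e]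
  have hNadd : ∀ x y, N (x + y) = N x + N y := fun x y => by
    show g.1.1 *ᵥ (x + y) + (x + y) = g.1.1 *ᵥ x + x + (g.1.1 *ᵥ y + y)
    rw [Matrix.mulVec_add]; abel
  have hNsmul : ∀ (a : F) x, N (a • x) = a • N x := fun a x => by
    show g.1.1 *ᵥ (a • x) + a • x = a • (g.1.1 *ᵥ x + x)
    rw [Matrix.mulVec_smul, smul_add]
  have hiso : ∀ x y, C.form (N x) (N y) = 0 := fun x y => by rw [hsym, hNN, C.form_zero_right]
  have hone : ∀ x, C.form (N x) x ≠ 0 → C.form (N x) x = 1 := fun x hx =>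
    (fixed_cases C hF (by rw [C.bar_form, hsym])).resolve_left hx
  -- polarisation
  have hpol : ∀ p : V → V, (∀ (a : F) y z, p (y + a • z) = p y + a • p z) →
      (∀ y, C.form (N (p y)) (p y) = 0) → ∀ y z, C.form (N (p y)) (p z) = 0 := by
    intro p hp h0 y z
    have tr : ∀ a : F, C.bar a * C.form (N (p y)) (p z) + a * C.form (N (p z)) (p y) = 0 := fun a => by
      have := h0 (y + a • z)
      rw [hp, hNadd, hNsmul] at this
      simp only [C.form_add_left, C.form_add_right, C.form_smul_left, C.form_smul_right, h0 y, h0 z] at this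
      linear_combination this
    obtain ⟨t, ht⟩ := C.exists_not_fixed
    have h1 := tr 1
    have h2 := tr t
    rw [map_one] at h1
    have h3 : (C.bar t - t) * C.form (N (p y)) (p z) = 0 := by linear_combination h2 - t * h1
    exact (mul_eq_zero.1 h3).resolve_left (sub_ne_zero.2 ht)
  obtain ⟨f, hf⟩ : ∃ f, C.form (N f) f ≠ 0 := by
    by_contra hcon
    push Not at hcon
    refine hg1 (su_ext fun x => ?_)
    have hz : N x = 0 := C.eq_zero_of_form fun y => hpol id (fun _ _ _ => rfl) hcon x y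
    rw [su_one_mulVec, hgx, hz, add_zero]
  have hf1 := hone f hf
  let p : V → V := fun y => y + C.form (N y) f • f
  have hpf : ∀ y, C.form (N (p y)) f = 0 := fun y => by
    show C.form (N (y + C.form (N y) f • f)) f = 0
    rw [hNadd, hNsmul, C.form_add_left, C.form_smul_left, hf1]
    linear_combination C.form (N y) f * h11
  have hplin : ∀ (a : F) y z, p (y + a • z) = p y + a • p z := fun a y z => by
    show y + a • z + C.form (N (y + a • z)) f • f = _
    rw [hNadd, hNsmul, C.form_add_left, C.form_smul_left]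
    show _ = y + C.form (N y) f • f + a • (z + C.form (N z) f • f)
    module
  by_cases hall : ∀ y, C.form (N (p y)) (p y) = 0
  · left
    have hN : ∀ y, N (p y) = 0 := fun y => C.eq_zero_of_form fun z => by
      have h1 := hpol p hplin hall y z
      rw [show p z = z + C.form (N z) f • f from rfl, C.form_add_right, C.form_smul_right, hpf y, mul_zero, add_zero] at h1
      exact h1
    refine ⟨N f, hiso f f, fun e => hf (by rw [e, C.form_zero_left]), su_ext fun y => ?_⟩
    rw [tr1_mulVec, hgx]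
    congr 1
    have := hN y
    rw [show p y = y + C.form (N y) f • f from rfl, hNadd, hNsmul] at this
    rw [← hsym]
    calc N y = N y + (C.form (N y) f • N f + C.form (N y) f • N f) := by rw [add_same hF, add_zero]
      _ = C.form (N y) f • N f := by rw [← add_assoc, this, zero_add]
  · right
    obtain ⟨y, hy⟩ := not_forall.1 hall
    have hy1 := hone _ hy
    set f' := p y with hf'
    have hy0 : C.form (N f') f = 0 := hpf y
    set e₁ := N f with he₁
    set e₂ := N f' with he₂
    have e11 : C.form e₁ e₁ = 0 := hiso f f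
    have e22 : C.form e₂ e₂ = 0 := hiso f' f'
    have e12 : C.form e₁ e₂ = 0 := hiso f f'
    have a11 : C.form e₁ f = 1 := hf1
    have a12 : C.form e₁ f' = 0 := by rw [he₁, hsym, ← C.bar_form, ← he₂, hy0, map_zero]
    have a21 : C.form e₂ f = 0 := hy0
    have a22 : C.form e₂ f' = 1 := hy1
    have b11 : C.form f e₁ = 1 := by rw [← C.bar_form, a11, map_one]
    have b12 : C.form f' e₁ = 0 := C.form_swap_zero a12
    have b21 : C.form f e₂ = 0 := C.form_swap_zero a21
    have b22 : C.form f' e₂ = 1 := by rw [← C.bar_form, a22, map_one]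
    have e21 : C.form e₂ e₁ = 0 := C.form_swap_zero e12
    obtain ⟨κ, hκ⟩ := C.exists_trace (c := C.form f f) (C.form_self_fixed f)
    set F₁ := f + κ • e₁ with hF₁
    have c11 : C.form F₁ F₁ = 0 := by
      simp only [hF₁, C.form_add_left, C.form_add_right, C.form_smul_left, C.form_smul_right, a11, b11, e11]
      linear_combination hκ + (C.form f f) * h11
    set α := C.form f' F₁ with hα
    obtain ⟨μ, hμ⟩ := C.exists_trace (c := C.form (f' + α • e₁) (f' + α • e₁)) (C.form_self_fixed _)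
    set F₂ := (f' + α • e₁) + μ • e₂ with hF₂
    have c22 : C.form F₂ F₂ = 0 := by
      have u1 : C.form (f' + α • e₁) e₂ = 1 := by
        rw [C.form_add_left, C.form_smul_left, b22, e12, mul_zero, add_zero]
      have u2 : C.form e₂ (f' + α • e₁) = 1 := by rw [← C.bar_form, u1, map_one]
      rw [hF₂]
      generalize f' + α • e₁ = w at u1 u2 hμ ⊢
      simp only [C.form_add_left, C.form_add_right, C.form_smul_left, C.form_smul_right, u1, u2, e22]
      linear_combination hμ + (C.form w w) * h11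
    have c21 : C.form F₂ F₁ = 0 := by
      have u1 : C.form e₁ F₁ = 1 := by simp [hF₁, C.form_add_right, C.form_smul_right, a11, e11]
      have u2 : C.form e₂ F₁ = 0 := by simp [hF₁, C.form_add_right, C.form_smul_right, a21, e21]
      simp only [hF₂, C.form_add_left, C.form_smul_left, u1, u2, ← hα]
      linear_combination α * h11
    refine ⟨e₁, e₂, F₁, F₂, ?_, ?_, e11, e22, e12, c11, c22, C.form_swap_zero c21, ?_, ?_, ?_, ?_⟩
    · rw [hgx, hF₁, hNadd, hNsmul, he₁, hNN, smul_zero, add_zero]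
    · rw [hgx, hF₂, hNadd, hNadd, hNsmul, hNsmul, he₁, hNN, he₂, hNN, smul_zero, smul_zero, add_zero, add_zero]
    · simp [hF₁, C.form_add_right, C.form_smul_right, a11, e11]
    · simp [hF₂, C.form_add_right, C.form_smul_right, a12, e11, e12]
    · simp [hF₁, C.form_add_right, C.form_smul_right, a21, e21]
    · simp [hF₂, C.form_add_right, C.form_smul_right, a22, e22, e21]

include hF in
/-- An involution that is not a transvection has a conjugate with product of order exceeding three. -/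
theorem not_three {g : ↥(Cfsg.SU 6 F 2)} (hgg : g * g = 1) {e₁ e₂ f₁ f₂ : V}
    (g1 : g.1.1 *ᵥ f₁ = f₁ + e₁) (g2 : g.1.1 *ᵥ f₂ = f₂ + e₂)
    (e11 : C.form e₁ e₁ = 0) (e22 : C.form e₂ e₂ = 0) (e12 : C.form e₁ e₂ = 0) (c11 : C.form f₁ f₁ = 0)
    (c22 : C.form f₂ f₂ = 0) (c12 : C.form f₁ f₂ = 0) (a11 : C.form e₁ f₁ = 1) (a12 : C.form e₁ f₂ = 0)
    (a21 : C.form e₂ f₁ = 0) (a22 : C.form e₂ f₂ = 1) :
    ∃ s : Cfsg.PSU 6 F 2, (pr g * (s * pr g * s⁻¹)) ^ 2 ≠ 1 ∧ (pr g * (s * pr g * s⁻¹)) ^ 3 ≠ 1 := by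
  have h11 := one_add_one hF
  have e21 : C.form e₂ e₁ = 0 := C.form_swap_zero e12
  have c21 : C.form f₂ f₁ = 0 := C.form_swap_zero c12
  have b11 : C.form f₁ e₁ = 1 := by rw [← C.bar_form, a11, map_one]
  have b21 : C.form f₂ e₁ = 0 := C.form_swap_zero a12
  have b12 : C.form f₁ e₂ = 0 := C.form_swap_zero a21
  have b22 : C.form f₂ e₂ = 1 := by rw [← C.bar_form, a22, map_one]
  set ga := f₁ + e₁ with hga
  set b := f₁ + f₂ with hb
  set gb := f₁ + f₂ + e₁ + e₂ with hgb
  have iga : C.form ga ga = 0 := by rw [← g1, C.form_su, c11]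
  have ib : C.form b b = 0 := by simp [hb, C.form_add_left, C.form_add_right, c11, c22, c12, c21]
  have hgbv : g.1.1 *ᵥ b = gb := by rw [hb, Matrix.mulVec_add, g1, g2, hgb, hga]; abel
  have igb : C.form gb gb = 0 := by rw [← hgbv, C.form_su, ib]
  set Ta := tr1 C hF f₁ c11
  set Tb := tr1 C hF b ib
  set X := tr1 C hF ga iga * tr1 C hF gb igb * (Tb * Ta) with hX
  refine ⟨pr (Ta * Tb), ?_⟩
  have hginv : g⁻¹ = g := inv_eq_of_mul_eq_one_right hgg
  have hTinv : (Ta * Tb)⁻¹ = Tb * Ta := by
    rw [_root_.mul_inv_rev, inv_eq_of_mul_eq_one_right (tr1_sq C hF _ ib), inv_eq_of_mul_eq_one_right (tr1_sq C hF _ c11)]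
  have hXeq : g * (Ta * Tb * g * (Ta * Tb)⁻¹) = X := by
    calc g * (Ta * Tb * g * (Ta * Tb)⁻¹) = (g * Ta * g⁻¹) * (g * Tb * g⁻¹) * (Tb * Ta) := by
          rw [hTinv, hginv]
          calc g * (Ta * Tb * g * (Tb * Ta)) = g * Ta * (g * g) * Tb * g * (Tb * Ta) := by
                rw [hgg]; group
            _ = _ := by group
      _ = X := by
          rw [hX, tr1_conj, tr1_conj, tr1_congr C hF g1, tr1_congr C hF hgbv]
  rw [← map_inv, ← map_mul, ← map_mul, ← map_mul, hXeq, ← map_pow, ← map_pow]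
  have step : ∀ (v : V) (hv : C.form v v = 0) (w w' : V) (c : F), C.form w v = c → w + c • v = w' →
      (tr1 C hF v hv).1.1 *ᵥ w = w' := fun v hv w w' c h1 h2 => by rw [tr1_mulVec, h1, h2]
  have happ : ∀ w w1 w2 w3 w4 : V, Ta.1.1 *ᵥ w = w1 → Tb.1.1 *ᵥ w1 = w2 →
      (tr1 C hF gb igb).1.1 *ᵥ w2 = w3 → (tr1 C hF ga iga).1.1 *ᵥ w3 = w4 → X.1.1 *ᵥ w = w4 := by
    intro w w1 w2 w3 w4 h1 h2 h3 h4
    rw [hX, suMat_mulVec_mul, suMat_mulVec_mul, suMat_mulVec_mul, h1, h2, h3, h4]
  have x1 : X.1.1 *ᵥ e₂ = f₁ := by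
    refine happ e₂ e₂ (e₂ + f₁ + f₂) e₁ f₁ (step _ _ _ _ 0 a21 (by simp))
      (step _ _ _ _ 1 (by simp [hb, C.form_add_right, a21, a22]) (by rw [one_smul, hb]; abel))
      (step _ _ _ _ 1 ?_ ?_) (step _ _ _ _ 1 ?_ ?_)
    · simp only [hgb, C.form_add_left, C.form_add_right, a21, a22, e21, e22, c11, c12, c21, c22, b11, b12, b21, b22]
      linear_combination h11
    · rw [one_smul, hgb]; funext i; simp only [Pi.add_apply]
      linear_combination (e₂ i + f₁ i + f₂ i) * h11
    · simp [hga, C.form_add_right, a11, e11]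
    · rw [one_smul, hga]; funext i; simp only [Pi.add_apply]
      linear_combination (e₁ i) * h11
  have x2 : X.1.1 *ᵥ f₁ = e₂ + f₁ + f₂ := by
    refine happ f₁ f₁ f₁ (f₂ + e₁ + e₂) _ (step _ _ _ _ 0 c11 (by simp))
      (step _ _ _ _ 0 (by simp [hb, C.form_add_right, c11, c12]) (by simp))
      (step _ _ _ _ 1 ?_ ?_) (step _ _ _ _ 1 ?_ ?_)
    · simp [hgb, C.form_add_right, c11, c12, b11, b12]
    · rw [one_smul, hgb]; funext i; simp only [Pi.add_apply]
      linear_combination (f₁ i) * h11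
    · simp [hga, C.form_add_left, C.form_add_right, c21, b21, a11, e11, a21, e21]
    · rw [one_smul, hga]; funext i; simp only [Pi.add_apply]
      linear_combination (e₁ i) * h11
  have x3 : X.1.1 *ᵥ (e₂ + f₁ + f₂) = e₁ + f₁ + f₂ := by
    refine happ _ (e₂ + f₁ + f₂) e₂ (e₁ + f₁ + f₂) _ (step _ _ _ _ 0 ?_ (by simp))
      (step _ _ _ _ 1 ?_ ?_) (step _ _ _ _ 1 ?_ ?_) (step _ _ _ _ 0 ?_ (by simp))
    · simp [C.form_add_left, a21, c11, c21]
    · simp [hb, C.form_add_left, C.form_add_right, a21, a22, c11, c12, c21, c22]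
    · rw [one_smul, hb]; funext i; simp only [Pi.add_apply]
      linear_combination (f₁ i + f₂ i) * h11
    · simp [hgb, C.form_add_right, a21, a22, e21, e22]
    · rw [one_smul, hgb]; funext i; simp only [Pi.add_apply]
      linear_combination (e₂ i) * h11
    · simp only [hga, C.form_add_left, C.form_add_right, a11, e11, c11, b11, c21, b21]
      linear_combination h11
  obtain ⟨z, hz0, hz⟩ := exists_orth_four C ![f₁, b, gb, ga]
  have z0 : C.form z f₁ = 0 := hz 0
  have z1 : C.form z b = 0 := hz 1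
  have z2 : C.form z gb = 0 := hz 2
  have z3 : C.form z ga = 0 := hz 3
  have hzX : X.1.1 *ᵥ z = z :=
    happ z z z z z (step _ _ _ _ 0 z0 (by simp)) (step _ _ _ _ 0 z1 (by simp)) (step _ _ _ _ 0 z2 (by simp))
      (step _ _ _ _ 0 z3 (by simp))
  have p2 : (X ^ 2).1.1 *ᵥ z = z := by rw [pow_two, suMat_mulVec_mul, hzX, hzX]
  have p3 : (X ^ 3).1.1 *ᵥ z = z := by rw [pow_succ, suMat_mulVec_mul, hzX, p2]
  constructor
  · intro h
    have := C.pr_eq_fix (by norm_num) (B := 1) (h.trans (map_one _).symm) hz0 p2 (su_one_mulVec z)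
    have e := congrArg (fun A : ↥(Cfsg.SU 6 F 2) => A.1.1 *ᵥ e₂) this
    simp only [pow_two, suMat_mulVec_mul, x1, x2, su_one_mulVec] at e
    have := congrArg (fun u => C.form u e₂) e
    simp [C.form_add_left, e22, b12, b22] at this
  · intro h
    have := C.pr_eq_fix (by norm_num) (B := 1) (h.trans (map_one _).symm) hz0 p3 (su_one_mulVec z)
    have e := congrArg (fun A : ↥(Cfsg.SU 6 F 2) => A.1.1 *ᵥ e₂) this
    simp only [pow_succ, pow_zero, one_mul, suMat_mulVec_mul, x1, x2, x3, su_one_mulVec] at e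
    have := congrArg (fun u => C.form u e₂) e
    simp [C.form_add_left, e22, e12, b12, b22] at this

include C hF in
/-- Members of a 3-transposition set of `PSU(6, 4)` are transvections. -/
theorem is_transvection {D : Set (Cfsg.PSU 6 F 2)} (h : Pre D) {x : Cfsg.PSU 6 F 2} (hx : x ∈ nz D) :
    ∃ (v : V) (hv : C.form v v = 0), v ≠ 0 ∧ x = pr (tr1 C hF v hv) := by
  obtain ⟨g₀, hg₀⟩ := QuotientGroup.mk'_surjective (Subgroup.center ↥(Cfsg.SU 6 F 2)) x
  have hxx := h.invol x hx.1
  have hsq : pr (g₀ * g₀) = pr (1 : ↥(Cfsg.SU 6 F 2)) := by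
    rw [map_mul, map_one]
    show QuotientGroup.mk' _ g₀ * QuotientGroup.mk' _ g₀ = 1
    rw [hg₀, hxx]
  obtain ⟨c, hc⟩ := (C.pr_eq_iff (by norm_num)).1 hsq.symm
  have hsqv : ∀ z, (g₀ * g₀).1.1 *ᵥ z = c • z := fun z => by
    rw [hc, Matrix.smul_mulVec, su_one_mulVec]
  have hc0 : c ≠ 0 := fun e => by
    have := su_mulVec_ne_zero (g₀ * g₀) (x := (fun _ => 1 : V)) (fun e' => one_ne_zero (congrFun e' 0))
    rw [hsqv, e, zero_smul] at this
    exact this rfl
  have hc3 : c ^ 3 = 1 := by
    have := FiniteField.pow_card_sub_one_eq_one c hc0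
    rwa [hF] at this
  set g := g₀ * g₀ * g₀ with hg
  have hgx : pr g = x := by
    rw [hg, map_mul, hsq, map_one, one_mul]
    exact hg₀
  have hgg : g * g = 1 := by
    have e : g * g = (g₀ * g₀) * (g₀ * g₀) * (g₀ * g₀) := by rw [hg]; group
    refine su_ext fun z => ?_
    rw [e, suMat_mulVec_mul, suMat_mulVec_mul, hsqv, hsqv, hsqv, smul_smul, smul_smul, su_one_mulVec]
    rw [show c * c * c = c ^ 3 by ring, hc3, one_smul]
  have hg1 : g ≠ 1 := fun e => hx.2 (by rw [← hgx, e, map_one])
  rcases invol_cases C hF hgg hg1 with ⟨v, hv, hv0, hgv⟩ |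
    ⟨e₁, e₂, f₁, f₂, g1, g2, h1, h2, h3, h4, h5, h6, h7, h8, h9, h10⟩
  · exact ⟨v, hv, hv0, by rw [← hgx, hgv]⟩
  · obtain ⟨s, hs2, hs3⟩ := not_three C hF hgg g1 g2 h1 h2 h3 h4 h5 h6 h7 h8 h9 h10
    rw [hgx] at hs2 hs3
    rcases h.pair x hx.1 _ (h.conj s x hx.1) with e | e
    · exact absurd e hs2
    · exact absurd e hs3

/-- A vector orthogonal to one and not to another, non-proportional, one. -/
theorem exists_sep {u v : V} (hu : u ≠ 0) (h : ∀ a : F, v ≠ a • u) :
    ∃ w, C.form w u = 0 ∧ C.form w v = 1 := by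
  obtain ⟨y, hy⟩ := C.exists_form_eq_one hu
  have hne : v - C.bar (C.form y v) • u ≠ 0 := fun e => h _ (sub_eq_zero.1 e)
  obtain ⟨x, hx⟩ := C.exists_form_eq_one hne
  refine ⟨x - C.form x u • y, ?_, ?_⟩
  · rw [C.form_sub_left, C.form_smul_left, hy, mul_one, sub_self]
  · rw [C.form_sub_left, C.form_smul_left]
    rw [C.form_sub_right, C.form_smul_right, C.bar_bar] at hx
    linear_combination hx

include hF in
/-- Two proportional vectors give the same transvection. -/
theorem not_prop {v w : V} {hv : C.form v v = 0} {hw : C.form w w = 0} (hv0 : v ≠ 0)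
    (hne : pr (tr1 C hF v hv) ≠ pr (tr1 C hF w hw)) : ∀ a : F, v ≠ a • w := by
  intro a e
  have ha : a ≠ 0 := fun e' => hv0 (by rw [e, e', zero_smul])
  refine hne (congrArg pr (su_ext fun x => ?_))
  rw [tr1_mulVec, tr1_mulVec, e, C.form_smul_right, smul_smul]
  congr 2
  linear_combination (C.form x w) * norm_one C hF ha

include hF in
theorem prod_tr1_mulVec (l : List {v : V // C.form v v = 0})
    (ho : ∀ a ∈ l, ∀ b ∈ l, C.form a.1 b.1 = 0) (x : V) :
    ((l.map fun v => tr1 C hF v.1 v.2).prod).1.1 *ᵥ x = x + (l.map fun v => C.form x v.1 • v.1).sum := by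
  induction l with
  | nil => simp only [List.map_nil, List.prod_nil, List.sum_nil, add_zero]; exact su_one_mulVec x
  | cons a l ih =>
    have ih' := ih fun b hb c hc => ho b (List.mem_cons_of_mem a hb) c (List.mem_cons_of_mem a hc)
    rw [List.map_cons, List.prod_cons, suMat_mulVec_mul, ih', tr1_mulVec, List.map_cons, List.sum_cons]
    have hz : C.form (l.map fun v => C.form x v.1 • v.1).sum a.1 = 0 := by
      have : ∀ m : List {v : V // C.form v v = 0}, (∀ b ∈ m, C.form b.1 a.1 = 0) →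
          C.form (m.map fun v => C.form x v.1 • v.1).sum a.1 = 0 := by
        intro m hm
        induction m with
        | nil => exact C.form_zero_left _
        | cons b m ihm =>
          rw [List.map_cons, List.sum_cons, C.form_add_left, C.form_smul_left, hm b List.mem_cons_self,
            ihm fun c hc => hm c (List.mem_cons_of_mem b hc), mul_zero, add_zero]
      exact this l fun b hb => ho b (List.mem_cons_of_mem a hb) a List.mem_cons_self
    rw [C.form_add_left, hz, add_zero]
    abel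

include C hF in
/-- No relation among at most four commuting transvections. -/
theorem norel_u6 {D : Set (Cfsg.PSU 6 F 2)} (h : Pre D) : NoRel 4 D := by
  classical
  intro l hl hnd hlen hmem hcomm hprod
  have hch : ∀ a : {a // a ∈ l}, ∃ v : {v : V // C.form v v = 0}, v.1 ≠ 0 ∧ a.1 = pr (tr1 C hF v.1 v.2) :=
    fun a => by
      obtain ⟨v, hv, hv0, e⟩ := is_transvection C hF h (hmem a.1 a.2)
      exact ⟨⟨v, hv⟩, hv0, e⟩
  choose vec hvec0 hvec using hch
  set vs := l.attach.map vec with hvs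
  have hvl : vs.map (fun v => pr (tr1 C hF v.1 v.2)) = l := by
    rw [hvs, List.map_map]
    conv_rhs => rw [← List.attach_map_subtype_val l]
    exact List.map_congr_left fun a _ => (hvec a).symm
  have hne0 : ∀ v ∈ vs, v.1 ≠ 0 := fun v hv => by
    obtain ⟨a, -, rfl⟩ := List.mem_map.1 hv; exact hvec0 a
  have hmem' : ∀ v ∈ vs, pr (tr1 C hF v.1 v.2) ∈ l := fun v hv => hvl ▸ List.mem_map.2 ⟨v, hv, rfl⟩
  have horth : ∀ a ∈ vs, ∀ b ∈ vs, C.form a.1 b.1 = 0 := fun a ha b hb =>
    (C.pT_commute_iff (by norm_num) (hne0 b hb) one_ne_zero one_ne_zero).1 (hcomm _ (hmem' a ha) _ (hmem' b hb))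
  have hnd' : (vs.map (fun v => pr (tr1 C hF v.1 v.2))).Nodup := hvl ▸ hnd
  have hlen' : vs.length ≤ 4 := by rw [hvs, List.length_map, List.length_attach]; exact hlen
  have hne' : vs ≠ [] := fun e => hl (by rw [← hvl, e, List.map_nil])
  have hsum : ∀ x : V, (vs.map fun v => C.form x v.1 • v.1).sum = 0 := by
    have hP : pr ((vs.map fun v => tr1 C hF v.1 v.2).prod) = pr (1 : ↥(Cfsg.SU 6 F 2)) := by
      rw [map_list_prod, List.map_map, map_one]
      exact (congrArg List.prod hvl).trans hprod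
    obtain ⟨z, hz0, hz⟩ := exists_orth_four C fun i => (vs.map Subtype.val).getD i 0
    have hzv : ∀ v ∈ vs, C.form z v.1 = 0 := fun v hv => by
      obtain ⟨i, hi, rfl⟩ := List.getElem_of_mem hv
      have := hz ⟨i, by omega⟩
      rwa [List.getD_eq_getElem _ _ (by rw [List.length_map]; exact hi), List.getElem_map] at this
    have hzs : ((vs.map fun v => tr1 C hF v.1 v.2).prod).1.1 *ᵥ z = z := by
      rw [prod_tr1_mulVec C hF vs horth]
      rw [List.sum_eq_zero (fun y hy => ?_), add_zero]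
      obtain ⟨v, hv, rfl⟩ := List.mem_map.1 hy
      rw [hzv v hv, zero_smul]
    have := C.pr_eq_fix (by norm_num) hP hz0 hzs (su_one_mulVec z)
    intro x
    have e := prod_tr1_mulVec C hF vs horth x
    rw [this, su_one_mulVec] at e
    exact left_eq_add.1 e
  have key : ∀ {v w : V} {a : F}, v + a • w = 0 → ∃ b : F, v = b • w :=
    fun {v w a} e => ⟨-a, by rw [neg_smul]; exact eq_neg_of_add_eq_zero_left e⟩
  match vs, hne0, hnd', hlen', hne', hsum with
  | [], _, _, _, hne', _ => exact hne' rfl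
  | [v], hne0, _, _, _, hsum =>
    obtain ⟨w, hw⟩ := C.exists_form_eq_one (hne0 v (by simp))
    have := hsum w
    simp [hw] at this
    exact hne0 v (by simp) this
  | [v₁, v₂], hne0, hnd', _, _, hsum =>
    simp only [List.map_cons, List.map_nil, List.nodup_cons, List.mem_cons, List.not_mem_nil, or_false] at hnd'
    obtain ⟨w, hw⟩ := C.exists_form_eq_one (hne0 v₁ (by simp))
    have := hsum w
    simp only [List.map_cons, List.map_nil, List.sum_cons, List.sum_nil, add_zero, hw, one_smul] at this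
    obtain ⟨b, hb⟩ := key this
    exact not_prop C hF (hne0 v₁ (by simp)) hnd'.1 b hb
  | [v₁, v₂, v₃], hne0, hnd', _, _, hsum =>
    simp only [List.map_cons, List.map_nil, List.nodup_cons, List.mem_cons, List.not_mem_nil, or_false, not_or] at hnd'
    obtain ⟨w, hw0, hw1⟩ := exists_sep C (hne0 v₂ (by simp)) (not_prop C hF (hne0 v₁ (by simp)) hnd'.1.1)
    have := hsum w
    simp only [List.map_cons, List.map_nil, List.sum_cons, List.sum_nil, add_zero, hw0, hw1, one_smul, zero_smul,
      zero_add] at this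
    obtain ⟨b, hb⟩ := key this
    exact not_prop C hF (hne0 v₁ (by simp)) hnd'.1.2 b hb
  | [v₁, v₂, v₃, v₄], hne0, hnd', _, _, hsum =>
    simp only [List.map_cons, List.map_nil, List.nodup_cons, List.mem_cons, List.not_mem_nil, or_false, not_or] at hnd'
    have h1 := hne0 v₁ (by simp)
    have h2 := hne0 v₂ (by simp)
    have h3 := hne0 v₃ (by simp)
    have h4 := hne0 v₄ (by simp)
    obtain ⟨⟨n12, n13, n14⟩, ⟨n23, n24⟩, n34, -⟩ := hnd'
    obtain ⟨y₂, y23, y22⟩ := exists_sep C h3 (not_prop C hF h2 n23)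
    obtain ⟨y₃, y32, y33⟩ := exists_sep C h2 (not_prop C hF h3 (Ne.symm n23))
    -- the other two lie in the span of `v₂` and `v₃`
    have span : ∀ (p r : {v : V // C.form v v = 0}), p.1 ≠ 0 → pr (tr1 C hF p.1 p.2) ≠ pr (tr1 C hF r.1 r.2) →
        (∀ x, C.form x p.1 • p.1 + C.form x r.1 • r.1 + (C.form x v₂.1 • v₂.1 + C.form x v₃.1 • v₃.1) = 0) →
        p.1 = C.bar (C.form y₂ p.1) • v₂.1 + C.bar (C.form y₃ p.1) • v₃.1 := by
      intro p r hp hpr hs
      by_contra hcon
      have hne : p.1 - (C.bar (C.form y₂ p.1) • v₂.1 + C.bar (C.form y₃ p.1) • v₃.1) ≠ 0 := sub_ne_zero.2 hcon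
      obtain ⟨x, hx⟩ := C.exists_form_eq_one hne
      set x' := x - C.form x v₂.1 • y₂ - C.form x v₃.1 • y₃ with hx'
      have e2 : C.form x' v₂.1 = 0 := by simp [hx', C.form_sub_left, C.form_smul_left, y22, y32]
      have e3 : C.form x' v₃.1 = 0 := by simp [hx', C.form_sub_left, C.form_smul_left, y23, y33]
      have e1 : C.form x' p.1 = 1 := by
        simp only [hx', C.form_sub_left, C.form_smul_left]
        simp only [C.form_sub_right, C.form_add_right, C.form_smul_right, C.bar_bar] at hx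
        linear_combination hx
      have := hs x'
      rw [e1, e2, e3, one_smul, zero_smul, zero_smul, add_zero, add_zero] at this
      obtain ⟨b, hb⟩ := key this
      exact not_prop C hF hp hpr b hb
    have hs : ∀ x, C.form x v₁.1 • v₁.1 + C.form x v₄.1 • v₄.1 + (C.form x v₂.1 • v₂.1 + C.form x v₃.1 • v₃.1) = 0 :=
      fun x => by
        have := hsum x
        simp only [List.map_cons, List.map_nil, List.sum_cons, List.sum_nil, add_zero] at this
        rw [← this]; abel
    have p1 := span v₁ v₄ h1 n14 hs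
    have p4 := span v₄ v₁ h4 (Ne.symm n14) fun x => by rw [add_comm (C.form x v₄.1 • _)]; exact hs x
    set a := C.bar (C.form y₂ v₁.1) with ha
    set c := C.bar (C.form y₂ v₄.1) with hc
    have ha0 : a ≠ 0 := fun e => not_prop C hF h1 n13 _ (by rw [p1, e, zero_smul, zero_add])
    have hc0 : c ≠ 0 := fun e => not_prop C hF h4 (Ne.symm n34) _ (by rw [p4, e, zero_smul, zero_add])
    have e := hs y₂
    rw [y22, y23] at e
    have e' := congrArg (fun u => C.form y₂ u) e
    simp only [C.form_add_right, C.form_smul_right, C.form_zero_right, y22, y23, map_one, one_mul, zero_mul,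
      zero_smul, map_zero, add_zero] at e'
    have n1 : C.bar (C.form y₂ v₁.1) * C.form y₂ v₁.1 = 1 := by
      rw [mul_comm]; exact norm_one C hF (fun e0 => ha0 (by rw [ha, e0, map_zero]))
    have n4 : C.bar (C.form y₂ v₄.1) * C.form y₂ v₄.1 = 1 := by
      rw [mul_comm]; exact norm_one C hF (fun e0 => hc0 (by rw [hc, e0, map_zero]))
    exact one_ne_zero (α := F) (by linear_combination e' - n1 - n4 - one_add_one hF)
  | v₁ :: v₂ :: v₃ :: v₄ :: v₅ :: rest, _, _, hlen', _, _ => simp only [List.length_cons] at hlen'; omega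

include C hF in
theorem pow_two_dvd_psu : 2 ^ 15 ∣ Nat.card (Cfsg.PSU 6 F 2) := by
  have h1 := SemisimpleCentral.card_su C (n := 6) (by rw [hF]; norm_num) (by norm_num)
  have h2 := C.card_center_su (n := 6) (by rw [hF]; norm_num) (by norm_num)
  have h3 := Subgroup.card_eq_card_quotient_mul_card_subgroup (Subgroup.center ↥(Cfsg.SU 6 F 2))
  rw [h2, h1] at h3
  have h4 : 2 ^ 15 ∣ Nat.card (Cfsg.PSU 6 F 2) * Nat.gcd 6 (2 + 1) := h3 ▸ dvd_mul_right (2 ^ 15) _
  exact (Nat.Coprime.pow_left 15 (by norm_num : Nat.Coprime 2 (Nat.gcd 6 (2 + 1)))).dvd_of_dvd_mul_right h4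

/-- The bottom level. -/
theorem good_psu {F : Type} [Field F] [Fintype F] (hF : Fintype.card F = 4) {X : Type*} [Group X] [Finite X]
    (e : X ≃* Cfsg.PSU 6 F 2) {D : Set X} (h : Pre D) : Good 4 D ∧ 2 ^ 15 ∣ Nat.card X := by
  classical
  obtain ⟨C⟩ := CfsgLib.Classical.uctx_exists (F := F) (q := 2) (by rw [hF]; norm_num)
  have hsP : IsSimpleGroup (Cfsg.PSU 6 F 2) :=
    CfsgLib.Classical.psu_isSimple (q := 2) (n := 6) (by rw [hF]; norm_num) (by norm_num) (by norm_num)
  haveI : Nontrivial X := e.toEquiv.nontrivial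
  haveI hs : IsSimpleGroup X := IsSimpleGroup.isSimpleGroup_of_surjective e.symm.toMonoidHom e.symm.surjective
  have hdvd : 2 ^ 15 ∣ Nat.card X := Nat.card_congr e.toEquiv ▸ pow_two_dvd_psu C hF
  have hnab : ¬ ∀ a b : X, a * b = b * a := by
    intro hc
    have hp : (Nat.card X).Prime := by
      letI : CommGroup X := { (inferInstance : Group X) with mul_comm := hc }
      exact IsSimpleGroup.prime_card
    rcases (Nat.dvd_prime hp).1 ((dvd_pow_self 2 (by norm_num : 15 ≠ 0)).trans hdvd) with h1 | h1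
    · norm_num at h1
    · have := Nat.le_of_dvd Nat.card_pos hdvd
      omega
  have hZ : Subgroup.center X = ⊥ := by
    rcases IsSimpleGroup.eq_bot_or_eq_top_of_normal (Subgroup.center X) inferInstance with h1 | h1
    · exact h1
    · exact absurd (fun a b => (Subgroup.mem_center_iff.1 (h1 ▸ Subgroup.mem_top b) a)) hnab
  have hne : (nz D).Nonempty := by
    by_contra hcon
    rw [Set.not_nonempty_iff_eq_empty] at hcon
    refine hnab fun a b => (Subgroup.mem_center_iff.1 (mem_center_of_gen h.gen fun s hs => ?_) a)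
    rw [show s = 1 from by_contra fun h1 => (Set.eq_empty_iff_forall_notMem.1 hcon s) ⟨hs, h1⟩]
    exact Commute.one_left _
  refine ⟨⟨?_, hne, hZ, ?_, ?_⟩, hdvd⟩
  · intro a ha b hb
    by_contra hcon
    push Not at hcon
    let S : Set X := {z | ∃ g : X, g * a * g⁻¹ = z}
    haveI hN : (Subgroup.closure S).Normal := by
      rw [← Subgroup.normalizer_eq_top_iff, eq_top_iff]
      intro g _
      have hconj : ∀ g : X, ∀ z ∈ Subgroup.closure S, g * z * g⁻¹ ∈ Subgroup.closure S := by
        intro g z hz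
        have hle : Subgroup.closure S ≤ (Subgroup.closure S).comap (MulAut.conj g).toMonoidHom := by
          rw [Subgroup.closure_le]
          rintro _ ⟨k, rfl⟩
          exact Subgroup.subset_closure ⟨g * k, by show _ = g * (k * a * k⁻¹) * g⁻¹; group⟩
        exact hle hz
      rw [Subgroup.mem_normalizer_iff]
      intro z
      refine ⟨hconj g z, fun hz => ?_⟩
      have := hconj g⁻¹ _ hz
      simpa [mul_assoc] using this
    rcases IsSimpleGroup.eq_bot_or_eq_top_of_normal (Subgroup.closure S) hN with h1 | h1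
    · have : a ∈ Subgroup.closure S := Subgroup.subset_closure ⟨1, by simp⟩
      rw [h1, Subgroup.mem_bot] at this
      exact ha.2 this
    · have hbc : b ∈ Subgroup.center X := mem_center_of_gen h1 (by
        rintro z ⟨k, rfl⟩
        by_contra hnc
        obtain ⟨g, hg⟩ := h.conj_of_not_commute (h.conj k a ha.1) hb.1 hnc
        exact hcon (g * k) (by rw [← hg]; group))
      rw [hZ, Subgroup.mem_bot] at hbc
      exact hb.2 hbc
  · haveI := CfsgLib.Coprime.pCore_normal' (G := X) 2
    rcases IsSimpleGroup.eq_bot_or_eq_top_of_normal (Cfsg.pCore 2 X) inferInstance with h1 | h1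
    · exact h1
    · exfalso
      haveI := Fact.mk Nat.prime_two
      have hp : IsPGroup 2 X := by
        have := CfsgLib.Coprime.pCore_isPGroup (G := X) 2
        rw [h1] at this
        exact this.of_equiv Subgroup.topEquiv
      haveI : Nontrivial (Subgroup.center X) := hp.center_nontrivial
      exact (Subgroup.nontrivial_iff_ne_bot _).1 inferInstance hZ
  · intro l hl hnd hlen hmem hcomm hprod
    set D' : Set (Cfsg.PSU 6 F 2) := e '' D
    have hP : Pre D' := by
      refine ⟨?_, ?_, ?_, ?_⟩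
      · rintro _ ⟨a, ha, rfl⟩; rw [← map_mul, h.invol a ha, map_one]
      · rintro _ ⟨a, ha, rfl⟩ _ ⟨b, hb, rfl⟩
        rcases h.pair a ha b hb with r | r
        · exact Or.inl (by rw [← map_mul, ← map_pow, r, map_one])
        · exact Or.inr (by rw [← map_mul, ← map_pow, r, map_one])
      · rintro g _ ⟨a, ha, rfl⟩
        obtain ⟨k, rfl⟩ := e.surjective g
        exact ⟨k * a * k⁻¹, h.conj k a ha, by simp⟩
      · have := congrArg (Subgroup.map e.toMonoidHom) h.gen
        rw [MonoidHom.map_closure, Subgroup.map_top_of_surjective _ e.surjective] at this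
        exact this
    refine norel_u6 C hF hP (l.map e) (by simpa using hl) (hnd.map e.injective) (by simpa using hlen) ?_ ?_ ?_
    · intro b hb
      obtain ⟨a, ha, rfl⟩ := List.mem_map.1 hb
      exact ⟨⟨a, (hmem a ha).1, rfl⟩, fun r => (hmem a ha).2 (e.injective (by rw [r, map_one]))⟩
    · intro x hx y hy
      obtain ⟨a, ha, rfl⟩ := List.mem_map.1 hx
      obtain ⟨b, hb, rfl⟩ := List.mem_map.1 hy
      exact (hcomm a ha b hb).map e
    · rw [← map_list_prod, hprod, map_one]

end CfsgLib.Spor.Tri.Relations
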