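/-
Lines of `PSU(6, 4)`: five commuting transvections with trivial product, closed under double
commutation inside the class.
-/
import Cfsg.Agent.Lib.Spor.Tri.RelationsU6

namespace CfsgLib.Spor.Tri.Relations

open Matrix CfsgLib.SU

/-- Two commuting members lie in five with trivial product, exactly the members commuting with
every common neighbour of the two. -/
def HasLines {X : Type*} [Group X] (D : Set X) : Prop :=
  ∀ b ∈ nz D, ∀ c ∈ nz D, b ≠ c → Commute b c → ∃ l : List X, l.Nodup ∧ l.length = 5 ∧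
    (∀ a ∈ l, a ∈ nz D) ∧ (∀ a ∈ l, ∀ a' ∈ l, Commute a a') ∧ l.prod = 1 ∧
    ∀ e ∈ nz D, e ∈ l ↔ ∀ f ∈ nz D, Commute f b → Commute f c → Commute f e

variable {F : Type*} [Field F] [Fintype F] (C : UCtx F 2) (hF : Fintype.card F = 4)

local notation "V" => (Fin 6 → F)

theorem exists_orth_five (v : Fin 5 → V) : ∃ z : V, z ≠ 0 ∧ ∀ i, C.form z (v i) = 0 := by
  let L : V →ₗ[F] (Fin 5 → F) :=
    { toFun := fun x i => C.form x (v i)
      map_add' := fun x y => funext fun i => C.form_add_left x y (v i)
      map_smul' := fun a x => funext fun i => C.form_smul_left a x (v i) }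
  have hlt : Module.finrank F (Fin 5 → F) < Module.finrank F V := by simp
  obtain ⟨x, hx, hx0⟩ :=
    Submodule.exists_mem_ne_zero_of_ne_bot (LinearMap.ker_ne_bot_of_finrank_lt (f := L) hlt)
  exact ⟨x, hx0, fun i => congrFun (LinearMap.mem_ker.1 hx) i⟩

include hF in
theorem exists_omega : ∃ ω : F, ω ≠ 0 ∧ ω ≠ 1 ∧ ω ^ 2 + ω + 1 = 0 ∧ ω ^ 3 = 1 ∧
    ∀ x : F, x = 0 ∨ x = 1 ∨ x = ω ∨ x = ω ^ 2 := by
  classical
  obtain ⟨ω, hω⟩ : ∃ ω : F, ω ∉ ({0, 1} : Finset F) := by
    by_contra hcon
    push Not at hcon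
    have h1 : Fintype.card F ≤ ({0, 1} : Finset F).card :=
      Finset.card_le_card (s := Finset.univ) fun x _ => hcon x
    have h2 : ({0, 1} : Finset F).card ≤ 2 := Finset.card_le_two
    omega
  simp only [Finset.mem_insert, Finset.mem_singleton, not_or] at hω
  obtain ⟨h0, h1⟩ : ω ≠ 0 ∧ ω ≠ 1 := hω
  have h3 : ω ^ 3 = 1 := by
    have := FiniteField.pow_card_sub_one_eq_one ω h0
    rwa [hF] at this
  have hq : ω ^ 2 + ω + 1 = 0 := by
    have : (ω - 1) * (ω ^ 2 + ω + 1) = 0 := by linear_combination h3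
    exact (mul_eq_zero.1 this).resolve_left (sub_ne_zero.2 h1)
  refine ⟨ω, h0, h1, hq, h3, fun x => ?_⟩
  have n20 : ω ^ 2 ≠ 0 := pow_ne_zero 2 h0
  have n21 : ω ^ 2 ≠ 1 := fun e => h1 (by linear_combination h3 - ω * e)
  have n2ω : ω ^ 2 ≠ ω := fun e => h1 (by
    rw [pow_two] at e
    exact mul_right_cancel₀ h0 (e.trans (one_mul ω).symm))
  have huniv : ({0, 1, ω, ω ^ 2} : Finset F) = Finset.univ := by
    refine Finset.eq_of_subset_of_card_le (Finset.subset_univ _) ?_
    rw [Finset.card_univ, hF]
    rw [Finset.card_insert_of_notMem (by simp [h0.symm, n20.symm]),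
      Finset.card_insert_of_notMem (by simp [h1.symm, n21.symm]), Finset.card_pair n2ω.symm]
  have := huniv ▸ Finset.mem_univ x
  simpa using this

/-- Vectors with dual partners. -/
structure LinePair (v w : V) where
  fv : V
  fw : V
  fvv : C.form fv v = 1
  fvw : C.form fv w = 0
  fwv : C.form fw v = 0
  fww : C.form fw w = 1

include hF in
theorem exists_aniso_perp {v w : V} (P : LinePair C v w) {z : V} (hz : C.form z z = 1)
    (zv : C.form z v = 0) (zw : C.form z w = 0) :
    ∃ y, C.form y v = 0 ∧ C.form y w = 0 ∧ C.form y z = 0 ∧ C.form y y = 1 := by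
  set fv' := P.fv - C.form P.fv z • z with hfv'
  set fw' := P.fw - C.form P.fw z • z with hfw'
  obtain ⟨x, hx0, hx⟩ := exists_orth_five C ![v, w, z, fv', fw']
  by_contra hcon
  push Not at hcon
  have hall : ∀ y, C.form y v = 0 → C.form y w = 0 → C.form y z = 0 → C.form y y = 0 := fun y a b c =>
    (fixed_cases C hF (C.form_self_fixed y)).resolve_right (hcon y a b c)
  have xv : C.form x v = 0 := hx 0
  have xw : C.form x w = 0 := hx 1
  have xz : C.form x z = 0 := hx 2
  have xfv : C.form x fv' = 0 := hx 3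
  have xfw : C.form x fw' = 0 := hx 4
  refine hx0 (C.eq_zero_of_form fun y => ?_)
  set y' := y - C.form y v • fv' - C.form y w • fw' - C.form y z • z with hy'
  have a1 : C.form fv' v = 1 := by simp [hfv', C.form_sub_left, C.form_smul_left, P.fvv, zv]
  have a2 : C.form fv' w = 0 := by simp [hfv', C.form_sub_left, C.form_smul_left, P.fvw, zw]
  have a3 : C.form fv' z = 0 := by simp [hfv', C.form_sub_left, C.form_smul_left, hz]
  have b1 : C.form fw' v = 0 := by simp [hfw', C.form_sub_left, C.form_smul_left, P.fwv, zv]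
  have b2 : C.form fw' w = 1 := by simp [hfw', C.form_sub_left, C.form_smul_left, P.fww, zw]
  have b3 : C.form fw' z = 0 := by simp [hfw', C.form_sub_left, C.form_smul_left, hz]
  have yv : C.form y' v = 0 := by simp [hy', C.form_sub_left, C.form_smul_left, a1, b1, zv]
  have yw : C.form y' w = 0 := by simp [hy', C.form_sub_left, C.form_smul_left, a2, b2, zw]
  have yz : C.form y' z = 0 := by simp [hy', C.form_sub_left, C.form_smul_left, a3, b3, hz]
  have hpol : C.form x y' = 0 := by
    have tr : ∀ a : F, C.bar a * C.form x y' + a * C.form y' x = 0 := fun a => by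
      have := hall (x + a • y') (by simp [C.form_add_left, C.form_smul_left, xv, yv])
        (by simp [C.form_add_left, C.form_smul_left, xw, yw]) (by simp [C.form_add_left, C.form_smul_left, xz, yz])
      simp only [C.form_add_left, C.form_add_right, C.form_smul_left, C.form_smul_right, hall x xv xw xz,
        hall y' yv yw yz] at this
      linear_combination this
    obtain ⟨t, ht⟩ := C.exists_not_fixed
    have h1 := tr 1
    have h2 := tr t
    rw [map_one] at h1
    have h3 : (C.bar t - t) * C.form x y' = 0 := by linear_combination h2 - t * h1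
    exact (mul_eq_zero.1 h3).resolve_left (sub_ne_zero.2 ht)
  simpa [hy', C.form_sub_right, C.form_smul_right, xz, xfv, xfw] using hpol

include hF in
/-- A vector orthogonal to all isotropic vectors orthogonal to `v` and `w` lies in their span. -/
theorem mem_span_of_double_perp {v w : V} (P : LinePair C v w) {u : V}
    (hu : ∀ z, z ≠ 0 → C.form z z = 0 → C.form z v = 0 → C.form z w = 0 → C.form z u = 0) :
    u = C.bar (C.form P.fv u) • v + C.bar (C.form P.fw u) • w := by
  have h11 := one_add_one hF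
  obtain ⟨ω, hω0, hω1, -, -, -⟩ := exists_omega hF
  have hperp : ∀ z, C.form z v = 0 → C.form z w = 0 → C.form z u = 0 := by
    intro z zv zw
    rcases fixed_cases C hF (C.form_self_fixed z) with hz | hz
    · rcases eq_or_ne z 0 with rfl | hz0
      · exact C.form_zero_left u
      · exact hu z hz0 hz zv zw
    obtain ⟨y, yv, yw, yz, yy⟩ := exists_aniso_perp C hF P hz zv zw
    have zy : C.form z y = 0 := C.form_swap_zero yz
    have key : ∀ κ : F, κ ≠ 0 → C.form z u + κ * C.form y u = 0 := fun κ hκ => by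
      have := hu (z + κ • y) (fun e => by
        have := congrArg (fun t => C.form t z) e
        simp [C.form_add_left, C.form_smul_left, hz, yz, C.form_zero_left] at this)
        (by
          simp only [C.form_add_left, C.form_add_right, C.form_smul_left, C.form_smul_right, hz, yz, zy, yy]
          linear_combination norm_one C hF hκ + h11)
        (by simp [C.form_add_left, C.form_smul_left, zv, yv]) (by simp [C.form_add_left, C.form_smul_left, zw, yw])
      rwa [C.form_add_left, C.form_smul_left] at this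
    have k1 := key 1 one_ne_zero
    have k2 := key ω hω0
    have : (ω - 1) * C.form y u = 0 := by linear_combination k2 - k1
    have hy0 := (mul_eq_zero.1 this).resolve_left (sub_ne_zero.2 hω1)
    linear_combination k1 - hy0
  set a := C.bar (C.form P.fv u) with ha
  set b := C.bar (C.form P.fw u) with hb
  refine sub_eq_zero.1 (C.eq_zero_of_form' fun x => ?_)
  set x' := x - C.form x v • P.fv - C.form x w • P.fw with hx'
  have e := hperp x' (by simp [hx', C.form_sub_left, C.form_smul_left, P.fvv, P.fwv])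
    (by simp [hx', C.form_sub_left, C.form_smul_left, P.fvw, P.fww])
  simp only [hx', C.form_sub_left, C.form_smul_left] at e
  simp only [C.form_sub_right, C.form_add_right, C.form_smul_right, ha, hb, C.bar_bar]
  linear_combination e

include C hF in
theorem hasLines_psu {D : Set (Cfsg.PSU 6 F 2)} (h : Pre D) (hne : (nz D).Nonempty) : HasLines D := by
  classical
  obtain ⟨ω, hω0, hω1, hq, h3, hall⟩ := exists_omega hF
  have h11 := one_add_one hF
  have hmem : ∀ (u : V) (hu : C.form u u = 0), u ≠ 0 → pr (tr1 C hF u hu) ∈ nz D := by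
    intro u hu hu0
    obtain ⟨x, hx⟩ := hne
    obtain ⟨v₀, hv₀, hv00, rfl⟩ := is_transvection C hF h hx
    obtain ⟨A, a, ha, hA⟩ := C.exists_move (by norm_num) hv00 hu0 hv₀ hu
    have e : pr A * pr (tr1 C hF v₀ hv₀) * (pr A)⁻¹ = pr (tr1 C hF u hu) := by
      rw [← map_inv, ← map_mul, ← map_mul, tr1_conj]
      refine congrArg pr (su_ext fun z => ?_)
      rw [tr1_mulVec, tr1_mulVec, hA, C.form_smul_right, smul_smul]
      congr 2
      linear_combination (C.form z u) * norm_one C hF ha
    refine ⟨e ▸ h.conj _ _ hx.1, fun e1 => hx.2 ?_⟩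
    rw [e1] at e
    simpa using e
  intro b hb c hc hbc hcomm
  obtain ⟨v, hv, hv0, rfl⟩ := is_transvection C hF h hb
  obtain ⟨w, hw, hw0, rfl⟩ := is_transvection C hF h hc
  have hvw : C.form v w = 0 := (C.pT_commute_iff (by norm_num) hw0 one_ne_zero one_ne_zero).1 hcomm
  have hwv : C.form w v = 0 := C.form_swap_zero hvw
  obtain ⟨fv, hfvw, hfvv⟩ := exists_sep C hw0 (not_prop C hF hv0 hbc)
  obtain ⟨fw, hfwv, hfww⟩ := exists_sep C hv0 (not_prop C hF hw0 hbc.symm)
  let P : LinePair C v w := ⟨fv, fw, hfvv, hfvw, hfwv, hfww⟩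
  have hind : ∀ a d : F, a • v + d • w = 0 → a = 0 ∧ d = 0 := fun a d e => by
    have e1 := congrArg (fun t => C.form t fv) e
    have e2 := congrArg (fun t => C.form t fw) e
    have i1 : C.form v fv = 1 := by rw [← C.bar_form, hfvv, map_one]
    have i2 : C.form w fv = 0 := C.form_swap_zero hfvw
    have i3 : C.form v fw = 0 := C.form_swap_zero hfwv
    have i4 : C.form w fw = 1 := by rw [← C.bar_form, hfww, map_one]
    simp [C.form_add_left, C.form_smul_left, i1, i2, i3, i4, C.form_zero_left] at e1 e2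
    exact ⟨e1, e2⟩
  have hisoc : ∀ a d a' d' : F, C.form (a • v + d • w) (a' • v + d' • w) = 0 := fun a d a' d' => by
    simp [C.form_add_left, C.form_add_right, C.form_smul_left, C.form_smul_right, hv, hw, hvw, hwv]
  let coef : List (F × F) := [(1, 0), (0, 1), (1, 1), (1, ω), (1, ω ^ 2)]
  let pts : List {u : V // C.form u u = 0} :=
    coef.map fun p => ⟨p.1 • v + p.2 • w, hisoc _ _ _ _⟩
  have hpts : ∀ u ∈ pts, ∃ p ∈ coef, u.1 = p.1 • v + p.2 • w := fun u hu => by
    obtain ⟨p, hp, rfl⟩ := List.mem_map.1 hu; exact ⟨p, hp, rfl⟩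
  have hcoef0 : ∀ p ∈ coef, p.1 • v + p.2 • w ≠ 0 := fun p hp e => by
    obtain ⟨e1, e2⟩ := hind _ _ e
    simp only [coef, List.mem_cons, List.not_mem_nil, or_false] at hp
    rcases hp with rfl | rfl | rfl | rfl | rfl <;> simp at e1 e2
  have hptn : ∀ u ∈ pts, pr (tr1 C hF u.1 u.2) ∈ nz D := fun u hu => by
    obtain ⟨p, hp, e⟩ := hpts u hu
    exact hmem _ u.2 (e ▸ hcoef0 p hp)
  have horth : ∀ u ∈ pts, ∀ u' ∈ pts, C.form u.1 u'.1 = 0 := fun u hu u' hu' => by
    obtain ⟨p, -, e⟩ := hpts u hu
    obtain ⟨p', -, e'⟩ := hpts u' hu'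
    rw [e, e', hisoc]
  refine ⟨pts.map fun u => pr (tr1 C hF u.1 u.2), ?_, by simp [pts, coef], ?_, ?_, ?_, ?_⟩
  · have hnd : coef.Nodup := by
      have n21 : ω ^ 2 ≠ 1 := fun e => hω1 (by linear_combination h3 - ω * e)
      have n2ω : ω ^ 2 ≠ ω := fun e => hω1 (by
        rw [pow_two] at e
        exact mul_right_cancel₀ hω0 (e.trans (one_mul ω).symm))
      simp [coef, hω0.symm, hω1.symm, n21.symm, n2ω.symm, (pow_ne_zero 2 hω0).symm]
    simp only [pts, List.map_map]
    refine (List.nodup_map_iff_inj_on hnd).2 fun p hp p' hp' e => ?_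
    simp only [Function.comp, tr1] at e
    obtain ⟨a, ha⟩ := C.pT_par (by norm_num) (hcoef0 p hp) one_ne_zero e
    have e2 : (p.1 - a * p'.1) • v + (p.2 - a * p'.2) • w = 0 := by
      rw [sub_smul, sub_smul, ← smul_smul, ← smul_smul]
      calc (p.1 • v - a • p'.1 • v) + (p.2 • w - a • p'.2 • w)
          = (p.1 • v + p.2 • w) - a • (p'.1 • v + p'.2 • w) := by rw [smul_add]; abel
        _ = 0 := by rw [ha, sub_self]
    obtain ⟨d1, d2⟩ := hind _ _ e2
    rw [sub_eq_zero] at d1 d2
    have hnorm : ∀ r ∈ coef, r = (0, 1) ∨ r.1 = 1 := fun r hr => by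
      simp only [coef, List.mem_cons, List.not_mem_nil, or_false] at hr
      rcases hr with rfl | rfl | rfl | rfl | rfl <;> simp
    rcases hnorm p hp with r | r <;> rcases hnorm p' hp' with r' | r'
    · rw [r, r']
    · exfalso
      rw [r, r', mul_one] at d1
      rw [r, ← d1, zero_mul] at d2
      exact one_ne_zero d2
    · exfalso
      rw [r, r', mul_zero] at d1
      exact one_ne_zero d1
    · rw [r, r', mul_one] at d1
      rw [← d1, one_mul] at d2
      exact Prod.ext (r.trans r'.symm) d2
  · intro a ha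
    obtain ⟨u, hu, rfl⟩ := List.mem_map.1 ha
    exact hptn u hu
  · intro a ha a' ha'
    obtain ⟨u, hu, rfl⟩ := List.mem_map.1 ha
    obtain ⟨u', hu', rfl⟩ := List.mem_map.1 ha'
    exact ((C.tv_commute u.2 u'.2 (horth u hu u' hu') 1 1 (one_trace C hF) (one_trace C hF))).map pr
  · have hone : (pts.map fun u => tr1 C hF u.1 u.2).prod = 1 := by
      refine su_ext fun x => ?_
      rw [prod_tr1_mulVec C hF pts horth, su_one_mulVec]
      simp only [pts, coef, List.map_cons, List.map_nil, List.sum_cons, List.sum_nil, add_zero]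
      funext i
      have hb1 : C.bar ω = ω ^ 2 := C.bar_eq ω
      have hb2 : C.bar (ω ^ 2) = ω := by rw [map_pow, hb1]; linear_combination ω * h3
      simp only [Pi.add_apply, Pi.smul_apply, smul_eq_mul, C.form_add_right, C.form_smul_right, map_one, map_zero,
        hb1, hb2]
      linear_combination (C.form x v * v i + C.form x w * w i) * (h11 + h11) +
        (C.form x v * w i + C.form x w * v i) * hq + 2 * (C.form x w * w i) * h3
    calc (pts.map fun u => pr (tr1 C hF u.1 u.2)).prod = pr ((pts.map fun u => tr1 C hF u.1 u.2).prod) := by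
          rw [map_list_prod, List.map_map]; rfl
      _ = 1 := by rw [hone, map_one]
  · intro e he
    obtain ⟨u, hu, hu0, rfl⟩ := is_transvection C hF h he
    constructor
    · intro hl f hf hfb hfc
      obtain ⟨u', hu', he'⟩ := List.mem_map.1 hl
      obtain ⟨z, hz, hz0, rfl⟩ := is_transvection C hF h hf
      have zv := (C.pT_commute_iff (by norm_num) hv0 one_ne_zero one_ne_zero).1 hfb
      have zw := (C.pT_commute_iff (by norm_num) hw0 one_ne_zero one_ne_zero).1 hfc
      rw [← he']
      obtain ⟨p, -, ep⟩ := hpts u' hu'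
      refine (C.tv_commute hz u'.2 ?_ 1 1 (one_trace C hF) (one_trace C hF)).map pr
      rw [ep]
      simp [C.form_add_right, C.form_smul_right, zv, zw]
    · intro hall'
      have hspan := mem_span_of_double_perp C hF P (u := u) fun z hz0 hz zv zw => by
        have hc' := hall' _ (hmem z hz hz0)
          ((C.tv_commute hz hv zv 1 1 (one_trace C hF) (one_trace C hF)).map pr)
          ((C.tv_commute hz hw zw 1 1 (one_trace C hF) (one_trace C hF)).map pr)
        exact (C.pT_commute_iff (by norm_num) hu0 one_ne_zero one_ne_zero).1 hc'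
      set a := C.bar (C.form P.fv u)
      set d := C.bar (C.form P.fw u)
      -- scale to one of the five
      have hpick : ∃ p ∈ coef, ∃ s : F, s ≠ 0 ∧ u = s • (p.1 • v + p.2 • w) := by
        rcases eq_or_ne a 0 with ha | ha
        · refine ⟨(0, 1), by simp [coef], d, fun e => hu0 (by rw [hspan, ha, e]; simp), ?_⟩
          rw [hspan, ha]; simp
        · refine ⟨(1, d * a⁻¹), ?_, a, ha, ?_⟩
          · rcases hall (d * a⁻¹) with e | e | e | e <;> simp [coef, e]
          · have e1 : a * (d * a⁻¹) = d := by field_simp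
            rw [smul_add, smul_smul, smul_smul, mul_one, e1]
            exact hspan
      obtain ⟨p, hp, s, hs, hus⟩ := hpick
      refine List.mem_map.2 ⟨⟨p.1 • v + p.2 • w, hisoc _ _ _ _⟩, List.mem_map.2 ⟨p, hp, rfl⟩, ?_⟩
      refine congrArg pr (su_ext fun x => ?_)
      rw [tr1_mulVec, tr1_mulVec, hus, C.form_smul_right, smul_smul]
      congr 2
      linear_combination (-C.form x (p.1 • v + p.2 • w)) * norm_one C hF hs

/-- Lines transported along an isomorphism with `PSU(6, 4)`. -/
theorem hasLines_of_equiv {F : Type} [Field F] [Fintype F] (hF : Fintype.card F = 4) {X : Type*} [Group X] [Finite X]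
    (e : X ≃* Cfsg.PSU 6 F 2) {D : Set X} (h : Pre D) : HasLines D := by
  classical
  obtain ⟨C⟩ := CfsgLib.Classical.uctx_exists (F := F) (q := 2) (by rw [hF]; norm_num)
  obtain ⟨hg, -⟩ := good_psu hF e h
  set D' : Set (Cfsg.PSU 6 F 2) := e '' D
  have hP : Pre D' := by
    refine ⟨?_, ?_, ?_, ?_⟩
    · rintro _ ⟨a, ha, rfl⟩; rw [← map_mul, h.invol a ha, map_one]
    · rintro _ ⟨a, ha, rfl⟩ _ ⟨b, hb, rfl⟩
      rcases h.pair a ha b hb with r | r
      · exact Or.inl (by rw [← map_mul, ← map_pow, r, map_one])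
      · exact Or.inr (by rw [← map_mul, ← map_pow, r, map_one])
    · rintro g _ ⟨a, ha, rfl⟩
      obtain ⟨k, rfl⟩ := e.surjective g
      exact ⟨k * a * k⁻¹, h.conj k a ha, by simp⟩
    · have := congrArg (Subgroup.map e.toMonoidHom) h.gen
      rw [MonoidHom.map_closure, Subgroup.map_top_of_surjective _ e.surjective] at this
      exact this
  have hto : ∀ {a : X}, a ∈ nz D → e a ∈ nz D' := fun ha =>
    ⟨⟨_, ha.1, rfl⟩, fun r => ha.2 (e.injective (by rw [r, map_one]))⟩
  have hfrom : ∀ {a : X}, e a ∈ nz D' → a ∈ nz D := fun ha => by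
    obtain ⟨⟨a', ha', r⟩, h1⟩ := ha
    exact ⟨e.injective r ▸ ha', fun r' => h1 (by rw [r', map_one])⟩
  obtain ⟨x₀, hx₀⟩ := hg.nonempty
  intro b hb c hc hbc hcomm
  obtain ⟨l, hnd, hlen, hmem, hco, hprod, hiff⟩ :=
    hasLines_psu C hF hP ⟨_, hto hx₀⟩ (e b) (hto hb) (e c) (hto hc) (fun r => hbc (e.injective r)) (hcomm.map e)
  have hcm : ∀ {a a' : X}, Commute (e a) (e a') → Commute a a' := fun {a a'} r => by
    simpa using r.map e.symm
  refine ⟨l.map e.symm, hnd.map e.symm.injective, by simpa using hlen, ?_, ?_, ?_, ?_⟩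
  · intro a ha
    obtain ⟨a', ha', rfl⟩ := List.mem_map.1 ha
    exact hfrom (by rw [e.apply_symm_apply]; exact hmem a' ha')
  · intro a ha a' ha'
    obtain ⟨p, hp, rfl⟩ := List.mem_map.1 ha
    obtain ⟨p', hp', rfl⟩ := List.mem_map.1 ha'
    exact (hco p hp p' hp').map e.symm
  · rw [← map_list_prod, hprod, map_one]
  · intro a ha
    constructor
    · intro hal f hf hfb hfc
      obtain ⟨a', ha', rfl⟩ := List.mem_map.1 hal
      have := (hiff a' (hmem a' ha')).1 ha' (e f) (hto hf) (hfb.map e) (hfc.map e)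
      simpa using this.map e.symm
    · intro hall
      refine List.mem_map.2 ⟨e a, (hiff (e a) (hto ha)).2 fun f hf hfb hfc => ?_, e.symm_apply_apply a⟩
      obtain ⟨⟨f', hf', rfl⟩, -⟩ := id hf
      exact (hall f' (hfrom hf) (hcm hfb) (hcm hfc)).map e

end CfsgLib.Spor.Tri.Relations
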