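/-
Three commuting members determine six with trivial product: the double perp of the three.
-/
import Cfsg.Agent.Lib.Spor.Tri.Relations
import Cfsg.Agent.Lib.Spor.Tri.RelationsLines

namespace CfsgLib.Spor.Tri.Relations

variable {G : Type*} [Group G] {D : Set G}

/-- Members commuting with every common neighbour of three members. -/
def Cl (D : Set G) (a b c : G) : Set G :=
  {e | e ∈ nz D ∧ ∀ f ∈ nz D, Commute f a → Commute f b → Commute f c → Commute f e}

/-- The closures of commuting triples through `a` have six members, with product centralised by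
the neighbours of `a`. -/
def SixAt (D : Set G) (a : G) : Prop :=
  ∀ b ∈ nz D, ∀ c ∈ nz D, a ≠ b → a ≠ c → b ≠ c → Commute a b → Commute a c → Commute b c →
    ∃ l : List G, l.Nodup ∧ l.length = 6 ∧ (∀ e, e ∈ l ↔ e ∈ Cl D a b c) ∧
      ∀ f ∈ nz D, Commute a f → Commute f l.prod

theorem cl_swap (a b c : G) : Cl D b a c = Cl D a b c := by
  ext e
  exact ⟨fun he => ⟨he.1, fun f hf x y z => he.2 f hf y x z⟩, fun he => ⟨he.1, fun f hf x y z => he.2 f hf y x z⟩⟩

theorem cl_commute {a b c : G} (ha : a ∈ nz D) (hb : b ∈ nz D) (hc : c ∈ nz D) (hab : Commute a b)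
    (hac : Commute a c) (hbc : Commute b c) {e e' : G} (he : e ∈ Cl D a b c) (he' : e' ∈ Cl D a b c) :
    Commute e e' :=
  he'.2 e he.1 (he.2 a ha (Commute.refl a) hab hac).symm (he.2 b hb hab.symm (Commute.refl b) hbc).symm
    (he.2 c hc hac.symm hbc.symm (Commute.refl c)).symm

theorem six_base (h : Pre D) {d : G} (hd : d ∈ nz D)
    (hnc : ∀ x : ↥(loc D d), (x : G) ∈ nz D → (x : G) ≠ d → x ∉ Subgroup.center ↥(loc D d))
    (hl : HasLines (img D d)) : SixAt D d := by
  classical
  intro b hb c hc hdb hdc hbc cdb cdc cbc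
  set B : ↥(loc D d) := ⟨b, mem_loc hb.1 hdb.symm cdb⟩
  set C : ↥(loc D d) := ⟨c, mem_loc hc.1 hdc.symm cdc⟩
  have himg : ∀ x : ↥(loc D d), (x : G) ∈ nz D → (x : G) ≠ d → Commute d (x : G) →
      (QuotientGroup.mk x : ↥(loc D d) ⧸ Subgroup.center ↥(loc D d)) ∈ nz (img D d) := fun x hx hxd hxc =>
    ⟨⟨x, ⟨hx.1, hxd, hxc⟩, rfl⟩, fun e => hnc x hx hxd (mk_eq_one.1 e)⟩
  have hinj : ∀ x y : ↥(loc D d), (x : G) ∈ nz D → (y : G) ∈ nz D → (x : G) ≠ d →
      (QuotientGroup.mk x : ↥(loc D d) ⧸ Subgroup.center ↥(loc D d)) = QuotientGroup.mk y → x = y :=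
    fun x y hx hy hxd e => by_contra fun hne => hnc x hx hxd (central_of_eq h hx hy hne e)
  have hsq : ∀ u : ↥(loc D d), (u : G) ∈ D →
      (QuotientGroup.mk (u * u) : ↥(loc D d) ⧸ Subgroup.center ↥(loc D d)) = 1 := fun u hu => by
    rw [show u * u = 1 from Subtype.ext (h.invol _ hu), QuotientGroup.mk_one]
  have hcimg : ∀ {x y : ↥(loc D d)}, Commute (x : G) y →
      Commute (QuotientGroup.mk x : ↥(loc D d) ⧸ Subgroup.center ↥(loc D d)) (QuotientGroup.mk y) :=
    fun {x y} r => (show Commute x y from Subtype.ext r.eq).map (QuotientGroup.mk' _)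
  obtain ⟨l5, hnd5, hlen5, hmem5, -, hprod5, hiff5⟩ :=
    hl _ (himg B hb hdb.symm cdb) _ (himg C hc hdc.symm cdc)
      (fun e => hbc (congrArg Subtype.val (hinj B C hb hc hdb.symm e))) (hcimg cbc)
  have hpre : ∀ q : {q // q ∈ l5}, ∃ x : ↥(loc D d), ((x : G) ∈ nz D ∧ (x : G) ≠ d ∧ Commute d (x : G)) ∧
      QuotientGroup.mk x = q.1 := by
    rintro ⟨q, hq⟩
    obtain ⟨⟨x, hx, rfl⟩, hx1⟩ := hmem5 q hq
    exact ⟨x, ⟨⟨hx.1, fun e => hx1 (by rw [show x = 1 from Subtype.ext e, QuotientGroup.mk_one])⟩, hx.2.1,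
      hx.2.2⟩, rfl⟩
  choose lf hlf hlfq using hpre
  set L := l5.attach.map lf with hL
  have hLq : L.map (QuotientGroup.mk' (Subgroup.center ↥(loc D d))) = l5 := by
    rw [hL, List.map_map]
    conv_rhs => rw [← List.attach_map_subtype_val l5]
    exact List.map_congr_left fun q _ => hlfq q
  have hLm : ∀ x ∈ L, ((x : G) ∈ nz D ∧ (x : G) ≠ d ∧ Commute d (x : G)) := fun x hx => by
    obtain ⟨q, -, rfl⟩ := List.mem_map.1 hx; exact hlf q
  have hLnd : L.Nodup := List.Nodup.of_map (QuotientGroup.mk' (Subgroup.center ↥(loc D d))) (hLq ▸ hnd5)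
  refine ⟨d :: L.map Subtype.val, ?_, ?_, ?_, ?_⟩
  · refine List.nodup_cons.2 ⟨fun hd' => ?_, hLnd.map Subtype.val_injective⟩
    obtain ⟨x, hx, e⟩ := List.mem_map.1 hd'
    exact (hLm x hx).2.1 e
  · rw [List.length_cons, List.length_map, hL, List.length_map, List.length_attach, hlen5]
  · intro e
    constructor
    · intro he
      rcases List.mem_cons.1 he with rfl | he
      · exact ⟨hd, fun f _ r _ _ => r⟩
      obtain ⟨x, hx, rfl⟩ := List.mem_map.1 he
      refine ⟨(hLm x hx).1, fun f hf fd fb fc => ?_⟩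
      rcases eq_or_ne f d with rfl | hfd
      · exact (hLm x hx).2.2
      set f' : ↥(loc D d) := ⟨f, mem_loc hf.1 hfd fd.symm⟩
      have hxl : (QuotientGroup.mk x : ↥(loc D d) ⧸ Subgroup.center ↥(loc D d)) ∈ l5 :=
        hLq ▸ List.mem_map.2 ⟨x, hx, rfl⟩
      exact commute_lift h (x := f') (y := x) hf.1 (hLm x hx).1.1
        ((hiff5 _ (hmem5 _ hxl)).1 hxl _ (himg f' hf hfd fd.symm) (hcimg (x := f') (y := B) fb)
          (hcimg (x := f') (y := C) fc)) (hsq f' hf.1)
    · intro he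
      rcases eq_or_ne e d with rfl | hed
      · exact List.mem_cons_self
      refine List.mem_cons_of_mem _ ?_
      have hde : Commute d e := he.2 d hd (Commute.refl d) cdb cdc
      set e' : ↥(loc D d) := ⟨e, mem_loc he.1.1 hed hde⟩
      have hel : (QuotientGroup.mk e' : ↥(loc D d) ⧸ Subgroup.center ↥(loc D d)) ∈ l5 := by
        refine (hiff5 _ (himg e' he.1 hed hde)).2 fun q hq hqb hqc => ?_
        obtain ⟨⟨x, hx, rfl⟩, hx1⟩ := hq
        have hxn : (x : G) ∈ nz D :=
          ⟨hx.1, fun r => hx1 (by rw [show x = 1 from Subtype.ext r, QuotientGroup.mk_one])⟩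
        exact hcimg (he.2 x hxn hx.2.2.symm (commute_lift h hx.1 hb.1 hqb (hsq x hx.1))
          (commute_lift h hx.1 hc.1 hqc (hsq x hx.1)))
      rw [← hLq] at hel
      obtain ⟨x, hx, hxe⟩ := List.mem_map.1 hel
      exact List.mem_map.2 ⟨x, hx, congrArg Subtype.val (hinj x e' (hLm x hx).1 he.1 (hLm x hx).2.1 hxe)⟩
  · intro f hf hdf
    have hcen : L.prod ∈ Subgroup.center ↥(loc D d) := by
      apply mk_eq_one.1
      show QuotientGroup.mk' _ L.prod = 1
      rw [map_list_prod, hLq, hprod5]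
    have hval : (L.map Subtype.val).prod = ((L.prod : ↥(loc D d)) : G) :=
      (map_list_prod (Subgroup.subtype (loc D d)) L).symm
    rw [List.prod_cons, hval]
    refine Commute.mul_right hdf.symm ?_
    rcases eq_or_ne f d with rfl | hfd
    · exact commute_loc (L.prod).2
    · exact commute_of_central hcen (mem_loc hf.1 hfd hdf)

theorem nz_conj (h : Pre D) (g : G) {a : G} (ha : a ∈ nz D) : g * a * g⁻¹ ∈ nz D :=
  ⟨h.conj g a ha.1, fun e => ha.2 (by simpa using e)⟩

theorem cl_conj (h : Pre D) (g a b c : G) :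
    ∀ e, e ∈ Cl D a b c → g * e * g⁻¹ ∈ Cl D (g * a * g⁻¹) (g * b * g⁻¹) (g * c * g⁻¹) := by
  intro e he
  refine ⟨nz_conj h g he.1, fun f hf fa fb fc => ?_⟩
  have hf' : g⁻¹ * f * g ∈ nz D := by simpa using nz_conj h g⁻¹ hf
  have key : ∀ x, Commute f (g * x * g⁻¹) → Commute (g⁻¹ * f * g) x := fun x r => by
    have := (Commute.conj_iff g⁻¹).2 r
    simpa [mul_assoc] using this
  have := (Commute.conj_iff g).2 (he.2 _ hf' (key a fa) (key b fb) (key c fc))
  simpa [mul_assoc] using this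

theorem six_conj (h : Pre D) (g : G) {a : G} (hs : SixAt D a) : SixAt D (g * a * g⁻¹) := by
  intro b hb c hc nab nac nbc cab cac cbc
  have hb' : g⁻¹ * b * g ∈ nz D := by simpa using nz_conj h g⁻¹ hb
  have hc' : g⁻¹ * c * g ∈ nz D := by simpa using nz_conj h g⁻¹ hc
  have eb : g * (g⁻¹ * b * g) * g⁻¹ = b := by group
  have ec : g * (g⁻¹ * c * g) * g⁻¹ = c := by group
  obtain ⟨l, hnd, hlen, hiff, hcom⟩ := hs _ hb' _ hc' (fun e => nab (by rw [e, eb])) (fun e => nac (by rw [e, ec]))
    (fun e => nbc (by rw [← eb, e, ec])) ((Commute.conj_iff g).1 (by rw [eb]; exact cab))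
    ((Commute.conj_iff g).1 (by rw [ec]; exact cac)) ((Commute.conj_iff g).1 (by rw [eb, ec]; exact cbc))
  refine ⟨l.map (fun x => g * x * g⁻¹), hnd.map (fun x y e => by simpa using e), by simpa using hlen, ?_, ?_⟩
  · intro e
    constructor
    · intro he
      obtain ⟨x, hx, rfl⟩ := List.mem_map.1 he
      have := cl_conj h g _ _ _ x ((hiff x).1 hx)
      rwa [eb, ec] at this
    · intro he
      have := cl_conj h g⁻¹ _ _ _ e he
      simp only [inv_inv] at this
      refine List.mem_map.2 ⟨g⁻¹ * e * g, (hiff _).2 ?_, by group⟩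
      rw [show g⁻¹ * (g * a * g⁻¹) * g = a by group] at this
      exact this
  · intro f hf haf
    have hf' : g⁻¹ * f * g ∈ nz D := by simpa using nz_conj h g⁻¹ hf
    have h1 := hcom _ hf' ((Commute.conj_iff g).1 (by
      rw [show g * (g⁻¹ * f * g) * g⁻¹ = f by group]; exact haf))
    have h2 := (Commute.conj_iff g).2 h1
    rw [show g * (g⁻¹ * f * g) * g⁻¹ = f by group] at h2
    have hm : (l.map (fun x => g * x * g⁻¹)).prod = g * l.prod * g⁻¹ :=
      (map_list_prod (MulAut.conj g).toMonoidHom l).symm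
    rw [hm]
    exact h2

/-- Products of commuting involutions square to one. -/
theorem prod_mul_self (l : List G) (hi : ∀ a ∈ l, a * a = 1)
    (hc : ∀ a ∈ l, ∀ b ∈ l, Commute a b) : l.prod * l.prod = 1 := by
  induction l with
  | nil => simp
  | cons a l ih =>
    have ih' := ih (fun b hb => hi b (List.mem_cons_of_mem a hb))
      fun b hb c hc' => hc b (List.mem_cons_of_mem a hb) c (List.mem_cons_of_mem a hc')
    have hca : Commute a l.prod :=
      Commute.list_prod_right _ _ fun b hb => hc a List.mem_cons_self b (List.mem_cons_of_mem a hb)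
    calc (a :: l).prod * (a :: l).prod = a * (l.prod * a) * l.prod := by rw [List.prod_cons]; group
      _ = a * (a * l.prod) * l.prod := by rw [hca.eq]
      _ = (a * a) * (l.prod * l.prod) := by group
      _ = 1 := by rw [ih', hi a List.mem_cons_self, one_mul]

/-- Without short relations two commuting lists with equal products have the same members. -/
theorem eq_of_prod_eq [DecidableEq G] {k : ℕ} (h : Pre D) (hk : NoRel k D) (l l' : List G) (hnd : l.Nodup)
    (hnd' : l'.Nodup) (hmem : ∀ a ∈ l ++ l', a ∈ nz D) (hall : ∀ a ∈ l ++ l', ∀ b ∈ l ++ l', Commute a b)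
    (hprod : l.prod = l'.prod)
    (hlen : (l.filter (fun a => decide (a ∉ l'))).length + (l'.filter (fun a => decide (a ∉ l))).length ≤ k) :
    ∀ x, x ∈ l ↔ x ∈ l' := by
  set l1 := l.filter (fun a => decide (a ∉ l')) with hl1
  set l2 := l'.filter (fun a => decide (a ∉ l)) with hl2
  set k1 := l.filter (fun a => decide (a ∈ l')) with hk1
  set k2 := l'.filter (fun a => decide (a ∈ l)) with hk2
  have p1 : (l1 ++ k1).Perm l := by
    refine (List.perm_ext_iff_of_nodup ?_ hnd).2 fun x => by simp [hl1, hk1]; tauto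
    exact List.nodup_append.2 ⟨hnd.filter _, hnd.filter _, fun x hx y hy => by
      simp [hl1, hk1] at hx hy; rintro rfl; exact hx.2 hy.2⟩
  have p2 : (l2 ++ k2).Perm l' := by
    refine (List.perm_ext_iff_of_nodup ?_ hnd').2 fun x => by simp [hl2, hk2]; tauto
    exact List.nodup_append.2 ⟨hnd'.filter _, hnd'.filter _, fun x hx y hy => by
      simp [hl2, hk2] at hx hy; rintro rfl; exact hx.2 hy.2⟩
  have p3 : k1.Perm k2 := (List.perm_ext_iff_of_nodup (hnd.filter _) (hnd'.filter _)).2 fun x => by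
    simp [hk1, hk2]; tauto
  have hpw : ∀ {s : List G}, (∀ x ∈ s, x ∈ l ++ l') → s.Pairwise Commute := fun hs =>
    List.pairwise_of_forall_mem_list fun x hx y hy => hall x (hs x hx) y (hs y hy)
  have hs1 : ∀ x ∈ l1, x ∈ l ++ l' := fun x hx => List.mem_append_left _ (List.mem_filter.1 hx).1
  have hs2 : ∀ x ∈ l2, x ∈ l ++ l' := fun x hx => List.mem_append_right _ (List.mem_filter.1 hx).1
  have e1 : l1.prod * k1.prod = l.prod := by
    rw [← List.prod_append, p1.prod_eq' (hpw fun x hx => List.mem_append_left _ (p1.subset hx))]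
  have e2 : l2.prod * k2.prod = l'.prod := by
    rw [← List.prod_append, p2.prod_eq' (hpw fun x hx => List.mem_append_right _ (p2.subset hx))]
  have e3 : k1.prod = k2.prod :=
    p3.prod_eq' (hpw fun x hx => List.mem_append_left _ (List.mem_filter.1 hx).1)
  have e4 : l1.prod = l2.prod := by
    rw [hprod, ← e2, e3] at e1
    exact mul_right_cancel e1
  have hsub : ∀ x ∈ l1 ++ l2, x ∈ l ++ l' := fun x hx => (List.mem_append.1 hx).elim (hs1 x) (hs2 x)
  have hempty : l1 ++ l2 = [] := by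
    by_contra hne
    refine hk (l1 ++ l2) hne ?_ (by rw [List.length_append]; exact hlen) (fun x hx => hmem x (hsub x hx))
      (fun x hx y hy => hall x (hsub x hx) y (hsub y hy)) ?_
    · exact List.nodup_append.2 ⟨hnd.filter _, hnd'.filter _, fun x hx y hy => by
        simp [hl1, hl2] at hx hy; rintro rfl; exact hx.2 hy.1⟩
    · rw [List.prod_append, e4]
      exact prod_mul_self l2 (fun x hx => h.invol x (hmem x (hs2 x hx)).1)
        fun x hx y hy => hall x (hs2 x hx) y (hs2 y hy)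
  obtain ⟨n1, n2⟩ := List.append_eq_nil_iff.1 hempty
  intro x
  constructor
  · intro hx
    by_contra hxn
    have : x ∈ l1 := List.mem_filter.2 ⟨hx, by simpa using hxn⟩
    simp [n1] at this
  · intro hx
    by_contra hxn
    have : x ∈ l2 := List.mem_filter.2 ⟨hx, by simpa using hxn⟩
    simp [n2] at this

/-- In a group with trivial 2-core, no other member is central among the neighbours. -/
theorem hnc_of_good [Finite G] (h : Pre D) {k : ℕ} (hg : Good k D) {d : G} (hd : d ∈ nz D) :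
    ∀ x : ↥(loc D d), (x : G) ∈ nz D → (x : G) ≠ d → x ∉ Subgroup.center ↥(loc D d) := by
  intro x hx hxd hxc
  have hH : Hyp (nz D) := by
    refine ⟨h.tset, fun g a ha => nz_conj h g ha, hg.trans, ?_⟩
    rw [eq_top_iff, ← h.gen, Subgroup.closure_le]
    intro a ha
    rcases eq_or_ne a 1 with rfl | h1
    · exact one_mem _
    · exact Subgroup.subset_closure ⟨ha, h1⟩
  have hdx : Commute d (x : G) := commute_loc x.2
  have hsub : {z | z ∈ nz D ∧ Commute d z} ⊆ {z | z ∈ nz D ∧ Commute (x : G) z} := fun z hz => ⟨hz.1, by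
    rcases eq_or_ne z d with rfl | hzd
    · exact hdx.symm
    · exact (commute_of_central hxc (mem_loc hz.1.1 hzd hz.2)).symm⟩
  have hc : {z | z ∈ nz D ∧ Commute (x : G) z}.ncard = {z | z ∈ nz D ∧ Commute d z}.ncard := by
    obtain ⟨g, hgx⟩ := hg.trans d hd x hx
    rw [← Set.ncard_image_of_injective {z | z ∈ nz D ∧ Commute d z} (MulAut.conj g).injective]
    congr 1
    ext z
    constructor
    · intro hz
      refine ⟨g⁻¹ * z * g, ⟨by simpa using nz_conj h g⁻¹ hz.1, ?_⟩, by show g * (g⁻¹ * z * g) * g⁻¹ = z; group⟩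
      refine (Commute.conj_iff g).1 ?_
      rw [hgx, show g * (g⁻¹ * z * g) * g⁻¹ = z by group]
      exact hz.2
    · rintro ⟨u, hu, rfl⟩
      exact ⟨nz_conj h g hu.1, hgx ▸ (Commute.conj_iff g).2 hu.2⟩
  have heq := Set.eq_of_subset_of_ncard_le hsub hc.le (Set.toFinite _)
  have hcore := hH.mul_mem_two_core hd hx fun z hz =>
    ⟨fun e => ((Set.ext_iff.1 heq z).1 ⟨hz, e⟩).2, fun e => ((Set.ext_iff.1 heq z).2 ⟨hz, e⟩).2⟩
  rw [hg.core, Subgroup.mem_bot, mul_eq_one_iff_eq_inv, h.inv_eq hx.1] at hcore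
  exact hxd hcore.symm

/-- If neighbourhoods of two different members generate, the six of a triple have product one. -/
theorem exists_six (hZ : Subgroup.center G = ⊥) (hsix : ∀ a ∈ nz D, SixAt D a)
    (hmax : ∀ a ∈ nz D, ∀ b ∈ nz D, a ≠ b → Commute a b →
      Subgroup.closure ({z | z ∈ nz D ∧ Commute a z} ∪ {z | z ∈ nz D ∧ Commute b z}) = ⊤)
    {a b c : G} (ha : a ∈ nz D) (hb : b ∈ nz D) (hc : c ∈ nz D) (nab : a ≠ b) (nac : a ≠ c) (nbc : b ≠ c)
    (cab : Commute a b) (cac : Commute a c) (cbc : Commute b c) :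
    ∃ l : List G, l.Nodup ∧ l.length = 6 ∧ (∀ e, e ∈ l ↔ e ∈ Cl D a b c) ∧ l.prod = 1 := by
  obtain ⟨l, hnd, hlen, hiff, hca⟩ := hsix a ha b hb c hc nab nac nbc cab cac cbc
  obtain ⟨l', hnd', -, hiff', hcb⟩ := hsix b hb a ha c hc nab.symm nbc nac cab.symm cbc cac
  have hperm : l.Perm l' := (List.perm_ext_iff_of_nodup hnd hnd').2 fun e => by rw [hiff, hiff', cl_swap]
  have heq : l.prod = l'.prod := hperm.prod_eq' (List.pairwise_of_forall_mem_list fun x hx y hy =>
    cl_commute ha hb hc cab cac cbc ((hiff x).1 hx) ((hiff y).1 hy))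
  refine ⟨l, hnd, hlen, hiff, ?_⟩
  have : l.prod ∈ Subgroup.center G := mem_center_of_gen (hmax a ha b hb nab cab) fun f hf => by
    rcases hf with hf | hf
    · exact hca f hf.1 hf.2
    · rw [heq]; exact hcb f hf.1 hf.2
  rwa [hZ, Subgroup.mem_bot] at this

end CfsgLib.Spor.Tri.Relations
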