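/-
Classes of 3-transpositions with central 2-core and 3-core: one component; primitivity of the conjugation action.
-/
import Cfsg.Agent.Lib.Spor.Tri.Applications
import Cfsg.Agent.Lib.Spor.Tri.Cores
import Cfsg.Agent.Lib.Spor.Tri.PerpConnected
import Cfsg.Prelude.Def_FischerSpaces

set_option autoImplicit false

namespace CfsgLib.Spor.Tri

open scoped commutatorElement

universe u

variable {G : Type u} [Group G] [Finite G] {D : Set G} (h : Hyp D)

section

include h

theorem Hyp.fitting_le_center (h2 : Cfsg.pCore 2 G ≤ Subgroup.center G) (h3 : Cfsg.pCore 3 G ≤ Subgroup.center G) :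
    Cfsg.fittingSubgroup G ≤ Subgroup.center G := by
  rw [CfsgLib.Coprime.fitting_eq_iSup_pCore]
  refine iSup_le fun p => ?_
  rcases Nat.lt_or_ge 3 p.1 with hp | hp
  · exact h.pCore_le_center p.2 hp
  · have := p.2.two_le
    rcases (by omega : p.1 = 2 ∨ p.1 = 3) with e' | e' <;> rw [e'] <;> assumption

theorem Hyp.centralizer_layer_le (h2 : Cfsg.pCore 2 G ≤ Subgroup.center G) (h3 : Cfsg.pCore 3 G ≤ Subgroup.center G) :
    Subgroup.centralizer (Cfsg.layer G : Set G) ≤ Subgroup.center G := by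
  intro x hx
  have hF := h.fitting_le_center h2 h3
  have hxF : x ∈ Cfsg.generalizedFittingSubgroup G := by
    refine CfsgLib.Coprime.centralizer_generalizedFitting_le ?_
    rw [Subgroup.mem_centralizer_iff]
    intro y hy
    have hle : Cfsg.generalizedFittingSubgroup G ≤ Subgroup.centralizer ({x} : Set G) := by
      refine sup_le (fun l hl => ?_) (fun l hl => ?_) <;> rw [Subgroup.mem_centralizer_singleton_iff]
      · exact Subgroup.mem_centralizer_iff.1 hx l hl
      · exact (Subgroup.mem_center_iff.1 (hF hl) x).symm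
    exact Subgroup.mem_centralizer_singleton_iff.1 (hle hy)
  have hmem : x ∈ Cfsg.generalizedFittingSubgroup G ⊓ Subgroup.centralizer (Cfsg.layer G : Set G) :=
    Subgroup.mem_inf.2 ⟨hxF, hx⟩
  rw [CfsgLib.Coprime.generalizedFitting_inf_centralizer_layer] at hmem
  exact hF hmem

theorem Hyp.centralRadical (h2 : Cfsg.pCore 2 G ≤ Subgroup.center G) (h3 : Cfsg.pCore 3 G ≤ Subgroup.center G) :
    CentralRadical G := fun N hN hs n hn => by
  refine h.centralizer_layer_le h2 h3 ?_
  haveI := hN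
  rw [Subgroup.mem_centralizer_iff]
  intro l hl
  have hc := Subgroup.commutator_mem_commutator hl hn
  rw [CfsgLib.Coprime.layer_commutator_solvable_eq_bot hs
      (by rw [Subgroup.normalizer_eq_top_iff.2 hN]; exact le_top), Subgroup.mem_bot,
    commutatorElement_eq_one_iff_commute] at hc
  exact hc

theorem Hyp.not_central (hD2 : ∃ a ∈ D, ∃ b ∈ D, a ≠ b) {d : G} (hd : d ∈ D) : d ∉ Subgroup.center G := fun hc => by
  obtain ⟨a, ha, b, hb, hab⟩ := hD2
  obtain ⟨g, hg⟩ := h.transitive d hd a ha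
  obtain ⟨k, hk⟩ := h.transitive d hd b hb
  apply hab
  rw [← hg, ← hk, Subgroup.mem_center_iff.1 hc g, mul_inv_cancel_right, Subgroup.mem_center_iff.1 hc k,
    mul_inv_cancel_right]

/-- A member normalising a subgroup, all of whose commutators with it centralise it, centralises it when perfect. -/
theorem Hyp.commute_of_central_values {K : Subgroup G} (hK : ⁅K, K⁆ = K) {d : G} (hd : d ∈ D)
    (hdK : ∀ k ∈ K, d * k * d ∈ K) (hc : ∀ l ∈ K, ∀ m ∈ K, Commute m (d * (l * d * l⁻¹))) :
    ∀ x ∈ K, Commute d x := by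
  set φ : G → G := fun l => d * (l * d * l⁻¹) with hφ
  have hmul : ∀ l ∈ K, ∀ m ∈ K, φ (l * m) = φ l * φ m := by
    intro l hl m hm
    calc φ (l * m) = d * (l * (d * (d * (m * d * m⁻¹))) * l⁻¹) := by
          simp only [hφ]; rw [← mul_assoc d d, h.mul_self hd]; group
      _ = d * (l * d * l⁻¹) * (l * φ m * l⁻¹) := by simp only [hφ]; group
      _ = φ l * φ m := by rw [(hc m hm l hl).eq, mul_inv_cancel_right]
  have hφmem : ∀ x ∈ K, φ x ∈ K := fun x hx => by
    rw [show φ x = d * x * d * x⁻¹ by simp only [hφ]; group]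
    exact mul_mem (hdK x hx) (inv_mem hx)
  have hle : ⁅K, K⁆ ≤
      (⟨⟨⟨{x | x ∈ K ∧ Commute d x}, fun hx hy => ⟨mul_mem hx.1 hy.1, hx.2.mul_right hy.2⟩⟩,
        ⟨one_mem _, Commute.one_right d⟩⟩, fun hx => ⟨inv_mem hx.1, hx.2.inv_right⟩⟩ : Subgroup G) := by
    rw [Subgroup.commutator_le]
    intro l hl m hm
    have hlm : ⁅l, m⁆ ∈ K := mul_mem (mul_mem (mul_mem hl hm) (inv_mem hl)) (inv_mem hm)
    refine ⟨hlm, ?_⟩
    have hcomm : φ l * φ m = φ m * φ l := (hc m hm _ (hφmem l hl)).eq
    have h1 : φ (⁅l, m⁆ * (m * l)) = φ (m * l) := by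
      rw [show ⁅l, m⁆ * (m * l) = l * m by rw [commutatorElement_def]; group, hmul l hl m hm, hmul m hm l hl, hcomm]
    rw [hmul _ hlm _ (mul_mem hm hl)] at h1
    have h2 : d * (⁅l, m⁆ * d * ⁅l, m⁆⁻¹) = 1 := mul_eq_right.1 h1
    have h3 := eq_inv_of_mul_eq_one_right h2
    rw [h.inv_eq hd, mul_inv_eq_iff_eq_mul] at h3
    exact h3.symm
  intro x hx
  rw [← hK] at hx
  exact (hle hx).2

theorem Hyp.mem_normalizer_of_conj {K : Subgroup G} {d : G} (hd : d ∈ D) (hK : ∀ k ∈ K, d * k * d ∈ K) :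
    d ∈ Subgroup.normalizer (K : Set G) := by
  rw [Subgroup.mem_normalizer_iff]
  intro x
  rw [h.inv_eq hd]
  refine ⟨hK x, fun hx => ?_⟩
  have := hK _ hx
  rwa [show d * (d * x * d) * d = (d * d) * x * (d * d) by group, h.mul_self hd, one_mul, mul_one] at this

/-- A member normalises every component. -/
theorem Hyp.mem_normalizer_component {K : Subgroup G} (hK : Cfsg.IsComponent K) {d : G} (hd : d ∈ D) :
    d ∈ Subgroup.normalizer (K : Set G) := by
  have hK' : Cfsg.IsComponent (K.map (MulAut.conj d).toMonoidHom) := CfsgLib.Coprime.isComponent_map_equiv _ hK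
  by_cases he : K.map (MulAut.conj d).toMonoidHom = K
  · refine h.mem_normalizer_of_conj hd fun k hk => ?_
    have : d * k * d⁻¹ ∈ K.map (MulAut.conj d).toMonoidHom := ⟨k, hk, rfl⟩
    rwa [he, h.inv_eq hd] at this
  exfalso
  have hcomm : ∀ k ∈ K, ∀ l ∈ K, Commute l (d * k * d) := fun k hk l hl => by
    have hmem : d * k * d ∈ K.map (MulAut.conj d).toMonoidHom := ⟨k, hk, by simp [h.inv_eq hd]⟩
    have hc := Subgroup.commutator_mem_commutator hl hmem
    rw [CfsgLib.Coprime.components_commute hK hK' (Ne.symm he), Subgroup.mem_bot,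
      commutatorElement_eq_one_iff_commute] at hc
    exact hc
  have hcen : ∀ k : K, k ^ 2 ∈ Subgroup.center K ∨ k ^ 3 ∈ Subgroup.center K := by
    intro k
    have hcase : ∀ n : ℕ, (d * ((k : G) * d * (k : G)⁻¹)) ^ n = 1 → k ^ n ∈ Subgroup.center K := by
      intro n hn
      rw [show d * ((k : G) * d * (k : G)⁻¹) = d * k * d * (k : G)⁻¹ by group,
        ((hcomm k k.2 _ (inv_mem k.2)).symm).mul_pow, inv_pow] at hn
      rw [Subgroup.mem_center_iff]
      intro l
      refine Subtype.ext ?_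
      show (l : G) * ((k ^ n : K) : G) = ((k ^ n : K) : G) * l
      rw [SubmonoidClass.coe_pow, show (k : G) ^ n = (d * k * d) ^ n from (mul_inv_eq_one.1 hn).symm]
      exact ((hcomm k k.2 l l.2).pow_right n).eq
    rcases h.set.2 d hd _ (h.conj k d hd) with e | e
    · exact Or.inl (hcase 2 e)
    · exact Or.inr (hcase 3 e)
  haveI := hK.2.2
  have hsol : Group.IsSolvable (↥K ⧸ Subgroup.center ↥K) := by
    obtain ⟨a, b, hab⟩ := Nat.two_three_of_primes (Nat.card (↥K ⧸ Subgroup.center ↥K)) Nat.card_pos.ne' fun p hp hdvd => by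
      haveI : Fact p.Prime := ⟨hp⟩
      obtain ⟨q, hq⟩ := exists_prime_orderOf_dvd_card' p hdvd
      obtain ⟨k, rfl⟩ := QuotientGroup.mk_surjective q
      rcases hcen k with e | e <;> rw [← QuotientGroup.eq_one_iff, QuotientGroup.mk_pow] at e <;>
        have hd := orderOf_dvd_of_pow_eq_one e <;> rw [hq] at hd
      · exact Or.inl ((Nat.prime_dvd_prime_iff_eq hp Nat.prime_two).1 hd)
      · exact Or.inr ((Nat.prime_dvd_prime_iff_eq hp Nat.prime_three).1 hd)
    exact CfsgLib.Char.isSolvable_of_card_two_primes Nat.prime_two Nat.prime_three _ a b hab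
  haveI := hsol
  haveI : Group.IsSolvable (Subgroup.center ↥K) := Group.isSolvable_of_comm fun a b => setLike_mul_comm a.2 b.2 |> Subtype.ext
  exact CfsgLib.Coprime.not_isSolvable_of_isComponent hK
    (Group.isSolvable_of_ker_le_range (Subgroup.center ↥K).subtype (QuotientGroup.mk' (Subgroup.center ↥K))
      (by simp [QuotientGroup.ker_mk']))

theorem Hyp.component_normal {K : Subgroup G} (hK : Cfsg.IsComponent K) : K.Normal := by
  rw [← Subgroup.normalizer_eq_top_iff, eq_top_iff, ← h.gen, Subgroup.closure_le]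
  exact fun d hd => h.mem_normalizer_component hK hd

theorem Hyp.conj_mem_component {K : Subgroup G} (hK : Cfsg.IsComponent K) {d k : G} (hd : d ∈ D) (hk : k ∈ K) :
    d * k * d ∈ K := by
  have := (h.component_normal hK).conj_mem k hk d
  rwa [h.inv_eq hd] at this

/-- No member centralises a component. -/
theorem Hyp.not_centralize_component {K : Subgroup G} (hK : Cfsg.IsComponent K) {d : G} (hd : d ∈ D) :
    ¬ ∀ x ∈ K, Commute d x := fun hall => by
  have hle : K ≤ Subgroup.center G := h.le_center_of_commute fun e he x hx => by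
    obtain ⟨g, rfl⟩ := h.transitive d hd e he
    have := (Commute.conj_iff g).2 (hall _ ((h.component_normal hK).conj_mem x hx g⁻¹))
    rwa [show g * (g⁻¹ * x * g⁻¹⁻¹) * g⁻¹ = x by group] at this
  exact CfsgLib.Coprime.not_isSolvable_of_isComponent hK
    (Group.isSolvable_of_comm fun a b => Subtype.ext (Subgroup.mem_center_iff.1 (hle b.2) a))

/-- In each component a member has both a commuting and a non-commuting conjugate. -/
theorem Hyp.exists_component_values {K : Subgroup G} (hK : Cfsg.IsComponent K) {d : G} (hd : d ∈ D) :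
    (∃ k ∈ K, k * d * k⁻¹ ≠ d ∧ Commute d (k * d * k⁻¹)) ∧ ∃ k ∈ K, ¬ Commute d (k * d * k⁻¹) := by
  have hperf := CfsgLib.Coprime.commutator_self_of_isComponent hK
  have hdK : ∀ k ∈ K, d * k * d ∈ K := fun k hk => h.conj_mem_component hK hd hk
  have hφ : ∀ l ∈ K, d * (l * d * l⁻¹) ∈ K := fun l hl => by
    rw [show d * (l * d * l⁻¹) = d * l * d * l⁻¹ by group]
    exact mul_mem (hdK l hl) (inv_mem hl)
  refine ⟨?_, ?_⟩
  · by_contra hno
    push Not at hno
    -- the products lie in a normal 3-subgroup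
    let H := K ⊔ Subgroup.zpowers d
    have hKn := h.component_normal hK
    haveI : Fact (Nat.Prime 3) := ⟨Nat.prime_three⟩
    let dH : H := ⟨d, le_sup_right (a := K) (Subgroup.mem_zpowers d)⟩
    have hall : ∀ g : H, ∃ k : ℕ, orderOf (dH * (g * dH * g⁻¹)) = 3 ^ k := by
      intro g
      obtain ⟨k, hk, z, hz, hg⟩ : ∃ k ∈ K, ∃ z ∈ Subgroup.zpowers d, k * z = (g : G) := by
        have hgm : (g : G) ∈ Subgroup.zpowers d ⊔ K := by rw [sup_comm]; exact g.2
        haveI := hKn
        obtain ⟨z, hz, k, hk, e⟩ := Subgroup.mem_sup_of_normal_right.1 hgm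
        exact ⟨z * k * z⁻¹, hKn.conj_mem k hk z, z, hz, by rw [← e]; group⟩
      have hzd : Commute z d := by
        obtain ⟨i, rfl⟩ := Subgroup.mem_zpowers_iff.1 hz
        exact (Commute.refl d).zpow_left i
      rw [← Subgroup.orderOf_coe]
      show ∃ j : ℕ, orderOf (d * ((g : G) * d * (g : G)⁻¹)) = 3 ^ j
      rw [← hg, show k * z * d * (k * z)⁻¹ = k * (z * d * z⁻¹) * k⁻¹ by group, hzd.eq, mul_inv_cancel_right]
      by_cases e : k * d * k⁻¹ = d
      · exact ⟨0, by rw [e, h.mul_self hd, orderOf_one, pow_zero]⟩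
      · obtain ⟨j, -, hj⟩ := (Nat.dvd_prime_pow Nat.prime_three).1 ((orderOf_dvd_of_pow_eq_one
          (h.cube hd (h.conj k d hd) (hno k hk e))).trans (dvd_of_eq (pow_one 3).symm))
        exact ⟨j, hj⟩
    haveI := CfsgLib.Coprime.pCore_normal' (G := H) 3
    haveI := (CfsgLib.Coprime.pCore_isPGroup (G := H) 3).isNilpotent
    let R := (Cfsg.pCore 3 H).map H.subtype
    have hR : Group.IsSolvable R :=
      Group.isSolvable_of_surjective (f := ((Subgroup.equivMapOfInjective (Cfsg.pCore 3 H) H.subtype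
        H.subtype_injective)).toMonoidHom) (MulEquiv.surjective _)
    have hnorm : K ≤ Subgroup.normalizer (R : Set G) := by
      intro x hx
      rw [Subgroup.mem_normalizer_iff]
      intro y
      have hxH : x ∈ H := le_sup_left (b := Subgroup.zpowers d) hx
      constructor
      · rintro ⟨r, hr, rfl⟩
        exact ⟨_, (CfsgLib.Coprime.pCore_normal' (G := H) 3).conj_mem r hr ⟨x, hxH⟩, rfl⟩
      · rintro ⟨r, hr, e⟩
        refine ⟨_, (CfsgLib.Coprime.pCore_normal' (G := H) 3).conj_mem r hr ⟨x, hxH⟩⁻¹, ?_⟩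
        show x⁻¹ * (r : G) * x⁻¹⁻¹ = y
        rw [show (r : G) = x * y * x⁻¹ from e]; group
    have hcR := CfsgLib.Coprime.component_commutator_solvable_eq_bot hK hR hnorm
    refine h.not_centralize_component hK hd (h.commute_of_central_values hperf hd hdK fun l hl m hm => ?_)
    have hmem : d * (l * d * l⁻¹) ∈ R :=
      ⟨_, CfsgLib.Invol.mul_conj_mem_pCore Nat.prime_three (by norm_num)
        (d := dH) (by rw [← Subgroup.orderOf_coe]; exact h.set.1 d hd) hall ⟨l, le_sup_left (b := Subgroup.zpowers d) hl⟩,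
        rfl⟩
    have := Subgroup.commutator_mem_commutator hm hmem
    rwa [hcR, Subgroup.mem_bot, commutatorElement_eq_one_iff_commute] at this
  · by_contra hno
    push Not at hno
    have hcc : ∀ l ∈ K, ∀ m ∈ K, Commute (l * d * l⁻¹) (m * d * m⁻¹) := by
      intro l hl m hm
      have := (Commute.conj_iff l).2 (hno _ (mul_mem (inv_mem hl) hm))
      rwa [show l * (l⁻¹ * m * d * (l⁻¹ * m)⁻¹) * l⁻¹ = m * d * m⁻¹ by group] at this
    let A := Subgroup.closure {z | ∃ l ∈ K, z = d * (l * d * l⁻¹)}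
    haveI hA : IsMulCommutative A := Subgroup.isMulCommutative_closure (by
      rintro _ ⟨l, hl, rfl⟩ _ ⟨m, hm, rfl⟩
      exact ((Commute.refl d).mul_right (hno m hm)).mul_left ((hno l hl).symm.mul_right (hcc l hl m hm)))
    have hnorm : K ≤ Subgroup.normalizer (A : Set G) := by
      intro m hm
      refine normalizer_closure_of_conj ?_
      rintro _ ⟨l, hl, rfl⟩
      rw [show m * (d * (l * d * l⁻¹)) * m⁻¹ = (d * (m * d * m⁻¹))⁻¹ * (d * (m * l * d * (m * l)⁻¹)) by
        calc _ = m * (d⁻¹ * (l * d * l⁻¹)) * m⁻¹ := by rw [h.inv_eq hd]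
          _ = _ := by group]
      exact mul_mem (inv_mem (Subgroup.subset_closure ⟨m, hm, rfl⟩))
        (Subgroup.subset_closure ⟨m * l, mul_mem hm hl, rfl⟩)
    have hcA := CfsgLib.Coprime.component_commutator_solvable_eq_bot hK
      (Group.isSolvable_of_comm fun a b => Subtype.ext (setLike_mul_comm (s := A) a.2 b.2)) hnorm
    refine h.not_centralize_component hK hd (h.commute_of_central_values hperf hd hdK fun l hl m hm => ?_)
    have := Subgroup.commutator_mem_commutator hm
      (show d * (l * d * l⁻¹) ∈ A from Subgroup.subset_closure ⟨l, hl, rfl⟩)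
    rwa [hcA, Subgroup.mem_bot, commutatorElement_eq_one_iff_commute] at this

theorem Hyp.component_unique {K K' : Subgroup G} (hK : Cfsg.IsComponent K) (hK' : Cfsg.IsComponent K')
    {d : G} (hd : d ∈ D) : K = K' := by
  by_contra hne
  obtain ⟨⟨k, hk, hkd, hkc⟩, -⟩ := h.exists_component_values hK hd
  obtain ⟨-, m, hm, hmc⟩ := h.exists_component_values hK' hd
  have hc : ∀ x ∈ K, ∀ y ∈ K', Commute x y := fun x hx y hy => by
    have := Subgroup.commutator_mem_commutator hx hy
    rwa [CfsgLib.Coprime.components_commute hK hK' hne, Subgroup.mem_bot,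
      commutatorElement_eq_one_iff_commute] at this
  set e1 := d * (k * d * k⁻¹) with he1
  set e2 := d * (m * d * m⁻¹) with he2
  have m1 : e1 ∈ K := by
    rw [show e1 = d * k * d * k⁻¹ by rw [he1]; group]; exact mul_mem (h.conj_mem_component hK hd hk) (inv_mem hk)
  have m2 : e2 ∈ K' := by
    rw [show e2 = d * m * d * m⁻¹ by rw [he2]; group]; exact mul_mem (h.conj_mem_component hK' hd hm) (inv_mem hm)
  have o1 : e1 ^ 2 = 1 := (h.commute_iff_sq hd (h.conj k d hd)).1 hkc
  have o2 : e2 ^ 3 = 1 := h.cube hd (h.conj m d hd) hmc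
  have n1 : e1 ≠ 1 := fun e => hkd (by rw [eq_inv_of_mul_eq_one_right e, h.inv_eq hd])
  have n2 : e2 ≠ 1 := fun e => hmc (by rw [eq_inv_of_mul_eq_one_right e, h.inv_eq hd])
  have hprod : d * (m * k * d * (m * k)⁻¹) = e2 * e1 := by
    have hmk : m * e1 * m⁻¹ = e1 := by rw [← (hc e1 m1 m hm).eq, mul_inv_cancel_right]
    calc d * (m * k * d * (m * k)⁻¹) = d * (m * (d * d) * (k * d * k⁻¹) * m⁻¹) := by rw [h.mul_self hd]; group
      _ = e2 * (m * e1 * m⁻¹) := by simp only [he1, he2]; group
      _ = e2 * e1 := by rw [hmk]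
  have hcom : Commute e2 e1 := (hc e1 m1 e2 m2).symm
  rcases h.set.2 d hd _ (h.conj (m * k) d hd) with e | e <;> rw [hprod, hcom.mul_pow] at e
  · rw [o1, mul_one] at e
    apply n2
    rw [← o2, pow_succ, e, one_mul]
  · rw [o2, one_mul] at e
    apply n1
    rw [← e, pow_succ, o1, one_mul]

theorem Hyp.layer_isComponent (hD2 : ∃ a ∈ D, ∃ b ∈ D, a ≠ b) (h2 : Cfsg.pCore 2 G ≤ Subgroup.center G)
    (h3 : Cfsg.pCore 3 G ≤ Subgroup.center G) : Cfsg.IsComponent (Cfsg.layer G) := by
  obtain ⟨d, hd, -⟩ := id hD2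
  obtain ⟨K, hK⟩ : ∃ K : Subgroup G, Cfsg.IsComponent K := by
    by_contra hno
    push Not at hno
    refine h.layer_ne_bot hD2 h2 h3 ?_
    rw [Cfsg.layer, sSup_eq_bot]
    exact fun K hK => absurd hK (hno K)
  have e : Cfsg.layer G = K := le_antisymm (sSup_le fun K' hK' => (h.component_unique hK' hK hd).le)
    (CfsgLib.Coprime.component_le_layer hK)
  rw [e]; exact hK

theorem Hyp.eq_layer (hD2 : ∃ a ∈ D, ∃ b ∈ D, a ≠ b) (h2 : Cfsg.pCore 2 G ≤ Subgroup.center G)
    (h3 : Cfsg.pCore 3 G ≤ Subgroup.center G) {L : Subgroup G} [L.Normal] (hL : Cfsg.IsQuasisimple L) :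
    L = Cfsg.layer G := by
  obtain ⟨d, hd, -⟩ := id hD2
  exact h.component_unique ⟨Subgroup.Normal.isSubnormal inferInstance, hL⟩ (h.layer_isComponent hD2 h2 h3) hd

theorem Hyp.generalizedFitting_eq (h2 : Cfsg.pCore 2 G ≤ Subgroup.center G)
    (h3 : Cfsg.pCore 3 G ≤ Subgroup.center G) :
    Cfsg.generalizedFittingSubgroup G = Cfsg.layer G ⊔ Subgroup.center G := by
  refine le_antisymm (sup_le_sup_left (h.fitting_le_center h2 h3) _) (sup_le_sup_left ?_ _)
  haveI : Group.IsNilpotent (Subgroup.center G) :=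
    letI : CommGroup (Subgroup.center G) :=
      { (inferInstance : Group (Subgroup.center G)) with mul_comm := fun x y => Subtype.ext (Subgroup.mem_center_iff.1 y.2 x) }
    inferInstance
  intro z hz
  exact CfsgLib.Coprime.le_fitting_of_isSubnormal (Subgroup.Normal.isSubnormal inferInstance) inferInstance hz

/-- Members whose commutator lies in the layer are congruent modulo it. -/
theorem Hyp.mul_mem_layer (hD2 : ∃ a ∈ D, ∃ b ∈ D, a ≠ b) (h2 : Cfsg.pCore 2 G ≤ Subgroup.center G)
    (h3 : Cfsg.pCore 3 G ≤ Subgroup.center G) {a b : G} (ha : a ∈ D) (hb : b ∈ D)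
    (hc : a * b * a⁻¹ * b⁻¹ ∈ Cfsg.layer G) : a * b ∈ Cfsg.layer G := by
  have hLc := h.layer_isComponent hD2 h2 h3
  haveI hLn := CfsgLib.Coprime.layer_normal (G := G)
  rw [h.inv_eq ha, h.inv_eq hb] at hc
  have hsq : (a * b) ^ 2 ∈ Cfsg.layer G := by rw [pow_two, ← mul_assoc]; exact hc
  by_cases hab : Commute a b
  swap
  · have h3' := h.cube ha hb hab
    have e : a * b = ((a * b) ^ 2) ^ 2 := by rw [← pow_mul, pow_succ, h3', one_mul]
    rw [e]; exact pow_mem hsq 2
  by_contra hno
  set f := QuotientGroup.mk' (Cfsg.layer G)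
  have hf : ∀ l ∈ Cfsg.layer G, f l = 1 := fun l hl => (QuotientGroup.eq_one_iff l).2 hl
  have hall : ∀ l ∈ Cfsg.layer G, Commute (l * a * l⁻¹) b := by
    intro l hl
    by_contra hn
    apply hno
    have e1 : f (l * a * l⁻¹ * b) = f (a * b) := by simp [map_mul, map_inv, hf l hl]
    have e2 := h.cube (h.conj l a ha) hb hn
    have e3 : f (a * b) ^ 3 = 1 := by rw [← e1, ← map_pow, e2, map_one]
    have e4 : f (a * b) ^ 2 = 1 := by rw [← map_pow]; exact hf _ hsq
    rw [pow_succ, e4, one_mul] at e3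
    exact (QuotientGroup.eq_one_iff _).1 e3
  let M := Subgroup.closure {z | ∃ l ∈ Cfsg.layer G, z = a * (l * a * l⁻¹)}
  have hMle : M ≤ Cfsg.layer G := by
    rw [Subgroup.closure_le]
    rintro _ ⟨l, hl, rfl⟩
    rw [show a * (l * a * l⁻¹) = a * l * a * l⁻¹ by group]
    exact mul_mem (h.conj_mem_component hLc ha hl) (inv_mem hl)
  have hnorm : Cfsg.layer G ≤ Subgroup.normalizer (M : Set G) := by
    intro m hm
    refine normalizer_closure_of_conj ?_
    rintro _ ⟨l, hl, rfl⟩
    rw [show m * (a * (l * a * l⁻¹)) * m⁻¹ = (a * (m * a * m⁻¹))⁻¹ * (a * (m * l * a * (m * l)⁻¹)) by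
      calc _ = m * (a⁻¹ * (l * a * l⁻¹)) * m⁻¹ := by rw [h.inv_eq ha]
        _ = _ := by group]
    exact mul_mem (inv_mem (Subgroup.subset_closure ⟨m, hm, rfl⟩))
      (Subgroup.subset_closure ⟨m * l, mul_mem hm hl, rfl⟩)
  haveI : (M.subgroupOf (Cfsg.layer G)).Normal := Subgroup.normal_subgroupOf_of_le_normalizer hnorm
  have hMb : M ≤ Subgroup.centralizer ({b} : Set G) := by
    rw [Subgroup.closure_le]
    rintro _ ⟨l, hl, rfl⟩
    rw [SetLike.mem_coe, Subgroup.mem_centralizer_singleton_iff]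
    exact (hab.mul_left (hall l hl)).eq
  rcases CfsgLib.Coprime.subnormal_eq_top_or_le_center hLc.2 (Subgroup.Normal.isSubnormal (inferInstance :
      (M.subgroupOf (Cfsg.layer G)).Normal)) with e | e
  · refine h.not_centralize_component hLc hb fun x hx => ?_
    exact (Subgroup.mem_centralizer_singleton_iff.1 (hMb (Subgroup.subgroupOf_eq_top.1 e hx))).symm
  · refine h.not_centralize_component hLc ha (h.commute_of_central_values
      (CfsgLib.Coprime.commutator_self_of_isComponent hLc) ha (fun k hk => h.conj_mem_component hLc ha hk)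
      fun l hl m hm => ?_)
    exact Subgroup.mem_centralizer_iff.1 (CfsgLib.Coprime.subgroupOf_le_center hMle e
      (Subgroup.subset_closure ⟨l, hl, rfl⟩)) m hm

theorem Hyp.layer_index_le (hD2 : ∃ a ∈ D, ∃ b ∈ D, a ≠ b) (h2 : Cfsg.pCore 2 G ≤ Subgroup.center G)
    (h3 : Cfsg.pCore 3 G ≤ Subgroup.center G) (hconn : ∀ a ∈ D, ∀ b ∈ D, Relation.ReflTransGen (CAdj D) a b) :
    (Cfsg.layer G).index ≤ 2 := by
  haveI hLn := CfsgLib.Coprime.layer_normal (G := G)
  obtain ⟨d, hd, -⟩ := id hD2
  set f := QuotientGroup.mk' (Cfsg.layer G)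
  have hsame : ∀ x ∈ D, f x = f d := by
    intro x hx
    have hr := hconn d hd x hx
    induction hr with
    | refl => rfl
    | tail _ hpq ih =>
      rw [← ih hpq.1]
      have hm := h.mul_mem_layer hD2 h2 h3 hpq.2.1 hpq.1 (by
        rw [hpq.2.2.symm.eq, mul_inv_cancel_right, mul_inv_cancel]; exact one_mem _)
      have hm' : f (_ * _) = 1 := (QuotientGroup.eq_one_iff _).2 hm
      rw [map_mul] at hm'
      rw [eq_inv_of_mul_eq_one_left hm', ← map_inv, h.inv_eq hpq.1]
  have hgen : ∀ q, q ∈ Subgroup.zpowers (f d) := by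
    intro q
    obtain ⟨g, rfl⟩ := QuotientGroup.mk'_surjective _ q
    have hle : Subgroup.closure D ≤ (Subgroup.zpowers (f d)).comap f := by
      rw [Subgroup.closure_le]
      intro x hx
      show f x ∈ Subgroup.zpowers (f d)
      rw [hsame x hx]; exact Subgroup.mem_zpowers _
    exact hle (h.gen ▸ Subgroup.mem_top g)
  rw [Subgroup.index, ← orderOf_eq_card_of_forall_mem_zpowers hgen]
  exact orderOf_le_of_pow_eq_one two_pos (by rw [← map_pow, pow_two, h.mul_self hd, map_one])

theorem Hyp.commutator_eq_layer (hidx : (Cfsg.layer G).index ≤ 2) : commutator G = Cfsg.layer G := by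
  haveI hLn := CfsgLib.Coprime.layer_normal (G := G)
  refine le_antisymm ?_ ?_
  · haveI : IsCyclic (G ⧸ Cfsg.layer G) := by
      have hpos : 0 < (Cfsg.layer G).index := Nat.pos_of_ne_zero Subgroup.index_ne_zero_of_finite
      rcases (by omega : (Cfsg.layer G).index = 1 ∨ (Cfsg.layer G).index = 2) with e | e
      · haveI : Subsingleton (G ⧸ Cfsg.layer G) := (Nat.card_eq_one_iff_unique.1 e).1
        exact isCyclic_of_subsingleton
      · haveI : Fact (Nat.Prime 2) := ⟨Nat.prime_two⟩
        exact isCyclic_of_prime_card e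
    rw [_root_.commutator_def, Subgroup.commutator_le]
    intro x _ y _
    rw [← QuotientGroup.eq_one_iff]
    show QuotientGroup.mk' (Cfsg.layer G) ⁅x, y⁆ = 1
    rw [map_commutatorElement, commutatorElement_eq_one_iff_mul_comm]
    exact IsMulCommutative.is_comm.comm _ _
  · conv_lhs => rw [← CfsgLib.Coprime.layer_isPerfect]
    rw [_root_.commutator_def]
    exact Subgroup.commutator_mono le_top le_top

theorem Hyp.primitive_of_index (hD2 : ∃ a ∈ D, ∃ b ∈ D, a ≠ b) (h2 : Cfsg.pCore 2 G ≤ Subgroup.center G)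
    (h3 : Cfsg.pCore 3 G ≤ Subgroup.center G) (hidx : (Cfsg.layer G).index ≤ 2) : Cfsg.IsPrimitiveUnderConj D := by
  refine ⟨h.transitive, hD2, fun B hB hblk => ?_⟩
  by_contra hno
  push Not at hno
  obtain ⟨hns, hBD⟩ := hno
  obtain ⟨a, haB, b, hbB, hab⟩ := hns
  let tr : G → Set G → Set G := fun g S => (fun x => g * x * g⁻¹) '' S
  have trmul : ∀ g k S, tr (g * k) S = tr g (tr k S) := fun g k S => by
    simp only [tr, Set.image_image]; congr 1; funext x; group
  have trone : ∀ S, tr 1 S = S := fun S => by simp [tr]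
  have hmeet : ∀ g k x, x ∈ tr g B → x ∈ tr k B → tr g B = tr k B := by
    intro g k x hg hk
    have hgk : tr (k⁻¹ * g) B = B := by
      refine (hblk (k⁻¹ * g)).resolve_right fun hdis => ?_
      obtain ⟨y, hy, rfl⟩ := hk
      refine Set.disjoint_left.1 hdis ?_ hy
      show y ∈ tr (k⁻¹ * g) B
      rw [trmul]
      exact ⟨_, hg, by group⟩
    conv_rhs => rw [← hgk]
    rw [← trmul, mul_inv_cancel_left]
  let S : Subgroup G :=
    { carrier := {g | tr g B = B}
      one_mem' := trone B
      mul_mem' := fun {g k} hg hk => by show tr (g * k) B = B; rw [trmul, show tr k B = B from hk]; exact hg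
      inv_mem' := fun {g} hg => by
        show tr g⁻¹ B = B
        conv_lhs => rw [← show tr g B = B from hg]
        rw [← trmul, inv_mul_cancel, trone] }
  have hfix : ∀ c ∈ B, tr c B = B := fun c hc => (hblk c).resolve_right fun hdis =>
    Set.disjoint_left.1 hdis ⟨c, hc, by group⟩ hc
  have haD := hB haB
  have hbD := hB hbB
  have key : ∀ g, tr (a * g) B = tr (b * g) B := by
    intro g
    set x := g * a * g⁻¹ with hx
    have hxD : x ∈ D := h.conj g a haD
    have hxX : x ∈ tr g B := ⟨a, haB, rfl⟩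
    have comm_case : ∀ c ∈ B, Commute c x → tr (c * g) B = tr g B := fun c _ hc =>
      hmeet _ _ x (by rw [trmul]; exact ⟨x, hxX, by show c * x * c⁻¹ = x; rw [hc.eq, mul_inv_cancel_right]⟩) hxX
    have non_case : ∀ c ∈ B, ¬ Commute c x → tr (c * g) B = tr x B := fun c hc hn =>
      hmeet _ _ (c * x * c⁻¹) (by rw [trmul]; exact ⟨x, hxX, rfl⟩)
        ⟨c, hc, by show x * c * x⁻¹ = c * x * c⁻¹; rw [h.inv_eq hxD, h.inv_eq (hB hc), h.braid (hB hc) hxD hn]⟩
    have mixed : ∀ c ∈ B, ∀ e ∈ B, Commute e x → ¬ Commute c x → tr (c * g) B = tr (e * g) B := by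
      intro c hc e he hex hcx
      have hxB : tr x B = B := hmeet x 1 e ⟨e, he, by show x * e * x⁻¹ = e; rw [← hex.eq, mul_inv_cancel_right]⟩
        (by rw [trone]; exact he) |>.trans (trone B)
      have hg : tr g B = B := by
        have e1 : tr c (tr g B) = B := by rw [← trmul, non_case c hc hcx, hxB]
        calc tr g B = tr c⁻¹ (tr c (tr g B)) := by rw [← trmul, inv_mul_cancel, trone]
          _ = tr c⁻¹ B := by rw [e1]
          _ = B := S.inv_mem (hfix c hc)
      rw [trmul, trmul, hg, hfix c hc, hfix e he]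
    by_cases hax : Commute a x <;> by_cases hbx : Commute b x
    · rw [comm_case a haB hax, comm_case b hbB hbx]
    · exact (mixed b hbB a haB hax hbx).symm
    · exact mixed a haB b hbB hbx hax
    · rw [non_case a haB hax, non_case b hbB hbx]
  have habN : b * a ∈ S.normalCore := by
    intro g
    show tr (g * (b * a) * g⁻¹) B = B
    rw [show g * (b * a) * g⁻¹ = g * b * (a * g⁻¹) by group, trmul, key g⁻¹, ← trmul,
      show g * b * (b * g⁻¹) = g * (b * b) * g⁻¹ by group, h.mul_self hbD, mul_one, mul_inv_cancel, trone]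
  have hLc := h.layer_isComponent hD2 h2 h3
  rcases CfsgLib.Coprime.component_le_or_commutator_eq_bot hLc
      (Subgroup.Normal.isSubnormal (inferInstance : S.normalCore.Normal)) with e | e
  · apply hBD
    have hS : S = ⊤ := by
      have haS : a ∈ S := hfix a haB
      have hLS : Cfsg.layer G ≤ S := le_trans e S.normalCore_le
      haveI hLn := CfsgLib.Coprime.layer_normal (G := G)
      by_cases haL : a ∈ Cfsg.layer G
      · rw [eq_top_iff, ← h.gen, Subgroup.closure_le]
        intro y hy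
        obtain ⟨g, rfl⟩ := h.transitive a haD y hy
        exact hLS (hLn.conj_mem a haL g)
      · have hidx2 := Subgroup.index_dvd_of_le hLS
        have hne : S.index ≠ (Cfsg.layer G).index := fun e' => by
          have := Subgroup.relIndex_mul_index hLS
          rw [e'] at this
          have h1 : (Cfsg.layer G).relIndex S = 1 :=
            Nat.eq_of_mul_eq_mul_right (Nat.pos_of_ne_zero Subgroup.index_ne_zero_of_finite) (this.trans (one_mul _).symm)
          exact haL (Subgroup.relIndex_eq_one.1 h1 haS)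
        rw [← Subgroup.index_eq_one]
        have h1 := Nat.le_of_dvd (Nat.pos_of_ne_zero Subgroup.index_ne_zero_of_finite) hidx2
        have h2' : 0 < S.index := Nat.pos_of_ne_zero Subgroup.index_ne_zero_of_finite
        omega
    refine Set.Subset.antisymm hB fun y hy => ?_
    obtain ⟨g, rfl⟩ := h.transitive a haD y hy
    have hg : tr g B = B := show g ∈ S from hS ▸ Subgroup.mem_top g
    rw [← hg]; exact ⟨a, haB, rfl⟩
  · refine hab (h.eq_of_central hbD haD (h.centralizer_layer_le h2 h3 ?_)).symm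
    rw [Subgroup.mem_centralizer_iff]
    intro l hl
    have := Subgroup.commutator_mem_commutator hl habN
    rwa [e, Subgroup.mem_bot, commutatorElement_eq_one_iff_commute] at this

end

theorem connected_iff_reach {D : Set G} (hne : D.Nonempty) :
    (Cfsg.commutingGraph D).Connected ↔ ∀ a ∈ D, ∀ b ∈ D, Relation.ReflTransGen (CAdj D) a b := by
  constructor
  · intro hc a ha b hb
    obtain ⟨w⟩ := hc.preconnected ⟨a, ha⟩ ⟨b, hb⟩
    suffices ∀ x y : D, (Cfsg.commutingGraph D).Walk x y → Relation.ReflTransGen (CAdj D) (x : G) y from this _ _ w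
    intro x y w
    induction w with
    | nil => exact Relation.ReflTransGen.refl
    | cons hadj _ ih =>
      refine Relation.ReflTransGen.head ⟨Subtype.prop _, Subtype.prop _, ?_⟩ ih
      rcases ((SimpleGraph.fromRel_adj _ _ _).1 hadj).2 with e | e
      · exact e
      · exact e.symm
  · intro hr
    haveI : Nonempty D := hne.to_subtype
    refine ⟨fun a b => ?_⟩
    suffices ∀ y, Relation.ReflTransGen (CAdj D) (a : G) y → ∀ hy : y ∈ D, (Cfsg.commutingGraph D).Reachable a ⟨y, hy⟩ from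
      this b (hr a a.2 b b.2) b.2
    intro y hy
    induction hy with
    | refl => intro _; exact SimpleGraph.Reachable.refl _
    | @tail p q _ hpq ih =>
      intro hq
      by_cases e : p = q
      · subst e; exact ih hq
      · exact (ih hpq.1).trans (SimpleGraph.Adj.reachable
          ((SimpleGraph.fromRel_adj _ _ _).2 ⟨fun e' => e (congrArg Subtype.val e'), Or.inl hpq.2.2⟩))

section

include h

/-- For a primitive class with a commuting pair both cores are central and the commuting graph is connected. -/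
theorem Hyp.of_primitive (hprim : Cfsg.IsPrimitiveUnderConj D) (hw : ∃ a ∈ D, ∃ b ∈ D, a ≠ b ∧ Commute a b) :
    Cfsg.pCore 2 G ≤ Subgroup.center G ∧ Cfsg.pCore 3 G ≤ Subgroup.center G ∧
      ∀ a ∈ D, ∀ b ∈ D, Relation.ReflTransGen (CAdj D) a b := by
  obtain ⟨-, hD2, hblk⟩ := hprim
  obtain ⟨a, ha, b, hb, hab, hc⟩ := hw
  have core : ∀ (p : ℕ), ((∀ x ∈ D, ∀ y ∈ D, x * y ∈ Cfsg.pCore p G) → False) →
      Cfsg.pCore p G ≤ Subgroup.center G := by
    intro p hall
    haveI := CfsgLib.Coprime.pCore_normal' (G := G) p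
    by_contra hne
    set f := QuotientGroup.mk' (Cfsg.pCore p G)
    rcases hblk {x | x ∈ D ∧ f x = f a} (fun x hx => hx.1) (fun g => by
      by_cases e : f g * f a * (f g)⁻¹ = f a
      · left
        ext y
        constructor
        · rintro ⟨x, ⟨hx, hfx⟩, rfl⟩
          exact ⟨h.conj g x hx, by simp only [map_mul, map_inv, hfx]; exact e⟩
        · rintro ⟨hy, hfy⟩
          refine ⟨g⁻¹ * y * g, ⟨by simpa using h.conj g⁻¹ y hy, ?_⟩, by show g * (g⁻¹ * y * g) * g⁻¹ = y; group⟩
          simp only [map_mul, map_inv, hfy]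
          conv_lhs => rw [← e]
          group
      · right
        rw [Set.disjoint_left]
        rintro _ ⟨x, ⟨-, hfx⟩, rfl⟩ ⟨-, hf'⟩
        simp only [map_mul, map_inv, hfx] at hf'
        exact e hf') with hs | hs
    · obtain ⟨g, hg, hga⟩ := h.exists_moved hne ha
      refine hga (hs ⟨h.conj g a ha, ?_⟩ ⟨ha, rfl⟩)
      simp [map_mul, map_inv, show f g = 1 from (QuotientGroup.eq_one_iff g).2 hg]
    · refine hall fun x hx y hy => (QuotientGroup.eq_one_iff _).1 ?_
      show f (x * y) = 1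
      have hx' : x ∈ {x | x ∈ D ∧ f x = f a} := hs.symm ▸ hx
      have hy' : y ∈ {x | x ∈ D ∧ f x = f a} := hs.symm ▸ hy
      rw [map_mul, hx'.2, hy'.2, ← map_mul, h.mul_self ha, map_one]
  refine ⟨core 2 fun hall => ?_, core 3 fun hall => hab (h.eq_of_mem_three_core ha hb (hall a ha b hb) hc), ?_⟩
  · have hcomm : ∀ x ∈ D, ∀ y ∈ D, Commute x y := fun x hx y hy => h.commute_of_mem_two_core hx hy (hall x hx y hy)
    obtain ⟨c, hc', hn⟩ := h.exists_not_commute ha hb hab
    exact hn (hcomm a ha c hc')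
  · have hpartner : ∀ x ∈ D, ∃ y ∈ D, x ≠ y ∧ Commute x y := fun x hx => by
      obtain ⟨g, rfl⟩ := h.transitive a ha x hx
      exact ⟨g * b * g⁻¹, h.conj g b hb, fun e => hab (mul_left_cancel (mul_right_cancel e)), (Commute.conj_iff g).2 hc⟩
    have rsymm : ∀ {x y}, Relation.ReflTransGen (CAdj D) x y → Relation.ReflTransGen (CAdj D) y x :=
      fun hxy => reflTransGen_symm (fun _ _ => CAdj.symm) hxy
    intro x hx y hy
    rcases hblk {z | z ∈ D ∧ Relation.ReflTransGen (CAdj D) x z} (fun z hz => hz.1) (fun g => by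
      by_cases e : Relation.ReflTransGen (CAdj D) x (g * x * g⁻¹)
      · left
        ext z
        constructor
        · rintro ⟨w, ⟨hw, hr⟩, rfl⟩
          exact ⟨h.conj g w hw, e.trans (CAdj.conj h g hr)⟩
        · rintro ⟨hz, hr⟩
          refine ⟨g⁻¹ * z * g, ⟨by simpa using h.conj g⁻¹ z hz, ?_⟩, by show g * (g⁻¹ * z * g) * g⁻¹ = z; group⟩
          have := CAdj.conj h g⁻¹ ((rsymm e).trans hr)
          simpa [mul_assoc] using this
      · right
        rw [Set.disjoint_left]
        rintro _ ⟨w, ⟨-, hr⟩, rfl⟩ ⟨-, hr'⟩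
        exact e (hr'.trans (rsymm (CAdj.conj h g hr)))) with hs | hs
    · exfalso
      obtain ⟨w, hw, hne, hcw⟩ := hpartner x hx
      exact hne (hs ⟨hx, Relation.ReflTransGen.refl⟩ ⟨hw, Relation.ReflTransGen.single ⟨hx, hw, hcw⟩⟩)
    · have hy' : y ∈ {z | z ∈ D ∧ Relation.ReflTransGen (CAdj D) x z} := hs.symm ▸ hy
      exact hy'.2

/-- The members commuting with a given one generate a maximal D-subgroup. -/
theorem Hyp.perp_maximal (hD2 : ∃ a ∈ D, ∃ b ∈ D, a ≠ b) (h2 : Cfsg.pCore 2 G ≤ Subgroup.center G)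
    (h3 : Cfsg.pCore 3 G ≤ Subgroup.center G) (hconn : ∀ a ∈ D, ∀ b ∈ D, Relation.ReflTransGen (CAdj D) a b)
    {d : G} (hd : d ∈ D) {H : Subgroup G} (hH : Cfsg.IsDSubgroup D H)
    (hle : Subgroup.closure {y : G | y ∈ D ∧ Commute d y} ≤ H) :
    H = Subgroup.closure {y : G | y ∈ D ∧ Commute d y} ∨ H = ⊤ := by
  have hR := h.centralRadical h2 h3
  have hperf : ⁅commutator G, commutator G⁆ = commutator G := by
    rw [h.commutator_eq_layer (h.layer_index_le hD2 h2 h3 hconn)]; exact CfsgLib.Coprime.layer_isPerfect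
  by_cases hall : ∀ y ∈ D, y ∈ H → Commute d y
  · left
    refine le_antisymm ?_ hle
    rw [← hH]
    exact Subgroup.closure_mono fun y hy => ⟨hy.1, hall y hy.1 hy.2⟩
  push Not at hall
  obtain ⟨x, hxD, hxH, hxd⟩ := hall
  right
  have hmem : ∀ y ∈ D, Commute d y → y ∈ H := fun y hy hc => hle (Subgroup.subset_closure ⟨hy, hc⟩)
  have hdH : d ∈ H := hmem d hd (Commute.refl d)
  let O : Set G := {y | ∃ g ∈ H, g * d * g⁻¹ = y}
  have hOD : ∀ y ∈ O, y ∈ D ∧ y ∈ H := by
    rintro _ ⟨g, hg, rfl⟩; exact ⟨h.conj g d hd, mul_mem (mul_mem hg hdH) (inv_mem hg)⟩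
  have hstep : ∀ u ∈ O, ∀ v ∈ D, v ∈ H → ¬ Commute u v → v ∈ O := by
    rintro u ⟨g, hg, rfl⟩ v hv hvH hn
    refine ⟨(g * d * g⁻¹) * v * g, mul_mem (mul_mem (mul_mem (mul_mem hg hdH) (inv_mem hg)) hvH) hg, ?_⟩
    have := h.conj_swap_mul (h.conj g d hd) hv hn
    calc (g * d * g⁻¹) * v * g * d * ((g * d * g⁻¹) * v * g)⁻¹
        = (g * d * g⁻¹ * v) * (g * d * g⁻¹) * (g * d * g⁻¹ * v)⁻¹ := by group
      _ = v := this
  have hxO : x ∈ O := hstep d ⟨1, one_mem H, by group⟩ x hxD hxH hxd
  have hTO : ∀ y ∈ D, y ∈ H → y ∈ O := by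
    intro y hy hyH
    by_contra hyO
    have hcy : ∀ u ∈ O, Commute u y := fun u hu => by
      by_contra hn; exact hyO (hstep u hu y hy hyH hn)
    have hyd : y ∈ perp D d := ⟨hy, fun e => hyO (e ▸ ⟨1, one_mem H, by group⟩), hcy d ⟨1, one_mem H, by group⟩⟩
    have hnot : ∀ z ∈ perp D d, z ∉ O := by
      intro z hz hzO
      have hr := perp_connected h hR hperf hd hz hyd
      have : ∀ w, Relation.ReflTransGen (PAdj D d) z w → w ∈ O := fun w hw => by
        induction hw with
        | refl => exact hzO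
        | tail _ hpq ih => exact hstep _ ih _ hpq.2.1.1 (hmem _ hpq.2.1.1 hpq.2.1.2.2) hpq.2.2
      exact hyO (this y hr)
    have hsub : perp D d ⊆ perp D x := fun z hz => by
      refine ⟨hz.1, fun e => hnot z hz (e ▸ hxO), ?_⟩
      by_contra hn
      exact hnot z hz (hstep x hxO z hz.1 (hmem z hz.1 hz.2.2) hn)
    obtain ⟨g, hg⟩ := h.transitive d hd x hxD
    have hcard : (perp D x).ncard = (perp D d).ncard := by
      rw [← hg, h.perp_conj]; exact Set.ncard_image_of_injective _ (fun a b e' => by simpa using e')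
    exact ne_of_not_commute hxd (h.eq_of_perp_eq hR hd hxD
      (Set.eq_of_subset_of_ncard_le hsub hcard.le (Set.toFinite _)))
  have hclosed : ∀ y z, CAdj D y z → y ∈ H → z ∈ H := by
    rintro y z ⟨hy, hz, hc⟩ hyH
    obtain ⟨g, hg, rfl⟩ := hTO y hy hyH
    have hc' : Commute d (g⁻¹ * z * g) := by
      rw [← Commute.conj_iff g, show g * (g⁻¹ * z * g) * g⁻¹ = z by group]; exact hc
    have := hmem _ (by simpa using h.conj g⁻¹ z hz) hc'
    have h' := mul_mem (mul_mem hg this) (inv_mem hg)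
    rwa [show g * (g⁻¹ * z * g) * g⁻¹ = z by group] at h'
  rw [eq_top_iff, ← h.gen, Subgroup.closure_le]
  intro y hy
  have hr := hconn d hd y hy
  clear hy
  induction hr with
  | refl => exact hdH
  | tail _ hpq ih => exact hclosed _ _ hpq ih

end

end CfsgLib.Spor.Tri
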