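/-
Rank three levels of 3-transposition groups: the data passed from a group to the next one.
-/
import Cfsg.Agent.S5361
import Cfsg.Agent.Lib.Spor.Tri.Applications
import Cfsg.Agent.Lib.Spor.Tri.RelationsSix

namespace CfsgLib.Spor.Tri.Level

open CfsgLib.Spor.Tri CfsgLib.Spor.Tri.Relations

variable {G : Type*} [Group G] {D : Set G}

/-- A primitive class with known parameters, centralizers and rigidity. -/
structure Lev (D : Set G) (v k l m : ℕ) : Prop where
  hyp : Hyp D
  center : Subgroup.center G = ⊥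
  core : Cfsg.pCore 2 G = ⊥
  prim : Cfsg.IsPrimitiveUnderConj D
  card : D.ncard = v
  deg : ∀ a ∈ D, (perp D a).ncard = k
  lam : ∀ a ∈ D, ∀ b ∈ perp D a, (perp D a ∩ perp D b).ncard = l
  mu : ∀ a ∈ D, ∀ b ∈ D, ¬ Commute a b → (perp D a ∩ perp D b).ncard = m
  cent : ∀ a ∈ D, Subgroup.centralizer ({a} : Set G) ≤ loc D a
  rig : ∀ a ∈ D, ∀ φ : MulAut G, (∀ x ∈ D, φ x ∈ D) → φ a = a → (∀ x ∈ perp D a, φ x = x) →
    φ = 1 ∨ φ = MulAut.conj a
  pconn : ∀ a ∈ D, ∀ x ∈ perp D a, ∀ y ∈ perp D a,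
    Relation.ReflTransGen (fun p q => p ∈ perp D a ∧ q ∈ perp D a ∧ Commute p q) x y
  sep : ∀ a ∈ D, ∀ b ∈ perp D a, ∀ c ∈ perp D a ∩ perp D b,
    ∃ f ∈ perp D c, ¬ Commute f a ∧ ¬ Commute f b

theorem mem_perp {a x : G} : x ∈ perp D a ↔ x ∈ D ∧ x ≠ a ∧ Commute a x := Iff.rfl

theorem perp_symm {a x : G} (ha : a ∈ D) (hx : x ∈ perp D a) : a ∈ perp D x := ⟨ha, hx.2.1.symm, hx.2.2.symm⟩

theorem pre_of_hyp (h : Hyp D) : Pre D where
  invol _ ha := h.mul_self ha
  pair a ha b hb := h.set.2 a ha b hb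
  conj := h.conj
  gen := h.gen

theorem nz_eq (h : Hyp D) : nz D = D := Set.ext fun _ => ⟨fun hx => hx.1, fun hx => ⟨hx, h.ne_one hx⟩⟩

theorem class_of_hyp (h : Hyp D) {a : G} (ha : a ∈ D) : Cfsg.IsThreeTranspositionClass D := by
  refine ⟨h.set, ⟨a, ha, Set.ext fun x => ?_⟩, h.gen⟩
  rw [conjugatesOf, Set.mem_setOf_eq, isConj_iff]
  exact ⟨fun hx => h.transitive a ha x hx, fun ⟨g, hg⟩ => hg ▸ h.conj g a ha⟩

/-- Connectedness with trivial cores gives primitivity. -/
theorem prim_of_connected [Finite G] (h : Hyp D) (hZ : Subgroup.center G = ⊥) (h2 : Cfsg.pCore 2 G = ⊥)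
    (h3 : Cfsg.pCore 3 G = ⊥) (hw : ∃ a ∈ D, ∃ b ∈ D, a ≠ b ∧ Commute a b)
    (hc : ∀ a ∈ D, ∀ b ∈ D, Relation.ReflTransGen (CAdj D) a b) : Cfsg.IsPrimitiveUnderConj D := by
  obtain ⟨a, ha, -⟩ := id hw
  exact ((Cfsg.Agent.S5361.result (class_of_hyp h ha) hZ hw).2).2 ⟨h2, h3, (connected_iff_reach ⟨a, ha⟩).2 hc⟩

/-- Two adjacencies at distance two connect. -/
theorem connected_of_two {a b x : G} (ha : a ∈ D) (hb : b ∈ D) (hx : x ∈ perp D a ∩ perp D b) :
    Relation.ReflTransGen (CAdj D) a b :=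
  (Relation.ReflTransGen.single ⟨ha, hx.1.1, hx.1.2.2⟩).tail ⟨hx.1.1, hb, hx.2.2.2.symm⟩

/-- The hypotheses of the rank three theorems. -/
theorem rank_three_data [Finite G] (h : Hyp D) (hprim : Cfsg.IsPrimitiveUnderConj D)
    (hw : ∃ a ∈ D, ∃ b ∈ D, a ≠ b ∧ Commute a b) :
    CentralRadical G ∧ ⁅commutator G, commutator G⁆ = commutator G := by
  obtain ⟨h2, h3, hr⟩ := h.of_primitive hprim hw
  refine ⟨h.centralRadical h2 h3, ?_⟩
  rw [h.commutator_eq_layer (h.layer_index_le hprim.2.1 h2 h3 hr)]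
  exact CfsgLib.Coprime.layer_isPerfect

theorem perp_conj [Finite G] (h : Hyp D) (g a : G) :
    perp D (g * a * g⁻¹) = (fun x => g * x * g⁻¹) '' perp D a := h.perp_conj g a

theorem image_inter_conj [Finite G] (h : Hyp D) (g a b : G) :
    perp D (g * a * g⁻¹) ∩ perp D (g * b * g⁻¹) = (fun x => g * x * g⁻¹) '' (perp D a ∩ perp D b) := by
  rw [perp_conj h, perp_conj h, Set.image_inter (fun x y e => by simpa using e)]

theorem ncard_conj_inter [Finite G] (h : Hyp D) (g a b : G) :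
    (perp D (g * a * g⁻¹) ∩ perp D (g * b * g⁻¹)).ncard = (perp D a ∩ perp D b).ncard := by
  rw [image_inter_conj h, Set.ncard_image_of_injective _ fun x y e => by simpa using e]

/-- In rank three the parameters are read off one pair of each kind. -/
theorem counts_of_pairs [Finite G] (h : Hyp D) (hprim : Cfsg.IsPrimitiveUnderConj D) {a b d c : G} {k l m : ℕ}
    (ha : a ∈ D) (hb : b ∈ perp D a) (hd : d ∈ D) (hc : c ∈ D) (hdc : ¬ Commute d c)
    (hk : (perp D a).ncard = k) (hl : (perp D a ∩ perp D b).ncard = l)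
    (hm : (perp D d ∩ perp D c).ncard = m) :
    (∀ x ∈ D, (perp D x).ncard = k) ∧ (∀ x ∈ D, ∀ y ∈ perp D x, (perp D x ∩ perp D y).ncard = l) ∧
      (∀ x ∈ D, ∀ y ∈ D, ¬ Commute x y → (perp D x ∩ perp D y).ncard = m) := by
  obtain ⟨hR, hperf⟩ := rank_three_data h hprim ⟨a, ha, b, hb.1, hb.2.1.symm, hb.2.2⟩
  refine ⟨fun x hx => ?_, fun x hx y hy => ?_, fun x hx y hy hxy => ?_⟩
  · obtain ⟨g, rfl⟩ := h.transitive a ha x hx
    rw [perp_conj h, Set.ncard_image_of_injective _ fun x y e => by simpa using e]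
    exact hk
  · obtain ⟨g, rfl, rfl⟩ := conj2_commuting h hR hperf ha hb hx hy
    rw [ncard_conj_inter h]; exact hl
  · obtain ⟨g, rfl⟩ := h.transitive d hd x hx
    have hgc : ¬ Commute (g * d * g⁻¹) (g * c * g⁻¹) := fun e => hdc ((Commute.conj_iff g).1 e)
    obtain ⟨u, hu, rfl⟩ := exists_conj_not_commute h hR hperf hx (h.conj g c hc) hy hgc hxy
    have e := ncard_conj_inter h u (g * d * g⁻¹) (g * c * g⁻¹)
    rw [conj_eq_of_commute hu] at e
    rw [e, ncard_conj_inter h]; exact hm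

/-- A product of `a` and a member commuting with `a` moves `b` to the commuting `c`. -/
theorem swap_elem (h : Hyp D) {a b c : G} (ha : a ∈ D) (hb : b ∈ D) (hc : c ∈ D) (hbc : Commute b c)
    (hab : ¬ Commute a b) (hac : ¬ Commute a c) :
    b * a * c * a * b ∈ D ∧ Commute a (b * a * c * a * b) ∧
      a * (b * a * c * a * b) * b * (a * (b * a * c * a * b))⁻¹ = c := by
  have e1 := h.braid ha hb hab
  have e2 := h.braid ha hc hac
  have hbb := h.mul_self hb
  have haa := h.mul_self ha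
  have hcbc : c * b * c = b := by rw [← hbc.eq, mul_assoc, h.mul_self hc, mul_one]
  have hbcb : b * c * b = c := by rw [hbc.eq, mul_assoc, hbb, mul_one]
  set w := b * a * c * a * b with hw
  have hwD : w ∈ D := by
    have := h.conj_mem' hb (h.conj_mem' ha hc)
    rwa [show b * (a * c * a) * b = w by rw [hw]; group] at this
  have hwi := h.inv_eq hwD
  have hh1 : w * a * w = a := by
    calc w * a * w = b * a * c * (a * b * a) * b * a * c * a * b := by rw [hw]; group
      _ = b * a * c * b * a * (b * b) * a * c * a * b := by rw [e1]; group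
      _ = b * a * (c * b * c) * a * b := by rw [hbb, mul_one, mul_assoc (b * a * c * b) a a, haa]; group
      _ = b * (a * b * a) * b := by rw [hcbc]; group
      _ = a := by rw [e1]; simp [← mul_assoc, hbb]; rw [mul_assoc, hbb, mul_one]
  have hcm : Commute a w := by
    show a * w = w * a
    conv_lhs => rw [← hh1]
    rw [mul_assoc, h.mul_self hwD, mul_one]
  refine ⟨hwD, hcm, ?_⟩
  have hh2 : w * b * w = a * c * a := by
    calc w * b * w = b * a * c * a * (b * b) * b * a * c * a * b := by rw [hw]; group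
      _ = b * a * c * (a * b * a) * c * a * b := by rw [hbb]; group
      _ = b * a * ((c * b) * a * (b * c)) * a * b := by rw [e1]; group
      _ = b * a * ((b * c) * a * (c * b)) * a * b := by rw [hbc.eq]
      _ = (b * a * b) * (c * a * c) * (b * a * b) := by group
      _ = (a * b * a) * (a * c * a) * (a * b * a) := by rw [e1, e2]
      _ = a * b * (a * a) * c * (a * a) * b * a := by group
      _ = a * (b * c * b) * a := by rw [haa]; group
      _ = a * c * a := by rw [hbcb]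
  calc a * w * b * (a * w)⁻¹ = a * (w * b * w) * a := by rw [mul_inv_rev, hwi, h.inv_eq ha]; group
    _ = c := by rw [hh2, h.conj_conj ha]

theorem swap_loc (h : Hyp D) {a b c : G} (ha : a ∈ D) (hb : b ∈ D) (hc : c ∈ D) (hbc : Commute b c)
    (hab : ¬ Commute a b) (hac : ¬ Commute a c) (hal : a ∈ loc D a) :
    ∃ g ∈ loc D a, g * b * g⁻¹ = c := by
  obtain ⟨h1, h2, h3⟩ := swap_elem h ha hb hc hbc hab hac
  refine ⟨_, mul_mem hal ?_, h3⟩
  rcases eq_or_ne (b * a * c * a * b) a with e | e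
  · rw [e]; exact hal
  · exact mem_loc h1 e h2

theorem perp_loc {a x : G} (hx : x ∈ perp D a) : x ∈ loc D a := Subgroup.subset_closure hx

theorem loc_conj [Finite G] (h : Hyp D) (g a : G) :
    loc D (g * a * g⁻¹) = (loc D a).map (MulAut.conj g).toMonoidHom := by
  show Subgroup.closure (perp D (g * a * g⁻¹)) = _
  rw [perp_conj h, MonoidHom.map_closure]
  rfl

/-- The centralizer statement passes to conjugates. -/
theorem cent_conj [Finite G] (h : Hyp D) {a : G} (g : G) (hc : Subgroup.centralizer ({a} : Set G) ≤ loc D a) :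
    Subgroup.centralizer ({g * a * g⁻¹} : Set G) ≤ loc D (g * a * g⁻¹) := by
  intro x hx
  rw [loc_conj h]
  refine ⟨g⁻¹ * x * g, hc ?_, by show g * (g⁻¹ * x * g) * g⁻¹ = x; group⟩
  have e := Subgroup.mem_centralizer_singleton_iff.1 hx
  rw [Subgroup.mem_centralizer_singleton_iff]
  calc g⁻¹ * x * g * a = g⁻¹ * (x * (g * a * g⁻¹)) * g := by group
    _ = g⁻¹ * (g * a * g⁻¹ * x) * g := by rw [e]
    _ = a * (g⁻¹ * x * g) := by group

/-- An automorphism preserving the class and fixing `a` either fixes a connected family or moves it by `a`. -/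
theorem eq_or_conj (h : Hyp D) {a : G} (ha : a ∈ D) (φ : MulAut G)
    (hN : ∀ x ∈ D, Commute x a → φ x = x)
    (hA : ∀ x ∈ D, ¬ Commute x a → φ x = x ∨ φ x = a * x * a)
    (hconn : ∀ x ∈ D, ¬ Commute x a → ∀ y ∈ D, ¬ Commute y a →
      Relation.ReflTransGen (fun p q => p ∈ D ∧ q ∈ D ∧ ¬ Commute p a ∧ ¬ Commute q a ∧ Commute p q) x y) :
    φ = 1 ∨ φ = MulAut.conj a := by
  have key : ∀ x ∈ D, ∀ y ∈ D, ¬ Commute y a → Commute x y → φ x = x → φ y = a * y * a → Commute x a := by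
    intro x hx y hy hya hxy e1 e2
    have := hxy.map φ.toMonoidHom
    rw [MulEquiv.coe_toMonoidHom, e1, e2, h.braid ha hy fun e => hya e.symm] at this
    have h3 := (hxy.mul_right this).mul_right hxy
    rwa [show y * (y * a * y) * y = a by
      calc y * (y * a * y) * y = (y * y) * a * (y * y) := by group
        _ = a := by rw [h.mul_self hy, one_mul, mul_one]] at h3
  have hext : ∀ ψ : MulAut G, (∀ x ∈ D, φ x = ψ x) → φ = ψ := fun ψ he => by
    have := MonoidHom.eq_of_eqOn_dense (f := φ.toMonoidHom) (g := ψ.toMonoidHom) h.gen he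
    exact MulEquiv.ext fun x => DFunLike.congr_fun this x
  by_cases hex : ∃ x ∈ D, ¬ Commute x a ∧ φ x ≠ x
  · obtain ⟨x₀, hx₀, hx₀a, hne⟩ := hex
    refine Or.inr (hext _ fun x hx => ?_)
    rw [MulAut.conj_apply, h.inv_eq ha]
    by_cases hxa : Commute x a
    · rw [hN x hx hxa, h.conj_fix ha hxa.symm]
    have hr := hconn x₀ hx₀ hx₀a x hx hxa
    have e0 := (hA x₀ hx₀ hx₀a).resolve_left hne
    clear hx hxa
    induction hr with
    | refl => exact e0
    | tail _ hpq ih =>
      refine (hA _ hpq.2.1 hpq.2.2.2.1).resolve_left fun e => ?_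
      exact hpq.2.2.2.1 (key _ hpq.2.1 _ hpq.1 hpq.2.2.1 hpq.2.2.2.2.symm e ih)
  · push Not at hex
    refine Or.inl (hext 1 fun x hx => ?_)
    by_cases hxa : Commute x a
    · exact hN x hx hxa
    · exact hex x hx hxa

end CfsgLib.Spor.Tri.Level
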