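/-
The members commuting with one member, seen in the local quotient.
-/
import Cfsg.Agent.Lib.Spor.Tri.Level

namespace CfsgLib.Spor.Tri.Level

open CfsgLib.Spor.Tri CfsgLib.Spor.Tri.Relations

variable {G : Type*} [Group G] {D : Set G}

/-- No member commuting with `d` is central in the local group. -/
def NC (D : Set G) (d : G) : Prop :=
  ∀ x : ↥(loc D d), (x : G) ∈ nz D → (x : G) ≠ d → x ∉ Subgroup.center ↥(loc D d)

/-- No two members have the same perp. -/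
def NoTwin (D : Set G) : Prop := ∀ a ∈ D, ∀ b ∈ D, perp D a = perp D b → a = b

/-- The image of a member commuting with `d`. -/
def bar {d y : G} (hy : y ∈ perp D d) : ↥(loc D d) ⧸ Subgroup.center ↥(loc D d) :=
  QuotientGroup.mk ⟨y, perp_loc hy⟩

variable (h : Hyp D) {d : G}

theorem bar_mem {y : G} (hy : y ∈ perp D d) : bar hy ∈ img D d := ⟨⟨y, perp_loc hy⟩, hy, rfl⟩

theorem exists_bar {q : ↥(loc D d) ⧸ Subgroup.center ↥(loc D d)} (hq : q ∈ img D d) :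
    ∃ (y : G) (hy : y ∈ perp D d), q = bar hy := by
  obtain ⟨x, hx, rfl⟩ := hq
  exact ⟨x, hx, rfl⟩

include h

theorem nc_of_good [Finite G] {k : ℕ} (hg : Good k D) (hd : d ∈ D) : NC D d :=
  hnc_of_good (pre_of_hyp h) hg ⟨hd, h.ne_one hd⟩

theorem bar_inj (hnc : NC D d) {x y : G} (hx : x ∈ perp D d) (hy : y ∈ perp D d) :
    bar hx = bar hy ↔ x = y := by
  constructor
  · intro e
    by_contra hne
    exact hnc ⟨x, perp_loc hx⟩ ⟨hx.1, h.ne_one hx.1⟩ hx.2.1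
      (central_of_eq (pre_of_hyp h) ⟨hx.1, h.ne_one hx.1⟩ ⟨hy.1, h.ne_one hy.1⟩
        (fun q => hne (congrArg Subtype.val q)) e)
  · rintro rfl; rfl

theorem bar_ne_one (hnc : NC D d) {x : G} (hx : x ∈ perp D d) : bar hx ≠ 1 := fun e =>
  hnc ⟨x, perp_loc hx⟩ ⟨hx.1, h.ne_one hx.1⟩ hx.2.1 (mk_eq_one.1 e)

theorem bar_commute {x y : G} (hx : x ∈ perp D d) (hy : y ∈ perp D d) :
    Commute (bar hx) (bar hy) ↔ Commute x y := by
  refine ⟨fun e => commute_lift (pre_of_hyp h) (x := ⟨x, perp_loc hx⟩) (y := ⟨y, perp_loc hy⟩) hx.1 hy.1 e ?_,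
    fun e => (show Commute (⟨x, perp_loc hx⟩ : ↥(loc D d)) ⟨y, perp_loc hy⟩ from Subtype.ext e.eq).map
      (QuotientGroup.mk' _)⟩
  rw [show (⟨x, perp_loc hx⟩ : ↥(loc D d)) * ⟨x, perp_loc hx⟩ = 1 from Subtype.ext (h.mul_self hx.1),
    QuotientGroup.mk_one]

theorem bar_perp (hnc : NC D d) {x y : G} (hx : x ∈ perp D d) (hy : y ∈ perp D d) :
    bar hx ∈ perp (img D d) (bar hy) ↔ x ∈ perp D y := by
  constructor
  · rintro ⟨-, h1, h2⟩
    exact ⟨hx.1, fun e => h1 ((bar_inj h hnc hx hy).2 e), (bar_commute h hy hx).1 h2⟩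
  · rintro ⟨-, h1, h2⟩
    exact ⟨bar_mem hx, fun e => h1 ((bar_inj h hnc hx hy).1 e), (bar_commute h hy hx).2 h2⟩

/-- Sets of members and sets of images. -/
theorem ncard_bar [Finite G] (hnc : NC D d) {S : Set G} {T : Set (↥(loc D d) ⧸ Subgroup.center ↥(loc D d))}
    (hS : S ⊆ perp D d) (hT : T ⊆ img D d) (hiff : ∀ y (hy : y ∈ perp D d), bar hy ∈ T ↔ y ∈ S) :
    T.ncard = S.ncard := by
  rw [← Nat.card_coe_set_eq, ← Nat.card_coe_set_eq]
  refine (Nat.card_congr (Equiv.ofBijective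
    (fun y : ↥S => (⟨bar (hS y.2), (hiff y.1 (hS y.2)).2 y.2⟩ : ↥T)) ⟨?_, ?_⟩)).symm
  · intro a b e
    exact Subtype.ext ((bar_inj h hnc (hS a.2) (hS b.2)).1 (congrArg Subtype.val e))
  · rintro ⟨q, hq⟩
    obtain ⟨y, hy, rfl⟩ := exists_bar (hT hq)
    exact ⟨⟨y, (hiff y hy).1 hq⟩, rfl⟩

theorem ncard_img [Finite G] (hnc : NC D d) : (img D d).ncard = (perp D d).ncard :=
  ncard_bar h hnc subset_rfl subset_rfl fun _ hy => iff_of_true (bar_mem hy) hy

theorem ncard_img_perp [Finite G] (hnc : NC D d) {a : G} (ha : a ∈ perp D d) :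
    (perp (img D d) (bar ha)).ncard = (perp D d ∩ perp D a).ncard :=
  ncard_bar h hnc Set.inter_subset_left (fun _ hq => hq.1) fun y hy =>
    (bar_perp h hnc hy ha).trans ⟨fun r => ⟨hy, r⟩, fun r => r.2⟩

theorem ncard_img_inter [Finite G] (hnc : NC D d) {a b : G} (ha : a ∈ perp D d) (hb : b ∈ perp D d) :
    (perp (img D d) (bar ha) ∩ perp (img D d) (bar hb)).ncard = (perp D d ∩ (perp D a ∩ perp D b)).ncard :=
  ncard_bar h hnc Set.inter_subset_left (fun _ hq => hq.1.1) fun y hy =>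
    ((bar_perp h hnc hy ha).and (bar_perp h hnc hy hb)).trans ⟨fun r => ⟨hy, r⟩, fun r => r.2⟩

theorem img_hyp (hnc : NC D d) (htr : ∀ q ∈ img D d, ∀ q' ∈ img D d, ∃ g, g * q * g⁻¹ = q') :
    Hyp (img D d) := by
  have hp := pre_img (pre_of_hyp h) d
  refine ⟨?_, hp.conj, htr, hp.gen⟩
  have e : nz (img D d) = img D d := Set.ext fun q => ⟨fun r => r.1, fun r => ⟨r, by
    obtain ⟨y, hy, rfl⟩ := exists_bar r
    exact bar_ne_one h hnc hy⟩⟩
  exact e ▸ hp.tset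

theorem img_nz (hnc : NC D d) : nz (img D d) = img D d := Set.ext fun q => ⟨fun r => r.1, fun r => ⟨r, by
    obtain ⟨y, hy, rfl⟩ := exists_bar r
    exact bar_ne_one h hnc hy⟩⟩

end CfsgLib.Spor.Tri.Level
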