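/-
Parameters of a class from those of the local quotient.
-/
import Cfsg.Agent.Lib.Spor.Tri.LevelBridge

namespace CfsgLib.Spor.Tri.Level

open CfsgLib.Spor.Tri CfsgLib.Spor.Tri.Relations

variable {G : Type*} [Group G] [Finite G] {D : Set G} (h : Hyp D) {d : G} (hd : d ∈ D) (hnc : NC D d)
variable {v k l m : ℕ} (L : Lev (img D d) v k l m)
include h hd hnc L

theorem deg_of_local {a : G} (ha : a ∈ D) : (perp D a).ncard = v := by
  obtain ⟨g, rfl⟩ := h.transitive d hd a ha
  rw [perp_conj h, Set.ncard_image_of_injective _ fun x y e => by simpa using e, ← ncard_img h hnc]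
  exact L.card

theorem lam_of_local {a b : G} (ha : a ∈ D) (hb : b ∈ perp D a) : (perp D a ∩ perp D b).ncard = k := by
  obtain ⟨g, hg⟩ := h.transitive a ha d hd
  have hb' : g * b * g⁻¹ ∈ perp D d := by rw [← hg, perp_conj h]; exact ⟨b, hb, rfl⟩
  rw [← ncard_conj_inter h g a b, hg, ← ncard_img_perp h hnc hb']
  exact L.deg _ (bar_mem hb')

/-- The common neighbours of `a` and two of its neighbours. -/
theorem triple_of_local {a b c : G} (ha : a ∈ D) (hb : b ∈ perp D a) (hc : c ∈ perp D a) (hbc : b ≠ c) :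
    (Commute b c → (perp D a ∩ (perp D b ∩ perp D c)).ncard = l) ∧
    (¬ Commute b c → (perp D a ∩ (perp D b ∩ perp D c)).ncard = m) := by
  obtain ⟨g, hg⟩ := h.transitive a ha d hd
  have hmem : ∀ {x}, x ∈ perp D a → g * x * g⁻¹ ∈ perp D d := fun {x} hx => by
    rw [← hg, perp_conj h]; exact ⟨x, hx, rfl⟩
  have e : (perp D a ∩ (perp D b ∩ perp D c)).ncard =
      (perp (img D d) (bar (hmem hb)) ∩ perp (img D d) (bar (hmem hc))).ncard := by
    rw [ncard_img_inter h hnc, ← hg, perp_conj h g a, perp_conj h g b, perp_conj h g c]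
    rw [← Set.image_inter (fun x y e => by simpa using e), ← Set.image_inter (fun x y e => by simpa using e),
      Set.ncard_image_of_injective _ fun x y e => by simpa using e]
  rw [e]
  refine ⟨fun r => L.lam _ (bar_mem _) _ ⟨bar_mem _, fun q => ?_, ?_⟩,
    fun r => L.mu _ (bar_mem _) _ (bar_mem _) fun q => r ?_⟩
  · exact hbc (by simpa using ((bar_inj h hnc _ _).1 q).symm)
  · exact (bar_commute h _ _).2 ((Commute.conj_iff g).2 r)
  · exact (Commute.conj_iff g).1 ((bar_commute h _ _).1 q)

/-- Two moments of the number of neighbours in `P` of the neighbours of `d` outside `P`. -/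
theorem moments {c : G} (hc : c ∈ D) (hdc : ¬ Commute d c) {μ : ℕ} (hμ : (perp D d ∩ perp D c).ncard = μ) :
    ∃ (U : Finset G) (n : G → ℕ),
      (∀ e, e ∈ U ↔ e ∈ perp D d ∧ e ∉ perp D c) ∧
      (∀ e ∈ U, n e = (perp D d ∩ perp D c ∩ perp D e).ncard) ∧
      (U.card : ℤ) = v - μ ∧ (∑ e ∈ U, (n e : ℤ)) = μ * ((k : ℤ) - m) ∧
      (∑ e ∈ U, (n e : ℤ) ^ 2) = μ * k + μ * m * l + μ * ((μ : ℤ) - 1 - m) * m - μ * (m : ℤ) ^ 2 ∧
      (0 < μ → m < μ) := by
  classical
  haveI := Fintype.ofFinite G
  set N := (perp D d).toFinset with hN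
  set P := (perp D d ∩ perp D c).toFinset with hP
  have hPN : P ⊆ N := fun x hx => by rw [hP, Set.mem_toFinset] at hx; rw [hN, Set.mem_toFinset]; exact hx.1
  have hPc : P.card = μ := by rw [hP, ← Set.ncard_eq_toFinset_card', hμ]
  have hNc : N.card = v := by rw [hN, ← Set.ncard_eq_toFinset_card', deg_of_local h hd hnc L hd]
  let n : G → ℕ := fun e => (P.filter fun p => e ∈ perp D p).card
  have hn : ∀ e ∈ N, n e = (perp D d ∩ perp D c ∩ perp D e).ncard := by
    intro e he
    rw [hN, Set.mem_toFinset] at he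
    rw [Set.ncard_eq_toFinset_card']
    refine congrArg Finset.card (Finset.ext fun p => ?_)
    simp only [Finset.mem_filter, hP, Set.mem_toFinset, Set.mem_inter_iff]
    exact ⟨fun r => ⟨r.1, perp_symm r.1.1.1 r.2⟩, fun r => ⟨r.1, perp_symm he.1 r.2⟩⟩
  have hmemP : ∀ p ∈ P, p ∈ perp D d ∧ p ∈ perp D c := fun p hp => by
    rw [hP, Set.mem_toFinset] at hp; exact hp
  have hdegP : ∀ p ∈ P, (P.filter fun e => e ∈ perp D p).card = m := by
    intro p hp
    obtain ⟨pd, pc⟩ := hmemP p hp
    rw [← (triple_of_local h hd hnc L pd.1 (perp_symm hd pd) (perp_symm hc pc)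
      (ne_of_not_commute hdc)).2 hdc, Set.ncard_eq_toFinset_card']
    refine congrArg Finset.card (Finset.ext fun e => ?_)
    simp only [Finset.mem_filter, hP, Set.mem_toFinset, Set.mem_inter_iff]
    tauto
  have hnP : ∀ e ∈ P, n e = m := fun e he => by
    rw [← hdegP e he]
    refine congrArg Finset.card (Finset.filter_congr fun p hp => ?_)
    exact ⟨fun r => perp_symm (hmemP p hp).1.1 r, fun r => perp_symm (hmemP e he).1.1 r⟩
  have hk : ∀ p ∈ P, (N.filter fun e => e ∈ perp D p).card = k := by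
    intro p hp
    rw [← lam_of_local h hd hnc L hd (hmemP p hp).1, Set.ncard_eq_toFinset_card']
    exact congrArg Finset.card (Finset.ext fun e => by simp [hN])
  have hpair : ∀ p ∈ P, ∀ p' ∈ P, p ≠ p' →
      ((N.filter fun e => e ∈ perp D p ∧ e ∈ perp D p').card : ℤ) = if p' ∈ perp D p then (l : ℤ) else m := by
    intro p hp p' hp' hne
    have e : (N.filter fun e => e ∈ perp D p ∧ e ∈ perp D p').card = (perp D d ∩ (perp D p ∩ perp D p')).ncard := by
      rw [Set.ncard_eq_toFinset_card']
      exact congrArg Finset.card (Finset.ext fun e => by simp [hN])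
    obtain ⟨t1, t2⟩ := triple_of_local h hd hnc L hd (hmemP p hp).1 (hmemP p' hp').1 hne
    rw [e]
    by_cases hcm : Commute p p'
    · rw [t1 hcm, if_pos (show p' ∈ perp D p from ⟨(hmemP p' hp').1.1, hne.symm, hcm⟩)]
    · rw [t2 hcm, if_neg fun r => hcm r.2.2]
  have s1 : ∑ e ∈ N, (n e : ℤ) = μ * k := by
    rw [← hPc, ← Nat.cast_sum, ← Nat.cast_mul]
    congr 1
    simp only [n, Finset.card_filter]
    rw [Finset.sum_comm, ← smul_eq_mul, ← Finset.sum_const]
    refine Finset.sum_congr rfl fun p hp => ?_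
    rw [← hk p hp, Finset.card_filter]
  have hrow : ∀ p ∈ P, ∑ p' ∈ P, ((N.filter fun e => e ∈ perp D p ∧ e ∈ perp D p').card : ℤ) =
      k + m * l + ((μ : ℤ) - 1 - m) * m := by
    intro p hp
    rw [← Finset.add_sum_erase _ _ hp, Finset.sum_congr rfl fun p' hp' =>
      hpair p hp p' (Finset.mem_of_mem_erase hp') (Finset.ne_of_mem_erase hp').symm, Finset.sum_ite,
      Finset.sum_const, Finset.sum_const]
    have e1 : (P.erase p).filter (fun p' => p' ∈ perp D p) = P.filter fun p' => p' ∈ perp D p := by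
      rw [Finset.filter_erase, Finset.erase_eq_of_notMem]
      exact fun r => (Finset.mem_filter.1 r).2.2.1 rfl
    have e2 : ((P.erase p).filter fun p' => p' ∈ perp D p).card +
        ((P.erase p).filter fun p' => ¬ p' ∈ perp D p).card + 1 = μ := by
      rw [Finset.card_filter_add_card_filter_not, Finset.card_erase_add_one hp, hPc]
    rw [e1, hdegP p hp] at e2
    rw [e1, hdegP p hp]
    have e3 : ((N.filter fun e => e ∈ perp D p ∧ e ∈ perp D p).card : ℤ) = k := by simp [and_self, hk p hp]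
    rw [e3]
    have e4 : ((((P.erase p).filter fun p' => ¬ p' ∈ perp D p).card : ℕ) : ℤ) = (μ : ℤ) - 1 - m := by omega
    simp only [nsmul_eq_mul, e4]
    ring
  have hmlt : 0 < μ → m < μ := fun hpos => by
    obtain ⟨p, hp⟩ := Finset.card_pos.1 (hPc ▸ hpos)
    rw [← hdegP p hp, ← hPc]
    refine Finset.card_lt_card ⟨Finset.filter_subset _ _, fun r => ?_⟩
    exact ((Finset.mem_filter.1 (r hp)).2.2.1) rfl
  have s2 : ∑ e ∈ N, (n e : ℤ) ^ 2 = μ * (k + m * l + ((μ : ℤ) - 1 - m) * m) := by
    calc ∑ e ∈ N, (n e : ℤ) ^ 2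
        = ∑ e ∈ N, ∑ p ∈ P, ∑ p' ∈ P, (if e ∈ perp D p ∧ e ∈ perp D p' then (1 : ℤ) else 0) := by
          refine Finset.sum_congr rfl fun e _ => ?_
          simp only [n, Finset.card_filter, Nat.cast_sum, Nat.cast_ite, Nat.cast_one, Nat.cast_zero, pow_two,
            Finset.sum_mul_sum, ite_mul, one_mul, zero_mul, ← ite_and]
      _ = ∑ p ∈ P, ∑ p' ∈ P, ((N.filter fun e => e ∈ perp D p ∧ e ∈ perp D p').card : ℤ) := by
          rw [Finset.sum_comm]
          refine Finset.sum_congr rfl fun p _ => ?_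
          rw [Finset.sum_comm]
          refine Finset.sum_congr rfl fun p' _ => ?_
          rw [Finset.card_filter]
          push_cast
          rfl
      _ = μ * (k + m * l + ((μ : ℤ) - 1 - m) * m) := by
          rw [Finset.sum_congr rfl hrow, Finset.sum_const, hPc, nsmul_eq_mul]
  refine ⟨N \ P, n, fun e => ?_, fun e he => hn e (Finset.mem_sdiff.1 he).1, ?_, ?_, ?_, hmlt⟩
  · simp only [Finset.mem_sdiff, hN, hP, Set.mem_toFinset, Set.mem_inter_iff]
    tauto
  · rw [Finset.card_sdiff_of_subset hPN, Nat.cast_sub (Finset.card_le_card hPN), hNc, hPc]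
  · rw [Finset.sum_sdiff_eq_sub hPN, s1, Finset.sum_congr rfl fun e he => by rw [hnP e he], Finset.sum_const,
      hPc, nsmul_eq_mul]
    ring
  · rw [Finset.sum_sdiff_eq_sub hPN, s2, Finset.sum_congr rfl fun e he => by rw [hnP e he], Finset.sum_const,
      hPc, nsmul_eq_mul]
    ring

/-- Counting the edges between the neighbours and the non-neighbours of `d`. -/
theorem edge_count {μ : ℕ} (hμ : ∀ a ∈ D, ∀ b ∈ D, ¬ Commute a b → (perp D a ∩ perp D b).ncard = μ) :
    ∃ A : ℕ, μ * A = v * (v - 1 - k) ∧ k + 1 ≤ v ∧ D.ncard = 1 + v + A := by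
  classical
  haveI := Fintype.ofFinite G
  set N := (perp D d).toFinset with hN
  set A := D.toFinset.filter fun x => ¬ Commute d x with hA
  have hNc : N.card = v := by rw [hN, ← Set.ncard_eq_toFinset_card', deg_of_local h hd hnc L hd]
  have hrow : ∀ x ∈ A, (N.filter fun e => e ∈ perp D x).card = μ := by
    intro x hx
    obtain ⟨hxD, hxd⟩ := Finset.mem_filter.1 hx
    rw [← hμ d hd x (Set.mem_toFinset.1 hxD) hxd, Set.ncard_eq_toFinset_card']
    exact congrArg Finset.card (Finset.ext fun e => by simp [hN])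
  have hcol : ∀ e ∈ N, (A.filter fun x => e ∈ perp D x).card + k + 1 = v := by
    intro e he
    rw [hN, Set.mem_toFinset] at he
    have hk' := lam_of_local h hd hnc L he.1 (perp_symm hd he)
    have hv := deg_of_local h hd hnc L he.1
    rw [Set.ncard_eq_toFinset_card'] at hk' hv
    rw [← hv, ← hk']
    have hd' : d ∈ (perp D e).toFinset := Set.mem_toFinset.2 (perp_symm hd he)
    rw [← Finset.card_erase_add_one hd']
    congr 1
    rw [← Finset.card_union_of_disjoint ?_]
    · refine congrArg Finset.card (Finset.ext fun x => ?_)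
      simp only [Finset.mem_union, Finset.mem_filter, hA, Set.mem_toFinset, Set.mem_inter_iff, Finset.mem_erase]
      constructor
      · rintro (⟨⟨hxD, hxd⟩, hex⟩ | ⟨hx, hxd⟩)
        · exact ⟨fun q => hxd (q ▸ Commute.refl d), perp_symm hxD hex⟩
        · exact ⟨hxd.2.1, hx⟩
      · rintro ⟨hxne, hx⟩
        by_cases hxd : Commute d x
        · exact Or.inr ⟨hx, hx.1, hxne, hxd⟩
        · exact Or.inl ⟨⟨hx.1, hxd⟩, perp_symm he.1 hx⟩
    · rw [Finset.disjoint_left]
      intro x h1 h2
      simp only [Finset.mem_filter, hA, Set.mem_toFinset, Set.mem_inter_iff] at h1 h2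
      exact h1.1.2 h2.2.2.2
  refine ⟨A.card, ?_, ?_, ?_⟩
  · have e : ∀ e ∈ N, (A.filter fun x => e ∈ perp D x).card = v - 1 - k := fun e he => by
      have := hcol e he; omega
    calc μ * A.card = ∑ x ∈ A, (N.filter fun e => e ∈ perp D x).card := by
          rw [Finset.sum_congr rfl hrow, Finset.sum_const, smul_eq_mul, mul_comm]
      _ = ∑ e ∈ N, (A.filter fun x => e ∈ perp D x).card := by
          simp only [Finset.card_filter]; exact Finset.sum_comm
      _ = v * (v - 1 - k) := by rw [Finset.sum_congr rfl e, Finset.sum_const, smul_eq_mul, hNc]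
  · obtain ⟨q, hq⟩ : (img D d).Nonempty := by
      obtain ⟨a, ha, -⟩ := L.prim.2.1
      exact ⟨a, ha⟩
    obtain ⟨y, hy, -⟩ := exists_bar hq
    have := hcol y (by rw [hN]; exact Set.mem_toFinset.2 hy)
    omega
  · rw [← hNc, Set.ncard_eq_toFinset_card', ← Finset.card_filter_add_card_filter_not (fun x => Commute d x), ← hA]
    congr 1
    have e : D.toFinset.filter (fun x => Commute d x) = insert d N := by
      ext x
      simp only [Finset.mem_filter, Set.mem_toFinset, Finset.mem_insert, hN]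
      constructor
      · rintro ⟨hx, hc⟩
        rcases eq_or_ne x d with q | q
        · exact Or.inl q
        · exact Or.inr ⟨hx, q, hc⟩
      · rintro (rfl | hx)
        · exact ⟨hd, Commute.refl _⟩
        · exact ⟨hx.1, hx.2.2⟩
    rw [e, Finset.card_insert_of_notMem (by rw [hN, Set.mem_toFinset]; exact fun r => r.2.1 rfl), add_comm]

end CfsgLib.Spor.Tri.Level
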