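/-
The discriminant of a strongly regular adjacency relation is a square unless the multiplicities agree.
-/
import Mathlib

namespace CfsgLib.Spor.Tri.Level

open Matrix

theorem square_of_regular {α : Type*} [Fintype α] [DecidableEq α] [Nonempty α] (R : α → α → Prop) [DecidableRel R]
    (hsymm : ∀ a b, R a b → R b a) (hirr : ∀ a, ¬ R a a) {K L μ : ℕ}
    (hK : ∀ a, (Finset.univ.filter fun b => R a b).card = K)
    (hc : ∀ a b, a ≠ b → (Finset.univ.filter fun x => R a x ∧ R x b).card = if R a b then L else μ)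
    (hμK : μ ≤ K) :
    IsSquare (((L : ℤ) - μ) ^ 2 + 4 * ((K : ℤ) - μ)) ∨
      ((μ : ℤ) - L) * (Fintype.card α : ℤ) = 2 * (K : ℤ) - L + μ := by
  classical
  set n : ℝ := (Fintype.card α : ℝ) with hn
  have hn0 : n ≠ 0 := Nat.cast_ne_zero.2 Fintype.card_ne_zero
  set A : Matrix α α ℝ := Matrix.of fun a b => if R a b then 1 else 0 with hA
  set J : Matrix α α ℝ := Matrix.of fun _ _ => 1 with hJ
  have hrow : ∀ a, ∑ b, A a b = K := fun a => by simp [hA, ← hK a]
  have hcol : ∀ b, ∑ a, A a b = K := fun b => by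
    rw [← hrow b]
    exact Finset.sum_congr rfl fun a _ => by
      simp only [hA, Matrix.of_apply, show R a b ↔ R b a from ⟨hsymm a b, hsymm b a⟩]
  have hAJ : A * J = (K : ℝ) • J := by ext a b; simp [Matrix.mul_apply, hJ, hrow]
  have hJA : J * A = (K : ℝ) • J := by ext a b; simp [Matrix.mul_apply, hJ, hcol]
  have hJJ : J * J = n • J := by ext a b; simp [Matrix.mul_apply, hJ, hn]
  have hAA : A * A = (K : ℝ) • (1 : Matrix α α ℝ) + (L : ℝ) • A + (μ : ℝ) • (J - 1 - A) := by
    ext a b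
    have e : (A * A) a b = ((Finset.univ.filter fun x => R a x ∧ R x b).card : ℝ) := by
      simp only [Matrix.mul_apply, hA, Matrix.of_apply, Finset.card_filter, Nat.cast_sum]
      exact Finset.sum_congr rfl fun x _ => by by_cases h1 : R a x <;> by_cases h2 : R x b <;> simp [h1, h2]
    rw [e]
    rcases eq_or_ne a b with rfl | hab
    · have e' : (Finset.univ.filter fun x => R a x ∧ R x a) = Finset.univ.filter fun x => R a x :=
        Finset.filter_congr fun x _ => ⟨fun r => r.1, fun r => ⟨r, hsymm a x r⟩⟩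
      rw [e', hK]
      simp [hA, hJ, hirr]
    · rw [hc a b hab]
      by_cases hr : R a b <;> simp [hA, hJ, hr, hab]
  set t : ℝ := (L : ℝ) - μ with ht
  set K0 : ℝ := 2 * K - t with hK0
  set Dd : ℝ := t ^ 2 + 4 * ((K : ℝ) - μ) with hDd
  -- the row sums of the square
  have hcount : (K : ℝ) * K = K + L * K + μ * (n - 1 - K) := by
    obtain ⟨a⟩ := ‹Nonempty α›
    have e := congrArg (fun M : Matrix α α ℝ => (M * J) a a) hAA
    simp only [Matrix.mul_assoc, hAJ, Matrix.mul_smul, Matrix.add_mul, Matrix.sub_mul, Matrix.smul_mul, Matrix.one_mul,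
      hJJ] at e
    simp [hJ] at e
    linear_combination e
  have hK2 : K0 ^ 2 = Dd + 4 * μ * n := by
    rw [hK0, hDd, ht]; linear_combination 4 * hcount
  set P : Matrix α α ℝ := 1 - n⁻¹ • J with hP
  set N : Matrix α α ℝ := (2 : ℝ) • A - t • (1 : Matrix α α ℝ) - (K0 / n) • J with hN
  have hPP : P * P = P := by
    simp only [hP, Matrix.sub_mul, Matrix.mul_sub, Matrix.one_mul, Matrix.mul_one, Matrix.smul_mul, Matrix.mul_smul, hJJ,
      smul_smul]
    match_scalars <;> field_simp <;> ring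
  have hPN : P * N = N := by
    simp only [hP, hN, Matrix.sub_mul, Matrix.mul_sub, Matrix.one_mul, Matrix.mul_one, Matrix.smul_mul, Matrix.mul_smul,
      hJA, hJJ, smul_smul, smul_sub]
    match_scalars <;> field_simp <;> (try rw [hK0]) <;> ring
  have hNP : N * P = N := by
    simp only [hP, hN, Matrix.sub_mul, Matrix.mul_sub, Matrix.one_mul, Matrix.mul_one, Matrix.smul_mul, Matrix.mul_smul,
      hAJ, hJJ, smul_smul, smul_sub]
    match_scalars <;> field_simp <;> (try rw [hK0]) <;> ring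
  have hNN : N * N = Dd • P := by
    simp only [hP, hN, Matrix.sub_mul, Matrix.mul_sub, Matrix.one_mul, Matrix.mul_one, Matrix.smul_mul, Matrix.mul_smul,
      hAJ, hJA, hJJ, hAA, smul_smul, smul_sub, smul_add]
    have hK2' : (2 * (K : ℝ) - t) ^ 2 = t ^ 2 + 4 * ((K : ℝ) - μ) + 4 * μ * n := by rw [← hK0, hK2, hDd]
    match_scalars <;> field_simp <;> (try simp only [hDd, hK0]) <;>
      first
        | ring1
        | (rw [ht]; ring1)
        | linear_combination hK2'
        | linear_combination -hK2'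
  have hD0 : 0 ≤ Dd := by
    have : (μ : ℝ) ≤ K := Nat.cast_le.2 hμK
    nlinarith [sq_nonneg t]
  by_cases htr : ((μ : ℤ) - L) * (Fintype.card α : ℤ) = 2 * (K : ℤ) - L + μ
  · exact Or.inr htr
  refine Or.inl ?_
  by_contra hsq
  set Di : ℤ := ((L : ℤ) - μ) ^ 2 + 4 * ((K : ℤ) - μ) with hDi
  have hcast : Dd = (Di : ℝ) := by rw [hDd, ht, hDi]; push_cast; ring
  have hirr' : Irrational (Real.sqrt (Di : ℝ)) :=
    irrational_sqrt_intCast_iff.2 ⟨hsq, by exact_mod_cast hcast ▸ hD0⟩
  set s := Real.sqrt (Di : ℝ) with hs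
  have hs2 : s * s = Dd := by rw [hs, hcast, Real.mul_self_sqrt (hcast ▸ hD0)]
  have hs0 : s ≠ 0 := hirr'.ne_zero
  set E : Matrix α α ℝ := (2 : ℝ)⁻¹ • (P + s⁻¹ • N) with hE
  have hEE : E * E = E := by
    simp only [hE, Matrix.add_mul, Matrix.mul_add, Matrix.smul_mul, Matrix.mul_smul, hPP, hPN, hNP, hNN, smul_smul,
      smul_add]
    match_scalars <;> field_simp <;> first | ring1 | linear_combination -hs2 | linear_combination hs2
  have hproj : LinearMap.IsProj (LinearMap.range (Matrix.toLin' E)) (Matrix.toLin' E) := by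
    refine ⟨fun x => LinearMap.mem_range_self _ x, ?_⟩
    rintro _ ⟨x, rfl⟩
    rw [← LinearMap.comp_apply, ← Matrix.toLin'_mul, hEE]
  have htrace : E.trace = (Module.finrank ℝ (LinearMap.range (Matrix.toLin' E)) : ℝ) := by
    rw [← hproj.trace, LinearMap.trace_eq_matrix_trace ℝ (Pi.basisFun ℝ α)]
    congr 1
    rw [← Matrix.toLin_eq_toLin', LinearMap.toMatrix_toLin]
  have hP' : P.trace = n - 1 := by
    simp [hP, hJ, Matrix.trace, Matrix.trace_sub, hn]
  have hN' : N.trace = (((μ : ℤ) - L) * (Fintype.card α : ℤ) - (2 * (K : ℤ) - L + μ) : ℤ) := by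
    simp [hN, hA, hJ, Matrix.trace, hn, hirr, Finset.sum_sub_distrib, hK0, ht]
    field_simp
    ring
  set r := Module.finrank ℝ (LinearMap.range (Matrix.toLin' E))
  have e : (2 : ℝ)⁻¹ * (P.trace + s⁻¹ * N.trace) = r := by
    rw [← htrace, hE, Matrix.trace_smul, Matrix.trace_add, Matrix.trace_smul, smul_eq_mul, smul_eq_mul]
  rw [hP', hN'] at e
  set T : ℤ := ((μ : ℤ) - L) * (Fintype.card α : ℤ) - (2 * (K : ℤ) - L + μ) with hT
  have hT0 : T ≠ 0 := fun q => htr (sub_eq_zero.1 (hT ▸ q))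
  set b : ℤ := 2 * (r : ℤ) - ((Fintype.card α : ℤ) - 1) with hb
  have e' : (T : ℝ) = s * (b : ℝ) := by
    rw [hb]; push_cast; rw [← hn]
    field_simp at e
    linear_combination e
  have hb0 : b ≠ 0 := fun q => hT0 (by rw [q] at e'; simpa using e')
  exact (hirr'.mul_intCast hb0).ne_int T e'.symm

end CfsgLib.Spor.Tri.Level
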