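/-
The possible numbers of common neighbours of two non-commuting members.
-/
import Cfsg.Agent.Lib.Spor.Tri.LevelCounts
import Cfsg.Agent.Lib.Spor.Tri.LevelSquare

namespace CfsgLib.Spor.Tri.Level

open CfsgLib.Spor.Tri CfsgLib.Spor.Tri.Relations

section

variable {G : Type*} [Group G] [Finite G] {D : Set G} (h : Hyp D) {d : G} (hd : d ∈ D) (hnc : NC D d)
variable {v k l m : ℕ} (L : Lev (img D d) v k l m)
include h hd hnc L

/-- The conditions on the number of common neighbours. -/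
theorem mu_facts (hprim : Cfsg.IsPrimitiveUnderConj D) :
    ∃ μ A : ℕ, (∀ a ∈ D, ∀ b ∈ D, ¬ Commute a b → (perp D a ∩ perp D b).ncard = μ) ∧ m < μ ∧ μ ≤ v ∧
      μ * A = v * (v - 1 - k) ∧ D.ncard = 1 + v + A ∧
      ((μ : ℤ) * ((k : ℤ) - m)) ^ 2 ≤ ((v : ℤ) - μ) *
        (μ * k + μ * m * l + μ * ((μ : ℤ) - 1 - m) * m - μ * (m : ℤ) ^ 2) ∧
      (IsSquare (((k : ℤ) - μ) ^ 2 + 4 * ((v : ℤ) - μ)) ∨
        ((μ : ℤ) - k) * (1 + v + A : ℤ) = 2 * (v : ℤ) - k + μ) := by
  classical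
  haveI := Fintype.ofFinite G
  obtain ⟨y, hy⟩ : (perp D d).Nonempty := by
    obtain ⟨q, hq⟩ : (img D d).Nonempty := by
      obtain ⟨a, ha, -⟩ := L.prim.2.1
      exact ⟨a, ha⟩
    obtain ⟨y, hy, -⟩ := exists_bar hq
    exact ⟨y, hy⟩
  have hw : ∃ a ∈ D, ∃ b ∈ D, a ≠ b ∧ Commute a b := ⟨d, hd, y, hy.1, hy.2.1.symm, hy.2.2⟩
  obtain ⟨hR, hperf⟩ := rank_three_data h hprim hw
  obtain ⟨c, hc, hdc⟩ := h.exists_not_commute hd hy.1 hy.2.1.symm
  set μ := (perp D d ∩ perp D c).ncard with hμ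
  have hall : ∀ a ∈ D, ∀ b ∈ D, ¬ Commute a b → (perp D a ∩ perp D b).ncard = μ :=
    (counts_of_pairs h hprim hd hy hd hc hdc rfl rfl rfl).2.2
  have hpos : 0 < μ := by
    obtain ⟨e, e1, e2⟩ := exists_common_perp h hR hperf hd hc hdc
    exact (Set.ncard_pos (Set.toFinite _)).2 ⟨e, e1, e2⟩
  obtain ⟨A, hA, -, hcard⟩ := edge_count h hd hnc L hall
  obtain ⟨U, n, -, -, hU, hS1, hS2, hm⟩ := moments h hd hnc L hc hdc hμ.symm
  have hle : μ ≤ v := by
    rw [← deg_of_local h hd hnc L hd]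
    exact Set.ncard_le_ncard Set.inter_subset_left (Set.toFinite _)
  refine ⟨μ, A, hall, hm hpos, hle, hA, hcard, ?_, ?_⟩
  · rw [← hS1, ← hS2, ← hU]
    exact sq_sum_le_card_mul_sum_sq
  · haveI : Nonempty ↥D := ⟨⟨d, hd⟩⟩
    have hcnt : ∀ (S : Set G) (P : ↥D → Prop) [DecidablePred P], S ⊆ D → (∀ x : ↥D, P x ↔ (x : G) ∈ S) →
        (Finset.univ.filter P).card = S.ncard := by
      intro S P _ hS hP
      rw [Set.ncard_eq_toFinset_card', ← Finset.card_image_of_injective _ Subtype.val_injective]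
      refine congrArg Finset.card (Finset.ext fun x => ?_)
      simp only [Finset.mem_image, Finset.mem_filter, Finset.mem_univ, true_and, Set.mem_toFinset]
      exact ⟨fun ⟨z, hz, e⟩ => e ▸ (hP z).1 hz, fun hx => ⟨⟨x, hS hx⟩, (hP _).2 hx, rfl⟩⟩
    have e := square_of_regular (fun a b : ↥D => (b : G) ∈ perp D (a : G)) (fun a b r => perp_symm a.2 r)
      (fun a r => r.2.1 rfl) (K := v) (L := k) (μ := μ)
      (fun a => (hcnt (perp D (a : G)) _ (fun x r => r.1) fun x => Iff.rfl).trans (deg_of_local h hd hnc L a.2))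
      (fun a b hab => by
        rw [hcnt (perp D (a : G) ∩ perp D (b : G)) _ (fun x r => r.1.1)
          fun x => ⟨fun r => ⟨r.1, perp_symm x.2 r.2⟩, fun r => ⟨r.1, perp_symm b.2 r.2⟩⟩]
        split_ifs with r
        · exact lam_of_local h hd hnc L a.2 r
        · exact hall _ a.2 _ b.2 fun q => r ⟨b.2, fun q' => hab (Subtype.ext q'.symm), q⟩) hle
    rw [show (Fintype.card ↥D : ℤ) = (1 + v + A : ℤ) by
      rw [← Nat.card_eq_fintype_card, Nat.card_coe_set_eq, hcard]; push_cast; rfl] at e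
    exact e

omit h hd hnc L in
theorem not_square_between {D : ℤ} {r : ℕ} (h1 : (r : ℤ) ^ 2 < D) (h2 : D < ((r : ℤ) + 1) ^ 2) : ¬ IsSquare D := by
  rintro ⟨s, rfl⟩
  have hs : (|s|) ^ 2 = s * s := by rw [sq_abs]; ring
  rw [← hs] at h1 h2
  have h3 : (r : ℤ) < |s| := lt_of_pow_lt_pow_left₀ 2 (abs_nonneg s) h1
  have h4 : |s| < (r : ℤ) + 1 := lt_of_pow_lt_pow_left₀ 2 (by positivity) h2
  omega

/-- Divisors that are not square discriminants. -/
def cand22 : List (ℕ × ℕ) := [(128, 70), (132, 67), (144, 59), (154, 53), (168, 47), (176, 45), (192, 46)]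

set_option maxRecDepth 100000 in
set_option synthInstance.maxSize 4000 in
set_option synthInstance.maxHeartbeats 200000 in
omit h hd hnc L in
theorem cand22_complete : ∀ μ < 199, 126 ≤ μ → 354816 % μ = 0 → μ = 126 ∨ μ = 198 ∨ ∃ p ∈ cand22, p.1 = μ ∧
    p.2 ^ 2 < (180 - μ + (μ - 180)) ^ 2 + 4 * (693 - μ) ∧
    (180 - μ + (μ - 180)) ^ 2 + 4 * (693 - μ) < (p.2 + 1) ^ 2 ∧ (μ ≤ 180 ∨ 180 + 2 ≤ μ) := by
  decide +kernel

/-- Divisors that are not square discriminants. -/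
def cand23 : List (ℕ × ℕ) := [(352, 359), (360, 351), (384, 328), (390, 322), (396, 317), (416, 298), (429, 286), (432, 283), (440, 276), (468, 250), (480, 239), (495, 226), (512, 211), (520, 204), (528, 197), (540, 187), (572, 162), (576, 159), (585, 152), (594, 146), (624, 127), (640, 119), (660, 111)]

set_option maxRecDepth 100000 in
set_option synthInstance.maxSize 4000 in
set_option synthInstance.maxHeartbeats 200000 in
omit h hd hnc L in
theorem cand23_complete : ∀ μ < 676, 351 ≤ μ → 9884160 % μ = 0 → μ = 351 ∨ ∃ p ∈ cand23, p.1 = μ ∧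
    p.2 ^ 2 < (693 - μ + (μ - 693)) ^ 2 + 4 * (3510 - μ) ∧
    (693 - μ + (μ - 693)) ^ 2 + 4 * (3510 - μ) < (p.2 + 1) ^ 2 ∧ (μ ≤ 693 ∨ 693 + 2 ≤ μ) := by
  decide +kernel

/-- Divisors that are not square discriminants. -/
def cand24 : List (ℕ × ℕ) := [(352, 3177), (360, 3169), (368, 3161), (374, 3155), (384, 3145), (391, 3138), (396, 3134), (405, 3125), (408, 3122), (414, 3116), (432, 3098), (440, 3090), (459, 3071), (460, 3070), (480, 3050), (495, 3035), (506, 3024), (510, 3020), (512, 3018), (528, 3002), (540, 2990), (544, 2986), (552, 2978), (561, 2970), (576, 2955), (594, 2937), (612, 2919), (621, 2910), (640, 2891), (648, 2883), (660, 2871), (680, 2851), (690, 2841), (704, 2827), (720, 2812), (736, 2796), (748, 2784), (759, 2773), (765, 2767), (768, 2764), (782, 2750), (792, 2740), (810, 2722), (816, 2716), (828, 2704), (864, 2669), (880, 2653), (891, 2642), (918, 2615), (920, 2613), (935, 2598), (960, 2573), (990, 2544),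 (1012, 2522), (1020, 2514), (1035, 2499), (1056, 2478), (1080, 2455), (1088, 2447), (1104, 2431), (1122, 2413), (1152, 2383), (1173, 2362), (1188, 2348), (1224, 2312), (1242, 2294), (1265, 2271), (1280, 2257), (1296, 2241), (1320, 2217), (1360, 2178), (1377, 2161), (1380, 2158), (1408, 2130), (1440, 2099), (1472, 2067), (1485, 2054), (1496, 2043), (1518, 2022), (1530, 2010), (1536, 2004), (1564, 1976), (1584, 1956), (1620, 1921), (1632, 1909), (1656, 1886), (1683, 1859), (1728, 1815), (1760, 1783), (1782, 1762), (1836, 1709), (1840, 1705), (1863, 1682), (1870, 1675), (1920, 1626), (1955, 1592), (1980, 1568), (2024, 1525), (2040, 1509), (2070, 1480), (2112, 1439), (2160, 1393), (2176, 1377), (2208, 1346), (2244, 1311), (2277, 1279), (2295, 1262), (2304, 1253), (2346, 1213), (2376, 1184), (2448, 1115), (2484, 1081), (2530, 1037), (2560, 1009), (2592, 979), (2640, 934), (2720, 860), (2754, 828), (2760, 823), (2805, 782), (2816, 772),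 (2880, 715), (2944, 659), (2970, 637), (2992, 618), (3036, 582), (3060, 562), (3105, 527), (3128, 509), (3168, 480)]

set_option maxRecDepth 100000 in
set_option synthInstance.maxSize 4000 in
set_option synthInstance.maxHeartbeats 200000 in
omit h hd hnc L in
theorem cand24_complete : ∀ μ < 3241, 352 ≤ μ → 891855360 % μ = 0 → μ = 3240 ∨ ∃ p ∈ cand24, p.1 = μ ∧
    p.2 ^ 2 < (3510 - μ + (μ - 3510)) ^ 2 + 4 * (31671 - μ) ∧
    (3510 - μ + (μ - 3510)) ^ 2 + 4 * (31671 - μ) < (p.2 + 1) ^ 2 ∧ (μ ≤ 3510 ∨ 3510 + 2 ≤ μ) := by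
  decide +kernel

omit h hd hnc L in
theorem eliminate {μ k v A : ℕ} {C : List (ℕ × ℕ)} (hle : μ ≤ v) (hA : μ * A = v * (v - 1 - k)) (hμ : 0 < μ)
    (hsq : IsSquare (((k : ℤ) - μ) ^ 2 + 4 * ((v : ℤ) - μ)) ∨
      ((μ : ℤ) - k) * (1 + v + A : ℤ) = 2 * (v : ℤ) - k + μ)
    (hC : ∃ p ∈ C, p.1 = μ ∧ p.2 ^ 2 < (k - μ + (μ - k)) ^ 2 + 4 * (v - μ) ∧
      (k - μ + (μ - k)) ^ 2 + 4 * (v - μ) < (p.2 + 1) ^ 2 ∧ (μ ≤ k ∨ k + 2 ≤ μ))
    (hkv : k < v) : False := by
  obtain ⟨⟨μ', r⟩, -, -, h1, h2, h3⟩ := hC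
  have e : (((k - μ + (μ - k)) ^ 2 + 4 * (v - μ) : ℕ) : ℤ) = ((k : ℤ) - μ) ^ 2 + 4 * ((v : ℤ) - μ) := by
    rcases le_or_gt μ k with h4 | h4
    · rw [Nat.sub_eq_zero_of_le h4, add_zero]; push_cast [Nat.cast_sub h4, Nat.cast_sub hle]; ring
    · rw [Nat.sub_eq_zero_of_le h4.le, zero_add]; push_cast [Nat.cast_sub h4.le, Nat.cast_sub hle]; ring
  rcases hsq with hs | hs
  · refine not_square_between (r := r) ?_ ?_ hs
    · rw [← e]; exact_mod_cast h1
    · rw [← e]; exact_mod_cast h2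
  · rcases h3 with h4 | h4
    · have h5 : ((μ : ℤ) - k) * (1 + v + A : ℤ) ≤ 0 :=
        mul_nonpos_of_nonpos_of_nonneg (by omega) (by positivity)
      omega
    · have hA' : v - 1 - k ≤ A := Nat.le_of_mul_le_mul_left
        (calc μ * (v - 1 - k) ≤ v * (v - 1 - k) := Nat.mul_le_mul_right _ hle
          _ = μ * A := hA.symm) hμ
      have h5 : (2 : ℤ) * (1 + v + A) ≤ ((μ : ℤ) - k) * (1 + v + A : ℤ) :=
        mul_le_mul_of_nonneg_right (by omega) (by positivity)
      omega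

end

theorem param22 {G : Type*} [Group G] [Finite G] {D : Set G} (h : Hyp D) {d : G} (hd : d ∈ D) (hnc : NC D d)
    (L : Lev (img D d) 693 180 51 45) (hprim : Cfsg.IsPrimitiveUnderConj D) :
    ∃ μ : ℕ, (∀ a ∈ D, ∀ b ∈ D, ¬ Commute a b → (perp D a ∩ perp D b).ncard = μ) ∧ ((μ = 126 ∧ D.ncard = 3510) ∨ (μ = 198 ∧ D.ncard = 2486)) := by
  obtain ⟨μ, A, hall, hm, hle, hA, hcard, hS, hsq⟩ := mu_facts h hd hnc L hprim
  have hA' := hA
  refine ⟨μ, hall, ?_⟩
  norm_num at hA hS hm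
  have hb : 126 ≤ μ ∧ μ ≤ 198 := by
    have hS' : (μ : ℤ) * ((μ : ℤ) * 18225) ≤ (μ : ℤ) * (((693 : ℤ) - μ) * (45 * μ + -1620)) := by
      linarith
    have hq := le_of_mul_le_mul_left hS' (by omega)
    constructor
    · by_contra hcon
      push Not at hcon
      have : (μ : ℤ) ≤ 125 := by omega
      nlinarith
    · by_contra hcon
      push Not at hcon
      have : (199 : ℤ) ≤ μ := by omega
      nlinarith
  have hmod : 354816 % μ = 0 := Nat.mod_eq_zero_of_dvd ⟨A, hA.symm⟩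
  rcases cand22_complete μ (by omega) hb.1 hmod with e | e | e
  · exact Or.inl ⟨e, by subst e; omega⟩
  · exact Or.inr ⟨e, by subst e; omega⟩
  · exact (eliminate hle hA' (by omega) hsq e (by norm_num)).elim

theorem param23 {G : Type*} [Group G] [Finite G] {D : Set G} (h : Hyp D) {d : G} (hd : d ∈ D) (hnc : NC D d)
    (L : Lev (img D d) 3510 693 180 126) (hprim : Cfsg.IsPrimitiveUnderConj D) :
    ∃ μ : ℕ, (∀ a ∈ D, ∀ b ∈ D, ¬ Commute a b → (perp D a ∩ perp D b).ncard = μ) ∧ ((μ = 351 ∧ D.ncard = 31671)) := by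
  obtain ⟨μ, A, hall, hm, hle, hA, hcard, hS, hsq⟩ := mu_facts h hd hnc L hprim
  have hA' := hA
  refine ⟨μ, hall, ?_⟩
  norm_num at hA hS hm
  have hb : 351 ≤ μ ∧ μ ≤ 675 := by
    have hS' : (μ : ℤ) * ((μ : ℤ) * 321489) ≤ (μ : ℤ) * (((3510 : ℤ) - μ) * (126 * μ + -8505)) := by
      linarith
    have hq := le_of_mul_le_mul_left hS' (by omega)
    constructor
    · by_contra hcon
      push Not at hcon
      have : (μ : ℤ) ≤ 350 := by omega
      nlinarith
    · by_contra hcon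
      push Not at hcon
      have : (676 : ℤ) ≤ μ := by omega
      nlinarith
  have hmod : 9884160 % μ = 0 := Nat.mod_eq_zero_of_dvd ⟨A, hA.symm⟩
  rcases cand23_complete μ (by omega) hb.1 hmod with e | e
  · exact ⟨e, by subst e; omega⟩
  · exact (eliminate hle hA' (by omega) hsq e (by norm_num)).elim

theorem param24 {G : Type*} [Group G] [Finite G] {D : Set G} (h : Hyp D) {d : G} (hd : d ∈ D) (hnc : NC D d)
    (L : Lev (img D d) 31671 3510 693 351) (hprim : Cfsg.IsPrimitiveUnderConj D) :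
    ∃ μ : ℕ, (∀ a ∈ D, ∀ b ∈ D, ¬ Commute a b → (perp D a ∩ perp D b).ncard = μ) ∧ ((μ = 3240 ∧ D.ncard = 306936)) := by
  obtain ⟨μ, A, hall, hm, hle, hA, hcard, hS, hsq⟩ := mu_facts h hd hnc L hprim
  have hA' := hA
  refine ⟨μ, hall, ?_⟩
  norm_num at hA hS hm
  have hb : 352 ≤ μ ∧ μ ≤ 3240 := by
    have hS' : (μ : ℤ) * ((μ : ℤ) * 9979281) ≤ (μ : ℤ) * (((31671 : ℤ) - μ) * (351 * μ + 0)) := by
      linarith
    have hq := le_of_mul_le_mul_left hS' (by omega)
    refine ⟨by omega, ?_⟩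
    by_contra hcon
    push Not at hcon
    have : (3241 : ℤ) ≤ μ := by omega
    nlinarith
  have hmod : 891855360 % μ = 0 := Nat.mod_eq_zero_of_dvd ⟨A, hA.symm⟩
  rcases cand24_complete μ (by omega) hb.1 hmod with e | e
  · exact ⟨e, by subst e; omega⟩
  · exact (eliminate hle hA' (by omega) hsq e (by norm_num)).elim

end CfsgLib.Spor.Tri.Level
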