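/-
Primitivity of the local quotient.
-/
import Cfsg.Agent.S5346
import Cfsg.Agent.Lib.Spor.Tri.LevelBridge
import Cfsg.Agent.Lib.Spor.ReflectionClass
import Cfsg.Agent.Lib.Perm.Trans.QuadSimple
import Cfsg.Agent.Lib.Perm.Trans.QuadStd

namespace CfsgLib.Spor.Tri.Level

open CfsgLib.Spor.Tri CfsgLib.Spor.Tri.Relations

variable {G : Type*} [Group G] [Finite G] {D : Set G}

omit [Finite G] in
theorem notwin_of_lev {v k l m : ℕ} (L : Lev D v k l m) (hmk : m < k) : NoTwin D := by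
  intro a ha b hb e
  by_contra hne
  have hab : ¬ Commute a b := fun hc => by
    have : b ∈ perp D a := ⟨hb, fun q => hne q.symm, hc⟩
    rw [e] at this
    exact this.2.1 rfl
  have := L.mu a ha b hb hab
  rw [← e, Set.inter_self, L.deg a ha] at this
  omega

theorem notwin_of_local (h : Hyp D) {d : G} (hd : d ∈ D) (hnc : NC D d) (hT : NoTwin (img D d))
    (hne : (perp D d).Nonempty) : NoTwin D := by
  intro a ha b hb e
  by_contra hab
  obtain ⟨g, hg⟩ : ∃ g, g * d * g⁻¹ = a := h.transitive d hd a ha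
  obtain ⟨y₀, hy₀⟩ := hne
  have hy : g * y₀ * g⁻¹ ∈ perp D a := by rw [← hg, perp_conj h]; exact ⟨y₀, hy₀, rfl⟩
  obtain ⟨u, hu⟩ := h.transitive _ hy.1 d hd
  have hmem : ∀ {x}, x ∈ perp D (g * y₀ * g⁻¹) → u * x * u⁻¹ ∈ perp D d := fun {x} hx => by
    rw [← hu, perp_conj h]; exact ⟨x, hx, rfl⟩
  have hA := hmem (perp_symm ha hy)
  have hB := hmem (perp_symm hb (e ▸ hy))
  have e' : perp D (u * a * u⁻¹) = perp D (u * b * u⁻¹) := by rw [perp_conj h, perp_conj h, e]
  refine hab ?_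
  have := hT _ (bar_mem hA) _ (bar_mem hB) (Set.ext fun q => ?_)
  · simpa using (bar_inj h hnc hA hB).1 this
  constructor
  · rintro hq
    obtain ⟨z, hz, rfl⟩ := exists_bar hq.1
    exact (bar_perp h hnc hz hB).2 (e' ▸ (bar_perp h hnc hz hA).1 hq)
  · rintro hq
    obtain ⟨z, hz, rfl⟩ := exists_bar hq.1
    exact (bar_perp h hnc hz hA).2 (e'.symm ▸ (bar_perp h hnc hz hB).1 hq)

theorem core_three_of_notwin (h : Hyp D) (hZ : Subgroup.center G = ⊥) (hT : NoTwin D) {d : G} (hd : d ∈ D) :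
    Cfsg.pCore 3 G = ⊥ := by
  haveI := CfsgLib.Coprime.pCore_normal' (G := G) 3
  by_contra hne
  obtain ⟨g, hg, hgd⟩ := h.exists_moved (N := Cfsg.pCore 3 G) (fun r => hne (le_bot_iff.1 (hZ ▸ r))) hd
  exact hgd (hT _ (h.conj g d hd) _ hd ((h.perp_iff_three_core hd (h.conj g d hd)).2 (h.mul_conj_mem hd hg)).symm)

/-- Conditions on the quotient of the group of a noncommuting pair forcing a partner for each common neighbour. -/
def PairOK (L : Type*) [Group L] : Prop := ¬ Group.IsSolvable L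

theorem exists_partner (h : Hyp D) {d c : G}
    (hL : PairOK (↥(Subgroup.closure (perp D d ∩ perp D c)) ⧸ Subgroup.center ↥(Subgroup.closure (perp D d ∩ perp D c))))
    {p : G} (hp : p ∈ perp D d ∩ perp D c) :
    ∃ q ∈ perp D d ∩ perp D c, q ≠ p ∧ Commute p q := by
  by_contra hcon
  push Not at hcon
  set P := perp D d ∩ perp D c with hP
  set L := Subgroup.closure P with hLdef
  let E : Set ↥L := {x | (x : G) ∈ P}
  have hPconj : ∀ {g : G}, g ∈ L → ∀ {x : G}, x ∈ P → g * x * g⁻¹ ∈ P := fun {g} hg {x} hx => by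
    have hfix : ∀ a, (∀ y ∈ P, Commute a y) → g * a * g⁻¹ = a := fun a hay => by
      have hle : L ≤ Subgroup.centralizer {a} :=
        (Subgroup.closure_le _).2 fun y hy => Subgroup.mem_centralizer_singleton_iff.2 (hay y hy).symm.eq
      rw [Subgroup.mem_centralizer_singleton_iff.1 (hle hg), mul_inv_cancel_right]
    have h1 : g * x * g⁻¹ ∈ perp D (g * d * g⁻¹) ∩ perp D (g * c * g⁻¹) := by
      rw [image_inter_conj h]; exact ⟨x, hx, rfl⟩
    rwa [hfix d fun y hy => hy.1.2.2, hfix c fun y hy => hy.2.2.2] at h1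
  have hE : Cfsg.IsThreeTranspositionGroup E := by
    refine ⟨⟨fun x hx => ?_, fun x hx y hy => ?_⟩, fun g x hx => hPconj g.2 hx, ?_⟩
    · rw [← Subgroup.orderOf_coe]; exact h.set.1 _ hx.1.1
    · exact (h.set.2 _ hx.1.1 _ hy.1.1).imp (fun r => Subtype.ext r) fun r => Subtype.ext r
    · exact Subgroup.closure_closure_coe_preimage (k := P)
  set p' : ↥L := ⟨p, Subgroup.subset_closure hp⟩
  -- all members are conjugate to `p`, hence isolated
  have hiso : ∀ x ∈ E, ∀ y ∈ E, x ≠ y → ¬ Commute x y := by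
    intro x hx y hy hxy hc
    have hc' : Commute (x : G) y := hc.map L.subtype
    obtain ⟨g, hgL, hgx⟩ : ∃ g ∈ L, g * p * g⁻¹ = (x : G) := by
      rcases eq_or_ne (x : G) p with e | e
      · exact ⟨1, one_mem _, by simp [e]⟩
      refine ⟨p * x, mul_mem (Subgroup.subset_closure hp) x.2, ?_⟩
      have hn : ¬ Commute p (x : G) := fun r => hcon _ hx e r
      rw [mul_inv_rev, h.inv_eq hp.1.1, h.inv_eq hx.1.1]
      calc p * x * p * (x * p) = p * (x * p * x) * p := by group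
        _ = p * (p * x * p) * p := by rw [← h.braid hp.1.1 hx.1.1 hn]
        _ = x := h.conj_conj hp.1.1
    refine hcon (g⁻¹ * y * g) (by simpa using hPconj (inv_mem hgL) hy) (fun e => hxy (Subtype.ext ?_)) ?_
    · rw [← hgx, ← e]; group
    · have := (Commute.conj_iff g⁻¹).2 hc'
      rw [← hgx] at this
      simpa [mul_assoc] using this
  have hw : Cfsg.commutingWidth E = 1 := by
    refine le_antisymm (csSup_le' ?_) (le_csSup ⟨Nat.card ↥L, ?_⟩ ⟨{p'}, by simpa [E] using hp, Set.toFinite _,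
      by simp, Set.ncard_singleton p'⟩)
    · rintro n ⟨S, hS, hfin, hc, rfl⟩
      rw [Set.ncard_le_one hfin]
      intro a ha b hb
      by_contra hab
      exact hiso a (hS ha) b (hS hb) hab (hc a ha b hb)
    · rintro n ⟨S, -, -, -, rfl⟩
      exact Set.ncard_univ ↥L ▸ Set.ncard_le_ncard (Set.subset_univ S)
  have htop := (Cfsg.Agent.S5346.result hE (d := p') hp).1 hw
  haveI h3n := CfsgLib.Coprime.pCore_normal' (G := ↥L) 3
  haveI h3s : Group.IsSolvable ↥(Cfsg.pCore 3 ↥L) := by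
    haveI := Fact.mk Nat.prime_three
    haveI := (CfsgLib.Coprime.pCore_isPGroup (G := ↥L) 3).isNilpotent
    infer_instance
  have hs : Group.IsSolvable ↥(Subgroup.zpowers p' ⊔ Cfsg.pCore 3 ↥L) :=
    sup_isSolvable_of_normal h3n inferInstance h3s
  rw [htop] at hs
  haveI := hs
  haveI : Group.IsSolvable ↥L :=
    Group.isSolvable_of_surjective (f := (Subgroup.topEquiv : (⊤ : Subgroup ↥L) ≃* ↥L).toMonoidHom)
      (MulEquiv.surjective _)
  exact hL (Group.isSolvable_of_surjective (f := QuotientGroup.mk' (Subgroup.center ↥L)) (QuotientGroup.mk'_surjective _))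

/-- The local quotient of a primitive class is connected. -/
theorem img_connected (h : Hyp D) (hprim : Cfsg.IsPrimitiveUnderConj D) {d₀ c₀ : G} (hd₀ : d₀ ∈ D) (hc₀ : c₀ ∈ D)
    (hdc₀ : ¬ Commute d₀ c₀)
    (hL : PairOK (↥(Subgroup.closure (perp D d₀ ∩ perp D c₀)) ⧸ Subgroup.center ↥(Subgroup.closure (perp D d₀ ∩ perp D c₀))))
    {d : G} (hd : d ∈ D) (hnc : NC D d) {q q' : ↥(loc D d) ⧸ Subgroup.center ↥(loc D d)}
    (hq : q ∈ img D d) (hq' : q' ∈ img D d) : Relation.ReflTransGen (CAdj (img D d)) q q' := by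
  obtain ⟨a, ha, rfl⟩ := exists_bar hq
  obtain ⟨b, hb, rfl⟩ := exists_bar hq'
  by_cases hab : Commute a b
  · exact Relation.ReflTransGen.single ⟨hq, hq', (bar_commute h ha hb).2 hab⟩
  obtain ⟨hR, hperf⟩ := rank_three_data h hprim ⟨d, hd, a, ha.1, ha.2.1.symm, ha.2.2⟩
  obtain ⟨g, hg⟩ := h.transitive a ha.1 d₀ hd₀
  have hb' : ¬ Commute d₀ (g * b * g⁻¹) := fun r => hab ((Commute.conj_iff g).1 (hg.symm ▸ r))
  obtain ⟨u, hu, hub⟩ := exists_conj_not_commute h hR hperf hd₀ (h.conj g b hb.1) hc₀ hb' hdc₀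
  set w := u * g with hw
  have ea : w * a * w⁻¹ = d₀ := by
    calc w * a * w⁻¹ = u * (g * a * g⁻¹) * u⁻¹ := by rw [hw]; group
      _ = d₀ := by rw [hg, conj_eq_of_commute hu]
  have eb : w * b * w⁻¹ = c₀ := by rw [hw, ← hub]; group
  have himg : perp D d₀ ∩ perp D c₀ = (fun x => w * x * w⁻¹) '' (perp D a ∩ perp D b) := by
    rw [← image_inter_conj h, ea, eb]
  obtain ⟨r, hr, hrne, hrc⟩ := exists_partner h hL (p := w * d * w⁻¹)
    (by rw [himg]; exact ⟨d, ⟨perp_symm hd ha, perp_symm hd hb⟩, rfl⟩)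
  rw [himg] at hr
  obtain ⟨z, hz, rfl⟩ := hr
  have hzd : z ∈ perp D d := ⟨hz.1.1, fun e => hrne (by rw [e]), (Commute.conj_iff w).1 hrc⟩
  exact (Relation.ReflTransGen.single ⟨hq, bar_mem hzd, (bar_commute h ha hzd).2 hz.1.2.2⟩).tail
    ⟨bar_mem hzd, hq', (bar_commute h hzd hb).2 hz.2.2.2.symm⟩

/-- Reflection groups modulo three give the conditions. -/
theorem pairOK_refl {L : Type*} [Group L] [Finite L] {n : ℕ} (h5 : 5 ≤ n) {μ c : ZMod 3} (hc : c ≠ 0)
    (h : Cfsg.IsProjReflectionGroupModThree L n μ c) : PairOK L := by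
  haveI : Fact (Nat.Prime 3) := ⟨Nat.prime_three⟩
  obtain ⟨Q, hQ, -, ⟨e⟩⟩ := h
  have hQ' := CfsgLib.Orth.nd_of_qf Q hQ
  obtain ⟨h2, h3, hD2, -⟩ := CfsgLib.Spor.ReflectionClass.facts hQ' h5 hc
  have hH := hyp_of_class (CfsgLib.Spor.ReflectionClass.isClass hQ' h5 hc)
  intro hs
  haveI := hs
  haveI hq : Group.IsSolvable (↥(Cfsg.reflectionSubgroup (⇑Q) c) ⧸
      Subgroup.center ↥(Cfsg.reflectionSubgroup (⇑Q) c)) :=
    Group.isSolvable_of_surjective (f := e.toMonoidHom) e.surjective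
  haveI hR : Group.IsSolvable ↥(Cfsg.reflectionSubgroup (⇑Q) c) :=
    (Group.isSolvable_iff_subgroup_quotient (Subgroup.center ↥(Cfsg.reflectionSubgroup (⇑Q) c))).2
      ⟨Group.isSolvable_of_comm fun a b => Subtype.ext (Subgroup.mem_center_iff.1 b.2 a.1), hq⟩
  haveI : Nontrivial ↥(Cfsg.layer ↥(Cfsg.reflectionSubgroup (⇑Q) c)) :=
    (Subgroup.nontrivial_iff_ne_bot _).2 (hH.layer_ne_bot hD2 h2 h3)
  have hp := (hH.layer_isComponent hD2 h2 h3).2.1.commutator_eq_top
  exact (Group.IsSolvable.commutator_lt_top_of_nontrivial _).ne hp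

/-- The M(24) pair condition. -/
theorem pairOK_omega {L : Type*} [Group L] [Finite L] (N : Subgroup L)
    (e : N ≃* Cfsg.POmega (ZMod 3) (Cfsg.quadFormPlus 4 (ZMod 3))) : PairOK L := by
  haveI : Fact (Nat.Prime 3) := ⟨Nat.prime_three⟩
  have hn : 5 ≤ Fintype.card (Fin 4 ⊕ Fin 4) := by simp
  haveI := CfsgLib.Perm.Trans.Quad.pomega_isSimple (F := ZMod 3)
    (CfsgLib.Perm.Trans.Quad.quadFormPlus_nd (F := ZMod 3) (m := 4)) hn
  have hperf : commutator (Cfsg.POmega (ZMod 3) (Cfsg.quadFormPlus 4 (ZMod 3))) = ⊤ := by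
    have hc := CfsgLib.Perm.Trans.Quad.omega_perfect (F := ZMod 3)
      (CfsgLib.Perm.Trans.Quad.quadFormPlus_nd (F := ZMod 3) (m := 4)) hn
    rw [commutator_def, ← Subgroup.map_top_of_surjective (QuotientGroup.mk' _) (QuotientGroup.mk'_surjective _),
      ← Subgroup.map_commutator, ← commutator_def, hc]
  intro hs
  haveI := hs
  haveI : Group.IsSolvable (Cfsg.POmega (ZMod 3) (Cfsg.quadFormPlus 4 (ZMod 3))) :=
    Group.isSolvable_of_surjective (f := e.toMonoidHom) e.surjective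
  exact (Group.IsSolvable.commutator_lt_top_of_nontrivial _).ne hperf

end CfsgLib.Spor.Tri.Level
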