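/-
The centralizer of a member is generated by the members commuting with it.
-/
import Cfsg.Agent.Lib.Spor.Tri.LevelCounts

namespace CfsgLib.Spor.Tri.Level

open CfsgLib.Spor.Tri CfsgLib.Spor.Tri.Relations

variable {G : Type*} [Group G] [Finite G] {D : Set G} (h : Hyp D)
variable {d : G} (hd : d ∈ D) (hnc : NC D d) {v k l m : ℕ} (L : Lev (img D d) v k l m)
variable (hdl : d ∈ loc D d) (hZl : ∀ z ∈ Subgroup.center ↥(loc D d), (z : G) = 1 ∨ (z : G) = d)
variable (hfar : ∀ e ∈ perp D d, ∃ f ∈ D, ¬ Commute f d ∧ ¬ Commute f e)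
variable (hcommon : ∀ a ∈ D, ∀ b ∈ D, ∃ r, r ∈ perp D a ∩ perp D b)
variable (hn : ∀ f ∈ D, ¬ Commute f d → ∀ e ∈ perp D d, e ∉ perp D f → ∃ q, q ∈ perp D d ∩ perp D f ∩ perp D e)

omit [Finite G] in
theorem sigma_conj (h : Hyp D) {d e f : G} (hd : d ∈ D) (he : e ∈ D) (hf : f ∈ D) (hde : Commute d e)
    (hfd : ¬ Commute f d) (hfe : ¬ Commute f e) :
    f * e * d * f * d * (f * e * d * f)⁻¹ = e := by
  rw [mul_inv_rev, mul_inv_rev, mul_inv_rev, h.inv_eq hd, h.inv_eq he, h.inv_eq hf]
  calc f * e * d * f * d * (f * (d * (e * f))) = f * e * d * (f * d * f) * d * e * f := by group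
    _ = f * e * (d * d) * f * (d * d) * e * f := by rw [h.braid hf hd hfd]; group
    _ = f * e * f * e * f := by rw [h.mul_self hd]; group
    _ = (f * e * f) * e * f := by group
    _ = e * f * (e * e) * f := by rw [h.braid hf he hfe]; group
    _ = e := by rw [h.mul_self he, mul_one, mul_assoc, h.mul_self hf, mul_one]

omit [Finite G] in
theorem pair_conj' (h : Hyp D) {d x : G} (hd : d ∈ D) (hx : x ∈ D) (hn : ¬ Commute d x) :
    d * x * d * (d * x)⁻¹ = x := by
  rw [mul_inv_rev, h.inv_eq hd, h.inv_eq hx]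
  calc d * x * d * (x * d) = (d * x * d) * x * d := by group
    _ = x * d * (x * x) * d := by rw [h.braid hd hx hn]; group
    _ = x := by rw [h.mul_self hx, mul_one, mul_assoc, h.mul_self hd, mul_one]

omit [Finite G] in
theorem fixes_of_same {a b g g' : G} (e : g * a * g⁻¹ = b) (e' : g' * a * g'⁻¹ = b) : Commute a (g⁻¹ * g') := by
  show a * (g⁻¹ * g') = g⁻¹ * g' * a
  calc a * (g⁻¹ * g') = g⁻¹ * (g * a * g⁻¹) * g' := by group
    _ = g⁻¹ * (g' * a * g'⁻¹) * g' := by rw [e, e']
    _ = g⁻¹ * g' * a := by group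

omit [Finite G] in
/-- A member commuting with the point of a coset fixes the coset. -/
theorem smul_fix (h : Hyp D) {d : G} (hdl : d ∈ loc D d) {s t : G} (hs : s ∈ D)
    (hc : Commute s (t * d * t⁻¹)) : s • (QuotientGroup.mk t : G ⧸ loc D d) = QuotientGroup.mk t := by
  show QuotientGroup.mk (s * t) = _
  refine (QuotientGroup.eq.2 ?_).symm
  have h1 : t⁻¹ * s * t ∈ D := by simpa using h.conj t⁻¹ s hs
  have h2 : Commute d (t⁻¹ * s * t) := by
    have := (Commute.conj_iff t⁻¹).2 hc.symm
    rwa [show t⁻¹ * (t * d * t⁻¹) * t⁻¹⁻¹ = d by group, inv_inv] at this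
  rw [← mul_assoc]
  rcases eq_or_ne (t⁻¹ * s * t) d with r | r
  · rw [r]; exact hdl
  · exact perp_loc ⟨h1, r, h2⟩

include h hd hnc L hdl hZl in
/-- An element of a neighbouring local group fixing `d` is local at `d`. -/
theorem local_mem {r : G} (hr : r ∈ perp D d) {x : G} (hx : x ∈ loc D r) (hxd : Commute d x) : x ∈ loc D d := by
  obtain ⟨g, hg⟩ := h.transitive r hr.1 d hd
  have hd' : g * d * g⁻¹ ∈ perp D d := by
    have h1 : g * d * g⁻¹ ∈ perp D (g * r * g⁻¹) := by rw [perp_conj h]; exact ⟨d, perp_symm hd hr, rfl⟩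
    rwa [hg] at h1
  have hx' : g * x * g⁻¹ ∈ loc D d := by rw [← hg, loc_conj h]; exact ⟨x, hx, rfl⟩
  set X : ↥(loc D d) := ⟨g * x * g⁻¹, hx'⟩ with hX
  have hcen : (QuotientGroup.mk X : ↥(loc D d) ⧸ Subgroup.center ↥(loc D d)) ∈
      Subgroup.centralizer ({bar hd'} : Set (↥(loc D d) ⧸ Subgroup.center ↥(loc D d))) := by
    rw [Subgroup.mem_centralizer_singleton_iff]
    exact ((show Commute X ⟨g * d * g⁻¹, perp_loc hd'⟩ from
      Subtype.ext ((Commute.conj_iff g).2 hxd.symm).eq).map (QuotientGroup.mk' _)).eq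
  set S := Subgroup.closure (perp D d ∩ perp D (g * d * g⁻¹)) with hS
  have hle : loc (img D d) (bar hd') ≤
      (S.subgroupOf (loc D d)).map (QuotientGroup.mk' (Subgroup.center ↥(loc D d))) := by
    refine (Subgroup.closure_le _).2 fun q hq => ?_
    obtain ⟨z, hz, rfl⟩ := exists_bar hq.1
    exact ⟨⟨z, perp_loc hz⟩, Subgroup.subset_closure ⟨hz, (bar_perp h hnc hz hd').1 hq⟩, rfl⟩
  obtain ⟨s, hs, hse⟩ := hle (L.cent _ (bar_mem hd') hcen)
  set z := s⁻¹ * X with hz'
  have hz : z ∈ Subgroup.center ↥(loc D d) := QuotientGroup.eq.1 hse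
  have hxe : x = g⁻¹ * s * g * (g⁻¹ * (z : G) * g) := by
    have : (z : G) = (s : G)⁻¹ * (g * x * g⁻¹) := rfl
    rw [this]; group
  rw [hxe]
  refine mul_mem ?_ ?_
  · have hmap : S.map (MulAut.conj g⁻¹).toMonoidHom ≤ loc D d := by
      rw [hS, MonoidHom.map_closure, Subgroup.closure_le]
      rintro _ ⟨y, hy, rfl⟩
      refine perp_loc ?_
      have h1 : g⁻¹ * y * g⁻¹⁻¹ ∈ perp D (g⁻¹ * (g * d * g⁻¹) * g⁻¹⁻¹) := by
        rw [perp_conj h]; exact ⟨y, hy.2, rfl⟩
      rwa [show g⁻¹ * (g * d * g⁻¹) * g⁻¹⁻¹ = d by group] at h1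
    exact hmap ⟨s, hs, by show g⁻¹ * (s : G) * g⁻¹⁻¹ = _; rw [inv_inv]⟩
  · rcases hZl z hz with e | e <;> rw [e]
    · simp
    · rw [show g⁻¹ * d * g = r by rw [← hg]; group]; exact perp_loc hr

include h hd hnc L hdl hZl hn in
/-- The coset attached to a neighbour does not depend on the auxiliary member. -/
theorem sigma_indep {e f f' : G} (he : e ∈ perp D d) (hf : f ∈ D) (hfd : ¬ Commute f d) (hfe : ¬ Commute f e)
    (hf' : f' ∈ D) (hfd' : ¬ Commute f' d) (hfe' : ¬ Commute f' e) :
    (QuotientGroup.mk (f * e * d * f) : G ⧸ loc D d) = QuotientGroup.mk (f' * e * d * f') := by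
  set M : G → Prop := fun x => x ∈ D ∧ ¬ Commute x d ∧ ¬ Commute x e with hM
  have same : ∀ q ∈ perp D d ∩ perp D e, ∀ x y, M x → M y → q ∈ perp D x → q ∈ perp D y →
      (QuotientGroup.mk (x * e * d * x) : G ⧸ loc D d) = QuotientGroup.mk (y * e * d * y) := by
    intro q hq x y hx hy hqx hqy
    refine QuotientGroup.eq.2 (local_mem h hd hnc L hdl hZl hq.1 ?_
      (fixes_of_same (sigma_conj h hd he.1 hx.1 he.2.2 hx.2.1 hx.2.2) (sigma_conj h hd he.1 hy.1 he.2.2 hy.2.1 hy.2.2)))
    have m1 := perp_loc (perp_symm hd hq.1)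
    have m2 := perp_loc (perp_symm he.1 hq.2)
    have m3 := perp_loc (perp_symm hx.1 hqx)
    have m4 := perp_loc (perp_symm hy.1 hqy)
    exact mul_mem (inv_mem (mul_mem (mul_mem (mul_mem m3 m2) m1) m3)) (mul_mem (mul_mem (mul_mem m4 m2) m1) m4)
  have link : ∀ p ∈ perp D d ∩ perp D e, ∀ q ∈ perp D d ∩ perp D e, Commute p q →
      ∀ x y, M x → M y → p ∈ perp D x → q ∈ perp D y →
      (QuotientGroup.mk (x * e * d * x) : G ⧸ loc D d) = QuotientGroup.mk (y * e * d * y) := by
    intro p hp q hq hpq x y hx hy hpx hqy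
    rcases eq_or_ne p q with rfl | hne
    · exact same p hp x y hx hy hpx hqy
    obtain ⟨g, hg⟩ := h.transitive q hq.1.1 d hd
    have hmem : ∀ {z}, z ∈ perp D q → g * z * g⁻¹ ∈ perp D d := fun {z} hz => by
      rw [← hg, perp_conj h]; exact ⟨z, hz, rfl⟩
    have hD' := hmem (perp_symm hd hq.1)
    have hE' := hmem (perp_symm he.1 hq.2)
    have hP' : g * p * g⁻¹ ∈ perp D d := hmem ⟨hp.1.1, hne, hpq.symm⟩
    have hconj : ∀ {a b}, a ∈ perp D b → g * a * g⁻¹ ∈ perp D (g * b * g⁻¹) := fun {a b} ha => by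
      rw [perp_conj h]; exact ⟨a, ha, rfl⟩
    obtain ⟨F, hF, hFd, hFe⟩ := L.sep _ (bar_mem hD') (bar hE') ((bar_perp h hnc _ _).2 (hconj he)) (bar hP')
      ⟨(bar_perp h hnc _ _).2 (hconj hp.1), (bar_perp h hnc _ _).2 (hconj hp.2)⟩
    obtain ⟨w, hw, rfl⟩ := exists_bar hF.1
    set z := g⁻¹ * w * g with hz
    have hzD : z ∈ D := by simpa [hz] using h.conj g⁻¹ w hw.1
    have hzc : ∀ a, Commute z a ↔ Commute w (g * a * g⁻¹) := fun a => by
      rw [← Commute.conj_iff g (a := z), show g * z * g⁻¹ = w by rw [hz]; group]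
    have hMz : M z := ⟨hzD, fun r => hFd ((bar_commute h hw hD').2 ((hzc d).1 r)),
      fun r => hFe ((bar_commute h hw hE').2 ((hzc e).1 r))⟩
    have hzq : q ∈ perp D z := ⟨hq.1.1, fun r => hw.2.1 (by rw [← hg, r, hz]; group),
      (hzc q).2 (by rw [hg]; exact hw.2.2.symm)⟩
    have hwp := (bar_perp h hnc hw hP').1 hF
    have hzp : p ∈ perp D z := ⟨hp.1.1, fun r => hwp.2.1 (by rw [r, hz]; group), (hzc p).2 hwp.2.2.symm⟩
    exact (same p hp x z hx hMz hpx hzp).trans (same q hq z y hMz hy hzq hqy)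
  obtain ⟨q, hq⟩ := hn f hf hfd e he fun r => hfe r.2.2
  obtain ⟨q', hq'⟩ := hn f' hf' hfd' e he fun r => hfe' r.2.2
  have hqe : q ∈ perp D d ∩ perp D e := ⟨hq.1.1, hq.2⟩
  have hqe' : q' ∈ perp D d ∩ perp D e := ⟨hq'.1.1, hq'.2⟩
  have hpath := L.pconn _ (bar_mem he) (bar hqe.1) ((bar_perp h hnc _ _).2 hqe.2) (bar hqe'.1)
    ((bar_perp h hnc _ _).2 hqe'.2)
  have key : ∀ Q, Relation.ReflTransGen (fun a b => a ∈ perp (img D d) (bar he) ∧ b ∈ perp (img D d) (bar he) ∧ Commute a b)
      (bar hqe.1) Q → ∀ (p : G) (hp : p ∈ perp D d), bar hp = Q → p ∈ perp D e → ∀ y, M y → p ∈ perp D y →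
      (QuotientGroup.mk (f * e * d * f) : G ⧸ loc D d) = QuotientGroup.mk (y * e * d * y) := by
    intro Q hQ
    induction hQ with
    | refl =>
      intro p hp hpQ hpe y hy hpy
      obtain rfl := (bar_inj h hnc hp hqe.1).1 hpQ
      exact same p hqe f y ⟨hf, hfd, hfe⟩ hy hq.1.2 hpy
    | @tail B C _ hstep ih =>
      intro p hp hpQ hpe y hy hpy
      obtain ⟨b, hb, hbB⟩ := exists_bar hstep.1.1
      subst hbB hpQ
      have hbe := (bar_perp h hnc hb he).1 hstep.1
      obtain ⟨x, hx⟩ : ∃ x, M x ∧ b ∈ perp D x := by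
        by_cases hbp : b = p
        · exact ⟨y, hy, hbp ▸ hpy⟩
        obtain ⟨g, hg⟩ := h.transitive b hb.1 d hd
        have hmem : ∀ {z}, z ∈ perp D b → g * z * g⁻¹ ∈ perp D d := fun {z} hz => by
          rw [← hg, perp_conj h]; exact ⟨z, hz, rfl⟩
        have hbp' : p ∈ perp D b := ⟨hp.1, Ne.symm hbp, (bar_commute h hb hp).1 hstep.2.2⟩
        have hD' := hmem (perp_symm hd hb)
        have hE' := hmem (perp_symm he.1 hbe)
        have hconj : ∀ {a c}, a ∈ perp D c → g * a * g⁻¹ ∈ perp D (g * c * g⁻¹) := fun {a c} ha => by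
          rw [perp_conj h]; exact ⟨a, ha, rfl⟩
        obtain ⟨F, hF, hFd, hFe⟩ := L.sep _ (bar_mem hD') (bar hE') ((bar_perp h hnc _ _).2 (hconj he))
          (bar (hmem hbp')) ⟨(bar_perp h hnc _ _).2 (hconj hp), (bar_perp h hnc _ _).2 (hconj hpe)⟩
        obtain ⟨w, hw, rfl⟩ := exists_bar hF.1
        set z := g⁻¹ * w * g with hz
        have hzc : ∀ a, Commute z a ↔ Commute w (g * a * g⁻¹) := fun a => by
          rw [← Commute.conj_iff g (a := z), show g * z * g⁻¹ = w by rw [hz]; group]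
        exact ⟨z, ⟨by simpa [hz] using h.conj g⁻¹ w hw.1, fun r => hFd ((bar_commute h hw hD').2 ((hzc d).1 r)),
          fun r => hFe ((bar_commute h hw hE').2 ((hzc e).1 r))⟩,
          hb.1, fun r => hw.2.1 (by rw [← hg, r, hz]; group), (hzc b).2 (by rw [hg]; exact hw.2.2.symm)⟩
      exact (ih b hb rfl hbe x hx.1 hx.2).trans
        (link b ⟨hb, hbe⟩ p ⟨hp, hpe⟩ ((bar_commute h hb hp).1 hstep.2.2) x y hx.1 hy hx.2 hpy)
  exact key _ hpath q' hqe'.1 rfl hqe'.2 f' ⟨hf', hfd', hfe'⟩ hq'.1.2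

include h hd hnc L hdl hZl hfar hcommon hn in
theorem cent_at : Subgroup.centralizer ({d} : Set G) ≤ loc D d := by
  classical
  let H := loc D d
  have hf0 : ∀ e, e ∈ perp D d → ∃ f, f ∈ D ∧ ¬ Commute f d ∧ ¬ Commute f e := hfar
  let τ : G → G ⧸ H := fun e => if e = d then QuotientGroup.mk 1 else
    if hc : e ∈ perp D d then QuotientGroup.mk (Classical.choose (hf0 e hc) * e * d * Classical.choose (hf0 e hc))
    else QuotientGroup.mk (d * e)
  have τd : τ d = QuotientGroup.mk 1 := if_pos rfl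
  have τA : ∀ e ∈ D, ¬ Commute d e → τ e = QuotientGroup.mk (d * e) := fun e _ hc => by
    simp only [τ, if_neg (ne_of_not_commute hc).symm, dif_neg (show e ∉ perp D d from fun r => hc r.2.2)]
  have τP : ∀ e ∈ perp D d, ∀ f ∈ D, ¬ Commute f d → ¬ Commute f e → τ e = QuotientGroup.mk (f * e * d * f) :=
    fun e he f hf h1 h2 => by
      simp only [τ, if_neg he.2.1, dif_pos he]
      obtain ⟨c1, c2, c3⟩ := Classical.choose_spec (hf0 e he)
      exact sigma_indep h hd hnc L hdl hZl hn he c1 c2 c3 hf h1 h2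
  have τpt : ∀ e ∈ D, ∃ t, τ e = QuotientGroup.mk t ∧ t * d * t⁻¹ = e := by
    intro e he
    rcases eq_or_ne e d with rfl | hed
    · exact ⟨1, τd, by simp⟩
    by_cases hc : Commute d e
    · obtain ⟨f, hf, h1, h2⟩ := hf0 e ⟨he, hed, hc⟩
      exact ⟨_, τP e ⟨he, hed, hc⟩ f hf h1 h2, sigma_conj h hd he hf hc h1 h2⟩
    · exact ⟨_, τA e he hc, pair_conj' h hd he hc⟩
  have cl : ∀ {x}, x ∈ D → x ≠ d → Commute d x → x ∈ H := fun hx hne hc => perp_loc ⟨hx, hne, hc⟩
  have mk_mul : ∀ {a b : G}, b ∈ H → (QuotientGroup.mk (a * b) : G ⧸ H) = QuotientGroup.mk a := fun {a b} hb =>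
    (QuotientGroup.eq.2 (by rwa [inv_mul_cancel_left])).symm
  have step : ∀ s ∈ D, ∀ x ∈ D, s • τ x = τ (s * x * s) := by
    intro s hs x hx
    by_cases hsx : Commute s x
    · obtain ⟨t, ht, htx⟩ := τpt x hx
      rw [h.conj_fix hs hsx, ht]
      exact smul_fix h hdl hs (htx ▸ hsx)
    set y := s * x * s with hy
    have hyD : y ∈ D := h.conj_mem' hs hx
    have hyx : y = x * s * x := h.braid hs hx hsx
    have hys : ¬ Commute s y := h.third_not_commute hs hx hsx
    have hxy : x = s * y * s := (h.conj_conj hs).symm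
    rcases eq_or_ne x d with rfl | hxd
    · have hyd : ¬ Commute x y := by rw [hyx]; exact h.third_not_commute hx hs fun r => hsx r.symm
      rw [τd, τA y hyD hyd]
      show QuotientGroup.mk (s * 1) = _
      rw [mul_one, hyx, show x * (x * s * x) = (x * x) * s * x by group, h.mul_self hx, one_mul, mk_mul hdl]
    rcases eq_or_ne s d with rfl | hsd
    · rw [τA x hx hsx, τA y hyD hys]
      show QuotientGroup.mk (s * (s * x)) = QuotientGroup.mk (s * y)
      rw [hy, show s * (s * x * s) = s * (s * x) * s by group, mk_mul hdl]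
    by_cases hsc : Commute d s
    · have hsH : s ∈ H := cl hs hsd hsc
      have hcs : ∀ a, Commute d (s * a * s) ↔ Commute d a := fun a => by
        have := h.commute_conj hs (x := d) (y := a)
        rwa [h.conj_fix hs hsc.symm] at this
      have hyd : y ≠ d := fun r => hxd (by rw [hxy, r, h.conj_fix hs hsc.symm])
      by_cases hxc : Commute d x
      · have hyc : Commute d y := (hcs x).2 hxc
        obtain ⟨f, hf, f1, f2⟩ := hf0 x ⟨hx, hxd, hxc⟩
        have g1 : ¬ Commute (s * f * s) d := fun r => f1 ((hcs f).1 r.symm).symm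
        have g2 : ¬ Commute (s * f * s) y := fun r => f2 ((h.commute_conj hs).1 r)
        rw [τP x ⟨hx, hxd, hxc⟩ f hf f1 f2, τP y ⟨hyD, hyd, hyc⟩ _ (h.conj_mem' hs hf) g1 g2]
        show QuotientGroup.mk (s * (f * x * d * f)) = _
        have e : s * f * s * y * d * (s * f * s) = s * (f * x * d * f) * s := by
          calc s * f * s * y * d * (s * f * s) = s * f * (s * s) * x * (s * d * s) * f * s := by rw [hy]; group
            _ = s * (f * x * d * f) * s := by rw [h.mul_self hs, h.conj_fix hs hsc.symm]; group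
        rw [e, mk_mul hsH]
      · have hyc : ¬ Commute d y := fun r => hxc ((hcs x).1 r)
        rw [τA x hx hxc, τA y hyD hyc]
        show QuotientGroup.mk (s * (d * x)) = _
        have e : d * y = s * (d * x) * s := by
          calc d * y = (d * s) * x * s := by rw [hy]; group
            _ = s * (d * x) * s := by rw [hsc.eq]; group
        rw [e, mk_mul hsH]
    have hsd' : ¬ Commute s d := fun r => hsc r.symm
    by_cases hxc : Commute d x
    · have hyc : ¬ Commute d y := by
        intro r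
        apply hsc
        have h1 : Commute d (x * y * x) := commute_third hxc r
        rwa [hyx, h.conj_conj hx] at h1
      rw [τP x ⟨hx, hxd, hxc⟩ s hs hsd' hsx, τA y hyD hyc]
      show QuotientGroup.mk (s * (s * x * d * s)) = _
      have e : d * y = s * (s * x * d * s) * x := by
        calc d * y = d * x * s * x := by rw [hyx]; group
          _ = (s * s) * x * d * s * x := by rw [hxc.eq, h.mul_self hs, one_mul]
          _ = s * (s * x * d * s) * x := by group
      rw [e, mk_mul (cl hx hxd hxc)]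
    by_cases hyd : y = d
    · rw [τA x hx hxc, hyd, τd]
      show QuotientGroup.mk (s * (d * x)) = _
      have e : s * (d * x) = d := by
        calc s * (d * x) = s * (s * x * s) * x := by rw [← hy, hyd]; group
          _ = (s * s) * x * s * x := by group
          _ = d := by rw [h.mul_self hs, one_mul, ← hyx, hyd]
      rw [e]
      exact (QuotientGroup.eq.2 (show (1 : G)⁻¹ * d ∈ H by simpa using hdl)).symm
    by_cases hyc : Commute d y
    · rw [τA x hx hxc, τP y ⟨hyD, hyd, hyc⟩ s hs hsd' hys]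
      show QuotientGroup.mk (s * (d * x)) = _
      have e : s * (d * x) = s * y * d * s * y := by
        calc s * (d * x) = s * d * (s * y * s) := by rw [hxy]; group
          _ = s * d * (y * s * y) := by rw [h.braid hs hyD hys]
          _ = s * (d * y) * s * y := by group
          _ = s * y * d * s * y := by rw [hyc.eq]; group
      rw [e, mk_mul (cl hyD hyd hyc)]
    -- the three points do not commute with `d`
    rw [τA x hx hxc, τA y hyD hyc]
    show QuotientGroup.mk (s * (d * x)) = _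
    set w := d * y * d with hw
    obtain ⟨r, hrx, hrw⟩ := hcommon x hx w (h.conj_mem' hd hyD)
    have hrd : r ≠ d := fun q => hxc (q ▸ hrx.2.2.symm)
    by_cases hrc : Commute d r
    · have hry : Commute r y := by
        have := (h.commute_conj hd).2 hrw.2.2.symm
        rwa [h.conj_fix hd hrc, h.conj_conj hd] at this
      have hrs : Commute r s := by
        have e : x * y * x = s := by rw [hyx, h.conj_conj hx]
        exact e ▸ commute_third hrx.2.2.symm hry
      have hrp : r ∈ perp D d := ⟨hrx.1, hrd, hrc⟩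
      refine QuotientGroup.eq.2 (local_mem h hd hnc L hdl hZl hrp ?_
        (fixes_of_same (b := y) ?_ (pair_conj' h hd hyD hyc)))
      · have m1 := perp_loc (perp_symm hd hrp)
        have m2 := perp_loc (perp_symm hx hrx)
        have m3 := perp_loc (show y ∈ perp D r from ⟨hyD, fun q => hyc (q ▸ hrc), hry⟩)
        have m4 := perp_loc (show s ∈ perp D r from ⟨hs, fun q => hsc (q ▸ hrc), hrs⟩)
        exact mul_mem (inv_mem (mul_mem m4 (mul_mem m1 m2))) (mul_mem m1 m3)
      · calc s * (d * x) * d * (s * (d * x))⁻¹ = s * (d * x * d * (d * x)⁻¹) * s⁻¹ := by group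
          _ = y := by rw [pair_conj' h hd hx hxc, h.inv_eq hs]
    -- `r` does not commute with `d`
    have hry : ¬ Commute r y := fun q => by
      have h1 := commute_third (a := y) q hrw.2.2.symm
      rw [hw, h.braid hd hyD hyc, h.conj_conj hyD] at h1
      exact hrc h1.symm
    have hrs : ¬ Commute r s := fun q => hry (hy ▸ commute_third q hrx.2.2.symm)
    set y2 := r * y * r with hy2
    set s' := r * s * r with hs'
    have hy2D : y2 ∈ D := h.conj_mem' hrx.1 hyD
    have hs'D : s' ∈ D := h.conj_mem' hrx.1 hs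
    have hy2c : Commute d y2 := by
      -- `r` commutes with `d y d`, so `r d r` commutes with `y`
      have e : Commute (r * d * r) y := by
        rw [h.braid hrx.1 hd fun q => hrc q.symm]
        have := (h.commute_conj hd).2 hrw.2.2.symm
        rwa [hw, h.conj_conj hd] at this
      have h2 := (h.commute_conj hrx.1).2 e
      rwa [h.conj_conj hrx.1] at h2
    have hy2d : y2 ≠ d := by
      intro q
      apply hrw.2.1
      have e : r * d * r = y := by rw [← q, hy2, h.conj_conj hrx.1]
      rw [h.braid hrx.1 hd fun q => hrc q.symm] at e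
      rw [hw, ← e, h.conj_conj hd]
    have hy2s : y2 = s' * x * s' := by
      have hrxr : r * x * r = x := h.conj_fix hrx.1 hrx.2.2.symm
      calc y2 = r * s * (r * r) * x * (r * r) * s * r := by rw [hy2, hy, h.mul_self hrx.1]; group
        _ = s' * (r * x * r) * s' := by rw [hs']; group
        _ = s' * x * s' := by rw [hrxr]
    have hs'y2 : ¬ Commute s' y2 := fun q => hys ((h.commute_conj hrx.1).1 q)
    have hs'x : ¬ Commute s' x := fun q => hs'y2 (by rw [hy2s, h.conj_fix hs'D q]; exact q)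
    have hs'd : ¬ Commute s' d := fun q => hxc (by
      have := commute_third (e := d) (a := s') q.symm hy2c
      rwa [hy2s, h.conj_conj hs'D] at this)
    have hry2 : ¬ Commute r y2 := h.third_not_commute hrx.1 hyD hry
    have hry2d : ¬ Commute r d := fun q => hrc q.symm
    have hy2H : y2 ∈ H := cl hy2D hy2d hy2c
    have e1 : (QuotientGroup.mk (s' * (d * x)) : G ⧸ H) = QuotientGroup.mk (r * y2 * d * r) := by
      have e : s' * y2 * d * s' = s' * (d * x) * y2 := by
        calc s' * y2 * d * s' = s' * d * (y2 * s') := by rw [mul_assoc s' y2 d, ← hy2c.eq]; group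
          _ = s' * d * (s' * x * (s' * s')) := by rw [hy2s]; group
          _ = s' * d * ((x * x) * (s' * x)) := by rw [h.mul_self hs'D, h.mul_self hx, one_mul, mul_one]
          _ = s' * (d * x) * (x * s' * x) := by group
          _ = s' * (d * x) * y2 := by rw [← h.braid hs'D hx hs'x, ← hy2s]
      rw [← τP y2 ⟨hy2D, hy2d, hy2c⟩ r hrx.1 hry2d hry2, τP y2 ⟨hy2D, hy2d, hy2c⟩ s' hs'D hs'd hs'y2, e,
        mk_mul hy2H]
    have hfix : r • (QuotientGroup.mk (d * x) : G ⧸ H) = QuotientGroup.mk (d * x) :=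
      smul_fix h hdl hrx.1 (by rw [pair_conj' h hd hx hxc]; exact hrx.2.2.symm)
    have hyry : y * r * y ∈ H := by
      refine cl (h.conj_mem' hyD hrx.1) (fun q => hrw.2.1 ?_) ?_
      · rw [hw, h.braid hd hyD hyc, ← q, h.conj_conj hyD]
      · have := (h.commute_conj hyD).2 hrw.2.2.symm
        rw [hw, h.braid hd hyD hyc, h.conj_conj hyD] at this
        exact this.symm
    have hsr : s = r * s' * r := (h.conj_conj hrx.1).symm
    calc (QuotientGroup.mk (s * (d * x)) : G ⧸ H) = (r * s') • (r • (QuotientGroup.mk (d * x) : G ⧸ H)) := by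
          rw [smul_smul, hsr]; rfl
      _ = r • (QuotientGroup.mk (s' * (d * x)) : G ⧸ H) := by rw [hfix, mul_smul]; rfl
      _ = QuotientGroup.mk (r * (r * y2 * d * r)) := by rw [e1]; rfl
      _ = QuotientGroup.mk (d * y * (y * r * y)) := by
          congr 1
          calc r * (r * y2 * d * r) = (r * r) * (y2 * d) * r := by group
            _ = d * (r * y * r) * r := by rw [h.mul_self hrx.1, ← hy2c.eq, one_mul, hy2]
            _ = d * r * y * (r * r) := by group
            _ = d * ((y * y) * r * y) := by rw [h.mul_self hrx.1, h.mul_self hyD, mul_one, one_mul]; group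
            _ = d * y * (y * r * y) := by group
      _ = QuotientGroup.mk (d * y) := mk_mul hyry
  have all : ∀ g : G, ∀ x ∈ D, g • τ x = τ (g * x * g⁻¹) := by
    intro g
    have hg : g ∈ Subgroup.closure D := h.gen ▸ Subgroup.mem_top g
    induction hg using Subgroup.closure_induction'' with
    | mem s hs => intro x hx; rw [h.inv_eq hs]; exact step s hs x hx
    | inv_mem s hs => intro x hx; rw [inv_inv, h.inv_eq hs]; exact step s hs x hx
    | one => intro x _; simp
    | mul a b _ _ ha hb =>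
      intro x hx
      rw [mul_smul, hb x hx, ha _ (h.conj b x hx)]
      congr 1; group
  intro g hg
  have hgd := all g d hd
  rw [Subgroup.mem_centralizer_singleton_iff.1 hg, mul_inv_cancel_right, τd] at hgd
  have : (QuotientGroup.mk (g * 1) : G ⧸ H) = QuotientGroup.mk 1 := hgd
  rw [mul_one] at this
  simpa using QuotientGroup.eq.1 this.symm

end CfsgLib.Spor.Tri.Level
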