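/-
Rigidity passes from the local quotient to the group.
-/
import Cfsg.Agent.Lib.Spor.Tri.LevelCounts

namespace CfsgLib.Spor.Tri.Level

open CfsgLib.Spor.Tri CfsgLib.Spor.Tri.Relations

variable {G : Type*} [Group G] [Finite G] {D : Set G} (h : Hyp D) (hprim : Cfsg.IsPrimitiveUnderConj D)
variable {d : G} (hd : d ∈ D) (hnc : NC D d) {v k l m : ℕ} (L : Lev (img D d) v k l m) (hkv : k + 1 < v)
include h hprim hd hnc L hkv

/-- An automorphism fixing `d` and its neighbours is trivial or conjugation by `d`. -/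
theorem rig_at (φ : MulAut G) (hD : ∀ x ∈ D, φ x ∈ D) (hφd : φ d = d) (hN : ∀ x ∈ perp D d, φ x = x) :
    φ = 1 ∨ φ = MulAut.conj d := by
  obtain ⟨q₀, hq₀⟩ : (img D d).Nonempty := by
    obtain ⟨a, ha, -⟩ := L.prim.2.1
    exact ⟨a, ha⟩
  obtain ⟨b, hb, -⟩ := exists_bar hq₀
  obtain ⟨g, hg⟩ := h.transitive b hb.1 d hd
  set d' := g * d * g⁻¹ with hd'
  have hd'm : d' ∈ perp D d := by
    have h1 : g * d * g⁻¹ ∈ perp D (g * b * g⁻¹) := by
      rw [perp_conj h]; exact ⟨d, perp_symm hd hb, rfl⟩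
    rwa [hg] at h1
  -- the conjugate automorphism fixes `d` and `d'`
  set ψ : MulAut G := MulAut.conj g * φ * (MulAut.conj g)⁻¹ with hψ
  have hψv : ∀ x, ψ x = g * φ (g⁻¹ * x * g) * g⁻¹ := fun x => by simp [hψ]
  have hgb : g⁻¹ * d * g = b := by rw [← hg]; group
  have hψd : ψ d = d := by rw [hψv, hgb, hN b hb, hg]
  have hψd' : ψ d' = d' := by
    rw [hψv, show g⁻¹ * d' * g = d by rw [hd']; group, hφd]
  have hψD : ∀ x ∈ D, ψ x ∈ D := fun x hx => by
    rw [hψv]; exact h.conj g _ (hD _ (by simpa using h.conj g⁻¹ x hx))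
  have hψN : ∀ x ∈ perp D d, ψ x ∈ perp D d := fun x hx => by
    refine ⟨hψD x hx.1, fun e => hx.2.1 (ψ.injective (e.trans hψd.symm)), ?_⟩
    have := hx.2.2.map ψ.toMonoidHom
    rwa [MulEquiv.coe_toMonoidHom, hψd] at this
  have himg : ψ '' perp D d = perp D d :=
    Set.eq_of_subset_of_ncard_le (by rintro _ ⟨x, hx, rfl⟩; exact hψN x hx)
      (Set.ncard_image_of_injective _ ψ.injective).ge (Set.toFinite _)
  have hmap : (loc D d).map ψ.toMonoidHom = loc D d := by
    show (Subgroup.closure (perp D d)).map _ = Subgroup.closure (perp D d)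
    rw [MonoidHom.map_closure, MulEquiv.coe_toMonoidHom, himg]
  let e : ↥(loc D d) ≃* ↥(loc D d) := (ψ.subgroupMap (loc D d)).trans (MulEquiv.subgroupCongr hmap)
  have hev : ∀ x : ↥(loc D d), (e x : G) = ψ x := fun x => rfl
  let E : MulAut (↥(loc D d) ⧸ Subgroup.center ↥(loc D d)) :=
    QuotientGroup.congr _ _ e (by
      ext x
      rw [Subgroup.mem_map]
      constructor
      · rintro ⟨y, hy, rfl⟩
        exact Subgroup.mem_center_iff.2 fun z => e.symm.injective (by
          simpa using Subgroup.mem_center_iff.1 hy (e.symm z))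
      · intro hx
        exact ⟨e.symm x, Subgroup.mem_center_iff.2 fun z => e.injective (by
          simpa using Subgroup.mem_center_iff.1 hx (e z)), by simp⟩)
  have hE : ∀ {x : G} (hx : x ∈ perp D d), E (bar hx) = bar (hψN x hx) := fun {x} hx => by
    show QuotientGroup.congr _ _ e _ (QuotientGroup.mk _) = _
    rw [QuotientGroup.congr_mk]
    rfl
  have hpull : (∀ y ∈ perp D b, φ y = y) ∨ ∀ y ∈ perp D b, φ y = d * y * d := by
    have hmem : ∀ {y}, y ∈ perp D b → g * y * g⁻¹ ∈ perp D d := fun {y} hy => by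
      rw [← hg, perp_conj h]; exact ⟨y, hy, rfl⟩
    have hback : ∀ y, ψ (g * y * g⁻¹) = g * φ y * g⁻¹ := fun y => by
      rw [hψv, show g⁻¹ * (g * y * g⁻¹) * g = y by group]
    rcases L.rig (bar hd'm) (bar_mem hd'm) E
      (fun q hq => by obtain ⟨z, hz, rfl⟩ := exists_bar hq; rw [hE hz]; exact bar_mem _)
      (by rw [hE hd'm]; exact (bar_inj h hnc _ _).2 hψd')
      (fun q hq => by
        obtain ⟨z, hz, rfl⟩ := exists_bar hq.1
        rw [hE hz]
        refine (bar_inj h hnc _ _).2 ?_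
        have hzd' := (bar_perp h hnc hz hd'm).1 hq
        have h1 : g⁻¹ * z * g ∈ perp D d := by
          have h2 : g⁻¹ * z * g⁻¹⁻¹ ∈ perp D (g⁻¹ * d' * g⁻¹⁻¹) := by
            rw [perp_conj h]; exact ⟨z, hzd', rfl⟩
          rwa [show g⁻¹ * d' * g⁻¹⁻¹ = d by rw [hd']; group, inv_inv] at h2
        rw [hψv, hN _ h1]; group) with r | r
    · left
      intro y hy
      have e1 := hE (hmem hy)
      rw [r, MulAut.one_apply] at e1
      have e2 := ((bar_inj h hnc _ _).1 e1).symm
      rw [hback] at e2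
      simpa using e2
    · right
      intro y hy
      have e1 := hE (hmem hy)
      rw [r, MulAut.conj_apply] at e1
      have hy' : d' * (g * y * g⁻¹) * d'⁻¹ ∈ perp D d := by
        have := (Set.ext_iff.1 (perp_conj h d' d) (d' * (g * y * g⁻¹) * d'⁻¹)).2 ⟨_, hmem hy, rfl⟩
        rwa [show d' * d * d'⁻¹ = d by rw [← hd'm.2.2.eq, mul_inv_cancel_right]] at this
      have e2 : d' * (g * y * g⁻¹) * d'⁻¹ = ψ (g * y * g⁻¹) := by
        refine (bar_inj h hnc hy' (hψN _ (hmem hy))).1 (Eq.trans ?_ e1)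
        show QuotientGroup.mk _ = QuotientGroup.mk _ * QuotientGroup.mk _ * (QuotientGroup.mk _)⁻¹
        rw [← QuotientGroup.mk_inv, ← QuotientGroup.mk_mul, ← QuotientGroup.mk_mul]
        rfl
      rw [hback, hd', show g * d * g⁻¹ * (g * y * g⁻¹) * (g * d * g⁻¹)⁻¹ = g * (d * y * d⁻¹) * g⁻¹ by group,
        h.inv_eq hd] at e2
      exact (mul_left_cancel (mul_right_cancel e2)).symm
  -- the two neighbourhoods generate
  have hdd : ∀ {x}, Commute d x → d * x * d = x := fun {x} hc => h.conj_fix hd hc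
  have hgen : Subgroup.closure ({y | y ∈ D ∧ Commute d y} ∪ perp D b) = ⊤ := by
    have hw : ∃ a ∈ D, ∃ b ∈ D, a ≠ b ∧ Commute a b := ⟨d, hd, b, hb.1, hb.2.1.symm, hb.2.2⟩
    obtain ⟨h2, h3, hconn⟩ := h.of_primitive hprim hw
    set S := {y | y ∈ D ∧ Commute d y} ∪ perp D b with hS
    have hSD : S ⊆ D := by rintro x (hx | hx) <;> exact hx.1
    have hds : Cfsg.IsDSubgroup D (Subgroup.closure S) :=
      le_antisymm ((Subgroup.closure_le _).2 fun x hx => hx.2)
        (Subgroup.closure_mono fun x hx => ⟨hSD hx, Subgroup.subset_closure hx⟩)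
    refine (h.perp_maximal hprim.2.1 h2 h3 hconn hd hds (Subgroup.closure_mono Set.subset_union_left)).resolve_left
      fun e => ?_
    have hsub : perp D b ⊆ insert d (perp D d ∩ perp D b) := fun y hy => by
      have hyS : y ∈ Subgroup.closure {y | y ∈ D ∧ Commute d y} := e ▸ Subgroup.subset_closure (Or.inr hy)
      have hle : Subgroup.closure {y | y ∈ D ∧ Commute d y} ≤ Subgroup.centralizer {d} :=
        (Subgroup.closure_le _).2 fun s hs => Subgroup.mem_centralizer_singleton_iff.2 hs.2.symm.eq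
      rcases eq_or_ne y d with r | r
      · exact Or.inl r
      · exact Or.inr ⟨⟨hy.1, r, (Subgroup.mem_centralizer_singleton_iff.1 (hle hyS)).symm⟩, hy⟩
    have hc := (Set.ncard_le_ncard hsub (Set.toFinite _)).trans (Set.ncard_insert_le _ _)
    rw [deg_of_local h hd hnc L hb.1, lam_of_local h hd hnc L hd hb] at hc
    omega
  have hext : ∀ χ : MulAut G, (∀ y ∈ D, Commute d y → χ y = y) → (∀ y ∈ perp D b, χ y = y) → χ = 1 := fun χ h1 h2 => by
    have := MonoidHom.eq_of_eqOn_dense (f := χ.toMonoidHom) (g := MonoidHom.id G) hgen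
      (by rintro x (hx | hx); exacts [h1 x hx.1 hx.2, h2 x hx])
    exact MulEquiv.ext fun x => DFunLike.congr_fun this x
  have hfix : ∀ y ∈ D, Commute d y → φ y = y := fun y hy hc => by
    rcases eq_or_ne y d with rfl | r
    · exact hφd
    · exact hN y ⟨hy, r, hc⟩
  rcases hpull with r | r
  · exact Or.inl (hext φ hfix r)
  · refine Or.inr ?_
    have e := hext (MulAut.conj d * φ)
      (fun y hy hc => by rw [MulAut.mul_apply, hfix y hy hc, MulAut.conj_apply, h.inv_eq hd, hdd hc])
      (fun y hy => by rw [MulAut.mul_apply, r y hy, MulAut.conj_apply, h.inv_eq hd, h.conj_conj hd])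
    rw [eq_inv_of_mul_eq_one_right e, ← map_inv, h.inv_eq hd]

/-- The statement at every member. -/
theorem rig_of_local : ∀ a ∈ D, ∀ φ : MulAut G, (∀ x ∈ D, φ x ∈ D) → φ a = a → (∀ x ∈ perp D a, φ x = x) →
    φ = 1 ∨ φ = MulAut.conj a := by
  intro a ha φ hD hφa hN
  obtain ⟨g, hg⟩ := h.transitive d hd a ha
  subst hg
  have key := rig_at h hprim hd hnc L hkv ((MulAut.conj g)⁻¹ * φ * MulAut.conj g)
    (fun x hx => by simpa using h.conj g⁻¹ _ (hD _ (h.conj g x hx)))
    (by simp only [MulAut.mul_apply, MulAut.conj_inv_apply, MulAut.conj_apply, hφa]; group)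
    (fun x hx => by
      have := hN (g * x * g⁻¹) (by rw [perp_conj h]; exact ⟨x, hx, rfl⟩)
      simp only [MulAut.mul_apply, MulAut.conj_inv_apply, MulAut.conj_apply, this]; group)
  rcases key with r | r
  · left
    calc φ = MulAut.conj g * ((MulAut.conj g)⁻¹ * φ * MulAut.conj g) * (MulAut.conj g)⁻¹ := by group
      _ = 1 := by rw [r]; group
  · right
    calc φ = MulAut.conj g * ((MulAut.conj g)⁻¹ * φ * MulAut.conj g) * (MulAut.conj g)⁻¹ := by group
      _ = MulAut.conj (g * d * g⁻¹) := by rw [r, map_mul, map_mul, map_inv]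

/-- The centre of the local group. -/
theorem center_loc_cases (hZ : Subgroup.center G = ⊥) {z : ↥(loc D d)} (hz : z ∈ Subgroup.center ↥(loc D d)) :
    (z : G) = 1 ∨ (z : G) = d := by
  have hfix : ∀ x ∈ perp D d, MulAut.conj (z : G) x = x := fun x hx => by
    rw [MulAut.conj_apply, ← (commute_of_central hz (perp_loc hx)).eq, mul_inv_cancel_right]
  have hcen : ∀ u : G, MulAut.conj u = 1 → u = 1 := fun u e => by
    have : u ∈ Subgroup.center G := Subgroup.mem_center_iff.2 fun x => by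
      have := DFunLike.congr_fun e x
      rw [MulAut.conj_apply, MulAut.one_apply, mul_inv_eq_iff_eq_mul] at this
      exact this.symm
    rwa [hZ, Subgroup.mem_bot] at this
  rcases rig_at h hprim hd hnc L hkv (MulAut.conj (z : G)) (fun x hx => h.conj _ x hx)
    (by rw [MulAut.conj_apply, ← (commute_loc z.2).eq, mul_inv_cancel_right]) hfix with r | r
  · exact Or.inl (hcen _ r)
  · right
    have e := hcen (d⁻¹ * z) (by rw [map_mul, map_inv, r, inv_mul_cancel])
    exact (inv_mul_eq_one.1 e).symm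

end CfsgLib.Spor.Tri.Level
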