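/-
Groups of types M(22), M(23), M(24): short relations among commuting transpositions.
-/
import Cfsg.Agent.Lib.Spor.Tri.Relations
import Cfsg.Agent.Lib.Spor.Tri.RelationsU6

namespace CfsgLib.Spor.Tri.Relations

/-- A projective reflection group of dimension at most seven has order not divisible by `2 ^ 15`. -/
theorem not_dvd_refl {X : Type*} [Group X] {n : ℕ} (hn : n = 6 ∨ n = 7) {μ c : ZMod 3}
    (h : Cfsg.IsProjReflectionGroupModThree X n μ c) : ¬ 2 ^ 15 ∣ Nat.card X := by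
  obtain ⟨Q, -, -, ⟨e⟩⟩ := h
  haveI : Fact (Nat.Prime 3) := ⟨Nat.prime_three⟩
  intro hd
  rw [Nat.card_congr e.toEquiv] at hd
  have h1 := hd.trans ((Subgroup.card_quotient_dvd_card _).trans
    ((Subgroup.card_subgroup_dvd_card _).trans (Subgroup.card_subgroup_dvd_card _)))
  rcases hn with rfl | rfl
  · rw [Matrix.card_GL_field, ZMod.card] at h1
    norm_num [Fin.prod_univ_succ] at h1
  · rw [Matrix.card_GL_field, ZMod.card] at h1
    norm_num [Fin.prod_univ_succ] at h1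

theorem dvd_of_local {G : Type*} [Group G] [Finite G] {D : Set G} {d : G} {M : ℕ}
    (h : M ∣ Nat.card (↥(loc D d) ⧸ Subgroup.center ↥(loc D d))) : M ∣ Nat.card G :=
  h.trans ((Subgroup.card_quotient_dvd_card _).trans (Subgroup.card_subgroup_dvd_card _))

theorem good_m22 {G : Type*} [Group G] [Finite G] {D : Set G} (h : Pre D) (h22 : Cfsg.IsOfTypeM22 G D) :
    Good 5 D ∧ 2 ^ 15 ∣ Nat.card G := by
  obtain ⟨hZ, d, hd, c, hc, hdc, ⟨F, hFf, hFt, hF, ⟨e⟩⟩, c₃, -, hL⟩ := h22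
  obtain ⟨hg, hdvd⟩ := @good_psu F hFf hFt hF _ _ _ e (img D d) (pre_img h d)
  have hdn : d ∈ nz D := ⟨hd, fun e1 => hdc (e1 ▸ Commute.one_left c)⟩
  exact ⟨level h hdn hZ (trans_of_local h hd hc hdc hZ hg hdvd (not_dvd_refl (Or.inl rfl) hL)) hg,
    dvd_of_local hdvd⟩

theorem good_m23 {G : Type*} [Group G] [Finite G] {D : Set G} (h : Pre D) (h23 : Cfsg.IsOfTypeM23 G D) :
    Good 6 D ∧ 2 ^ 15 ∣ Nat.card G := by
  obtain ⟨hZ, d, hd, c, hc, hdc, h22, c₃, -, hL⟩ := h23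
  obtain ⟨hg, hdvd⟩ := good_m22 (pre_img h d) h22
  have hdn : d ∈ nz D := ⟨hd, fun e1 => hdc (e1 ▸ Commute.one_left c)⟩
  exact ⟨level h hdn hZ (trans_of_local h hd hc hdc hZ hg hdvd (not_dvd_refl (Or.inr rfl) hL)) hg,
    dvd_of_local hdvd⟩

theorem good_m24 {G : Type*} [Group G] [Finite G] {D : Set G} (h : Pre D) (h24 : Cfsg.IsOfTypeM24 G D)
    (htr : ∀ a ∈ nz D, ∀ b ∈ nz D, ∃ g : G, g * a * g⁻¹ = b) : Good 7 D := by
  obtain ⟨hZ, d, hd, c, hc, hdc, h23, -⟩ := h24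
  exact level h ⟨hd, fun e1 => hdc (e1 ▸ Commute.one_left c)⟩ hZ htr (good_m23 (pre_img h d) h23).1

end CfsgLib.Spor.Tri.Relations
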