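/-
Transitivity on tuples of pairwise commuting members.
-/
import Cfsg.Agent.Lib.Spor.Tri.RelationsTypes
import Cfsg.Agent.Lib.Spor.Tri.RelationsSix

namespace CfsgLib.Spor.Tri.Relations

variable {G : Type*} [Group G] {D : Set G}

/-- A list of distinct pairwise commuting nontrivial members. -/
def Tuple (D : Set G) (l : List G) : Prop :=
  l.Nodup ∧ (∀ a ∈ l, a ∈ nz D) ∧ ∀ a ∈ l, ∀ b ∈ l, Commute a b

/-- Transitivity on tuples of length `k`. -/
def TupTrans (k : ℕ) (D : Set G) : Prop :=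
  ∀ l l' : List G, l.length = k → l'.length = k → Tuple D l → Tuple D l' →
    ∃ g : G, l.map (fun x => g * x * g⁻¹) = l'

theorem tup_one {k : ℕ} (hg : Good k D) : TupTrans 1 D := by
  intro l l' hl hl' ht ht'
  obtain ⟨a, rfl⟩ := List.length_eq_one_iff.1 hl
  obtain ⟨b, rfl⟩ := List.length_eq_one_iff.1 hl'
  obtain ⟨g, hgab⟩ := hg.trans a (ht.2.1 a List.mem_cons_self) b (ht'.2.1 b List.mem_cons_self)
  exact ⟨g, by simp [hgab]⟩

theorem tuple_map (h : Pre D) (g : G) {l : List G} (hl : Tuple D l) : Tuple D (l.map fun x => g * x * g⁻¹) := by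
  refine ⟨hl.1.map (fun x y e => by simpa using e), ?_, ?_⟩
  · intro a ha
    obtain ⟨x, hx, rfl⟩ := List.mem_map.1 ha
    exact nz_conj h g (hl.2.1 x hx)
  · intro a ha b hb
    obtain ⟨x, hx, rfl⟩ := List.mem_map.1 ha
    obtain ⟨y, hy, rfl⟩ := List.mem_map.1 hb
    exact (Commute.conj_iff g).2 (hl.2.2 x hx y hy)

theorem tup_step [Finite G] (h : Pre D) {m : ℕ} (hg : Good m D) {d : G} (hd : d ∈ nz D) {k : ℕ}
    (hk : TupTrans k (img D d)) : TupTrans (k + 1) D := by
  classical
  have hnc := hnc_of_good h hg hd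
  -- move a tuple so that it starts with `d`, and push it to the quotient
  have key : ∀ l : List G, l.length = k + 1 → Tuple D l → ∃ (g : G) (L : List ↥(loc D d)),
      l.map (fun x => g * x * g⁻¹) = d :: L.map Subtype.val ∧
      (∀ x ∈ L, (x : G) ∈ nz D ∧ (x : G) ≠ d ∧ Commute d (x : G)) ∧
      Tuple (img D d) (L.map (QuotientGroup.mk' (Subgroup.center ↥(loc D d)))) ∧ L.length = k := by
    rintro l hl ht
    obtain ⟨a, r, rfl⟩ := List.exists_cons_of_length_eq_add_one hl
    obtain ⟨g, hga⟩ := hg.trans a (ht.2.1 a List.mem_cons_self) d hd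
    obtain ⟨hnd, hmem, hcomm⟩ := tuple_map h g ht
    simp only [List.map_cons, hga] at hnd hmem hcomm
    set r' := r.map (fun x => g * x * g⁻¹) with hr'
    have hr : ∀ x ∈ r', x ∈ nz D ∧ x ≠ d ∧ Commute d x := fun x hx =>
      ⟨hmem x (List.mem_cons_of_mem d hx), fun e => (List.nodup_cons.1 hnd).1 (e ▸ hx),
        hcomm d List.mem_cons_self x (List.mem_cons_of_mem d hx)⟩
    let L : List ↥(loc D d) := r'.attach.map fun x => ⟨x.1, mem_loc (hr x.1 x.2).1.1 (hr x.1 x.2).2.1 (hr x.1 x.2).2.2⟩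
    have hL : L.map Subtype.val = r' := by
      simp only [L, List.map_map]; exact List.attach_map_subtype_val r'
    have hLm : ∀ x ∈ L, (x : G) ∈ r' := fun x hx => hL ▸ List.mem_map_of_mem hx
    refine ⟨g, L, by rw [List.map_cons, hga, hL], fun x hx => hr _ (hLm x hx), ?_, ?_⟩
    · refine ⟨?_, ?_, ?_⟩
      · refine (List.nodup_map_iff_inj_on (List.Nodup.of_map Subtype.val (hL ▸ (List.nodup_cons.1 hnd).2))).2 ?_
        intro x hx y hy e
        by_contra hne
        exact hnc x (hr _ (hLm x hx)).1 (hr _ (hLm x hx)).2.1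
          (central_of_eq h (hr _ (hLm x hx)).1 (hr _ (hLm y hy)).1 hne e)
      · intro q hq
        obtain ⟨x, hx, rfl⟩ := List.mem_map.1 hq
        obtain ⟨p1, p2, p3⟩ := hr _ (hLm x hx)
        exact ⟨⟨x, ⟨p1.1, p2, p3⟩, rfl⟩, fun e => hnc x p1 p2 (mk_eq_one.1 e)⟩
      · intro q hq q' hq'
        obtain ⟨x, hx, rfl⟩ := List.mem_map.1 hq
        obtain ⟨y, hy, rfl⟩ := List.mem_map.1 hq'
        exact (show Commute x y from Subtype.ext
          (hcomm _ (List.mem_cons_of_mem d (hLm x hx)) _ (List.mem_cons_of_mem d (hLm y hy))).eq).map _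
    · simp [L, hr']; simpa using hl
  intro l l' hl hl' ht ht'
  obtain ⟨g, L, eL, hLm, htL, hLlen⟩ := key l hl ht
  obtain ⟨g', L', eL', hLm', htL', hLlen'⟩ := key l' hl' ht'
  obtain ⟨q, hq⟩ := hk _ _ (by simpa using hLlen) (by simpa using hLlen') htL htL'
  induction q using QuotientGroup.induction_on with
  | H q =>
    have hqd : (q : G) * d * (q : G)⁻¹ = d := by rw [← (commute_loc q.2).eq, mul_inv_cancel_right]
    have hmid : L.map (fun x => q * x * q⁻¹) = L' := by
      rw [List.map_map] at hq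
      refine List.ext_getElem (by simp [hLlen, hLlen']) fun i h1 h2 => ?_
      have hi : i < L.length := by simpa using h1
      have e : (QuotientGroup.mk (q * L[i] * q⁻¹) : ↥(loc D d) ⧸ Subgroup.center ↥(loc D d)) = QuotientGroup.mk L'[i] := by
        have := List.getElem_of_eq hq (i := i) (by simpa using hi)
        simpa [QuotientGroup.mk_mul, QuotientGroup.mk_inv] using this
      rw [List.getElem_map]
      by_contra hne
      obtain ⟨p1, p2, -⟩ := hLm _ (List.getElem_mem hi)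
      obtain ⟨r1, -, -⟩ := hLm' _ (List.getElem_mem h2)
      refine hnc (q * L[i] * q⁻¹) (nz_conj h (q : G) p1) (fun r => p2 ?_)
        (central_of_eq h (nz_conj h (q : G) p1) r1 hne e)
      have r' : (q : G) * (L[i] : G) * (q : G)⁻¹ = q * d * (q : G)⁻¹ := r.trans hqd.symm
      simpa using r'
    refine ⟨g'⁻¹ * q * g, ?_⟩
    have e1 : (l.map (fun x => g * x * g⁻¹)).map (fun x => (q : G) * x * (q : G)⁻¹) =
        l'.map (fun x => g' * x * g'⁻¹) := by
      rw [eL, eL', List.map_cons, hqd, List.cons.injEq, ← hmid, List.map_map, List.map_map]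
      exact ⟨rfl, rfl⟩
    have e2 := congrArg (List.map (fun x => g'⁻¹ * x * g')) e1
    simp only [List.map_map] at e2
    have e3 : l'.map ((fun x => g'⁻¹ * x * g') ∘ fun x => g' * x * g'⁻¹) = l' :=
      (List.map_congr_left fun x _ => by simp [Function.comp, mul_assoc]).trans (List.map_id l')
    rw [e3] at e2
    refine Eq.trans ?_ e2
    exact List.map_congr_left fun x _ => by simp only [Function.comp]; group

/-- The data of one type M(22) group needed for tuples. -/
theorem tuples_m22 [Finite G] (h : Pre D) (h22 : Cfsg.IsOfTypeM22 G D) : TupTrans 1 D ∧ TupTrans 2 D := by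
  have hgood := (good_m22 h h22).1
  obtain ⟨-, d, hd, c, -, hdc, ⟨F, hFf, hFt, hF, ⟨e⟩⟩, -⟩ := h22
  obtain ⟨hg, -⟩ := @good_psu F hFf hFt hF _ _ _ e (img D d) (pre_img h d)
  exact ⟨tup_one hgood, tup_step h hgood ⟨hd, fun e1 => hdc (e1 ▸ Commute.one_left c)⟩ (tup_one hg)⟩

theorem tuples_m23 [Finite G] (h : Pre D) (h23 : Cfsg.IsOfTypeM23 G D) :
    TupTrans 1 D ∧ TupTrans 2 D ∧ TupTrans 3 D := by
  have hgood := (good_m23 h h23).1
  obtain ⟨-, d, hd, c, -, hdc, h22, -⟩ := h23
  obtain ⟨h1, h2⟩ := tuples_m22 (pre_img h d) h22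
  have hdn : d ∈ nz D := ⟨hd, fun e1 => hdc (e1 ▸ Commute.one_left c)⟩
  exact ⟨tup_one hgood, tup_step h hgood hdn h1, tup_step h hgood hdn h2⟩

end CfsgLib.Spor.Tri.Relations
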