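/-
One level: from the local quotient to the group.
-/
import Cfsg.Agent.Lib.Spor.Tri.LevelRig
import Cfsg.Agent.Lib.Spor.Tri.LevelCent
import Cfsg.Agent.Lib.Spor.Tri.RelationsTuples

namespace CfsgLib.Spor.Tri.Level

open CfsgLib.Spor.Tri CfsgLib.Spor.Tri.Relations

/-- A relation of length `r` among commuting members. -/
def Rel {G : Type*} [Group G] (r : ℕ) (D : Set G) : Prop :=
  ∃ l : List G, Tuple D l ∧ l.length = r ∧ l.prod = 1

variable {G : Type*} [Group G] [Finite G] {D : Set G} (h : Hyp D) {d : G} (hd : d ∈ D) (hnc : NC D d)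

include h hnc in
/-- Lifting a relation of the local quotient. -/
theorem rel_lift (hZl : ∀ z ∈ Subgroup.center ↥(loc D d), (z : G) = 1 ∨ (z : G) = d) {r : ℕ} (hr : 0 < r)
    (hk : NoRel r D) (hR : Rel r (img D d)) :
    ∃ l : List G, Tuple D l ∧ l.length = r ∧ (∀ a ∈ l, a ∈ perp D d) ∧ l.prod = d := by
  classical
  obtain ⟨q, ⟨hnd, hmem, hcomm⟩, hlen, hprod⟩ := hR
  have hch : ∀ a : {a // a ∈ q}, ∃ y : G, ∃ hy : y ∈ perp D d, a.1 = bar hy := fun a => exists_bar (hmem a.1 a.2).1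
  choose y hy hye using hch
  set L : List ↥(loc D d) := q.attach.map fun a => ⟨y a, perp_loc (hy a)⟩ with hL
  have hLq : L.map (QuotientGroup.mk' (Subgroup.center ↥(loc D d))) = q := by
    rw [hL, List.map_map]
    conv_rhs => rw [← List.attach_map_subtype_val q]
    exact List.map_congr_left fun a _ => (hye a).symm
  have hcen : L.prod ∈ Subgroup.center ↥(loc D d) := by
    apply mk_eq_one.1
    show QuotientGroup.mk' _ L.prod = 1
    rw [map_list_prod, hLq, hprod]
  set l := L.map Subtype.val with hl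
  have hlm : ∀ a ∈ l, ∃ b, a = y b := fun a ha => by
    obtain ⟨x, hx, rfl⟩ := List.mem_map.1 ha
    obtain ⟨b, -, rfl⟩ := List.mem_map.1 hx
    exact ⟨b, rfl⟩
  have htup : Tuple D l := by
    refine ⟨(List.Nodup.of_map _ (hLq.symm ▸ hnd)).map Subtype.val_injective, fun a ha => ?_, fun a ha b hb => ?_⟩
    · obtain ⟨b, rfl⟩ := hlm a ha; exact ⟨(hy b).1, h.ne_one (hy b).1⟩
    · obtain ⟨a', rfl⟩ := hlm a ha
      obtain ⟨b', rfl⟩ := hlm b hb
      exact (bar_commute h (hy a') (hy b')).1 (by rw [← hye, ← hye]; exact hcomm _ a'.2 _ b'.2)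
  have hlen' : l.length = r := by rw [hl, List.length_map, hL, List.length_map, List.length_attach, hlen]
  have hval : l.prod = ((L.prod : ↥(loc D d)) : G) := (map_list_prod (Subgroup.subtype (loc D d)) L).symm
  refine ⟨l, htup, hlen', fun a ha => ?_, ?_⟩
  · obtain ⟨b, rfl⟩ := hlm a ha; exact hy b
  rw [hval]
  refine (hZl _ hcen).resolve_left fun e => hk l (fun e0 => ?_) htup.1 hlen'.le
    (fun a ha => ⟨(htup.2.1 a ha).1, (htup.2.1 a ha).2⟩) htup.2.2 (hval.trans e)
  rw [e0, List.length_nil] at hlen'; omega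

variable {v k l m : ℕ} (L : Lev (img D d) v k l m)

include h hd hnc L in
/-- The new level. -/
theorem lev_step (hZ : Subgroup.center G = ⊥) (hcore : Cfsg.pCore 2 G = ⊥) (hprim : Cfsg.IsPrimitiveUnderConj D)
    {μ n : ℕ} (hall : ∀ a ∈ D, ∀ b ∈ D, ¬ Commute a b → (perp D a ∩ perp D b).ncard = μ) (hcard : D.ncard = n)
    (h1 : k + 1 < v) (h2 : 2 * v < n + k) (h3 : 2 * k < v + l) (hk0 : 0 < k) (hμ0 : 0 < μ)
    (hvar : ∃ c : ℤ, 0 < c ∧ (μ * k + μ * m * l + μ * ((μ : ℤ) - 1 - m) * m - μ * (m : ℤ) ^ 2) -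
      2 * c * (μ * ((k : ℤ) - m)) + c ^ 2 * ((v : ℤ) - μ) = 0)
    {r : ℕ} (hr : 0 < r) (hk : NoRel r D) (hR : Rel r (img D d)) :
    Lev D n v k μ ∧ Rel (r + 1) D := by
  classical
  have hZl : ∀ z ∈ Subgroup.center ↥(loc D d), (z : G) = 1 ∨ (z : G) = d := fun z hz =>
    center_loc_cases h hprim hd hnc L h1 hZ hz
  obtain ⟨q, hqt, hqlen, hqp, hqd⟩ := rel_lift h hnc hZl hr hk hR
  have hdl : d ∈ loc D d := by
    have e : q.prod ∈ loc D d := list_prod_mem fun a ha => perp_loc (hqp a ha)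
    rwa [hqd] at e
  have hdeg : ∀ a ∈ D, (perp D a).ncard = v := fun a ha => deg_of_local h hd hnc L ha
  have hlam : ∀ a ∈ D, ∀ b ∈ perp D a, (perp D a ∩ perp D b).ncard = k := fun a ha b hb =>
    lam_of_local h hd hnc L ha hb
  -- a member commuting with neither of two commuting ones
  have hfar : ∀ a ∈ D, ∀ e ∈ perp D a, ∃ f ∈ D, ¬ Commute f a ∧ ¬ Commute f e := by
    intro a ha e he
    by_contra hcon
    push Not at hcon
    have hsub : D ⊆ perp D a ∪ perp D e := fun f hf => by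
      by_cases hfa : Commute f a
      · rcases eq_or_ne f a with rfl | hne
        · exact Or.inr (perp_symm hf he)
        · exact Or.inl ⟨hf, hne, hfa.symm⟩
      · rcases eq_or_ne f e with rfl | hne
        · exact Or.inl he
        · exact Or.inr ⟨hf, hne, (hcon f hf hfa).symm⟩
    have hc := Set.ncard_union_add_ncard_inter (perp D a) (perp D e) (Set.toFinite _) (Set.toFinite _)
    have hle := Set.ncard_le_ncard hsub (Set.toFinite _)
    rw [hdeg a ha, hdeg e he.1, hlam a ha e he] at hc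
    omega
  have hcommon : ∀ a ∈ D, ∀ b ∈ D, ∃ x, x ∈ perp D a ∩ perp D b := by
    intro a ha b hb
    have hpos : 0 < (perp D a ∩ perp D b).ncard := by
      rcases eq_or_ne b a with rfl | hne
      · rw [Set.inter_self, hdeg b hb]; omega
      by_cases hc : Commute a b
      · rw [hlam a ha b ⟨hb, hne, hc⟩]; exact hk0
      · rw [hall a ha b hb hc]; exact hμ0
    exact (Set.ncard_pos (Set.toFinite _)).1 hpos
  have hn : ∀ f ∈ D, ¬ Commute f d → ∀ e ∈ perp D d, e ∉ perp D f →
      ∃ x, x ∈ perp D d ∩ perp D f ∩ perp D e := by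
    intro f hf hfd e he hef
    obtain ⟨U, cnt, hU, hcnt, hUc, hS1, hS2, -⟩ := moments h hd hnc L hf (fun q => hfd q.symm)
      (hall d hd f hf fun q => hfd q.symm)
    obtain ⟨c, hc, hvar⟩ := hvar
    have hz : ∑ x ∈ U, ((cnt x : ℤ) - c) ^ 2 = 0 := by
      rw [← hvar, ← hS1, ← hS2, ← hUc]
      simp only [sub_sq, Finset.sum_add_distrib, Finset.sum_sub_distrib, Finset.sum_const, nsmul_eq_mul]
      rw [← Finset.sum_mul, ← Finset.mul_sum]
      ring
    have heU : e ∈ U := (hU e).2 ⟨he, hef⟩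
    have he0 := (Finset.sum_eq_zero_iff_of_nonneg fun x _ => sq_nonneg _).1 hz e heU
    have : (cnt e : ℤ) = c := by
      have := (sq_eq_zero_iff).1 he0; omega
    rw [hcnt e heU] at this
    exact (Set.ncard_pos (Set.toFinite _)).1 (by omega)
  have hcd : Subgroup.centralizer ({d} : Set G) ≤ loc D d :=
    cent_at h hd hnc L hdl hZl (hfar d hd) hcommon hn
  obtain ⟨hconn2, hconn3, hconn⟩ := L.hyp.of_primitive L.prim (by
    obtain ⟨a, ha, b, hb, -⟩ := L.prim.2.1
    have hpos : (perp (img D d) a).Nonempty := (Set.ncard_pos (Set.toFinite _)).1 (by rw [L.deg a ha]; exact hk0)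
    obtain ⟨x, hx⟩ := hpos
    exact ⟨a, ha, x, hx.1, hx.2.1.symm, hx.2.2⟩)
  refine ⟨
    { hyp := h
      center := hZ
      core := hcore
      prim := hprim
      card := hcard
      deg := hdeg
      lam := hlam
      mu := hall
      cent := fun a ha => by
        obtain ⟨g, rfl⟩ := h.transitive d hd a ha
        exact cent_conj h g hcd
      rig := rig_of_local h hprim hd hnc L h1
      pconn := ?_
      sep := ?_ }, ?_⟩
  · intro a ha x hx y hy
    obtain ⟨g, hg⟩ := h.transitive a ha d hd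
    have hmem : ∀ {z}, z ∈ perp D a → g * z * g⁻¹ ∈ perp D d := fun {z} hz => by
      rw [← hg, perp_conj h]; exact ⟨z, hz, rfl⟩
    have hback : ∀ {z}, z ∈ perp D d → g⁻¹ * z * g ∈ perp D a := fun {z} hz => by
      have h1 : g⁻¹ * z * g⁻¹⁻¹ ∈ perp D (g⁻¹ * d * g⁻¹⁻¹) := by rw [perp_conj h]; exact ⟨z, hz, rfl⟩
      rwa [show g⁻¹ * d * g⁻¹⁻¹ = a by rw [← hg]; group, inv_inv] at h1
    have key : ∀ Q, Relation.ReflTransGen (CAdj (img D d)) (bar (hmem hx)) Q → ∀ (z : G) (hz : z ∈ perp D d), bar hz = Q →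
        Relation.ReflTransGen (fun p q => p ∈ perp D a ∧ q ∈ perp D a ∧ Commute p q) x (g⁻¹ * z * g) := by
      intro Q hQ
      induction hQ with
      | refl =>
        intro z hz e
        obtain rfl := (bar_inj h hnc hz _).1 e
        rw [show g⁻¹ * (g * x * g⁻¹) * g = x by group]
      | @tail B C _ hstep ih =>
        intro z hz e
        obtain ⟨b, hb, rfl⟩ := exists_bar hstep.1
        subst e
        refine (ih b hb rfl).tail ⟨hback hb, hback hz, ?_⟩
        have := (Commute.conj_iff g⁻¹).2 ((bar_commute h hb hz).1 hstep.2.2)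
        simpa using this
    have := key _ (hconn _ (bar_mem _) _ (bar_mem (hmem hy))) _ (hmem hy) rfl
    rwa [show g⁻¹ * (g * y * g⁻¹) * g = y by group] at this
  · intro a ha b hb c hc
    obtain ⟨g, hg⟩ := h.transitive c hc.1.1 d hd
    have hmem : ∀ {z}, z ∈ perp D c → g * z * g⁻¹ ∈ perp D d := fun {z} hz => by
      rw [← hg, perp_conj h]; exact ⟨z, hz, rfl⟩
    have hA := hmem (perp_symm ha hc.1)
    have hB := hmem (perp_symm hb.1 hc.2)
    have hBA : bar hB ∈ perp (img D d) (bar hA) := (bar_perp h hnc hB hA).2 (by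
      rw [perp_conj h]; exact ⟨b, hb, rfl⟩)
    obtain ⟨Q, hQ, hQa, hQb⟩ : ∃ Q ∈ img D d, ¬ Commute Q (bar hA) ∧ ¬ Commute Q (bar hB) := by
      by_contra hcon
      push Not at hcon
      have hsub : img D d ⊆ perp (img D d) (bar hA) ∪ perp (img D d) (bar hB) := fun Q hQ => by
        by_cases hq : Commute Q (bar hA)
        · rcases eq_or_ne Q (bar hA) with rfl | hne
          · exact Or.inr (perp_symm (bar_mem hA) hBA)
          · exact Or.inl ⟨hQ, hne, hq.symm⟩
        · rcases eq_or_ne Q (bar hB) with rfl | hne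
          · exact Or.inl hBA
          · exact Or.inr ⟨hQ, hne, (hcon Q hQ hq).symm⟩
      have hc' := Set.ncard_union_add_ncard_inter (perp (img D d) (bar hA)) (perp (img D d) (bar hB))
        (Set.toFinite _) (Set.toFinite _)
      have hle := Set.ncard_le_ncard hsub (Set.toFinite _)
      rw [L.deg _ (bar_mem hA), L.deg _ (bar_mem hB), L.lam _ (bar_mem hA) _ hBA] at hc'
      rw [L.card] at hle
      omega
    obtain ⟨w, hw, rfl⟩ := exists_bar hQ
    refine ⟨g⁻¹ * w * g, ⟨by simpa using h.conj g⁻¹ w hw.1, fun e => hw.2.1 (by rw [← hg, ← e]; group), ?_⟩, ?_, ?_⟩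
    · rw [← Commute.conj_iff g, hg, show g * (g⁻¹ * w * g) * g⁻¹ = w by group]; exact hw.2.2
    · intro q
      refine hQa ((bar_commute h hw hA).2 ?_)
      have := (Commute.conj_iff g).2 q
      rwa [show g * (g⁻¹ * w * g) * g⁻¹ = w by group] at this
    · intro q
      refine hQb ((bar_commute h hw hB).2 ?_)
      have := (Commute.conj_iff g).2 q
      rwa [show g * (g⁻¹ * w * g) * g⁻¹ = w by group] at this
  · refine ⟨d :: q, ⟨List.nodup_cons.2 ⟨fun hdq => (hqp d hdq).2.1 rfl, hqt.1⟩, ?_, ?_⟩, by simp [hqlen], ?_⟩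
    · intro a ha
      rcases List.mem_cons.1 ha with rfl | ha
      · exact ⟨hd, h.ne_one hd⟩
      · exact hqt.2.1 a ha
    · intro a ha b hb
      rcases List.mem_cons.1 ha with e | ha <;> rcases List.mem_cons.1 hb with e' | hb
      · rw [e, e']
      · rw [e]; exact (hqp b hb).2.2
      · rw [e']; exact (hqp a ha).2.2.symm
      · exact hqt.2.2 a ha b hb
    · rw [List.prod_cons, hqd, h.mul_self hd]

end CfsgLib.Spor.Tri.Level
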