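/-
The transvections of `PSU(6, 4)`: counts, connectedness.
-/
import Cfsg.Agent.Lib.Spor.Tri.Level
import Cfsg.Agent.Lib.Spor.Tri.RelationsLines
import Cfsg.Agent.Lib.Classical.HermOrder

namespace CfsgLib.Spor.Tri.Level.U6

open Matrix CfsgLib.SU CfsgLib.Spor.Tri CfsgLib.Spor.Tri.Relations

variable {F : Type} [Field F] [Fintype F] (C : UCtx F 2) (hF : Fintype.card F = 4)

local notation "V" => (Fin 6 → F)

/-- The point of an isotropic vector. -/
def pt (u : V) (hu : C.form u u = 0) : Cfsg.PSU 6 F 2 := pr (tr1 C hF u hu)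

theorem pt_congr {u w : V} {hu : C.form u u = 0} {hw : C.form w w = 0} (h : u = w) :
    pt C hF u hu = pt C hF w hw := by subst h; rfl

include hF in
theorem pt_smul {u w : V} {hu : C.form u u = 0} {hw : C.form w w = 0} {a : F} (ha : a ≠ 0) (e : u = a • w) :
    pt C hF u hu = pt C hF w hw := by
  refine congrArg pr (su_ext fun x => ?_)
  rw [tr1_mulVec, tr1_mulVec, e, C.form_smul_right, smul_smul]
  congr 2
  linear_combination (C.form x w) * Relations.norm_one C hF ha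

theorem pt_eq_iff {u w : V} {hu : C.form u u = 0} {hw : C.form w w = 0} (hu0 : u ≠ 0) :
    pt C hF u hu = pt C hF w hw ↔ ∃ a : F, a ≠ 0 ∧ u = a • w := by
  constructor
  · intro e
    obtain ⟨a, ha⟩ := C.pT_par (by norm_num) hu0 one_ne_zero e
    exact ⟨a, fun e0 => hu0 (by rw [ha, e0, zero_smul]), ha⟩
  · rintro ⟨a, ha, e⟩
    exact pt_smul C hF ha e

theorem pt_commute {u w : V} {hu : C.form u u = 0} {hw : C.form w w = 0} (hw0 : w ≠ 0) :
    Commute (pt C hF u hu) (pt C hF w hw) ↔ C.form u w = 0 :=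
  C.pT_commute_iff (by norm_num) hw0 one_ne_zero one_ne_zero

theorem pr_conj_pt (A : ↥(Cfsg.SU 6 F 2)) (u : V) (hu : C.form u u = 0) :
    pr A * pt C hF u hu * (pr A)⁻¹ = pt C hF (A.1.1 *ᵥ u) (by rw [C.form_su, hu]) := by
  unfold pt
  rw [← map_inv, ← map_mul, ← map_mul, tr1_conj]

variable {D : Set (Cfsg.PSU 6 F 2)}

include C hF in
theorem pt_mem (h : Pre D) (hne : (nz D).Nonempty) (u : V) (hu : C.form u u = 0) (hu0 : u ≠ 0) :
    pt C hF u hu ∈ nz D := by
  obtain ⟨x, hx⟩ := hne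
  obtain ⟨v₀, hv₀, hv00, rfl⟩ := is_transvection C hF h hx
  obtain ⟨A, a, ha, hA⟩ := C.exists_move (by norm_num) hv00 hu0 hv₀ hu
  have e : pr A * pr (tr1 C hF v₀ hv₀) * (pr A)⁻¹ = pt C hF u hu :=
    (pr_conj_pt C hF A v₀ hv₀).trans (pt_smul C hF ha hA)
  refine ⟨e ▸ h.conj _ _ hx.1, fun e1 => hx.2 ?_⟩
  rw [e1] at e
  simpa using e

include hF in
theorem exists_pt (h : Pre D) {x : Cfsg.PSU 6 F 2} (hx : x ∈ nz D) :
    ∃ (u : V) (hu : C.form u u = 0), u ≠ 0 ∧ x = pt C hF u hu := is_transvection C hF h hx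

include C hF in
/-- Points are counted by vectors. -/
theorem ncard_mul_three (h : Pre D) (hne : (nz D).Nonempty) {S : Set (Cfsg.PSU 6 F 2)} (hS : S ⊆ nz D) (P : V → Prop)
    (hP : ∀ (u : V) (hu : C.form u u = 0), u ≠ 0 → (pt C hF u hu ∈ S ↔ P u)) :
    S.ncard * 3 = Nat.card {u : V // u ≠ 0 ∧ C.form u u = 0 ∧ P u} := by
  classical
  choose r hr hr0 hre using fun x : ↥S => exists_pt C hF h (hS x.2)
  have hu3 : Nat.card Fˣ = 3 := by rw [Nat.card_units, Nat.card_eq_fintype_card, hF]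
  rw [← Nat.card_coe_set_eq, ← hu3, ← Nat.card_prod]
  have hiso : ∀ p : ↥S × Fˣ, C.form ((p.2 : F) • r p.1) ((p.2 : F) • r p.1) = 0 := fun p => by
    rw [C.form_smul_left, C.form_smul_right, hr, mul_zero, mul_zero]
  have hne0 : ∀ p : ↥S × Fˣ, (p.2 : F) • r p.1 ≠ 0 := fun p => smul_ne_zero p.2.ne_zero (hr0 p.1)
  have hpt : ∀ p : ↥S × Fˣ, pt C hF _ (hiso p) = p.1 := fun p =>
    (pt_smul C hF (hw := hr p.1) p.2.ne_zero rfl).trans (hre p.1).symm
  refine Nat.card_congr (Equiv.ofBijective (fun p => ⟨(p.2 : F) • r p.1, hne0 p, hiso p,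
    (hP _ (hiso p) (hne0 p)).1 (by rw [hpt]; exact p.1.2)⟩) ⟨?_, ?_⟩)
  · intro p p' e
    have e' := congrArg Subtype.val e
    simp only at e'
    have h1 : p.1 = p'.1 := Subtype.ext ((hpt p).symm.trans ((pt_congr C hF e').trans (hpt p')))
    refine Prod.ext h1 (Units.ext ?_)
    rw [h1] at e'
    exact smul_left_injective F (hr0 p'.1) e'
  · rintro ⟨u, hu0, hu, hPu⟩
    set x : ↥S := ⟨pt C hF u hu, (hP u hu hu0).2 hPu⟩
    obtain ⟨a, ha, e⟩ := (pt_eq_iff C hF hu0).1 (hre x)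
    exact ⟨⟨x, Units.mk0 a ha⟩, Subtype.ext e.symm⟩

omit [Fintype F] in
theorem card_erase_zero {n : ℕ} [Finite F] (A : (Fin n → F) → Prop) (h0 : A 0) :
    Nat.card {u : Fin n → F // u ≠ 0 ∧ A u} = Nat.card {u : Fin n → F // A u} - 1 := by
  have e : {u : Fin n → F | u ≠ 0 ∧ A u} = {u | A u} \ {0} := Set.ext fun u => and_comm
  rw [← Set.coe_ofPred, ← Set.coe_ofPred, Nat.card_coe_set_eq, Nat.card_coe_set_eq, e,
    Set.ncard_diff_singleton_of_mem (show (0 : Fin n → F) ∈ {u | A u} from h0)]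

/-- `(1, 1, 0, 0, 0, 0)`. -/
def v₀ : Fin 6 → F := ![1, 1, 0, 0, 0, 0]
/-- `(0, 0, 1, 1, 0, 0)`. -/
def w₀ : Fin 6 → F := ![0, 0, 1, 1, 0, 0]

theorem form_six (x y : V) : C.form x y = x 0 * C.bar (y 0) + x 1 * C.bar (y 1) + x 2 * C.bar (y 2) +
    x 3 * C.bar (y 3) + x 4 * C.bar (y 4) + x 5 * C.bar (y 5) := by
  simp [UCtx.form, Fin.sum_univ_succ]; ring

include hF in
theorem form_v₀ : C.form v₀ v₀ = 0 := by
  simp [form_six, v₀, one_add_one hF]

include hF in
theorem form_w₀ : C.form w₀ w₀ = 0 := by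
  simp [form_six, w₀, one_add_one hF]

theorem v₀_ne : (v₀ : V) ≠ 0 := fun e => one_ne_zero (congrFun e 0)
theorem w₀_ne : (w₀ : V) ≠ 0 := fun e => one_ne_zero (congrFun e 2)

theorem v₀_not_smul (a : F) : (v₀ : V) ≠ a • w₀ := fun e => one_ne_zero (α := F) (by simpa [v₀, w₀] using congrFun e 0)

include hF in
theorem hcount_values : CfsgLib.Classical.hcount C 2 0 = 10 ∧ CfsgLib.Classical.hcount C 4 0 = 136 ∧
    CfsgLib.Classical.hcount C 6 0 = 2080 := by
  have h0 := CfsgLib.Classical.hcount_zero C (0 : F)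
  have h1 := CfsgLib.Classical.hcount_zero C (1 : F)
  rw [if_pos rfl] at h0
  rw [if_neg one_ne_zero] at h1
  have r := CfsgLib.Classical.hcount_recursion C (show Fintype.card F = 2 ^ 2 by rw [hF]; norm_num)
  obtain ⟨a1, b1⟩ := r 0
  obtain ⟨a2, b2⟩ := r 1
  obtain ⟨a3, b3⟩ := r 2
  obtain ⟨a4, b4⟩ := r 3
  obtain ⟨a5, b5⟩ := r 4
  obtain ⟨a6, -⟩ := r 5
  norm_num at a1 b1 a2 b2 a3 b3 a4 b4 a5 b5 a6
  omega

include hF in
theorem eq_of_add_zero {a b : F} (h : a + b = 0) : b = a := by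
  linear_combination h - a * one_add_one hF

include C hF in
theorem count_all : Nat.card {u : V // u ≠ 0 ∧ C.form u u = 0 ∧ True} = 2079 := by
  have := (hcount_values C hF).2.2
  rw [card_erase_zero _ ⟨C.form_zero_left 0, trivial⟩]
  simp only [and_true]
  unfold CfsgLib.Classical.hcount at this
  omega

include C hF in
theorem count_perp : Nat.card {u : V // u ≠ 0 ∧ C.form u u = 0 ∧ C.form u v₀ = 0} = 543 := by
  have hv := (hcount_values C hF).2.1
  rw [card_erase_zero _ ⟨C.form_zero_left 0, C.form_zero_left _⟩]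
  suffices h : Nat.card {u : V // C.form u u = 0 ∧ C.form u v₀ = 0} =
      Nat.card F * CfsgLib.Classical.hcount C 4 0 by
    rw [hv, Nat.card_eq_fintype_card (α := F), hF] at h; omega
  have h11 := one_add_one hF
  unfold CfsgLib.Classical.hcount
  rw [← Nat.card_prod]
  refine Nat.card_congr
    { toFun := fun u => (u.1 0, ⟨![u.1 2, u.1 3, u.1 4, u.1 5], ?_⟩)
      invFun := fun p => ⟨![p.1, p.1, p.2.1 0, p.2.1 1, p.2.1 2, p.2.1 3], ?_, ?_⟩
      left_inv := fun u => Subtype.ext ?_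
      right_inv := fun p => Prod.ext rfl (Subtype.ext ?_) }
  · obtain ⟨u, hu, huv⟩ := u
    simp [form_six, v₀] at huv hu ⊢
    rw [eq_of_add_zero hF huv] at hu
    simp [UCtx.form, Fin.sum_univ_succ]
    linear_combination hu - u 0 * C.bar (u 0) * h11
  · have := p.2.2
    simp [UCtx.form, Fin.sum_univ_succ] at this
    simp [form_six]
    linear_combination this + p.1 * C.bar p.1 * h11
  · simp [form_six, v₀]
    linear_combination p.1 * h11
  · obtain ⟨u, hu, huv⟩ := u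
    simp [form_six, v₀] at huv
    funext i; fin_cases i <;> simp [eq_of_add_zero hF huv]
  · funext i; fin_cases i <;> simp

include C hF in
theorem count_line : Nat.card {u : V // u ≠ 0 ∧ C.form u u = 0 ∧ (C.form u v₀ = 0 ∧ C.form u w₀ = 0)} = 159 := by
  have hv := (hcount_values C hF).1
  rw [card_erase_zero _ ⟨C.form_zero_left 0, C.form_zero_left _, C.form_zero_left _⟩]
  suffices h : Nat.card {u : V // C.form u u = 0 ∧ C.form u v₀ = 0 ∧ C.form u w₀ = 0} =
      Nat.card F * Nat.card F * CfsgLib.Classical.hcount C 2 0 by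
    rw [hv, Nat.card_eq_fintype_card (α := F), hF] at h; omega
  have h11 := one_add_one hF
  unfold CfsgLib.Classical.hcount
  rw [← Nat.card_prod, ← Nat.card_prod]
  refine Nat.card_congr
    { toFun := fun u => ((u.1 0, u.1 2), ⟨![u.1 4, u.1 5], ?_⟩)
      invFun := fun p => ⟨![p.1.1, p.1.1, p.1.2, p.1.2, p.2.1 0, p.2.1 1], ?_, ?_, ?_⟩
      left_inv := fun u => Subtype.ext ?_
      right_inv := fun p => Prod.ext rfl (Subtype.ext ?_) }
  · obtain ⟨u, hu, huv, huw⟩ := u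
    simp [form_six, v₀, w₀] at huv huw hu ⊢
    rw [eq_of_add_zero hF huv, eq_of_add_zero hF huw] at hu
    simp [UCtx.form, Fin.sum_univ_succ]
    linear_combination hu - (u 0 * C.bar (u 0) + u 2 * C.bar (u 2)) * h11
  · have := p.2.2
    simp [UCtx.form, Fin.sum_univ_succ] at this
    simp [form_six]
    linear_combination this + (p.1.1 * C.bar p.1.1 + p.1.2 * C.bar p.1.2) * h11
  · simp [form_six, v₀]
    linear_combination p.1.1 * h11
  · simp [form_six, w₀]
    linear_combination p.1.2 * h11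
  · obtain ⟨u, hu, huv, huw⟩ := u
    simp [form_six, v₀, w₀] at huv huw
    funext i; fin_cases i <;> simp [eq_of_add_zero hF huv, eq_of_add_zero hF huw]
  · funext i; fin_cases i <;> simp

/-- `(1, ω, 0, 0, 0, 0)`. -/
def uω (ω : F) : Fin 6 → F := ![1, ω, 0, 0, 0, 0]

include C hF in
theorem form_uω {ω : F} (hω : ω ≠ 0) : C.form (uω ω) (uω ω) = 0 := by
  simp [form_six, uω, Relations.norm_one C hF hω, one_add_one hF]

include C hF in
theorem form_v₀_uω {ω : F} (hω1 : ω ≠ 1) : C.form v₀ (uω ω) ≠ 0 := by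
  simp [form_six, v₀, uω]
  intro e
  have h1 : C.bar ω = C.bar 1 := by rw [map_one]; exact eq_of_add_zero hF e
  exact hω1 (C.bar.injective h1)

include C hF in
theorem count_skew {ω : F} (hω1 : ω ≠ 1) :
    Nat.card {u : V // u ≠ 0 ∧ C.form u u = 0 ∧ (C.form u v₀ = 0 ∧ C.form u (uω ω) = 0)} = 135 := by
  have hv := (hcount_values C hF).2.1
  rw [card_erase_zero _ ⟨C.form_zero_left 0, C.form_zero_left _, C.form_zero_left _⟩]
  suffices h : Nat.card {u : V // C.form u u = 0 ∧ C.form u v₀ = 0 ∧ C.form u (uω ω) = 0} = 136 by omega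
  have h11 := one_add_one hF
  rw [← hv]
  unfold CfsgLib.Classical.hcount
  have hz : ∀ u : V, C.form u v₀ = 0 → C.form u (uω ω) = 0 → u 0 = 0 ∧ u 1 = 0 := fun u h1 h2 => by
    simp [form_six, v₀, uω] at h1 h2
    rw [eq_of_add_zero hF h1] at h2
    have h0 : u 0 = 0 := by
      by_contra hne
      have h3 : (1 : F) + C.bar ω = 0 := mul_left_cancel₀ hne (by linear_combination h2)
      exact hω1 (C.bar.injective (by rw [map_one]; exact eq_of_add_zero hF h3))
    exact ⟨h0, by rw [eq_of_add_zero hF h1, h0]⟩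
  refine Nat.card_congr
    { toFun := fun u => ⟨![u.1 2, u.1 3, u.1 4, u.1 5], ?_⟩
      invFun := fun p => ⟨![0, 0, p.1 0, p.1 1, p.1 2, p.1 3], ?_, ?_, ?_⟩
      left_inv := fun u => Subtype.ext ?_
      right_inv := fun p => Subtype.ext ?_ }
  · obtain ⟨u, hu, huv, huw⟩ := u
    obtain ⟨e0, e1⟩ := hz u huv huw
    simp [form_six, e0, e1] at hu
    simp [UCtx.form, Fin.sum_univ_succ]
    linear_combination hu
  · have := p.2
    simp [UCtx.form, Fin.sum_univ_succ] at this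
    simp [form_six]
    linear_combination this
  · simp [form_six, v₀]
  · simp [form_six, uω]
  · obtain ⟨u, hu, huv, huw⟩ := u
    obtain ⟨e0, e1⟩ := hz u huv huw
    funext i; fin_cases i <;> simp [e0, e1]
  · funext i; fin_cases i <;> simp

include C hF in
theorem card_class (h : Pre D) (hne : (nz D).Nonempty) : (nz D).ncard = 693 := by
  have := ncard_mul_three C hF h hne (S := nz D) subset_rfl (fun _ => True)
    (fun u hu hu0 => iff_of_true (pt_mem C hF h hne u hu hu0) trivial)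
  rw [count_all C hF] at this
  omega

include C hF in
theorem counts_at (h : Pre D) (hne : (nz D).Nonempty) {ω : F} (hω0 : ω ≠ 0) (hω1 : ω ≠ 1) :
    (perp (nz D) (pt C hF v₀ (form_v₀ C hF))).ncard = 180 ∧
    (perp (nz D) (pt C hF v₀ (form_v₀ C hF)) ∩ perp (nz D) (pt C hF w₀ (form_w₀ C hF))).ncard = 51 ∧
    (perp (nz D) (pt C hF v₀ (form_v₀ C hF)) ∩ perp (nz D) (pt C hF (uω ω) (form_uω C hF hω0))).ncard = 45 := by
  set a := pt C hF v₀ (form_v₀ C hF)
  set b := pt C hF w₀ (form_w₀ C hF)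
  set c := pt C hF (uω ω) (form_uω C hF hω0)
  have ha : a ∈ nz D := pt_mem C hF h hne _ _ v₀_ne
  have hb : b ∈ nz D := pt_mem C hF h hne _ _ w₀_ne
  have hab : a ≠ b := fun e => by
    obtain ⟨s, -, es⟩ := (pt_eq_iff C hF v₀_ne).1 e
    exact v₀_not_smul s es
  have cab : Commute a b := (pt_commute C hF w₀_ne).2 (by simp [form_six, v₀, w₀])
  refine ⟨?_, ?_, ?_⟩
  · set S : Set (Cfsg.PSU 6 F 2) := {x | x ∈ nz D ∧ Commute x a}
    have h1 := ncard_mul_three C hF h hne (S := S) (fun x hx => hx.1) (fun u => C.form u v₀ = 0)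
      (fun u hu hu0 => ⟨fun r => (pt_commute C hF v₀_ne).1 r.2,
        fun r => ⟨pt_mem C hF h hne u hu hu0, (pt_commute C hF v₀_ne).2 r⟩⟩)
    rw [count_perp C hF] at h1
    have e : perp (nz D) a = S \ {a} := Set.ext fun x =>
      ⟨fun r => ⟨⟨r.1, r.2.2.symm⟩, r.2.1⟩, fun r => ⟨r.1.1, r.2, r.1.2.symm⟩⟩
    rw [e, Set.ncard_diff_singleton_of_mem (show a ∈ S from ⟨ha, Commute.refl a⟩)]
    omega
  · set S : Set (Cfsg.PSU 6 F 2) := {x | x ∈ nz D ∧ Commute x a ∧ Commute x b}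
    have h1 := ncard_mul_three C hF h hne (S := S) (fun x hx => hx.1)
      (fun u => C.form u v₀ = 0 ∧ C.form u w₀ = 0)
      (fun u hu hu0 => ⟨fun r => ⟨(pt_commute C hF v₀_ne).1 r.2.1, (pt_commute C hF w₀_ne).1 r.2.2⟩,
        fun r => ⟨pt_mem C hF h hne u hu hu0, (pt_commute C hF v₀_ne).2 r.1, (pt_commute C hF w₀_ne).2 r.2⟩⟩)
    rw [count_line C hF] at h1
    have e : perp (nz D) a ∩ perp (nz D) b = (S \ {a}) \ {b} := Set.ext fun x =>
      ⟨fun r => ⟨⟨⟨r.1.1, r.1.2.2.symm, r.2.2.2.symm⟩, r.1.2.1⟩, r.2.2.1⟩,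
        fun r => ⟨⟨r.1.1.1, r.1.2, r.1.1.2.1.symm⟩, r.1.1.1, r.2, r.1.1.2.2.symm⟩⟩
    rw [e, Set.ncard_diff_singleton_of_mem (show b ∈ S \ {a} from ⟨⟨hb, cab.symm, Commute.refl b⟩, hab.symm⟩),
      Set.ncard_diff_singleton_of_mem (show a ∈ S from ⟨ha, Commute.refl a, cab⟩)]
    omega
  · set S : Set (Cfsg.PSU 6 F 2) := {x | x ∈ nz D ∧ Commute x a ∧ Commute x c}
    have hu0 : uω ω ≠ 0 := fun e => one_ne_zero (congrFun e 0)
    have h1 := ncard_mul_three C hF h hne (S := S) (fun x hx => hx.1)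
      (fun u => C.form u v₀ = 0 ∧ C.form u (uω ω) = 0)
      (fun u hu hu' => ⟨fun r => ⟨(pt_commute C hF v₀_ne).1 r.2.1, (pt_commute C hF hu0).1 r.2.2⟩,
        fun r => ⟨pt_mem C hF h hne u hu hu', (pt_commute C hF v₀_ne).2 r.1, (pt_commute C hF hu0).2 r.2⟩⟩)
    rw [count_skew C hF hω1] at h1
    have hac : ¬ Commute a c := fun r => form_v₀_uω C hF hω1 ((pt_commute C hF hu0).1 r)
    have e : perp (nz D) a ∩ perp (nz D) c = S := Set.ext fun x =>
      ⟨fun r => ⟨r.1.1, r.1.2.2.symm, r.2.2.2.symm⟩,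
        fun r => ⟨⟨r.1, fun q => hac (q ▸ r.2.2), r.2.1.symm⟩, r.1, fun q => hac (q ▸ r.2.1).symm, r.2.2.symm⟩⟩
    rw [e]
    omega

include hF in
/-- Two isotropic vectors have an isotropic common orthogonal vector. -/
theorem exists_iso_two {u w : V} (hu : u ≠ 0) (hw : C.form w w = 0) (huw : C.form u w ≠ 0) (hu' : C.form u u = 0) :
    ∃ z : V, z ≠ 0 ∧ C.form z z = 0 ∧ C.form z u = 0 ∧ C.form z w = 0 := by
  obtain ⟨x, hx0, hx⟩ := exists_orth_four C ![u, w, u, w]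
  rcases fixed_cases C hF (C.form_self_fixed x) with hxx | hxx
  · exact ⟨x, hx0, hxx, hx 0, hx 1⟩
  obtain ⟨y, hy0, hy⟩ := exists_orth_four C ![u, w, x, x]
  rcases fixed_cases C hF (C.form_self_fixed y) with hyy | hyy
  · exact ⟨y, hy0, hyy, hy 0, hy 1⟩
  have xy : C.form x y = 0 := C.form_swap_zero (hy 2)
  have yx : C.form y x = 0 := hy 2
  refine ⟨x + y, fun e => ?_, ?_, ?_, ?_⟩
  · have := congrArg (fun t => C.form t x) e
    simp [C.form_add_left, hxx, yx, C.form_zero_left] at this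
  · simp only [C.form_add_left, C.form_add_right, hxx, hyy, xy, yx]
    linear_combination one_add_one hF
  · have h1 : C.form x u = 0 := hx 0
    have h2 : C.form y u = 0 := hy 0
    rw [C.form_add_left, h1, h2, add_zero]
  · have h1 : C.form x w = 0 := hx 1
    have h2 : C.form y w = 0 := hy 1
    rw [C.form_add_left, h1, h2, add_zero]

include C hF in
theorem connected (h : Pre D) (hne : (nz D).Nonempty) {a b : Cfsg.PSU 6 F 2} (ha : a ∈ nz D) (hb : b ∈ nz D) :
    Relation.ReflTransGen (CAdj (nz D)) a b := by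
  obtain ⟨u, hu, hu0, rfl⟩ := exists_pt C hF h ha
  obtain ⟨w, hw, hw0, rfl⟩ := exists_pt C hF h hb
  by_cases huw : C.form u w = 0
  · exact Relation.ReflTransGen.single ⟨ha, hb, (pt_commute C hF hw0).2 huw⟩
  obtain ⟨z, hz0, hz, hzu, hzw⟩ := exists_iso_two C hF hu0 hw huw hu
  have hzm := pt_mem C hF h hne z hz hz0
  exact (Relation.ReflTransGen.single ⟨ha, hzm, ((pt_commute C hF hu0).2 hzu).symm⟩).tail
    ⟨hzm, hb, (pt_commute C hF hw0).2 hzw⟩

include C hF in
theorem exists_comm_pair (h : Pre D) (hne : (nz D).Nonempty) :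
    ∃ a ∈ nz D, ∃ b ∈ nz D, a ≠ b ∧ Commute a b :=
  ⟨pt C hF v₀ (form_v₀ C hF), pt_mem C hF h hne _ _ v₀_ne, pt C hF w₀ (form_w₀ C hF),
    pt_mem C hF h hne _ _ w₀_ne, fun e => by
      obtain ⟨s, -, es⟩ := (pt_eq_iff C hF v₀_ne).1 e
      exact v₀_not_smul s es,
    (pt_commute C hF w₀_ne).2 (by simp [form_six, v₀, w₀])⟩

end CfsgLib.Spor.Tri.Level.U6
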