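/-
The transvections of `PSU(6, 4)`: centralizers and rigidity.
-/
import Cfsg.Agent.Lib.Spor.Tri.U6Level
import Cfsg.Agent.Lib.Perm.Trans.UnitSU

namespace CfsgLib.Spor.Tri.Level.U6

open Matrix CfsgLib.SU CfsgLib.Spor.Tri CfsgLib.Spor.Tri.Relations

variable {F : Type} [Field F] [Fintype F] (C : UCtx F 2) (hF : Fintype.card F = 4)

local notation "V" => (Fin 6 → F)

variable {D : Set (Cfsg.PSU 6 F 2)}

theorem not_smul_of_form {u w : V} (hw : C.form w w = 0) (huw : C.form u w ≠ 0) : ∀ a : F, u ≠ a • w := fun a e =>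
  huw (by rw [e, C.form_smul_left, hw, mul_zero])

/-- A dual pair for two vectors that are not proportional. -/
theorem exists_linePair {u w : V} (hu : u ≠ 0) (hw : w ≠ 0) (h1 : ∀ a : F, u ≠ a • w) (h2 : ∀ a : F, w ≠ a • u) :
    Nonempty (LinePair C u w) := by
  obtain ⟨fu, hfu0, hfu1⟩ := exists_sep C hw h1
  obtain ⟨fw, hfw0, hfw1⟩ := exists_sep C hu h2
  exact ⟨⟨fu, fw, hfu1, hfu0, hfw0, hfw1⟩⟩

/-- Adjacency among the members not commuting with `a`. -/
def AAdj (D : Set (Cfsg.PSU 6 F 2)) (a p q : Cfsg.PSU 6 F 2) : Prop :=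
  p ∈ nz D ∧ q ∈ nz D ∧ ¬ Commute p a ∧ ¬ Commute q a ∧ Commute p q

include C hF in
theorem far_connected (h : Pre D) (hne : (nz D).Nonempty) {v : V} (hv : C.form v v = 0) (hv0 : v ≠ 0)
    {x y : Cfsg.PSU 6 F 2} (hx : x ∈ nz D) (hxa : ¬ Commute x (pt C hF v hv)) (hy : y ∈ nz D)
    (hya : ¬ Commute y (pt C hF v hv)) :
    Relation.ReflTransGen (AAdj D (pt C hF v hv)) x y := by
  obtain ⟨u, hu, hu0, rfl⟩ := exists_pt C hF h hx
  obtain ⟨u', hu', hu'0, rfl⟩ := exists_pt C hF h hy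
  have huv : C.form u v ≠ 0 := fun e => hxa ((pt_commute C hF hv0).2 e)
  have hu'v : C.form u' v ≠ 0 := fun e => hya ((pt_commute C hF hv0).2 e)
  have one : ∀ {p q : V} (hp : C.form p p = 0) (hq : C.form q q = 0), C.form p v ≠ 0 → C.form q v ≠ 0 →
      C.form p q = 0 → Relation.ReflTransGen (AAdj D (pt C hF v hv)) (pt C hF p hp) (pt C hF q hq) := by
    intro p q hp hq hpv hqv hpq
    have hp0 : p ≠ 0 := fun e => hpv (by rw [e, C.form_zero_left])
    have hq0 : q ≠ 0 := fun e => hqv (by rw [e, C.form_zero_left])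
    exact Relation.ReflTransGen.single ⟨pt_mem C hF h hne p hp hp0, pt_mem C hF h hne q hq hq0,
      fun e => hpv ((pt_commute C hF hv0).1 e), fun e => hqv ((pt_commute C hF hv0).1 e),
      (pt_commute C hF hq0).2 hpq⟩
  -- outside the span a single intermediate point suffices
  have two : ∀ {p q : V} (hp : C.form p p = 0) (hq : C.form q q = 0), C.form p v ≠ 0 → C.form q v ≠ 0 →
      C.form p q ≠ 0 → (∀ a b : F, v ≠ a • p + b • q) →
      Relation.ReflTransGen (AAdj D (pt C hF v hv)) (pt C hF p hp) (pt C hF q hq) := by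
    intro p q hp hq hpv hqv hpq hspan
    have hp0 : p ≠ 0 := fun e => hpv (by rw [e, C.form_zero_left])
    have hq0 : q ≠ 0 := fun e => hqv (by rw [e, C.form_zero_left])
    obtain ⟨P⟩ := exists_linePair C hp0 hq0 (not_smul_of_form C hq hpq)
      (not_smul_of_form C hp fun e => hpq (C.form_swap_zero e))
    obtain ⟨z, hz, hzp, hzq, hzv⟩ : ∃ z : V, C.form z z = 0 ∧ C.form z p = 0 ∧ C.form z q = 0 ∧ C.form z v ≠ 0 := by
      by_contra hcon
      push Not at hcon
      exact hspan _ _ (mem_span_of_double_perp C hF P fun z _ z1 z2 z3 => hcon z z1 z2 z3)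
    exact (one hp hz hpv hzv (C.form_swap_zero hzp)).trans (one hz hq hzv hqv hzq)
  by_cases huu : C.form u u' = 0
  · exact one hu hu' huv hu'v huu
  by_cases hspan : ∀ a b : F, v ≠ a • u + b • u'
  · exact two hu hu' huv hu'v huu hspan
  push Not at hspan
  obtain ⟨a, b, hab⟩ := hspan
  obtain ⟨z, hz0, hz, hzu, hzv⟩ := exists_iso_two C hF hu0 hv huv hu
  have huz : C.form u z = 0 := C.form_swap_zero hzu
  have h3 : C.form (u + z) (u + z) = 0 := by simp [C.form_add_left, C.form_add_right, hu, hz, hzu, huz]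
  have h3v : C.form (u + z) v ≠ 0 := by rw [C.form_add_left, hzv, add_zero]; exact huv
  have h3u : C.form u (u + z) = 0 := by rw [C.form_add_right, hu, huz, add_zero]
  refine (one hu h3 huv h3v h3u).trans ?_
  by_cases h3u' : C.form (u + z) u' = 0
  · exact one h3 hu' h3v hu'v h3u'
  refine two h3 hu' h3v hu'v h3u' fun c d hcd => ?_
  have hc : c ≠ 0 := fun e => hu'v (by
    have := congrArg (fun t => C.form u' t) hcd
    simp only [e, zero_smul, zero_add, C.form_smul_right, hu', mul_zero] at this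
    exact this)
  set α := c⁻¹ * (a - c)
  set β := c⁻¹ * (b - d)
  have hzs : z = α • u + β • u' := by
    have e : a • u + b • u' = c • (u + z) + d • u' := hab.symm.trans hcd
    funext i
    have ei := congrFun e i
    simp only [Pi.add_apply, Pi.smul_apply, smul_eq_mul] at ei ⊢
    simp only [α, β]
    field_simp
    linear_combination -ei
  have hβ : β = 0 := by
    have := congrArg (fun t => C.form t u) hzs
    simp [C.form_add_left, C.form_smul_left, hu, hzu] at this
    exact this.resolve_right fun e => huu (C.form_swap_zero e)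
  have hα : α = 0 := by
    have := congrArg (fun t => C.form t v) hzs
    simp [C.form_add_left, C.form_smul_left, hzv, hβ] at this
    exact this.resolve_right huv
  exact hz0 (by rw [hzs, hα, hβ, zero_smul, zero_smul, add_zero])

include C hF in
theorem self_mem_loc (h : Pre D) (hne : (nz D).Nonempty) {a : Cfsg.PSU 6 F 2} (ha : a ∈ nz D) :
    a ∈ loc (nz D) a := by
  classical
  obtain ⟨b, hb, hab, cab⟩ : ∃ b ∈ nz D, a ≠ b ∧ Commute a b := by
    obtain ⟨a₀, ha₀, b₀, hb₀, h1, h2⟩ := exists_comm_pair C hF h hne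
    obtain ⟨u, hu, hu0, e⟩ := exists_pt C hF h ha
    obtain ⟨w, hw, hw0, e'⟩ := exists_pt C hF h ha₀
    obtain ⟨A, s, hs, hA⟩ := C.exists_move (by norm_num) hw0 hu0 hw hu
    have hg : pr A * a₀ * (pr A)⁻¹ = a := by
      rw [e, e', pr_conj_pt]; exact pt_smul C hF hs hA
    exact ⟨pr A * b₀ * (pr A)⁻¹, nz_conj h _ hb₀, fun q => h1 (by rw [← hg] at q; simpa using q),
      hg ▸ (Commute.conj_iff _).2 h2⟩
  obtain ⟨l, hnd, -, hmem, hcomm, hprod, hiff⟩ := hasLines_psu C hF h hne a ha b hb hab cab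
  have hal : a ∈ l := (hiff a ha).2 fun f _ r _ => r
  have hperm : l.Perm (a :: l.erase a) := List.perm_cons_erase hal
  have e : a * (l.erase a).prod = 1 := by
    rw [← List.prod_cons, ← hprod]
    exact (hperm.prod_eq' (List.pairwise_of_forall_mem_list fun x hx y hy => hcomm x hx y hy)).symm
  suffices hm : ((l.erase a).prod)⁻¹ ∈ loc (nz D) a by rwa [← eq_inv_of_mul_eq_one_left e] at hm
  refine inv_mem (list_prod_mem fun x hx => ?_)
  obtain ⟨hxa, hxl⟩ := hnd.mem_erase_iff.1 hx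
  exact perp_loc ⟨hmem x hxl, hxa, hcomm a hal x hxl⟩

/-- A vector in the last four coordinates. -/
def ext4 (x : Fin 4 → F) : Fin 6 → F := ![0, 0, x 0, x 1, x 2, x 3]

theorem form_ext4 (x y : Fin 4 → F) : C.form (ext4 x) (ext4 y) = C.form x y := by
  simp [UCtx.form, ext4, Fin.sum_univ_succ]

/-- The first unit vector. -/
def e₀ : Fin 6 → F := ![1, 0, 0, 0, 0, 0]
/-- The second unit vector. -/
def e₁ : Fin 6 → F := ![0, 1, 0, 0, 0, 0]

include C hF in
theorem block_mem (h : Pre D) (hne : (nz D).Nonempty) (B : ↥(Cfsg.SU 4 F 2)) :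
    ∃ A : ↥(Cfsg.SU 6 F 2), pr A ∈ loc (nz D) (pt C hF v₀ (form_v₀ C hF)) ∧ A.1.1 *ᵥ e₀ = e₀ ∧ A.1.1 *ᵥ e₁ = e₁ ∧
      ∀ x, A.1.1 *ᵥ ext4 x = ext4 (B.1.1 *ᵥ x) := by
  set a := pt C hF v₀ (form_v₀ C hF) with ha
  let Q : ↥(Cfsg.SU 6 F 2) → ↥(Cfsg.SU 4 F 2) → Prop := fun A B =>
    pr A ∈ loc (nz D) a ∧ A.1.1 *ᵥ e₀ = e₀ ∧ A.1.1 *ᵥ e₁ = e₁ ∧ ∀ x, A.1.1 *ᵥ ext4 x = ext4 (B.1.1 *ᵥ x)
  let K : Subgroup ↥(Cfsg.SU 4 F 2) :=
    { carrier := {B | ∃ A, Q A B}
      one_mem' := ⟨1, by rw [map_one]; exact one_mem _, su_one_mulVec _, su_one_mulVec _,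
        fun x => by rw [su_one_mulVec, su_one_mulVec]⟩
      mul_mem' := by
        rintro B B' ⟨A, a1, a2, a3, a4⟩ ⟨A', b1, b2, b3, b4⟩
        exact ⟨A * A', by rw [map_mul]; exact mul_mem a1 b1, by rw [suMat_mulVec_mul, b2, a2],
          by rw [suMat_mulVec_mul, b3, a3], fun x => by rw [suMat_mulVec_mul, b4, a4, suMat_mulVec_mul]⟩
      inv_mem' := by
        rintro B ⟨A, a1, a2, a3, a4⟩
        refine ⟨A⁻¹, by rw [map_inv]; exact inv_mem a1, ?_, ?_, fun x => ?_⟩
        · conv_lhs => rw [← a2]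
          rw [su_inv_mulVec]
        · conv_lhs => rw [← a3]
          rw [su_inv_mulVec]
        · conv_lhs => rw [← su_mulVec_inv B x, ← a4]
          rw [su_inv_mulVec] }
  suffices hK : K = ⊤ by exact (hK ▸ Subgroup.mem_top B : B ∈ K)
  rw [eq_top_iff, ← CfsgLib.Perm.Trans.Unit.su_closure (F := F) (q := 2) (by rw [hF]; norm_num) 4 (by norm_num)
    (by norm_num), Subgroup.closure_le]
  rintro T ⟨w, c, hw, hT⟩
  have hTv : ∀ x, T.1.1 *ᵥ x = x + (c * C.form x w) • w := fun x => by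
    rw [hT, CfsgLib.Perm.Trans.Unit.unitaryTransvection_mulVec, CfsgLib.Perm.Trans.Unit.hermForm_eq_form C]
  rw [CfsgLib.Perm.Trans.Unit.hermForm_eq_form C] at hw
  rcases eq_or_ne w 0 with rfl | hw0
  · rw [show T = 1 from su_ext fun x => by rw [hTv, su_one_mulVec, smul_zero, add_zero]]
    exact K.one_mem
  have hc : c = 0 ∨ c = 1 := by
    have hw' : Cfsg.hermForm 4 F 2 w w = 0 := by rw [CfsgLib.Perm.Trans.Unit.hermForm_eq_form C, hw]
    rcases (CfsgLib.Perm.Trans.Unit.unitaryTransvection_iff (by rw [hF]; norm_num) hw0 hw' c).1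
      (fun x y => by rw [← hT]; exact T.2 x y) with e | e
    · exact Or.inl e
    · right
      simp only [show (2 - 1 : ℕ) = 1 from rfl, pow_one] at e
      rw [e]
      linear_combination -one_add_one hF
  rcases hc with rfl | rfl
  · rw [show T = 1 from su_ext fun x => by rw [hTv, su_one_mulVec, zero_mul, zero_smul, add_zero]]
    exact K.one_mem
  have hw6 : C.form (ext4 w) (ext4 w) = 0 := by rw [form_ext4, hw]
  have hw60 : ext4 w ≠ 0 := fun e => hw0 (funext fun i => by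
    have h2 := congrFun e 2; have h3 := congrFun e 3; have h4 := congrFun e 4; have h5 := congrFun e 5
    simp [ext4] at h2 h3 h4 h5
    fin_cases i <;> assumption)
  have he0 : C.form e₀ (ext4 w) = 0 := by simp [form_six, e₀, ext4]
  have he1 : C.form e₁ (ext4 w) = 0 := by simp [form_six, e₁, ext4]
  refine ⟨tr1 C hF (ext4 w) hw6, ?_, ?_, ?_, fun x => ?_⟩
  · refine perp_loc ⟨pt_mem C hF h hne _ hw6 hw60, fun e => ?_, ?_⟩
    · obtain ⟨s, hs, es⟩ := (pt_eq_iff C hF (hu := hw6) hw60).1 (show pt C hF (ext4 w) hw6 = a from e)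
      exact hs (by simpa [ext4, v₀] using (congrFun es 0).symm)
    · exact (pt_commute C hF hw60).2 (by simp [form_six, v₀, ext4])
  · rw [tr1_mulVec, he0, zero_smul, add_zero]
  · rw [tr1_mulVec, he1, zero_smul, add_zero]
  · rw [tr1_mulVec, form_ext4, hTv, one_mul]
    funext i; fin_cases i <;> simp [ext4]

theorem mulVec_six (M : Matrix (Fin 6) (Fin 6) F) (x : V) (i : Fin 6) : (M *ᵥ x) i =
    M i 0 * x 0 + M i 1 * x 1 + M i 2 * x 2 + M i 3 * x 3 + M i 4 * x 4 + M i 5 * x 5 := by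
  simp [Matrix.mulVec, dotProduct, Fin.sum_univ_succ]; ring

theorem mulVec_four (M : Matrix (Fin 4) (Fin 4) F) (x : Fin 4 → F) (i : Fin 4) : (M *ᵥ x) i =
    M i 0 * x 0 + M i 1 * x 1 + M i 2 * x 2 + M i 3 * x 3 := by
  simp [Matrix.mulVec, dotProduct, Fin.sum_univ_succ]; ring

include C in
theorem exists_block (A : ↥(Cfsg.SU 6 F 2)) (h0 : A.1.1 *ᵥ e₀ = e₀) (h1 : A.1.1 *ᵥ e₁ = e₁) :
    ∃ B : ↥(Cfsg.SU 4 F 2), ∀ x, A.1.1 *ᵥ ext4 x = ext4 (B.1.1 *ᵥ x) := by
  set M := A.1.1 with hM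
  let B : Matrix (Fin 4) (Fin 4) F := M.submatrix (fun i => i.succ.succ) (fun i => i.succ.succ)
  have hzero : ∀ x, (M *ᵥ ext4 x) 0 = 0 ∧ (M *ᵥ ext4 x) 1 = 0 := fun x => by
    have a1 := C.form_su A (ext4 x) e₀
    have a2 := C.form_su A (ext4 x) e₁
    rw [h0] at a1
    rw [h1] at a2
    simp [form_six, e₀, e₁, ext4] at a1 a2
    exact ⟨a1, a2⟩
  have hact : ∀ x, M *ᵥ ext4 x = ext4 (B *ᵥ x) := fun x => by
    obtain ⟨z0, z1⟩ := hzero x
    funext i
    fin_cases i
    · simpa [ext4] using z0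
    · simpa [ext4] using z1
    all_goals simp [mulVec_six, mulVec_four, ext4, B]
  have hcol : ∀ (i : Fin 6), M i 0 = e₀ i ∧ M i 1 = e₁ i := fun i => by
    have a1 := congrFun h0 i
    have a2 := congrFun h1 i
    rw [mulVec_six] at a1 a2
    constructor
    · simpa [e₀] using a1
    · simpa [e₁] using a2
  have hdet : B.det = 1 := by
    have hd : M.det = 1 := A.1.2
    rw [Matrix.det_succ_column_zero, Finset.sum_eq_single 0 (fun i _ hi => ?_) (by simp)] at hd
    · rw [Matrix.det_succ_column_zero, Finset.sum_eq_single 0 (fun i _ hi => ?_) (by simp)] at hd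
      · simpa [Matrix.submatrix_submatrix, Function.comp_def, B, (hcol 0).1, (hcol 1).2, e₀, e₁] using hd
      · have : M i.succ 1 = 0 := by
          rw [(hcol _).2]
          fin_cases i <;> simp [e₁] at hi ⊢
        simp [Matrix.submatrix, this]
    · have : M i 0 = 0 := by
        rw [(hcol _).1]
        fin_cases i <;> simp [e₀] at hi ⊢
      simp [this]
  exact ⟨C.mkSU B hdet fun u v => by rw [← form_ext4 C, ← hact, ← hact, C.form_su, form_ext4], hact⟩

include C hF in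
theorem cent_base (h : Pre D) (hne : (nz D).Nonempty) :
    Subgroup.centralizer ({pt C hF v₀ (form_v₀ C hF)} : Set (Cfsg.PSU 6 F 2)) ≤
      loc (nz D) (pt C hF v₀ (form_v₀ C hF)) := by
  intro g hg
  set a := pt C hF v₀ (form_v₀ C hF) with ha
  obtain ⟨ω, hω0, hω1, -, -, -⟩ := exists_omega hF
  set c := pt C hF (uω ω) (form_uω C hF hω0) with hc
  have hu0 : uω ω ≠ 0 := fun e => one_ne_zero (congrFun e 0)
  have han : a ∈ nz D := pt_mem C hF h hne _ _ v₀_ne
  have hcn : c ∈ nz D := pt_mem C hF h hne _ _ hu0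
  have hal : a ∈ loc (nz D) a := self_mem_loc C hF h hne han
  have hca : ¬ Commute c a := fun r => form_v₀_uω C hF hω1 ((pt_commute C hF hu0).1 r.symm)
  have hga : g * a * g⁻¹ = a := by
    rw [Subgroup.mem_centralizer_singleton_iff.1 hg, mul_inv_cancel_right]
  -- move the image of `c` back inside the local group
  have hcn' : g * c * g⁻¹ ∈ nz D := nz_conj h g hcn
  have hca' : ¬ Commute (g * c * g⁻¹) a := fun r => hca ((Commute.conj_iff g).1 (by rw [hga]; exact r))
  have hr := far_connected C hF h hne (form_v₀ C hF) v₀_ne hcn hca hcn' hca'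
  have hH : Hyp (nz D) := by
    refine ⟨h.tset, fun q x hx => nz_conj h q hx, (good_psu hF (MulEquiv.refl _) h).1.trans, ?_⟩
    rw [eq_top_iff, ← h.gen, Subgroup.closure_le]
    intro x hx
    rcases eq_or_ne x 1 with rfl | h1
    · exact one_mem _
    · exact Subgroup.subset_closure ⟨hx, h1⟩
  have hmove : ∀ y, Relation.ReflTransGen (AAdj D a) c y → ∃ k ∈ loc (nz D) a, k * c * k⁻¹ = y := by
    intro y hy
    induction hy with
    | refl => exact ⟨1, one_mem _, by simp⟩
    | tail _ hpq ih =>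
      obtain ⟨k, hk, rfl⟩ := ih
      obtain ⟨k', hk', e⟩ := swap_loc hH han hpq.1 hpq.2.1 hpq.2.2.2.2 (fun r => hpq.2.2.1 r.symm)
        (fun r => hpq.2.2.2.1 r.symm) hal
      exact ⟨k' * k, mul_mem hk' hk, by rw [← e]; group⟩
  obtain ⟨k, hk, hkc⟩ := hmove _ hr
  have hk' : Commute k a := (commute_loc hk).symm
  set g' := k⁻¹ * g with hg'
  suffices hsuff : g' ∈ loc (nz D) a by
    have := mul_mem hk hsuff
    rwa [hg', mul_inv_cancel_left] at this
  have hg'a : g' * a * g'⁻¹ = a := by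
    calc g' * a * g'⁻¹ = k⁻¹ * (g * a * g⁻¹) * k := by rw [hg']; group
      _ = a := by rw [hga, mul_assoc, hk'.symm.eq, inv_mul_cancel_left]
  have hg'c : g' * c * g'⁻¹ = c := by
    calc g' * c * g'⁻¹ = k⁻¹ * (g * c * g⁻¹) * k := by rw [hg']; group
      _ = c := by rw [← hkc]; group
  obtain ⟨A, hA⟩ := QuotientGroup.mk'_surjective (Subgroup.center ↥(Cfsg.SU 6 F 2)) g'
  rw [← hA] at hg'a hg'c
  have eA : pt C hF (A.1.1 *ᵥ v₀) (by rw [C.form_su, form_v₀ C hF]) = a := (pr_conj_pt C hF A _ _).symm.trans hg'a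
  have eC : pt C hF (A.1.1 *ᵥ uω ω) (by rw [C.form_su, form_uω C hF hω0]) = c :=
    (pr_conj_pt C hF A _ _).symm.trans hg'c
  obtain ⟨s, hs, es⟩ := (pt_eq_iff C hF (su_mulVec_ne_zero A v₀_ne)).1 eA
  obtain ⟨t, ht, et⟩ := (pt_eq_iff C hF (su_mulVec_ne_zero A hu0)).1 eC
  have hst : s = t := by
    have e := C.form_su A v₀ (uω ω)
    rw [es, et, C.form_smul_left, C.form_smul_right] at e
    have h1 : s * C.bar t = 1 := mul_right_cancel₀ (form_v₀_uω C hF hω1) (by linear_combination e)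
    linear_combination (t : F) * h1 - s * Relations.norm_one C hF ht
  subst hst
  have hinv : (s : F)⁻¹ * C.bar s⁻¹ = 1 := Relations.norm_one C hF (inv_ne_zero hs)
  have hs6 : (s : F)⁻¹ ^ 6 = 1 := by
    have := FiniteField.pow_card_sub_one_eq_one s⁻¹ (inv_ne_zero hs)
    rw [hF] at this
    linear_combination (s⁻¹ ^ 3 + 1) * this
  let S : ↥(Cfsg.SU 6 F 2) := C.mkSU ((s : F)⁻¹ • 1) (by simpa using hs6) fun u v => by
    simp only [Matrix.smul_mulVec, Matrix.one_mulVec, C.form_smul_left, C.form_smul_right]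
    linear_combination C.form u v * hinv
  have hSv : ∀ x, S.1.1 *ᵥ x = (s : F)⁻¹ • x := fun x => by
    rw [UCtx.mkSU_val, Matrix.smul_mulVec, Matrix.one_mulVec]
  have hS1 : pr S = 1 := (QuotientGroup.eq_one_iff _).2 (Subgroup.mem_center_iff.2 (scalar_central (C.mkSU_val _ _ _)))
  set A' := S * A with hA'
  have hA'g : pr A' = g' := by rw [hA', map_mul, hS1, one_mul]; exact hA
  have f1 : A'.1.1 *ᵥ v₀ = v₀ := by rw [hA', suMat_mulVec_mul, es, hSv, inv_smul_smul₀ hs]
  have f2 : A'.1.1 *ᵥ uω ω = uω ω := by rw [hA', suMat_mulVec_mul, et, hSv, inv_smul_smul₀ hs]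
  have hω' : ω - 1 ≠ 0 := sub_ne_zero.2 hω1
  have he1 : e₁ = (ω - 1)⁻¹ • (uω ω - v₀) := by
    funext i; fin_cases i <;> simp [e₁, uω, v₀]
    field_simp
  have g1 : A'.1.1 *ᵥ e₁ = e₁ := by rw [he1, Matrix.mulVec_smul, Matrix.mulVec_sub, f1, f2]
  have g0 : A'.1.1 *ᵥ e₀ = e₀ := by
    rw [show (e₀ : V) = v₀ - e₁ by funext i; fin_cases i <;> simp [e₀, e₁, v₀], Matrix.mulVec_sub, f1, g1]
  obtain ⟨B, hB⟩ := exists_block C A' g0 g1
  obtain ⟨A₁, hm, q0, q1, q4⟩ := block_mem C hF h hne B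
  rw [show A' = A₁ from su_ext fun x => by
    have hx : x = x 0 • e₀ + x 1 • e₁ + ext4 ![x 2, x 3, x 4, x 5] := by
      funext i; fin_cases i <;> simp [e₀, e₁, ext4]
    rw [hx]
    simp only [Matrix.mulVec_add, Matrix.mulVec_smul, g0, g1, q0, q1, hB, q4]] at hA'g
  rw [← hA'g]; exact hm

include C hF in
theorem rigid (h : Pre D) (hne : (nz D).Nonempty) (hH : Hyp (nz D)) {a : Cfsg.PSU 6 F 2} (ha : a ∈ nz D)
    (φ : MulAut (Cfsg.PSU 6 F 2)) (hφD : ∀ x ∈ nz D, φ x ∈ nz D) (hφa : φ a = a)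
    (hφN : ∀ x ∈ perp (nz D) a, φ x = x) : φ = 1 ∨ φ = MulAut.conj a := by
  obtain ⟨v, hv, hv0, rfl⟩ := exists_pt C hF h ha
  have hN : ∀ x ∈ nz D, Commute x (pt C hF v hv) → φ x = x := fun x hx hc => by
    rcases eq_or_ne x (pt C hF v hv) with rfl | hne'
    · exact hφa
    · exact hφN x ⟨hx, hne', hc.symm⟩
  refine eq_or_conj hH ha φ hN ?_ fun x hx hxa y hy hya => ?_
  · intro x hx hxa
    obtain ⟨u, hu, hu0, rfl⟩ := exists_pt C hF h hx
    obtain ⟨u', hu', hu'0, e'⟩ := exists_pt C hF h (hφD _ hx)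
    have huv : C.form u v ≠ 0 := fun e => hxa ((pt_commute C hF hv0).2 e)
    have hu'v : C.form u' v ≠ 0 := fun e => hxa (by
      have hcm : Commute (φ (pt C hF u hu)) (φ (pt C hF v hv)) := by
        rw [e', hφa]; exact (pt_commute C hF hv0).2 e
      simpa using hcm.map φ.symm.toMonoidHom)
    obtain ⟨P⟩ := exists_linePair C hu0 hv0 (not_smul_of_form C hv huv)
      (not_smul_of_form C hu fun e => huv (C.form_swap_zero e))
    have hspan := mem_span_of_double_perp C hF P (u := u') fun z hz0 hz zu zv => by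
      have hzm := pt_mem C hF h hne z hz hz0
      have h1 : Commute (pt C hF z hz) (pt C hF u hu) := (pt_commute C hF hu0).2 zu
      have h2 := h1.map φ.toMonoidHom
      rw [MulEquiv.coe_toMonoidHom, hN _ hzm ((pt_commute C hF hv0).2 zv), e'] at h2
      exact (pt_commute C hF hu'0).1 h2
    set α := C.bar (C.form P.fv u') with hα
    set β := C.bar (C.form P.fw u') with hβ
    have hα0 : α ≠ 0 := fun e => hu'v (by rw [hspan, e, zero_smul, zero_add, C.form_smul_left, hv, mul_zero])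
    rcases eq_or_ne β 0 with hβ0 | hβ0
    · left
      rw [e']
      exact pt_smul C hF hα0 (by rw [hspan, hβ0, zero_smul, add_zero])
    · right
      rw [e']
      set w := C.form u v with hw
      have hvu : C.form v u = C.bar w := (C.bar_form u v).symm
      have hiso : α * C.bar β * w + β * C.bar α * C.bar w = 0 := by
        have := hu'
        rw [hspan] at this
        simp only [C.form_add_left, C.form_add_right, C.form_smul_left, C.form_smul_right, hu, hv, hvu, ← hw] at this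
        linear_combination this
      clear_value α β
      have hfix : C.bar (α * C.bar β * w) = α * C.bar β * w := by
        rw [map_mul, map_mul, C.bar_bar]
        linear_combination hiso - (α * C.bar β * w) * one_add_one hF
      have h1 : α * C.bar β * w = 1 := (fixed_cases C hF hfix).resolve_left
        (mul_ne_zero (mul_ne_zero hα0 ((map_ne_zero C.bar).2 hβ0)) huv)
      have hβe : β = α * w := by
        linear_combination (α * w) * Relations.norm_one C hF hβ0 - β * h1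
      have hconj := pr_conj_pt C hF (tr1 C hF v hv) u hu
      change pt C hF v hv * _ * (pt C hF v hv)⁻¹ = _ at hconj
      rw [hH.inv_eq ha] at hconj
      rw [hconj]
      refine pt_smul C hF hα0 ?_
      rw [tr1_mulVec, hspan, smul_add, smul_smul, ← hw, hβe]
  · exact far_connected C hF h hne hv hv0 hx hxa hy hya

include C hF in
theorem perp_connected (h : Pre D) (hne : (nz D).Nonempty) {a x y : Cfsg.PSU 6 F 2} (ha : a ∈ nz D)
    (hx : x ∈ perp (nz D) a) (hy : y ∈ perp (nz D) a) :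
    Relation.ReflTransGen (fun p q => p ∈ perp (nz D) a ∧ q ∈ perp (nz D) a ∧ Commute p q) x y := by
  obtain ⟨v, hv, hv0, rfl⟩ := exists_pt C hF h ha
  obtain ⟨p, hp, hp0, rfl⟩ := exists_pt C hF h hx.1
  obtain ⟨q, hq, hq0, rfl⟩ := exists_pt C hF h hy.1
  by_cases hpq : C.form p q = 0
  · exact Relation.ReflTransGen.single ⟨hx, hy, (pt_commute C hF hq0).2 hpq⟩
  have hvp : C.form v p = 0 := (pt_commute C hF hp0).1 hx.2.2
  have hvq : C.form v q = 0 := (pt_commute C hF hq0).1 hy.2.2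
  obtain ⟨f, hf⟩ := C.exists_form_eq_one hv0
  obtain ⟨z, hz0, hzz, hzp, hzq, hzv, hzf⟩ : ∃ z : V, z ≠ 0 ∧ C.form z z = 0 ∧ C.form z p = 0 ∧
      C.form z q = 0 ∧ C.form z v = 0 ∧ C.form z f = 0 := by
    obtain ⟨s, hs0, hs⟩ := exists_orth_five C ![p, q, v, f, p]
    rcases fixed_cases C hF (C.form_self_fixed s) with hss | hss
    · exact ⟨s, hs0, hss, hs 0, hs 1, hs 2, hs 3⟩
    obtain ⟨t, ht0, ht⟩ := exists_orth_five C ![p, q, v, f, s]
    rcases fixed_cases C hF (C.form_self_fixed t) with htt | htt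
    · exact ⟨t, ht0, htt, ht 0, ht 1, ht 2, ht 3⟩
    have ts : C.form t s = 0 := ht 4
    have st : C.form s t = 0 := C.form_swap_zero ts
    have hsum : ∀ i : Fin 4, C.form (s + t) (![p, q, v, f] i) = 0 := fun i => by
      rw [C.form_add_left]
      fin_cases i
      · exact (congrArg₂ (· + ·) (hs 0) (ht 0)).trans (add_zero 0)
      · exact (congrArg₂ (· + ·) (hs 1) (ht 1)).trans (add_zero 0)
      · exact (congrArg₂ (· + ·) (hs 2) (ht 2)).trans (add_zero 0)
      · exact (congrArg₂ (· + ·) (hs 3) (ht 3)).trans (add_zero 0)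
    refine ⟨s + t, fun e => ?_, ?_, hsum 0, hsum 1, hsum 2, hsum 3⟩
    · have := congrArg (fun r => C.form r s) e
      simp [C.form_add_left, hss, ts, C.form_zero_left] at this
    · simp only [C.form_add_left, C.form_add_right, hss, htt, st, ts]
      linear_combination one_add_one hF
  have hzm : pt C hF z hzz ∈ perp (nz D) (pt C hF v hv) := by
    refine ⟨pt_mem C hF h hne z hzz hz0, fun e => ?_, ((pt_commute C hF hv0).2 hzv).symm⟩
    obtain ⟨s, hs, es⟩ := (pt_eq_iff C hF hz0).1 e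
    have hf' : C.form v f = 1 := by rw [← C.bar_form, hf, map_one]
    rw [es, C.form_smul_left, hf', mul_one] at hzf
    exact hs hzf
  exact (Relation.ReflTransGen.single (r := fun p q => p ∈ perp (nz D) (pt C hF v hv) ∧ q ∈ perp (nz D) (pt C hF v hv) ∧ Commute p q)
    ⟨hx, hzm, ((pt_commute C hF hp0).2 hzp).symm⟩).tail ⟨hzm, hy, (pt_commute C hF hq0).2 hzq⟩

include C hF in
theorem separated (h : Pre D) (hne : (nz D).Nonempty) {a b c : Cfsg.PSU 6 F 2} (ha : a ∈ nz D)
    (hb : b ∈ perp (nz D) a) (hc : c ∈ perp (nz D) a ∩ perp (nz D) b) :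
    ∃ f ∈ perp (nz D) c, ¬ Commute f a ∧ ¬ Commute f b := by
  classical
  obtain ⟨u, hu, hu0, rfl⟩ := exists_pt C hF h ha
  obtain ⟨w, hw, hw0, rfl⟩ := exists_pt C hF h hb.1
  obtain ⟨t, ht, ht0, rfl⟩ := exists_pt C hF h hc.1.1
  have key : ∀ {p : V}, C.form p p = 0 → p ≠ 0 → C.form t p = 0 →
      (∀ s : F, p ≠ s • t) → ∃ z : V, C.form z z = 0 ∧ C.form z t = 0 ∧ C.form z p ≠ 0 := by
    intro p hp hp0 htp hns
    by_contra hcon
    push Not at hcon
    obtain ⟨s, hs⟩ := C.eq_smul_of_isotropic_orth (v := t) (w := p) ht0 ht hp fun z hz zt => hcon z hz zt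
    exact hns s hs
  have hne' : ∀ {p : V} (hp : C.form p p = 0), p ≠ 0 → pt C hF t ht ≠ pt C hF p hp → ∀ s : F, p ≠ s • t :=
    fun {p} hp hp0 hne s e => hne ((pt_smul C hF (fun e0 => hp0 (by rw [e, e0, zero_smul])) e).symm)
  obtain ⟨z, hz, hzt, hzu⟩ := key hu hu0 ((pt_commute C hF hu0).1 hc.1.2.2.symm) (hne' hu hu0 hc.1.2.1)
  obtain ⟨z', hz', hzt', hzw⟩ := key hw hw0 ((pt_commute C hF hw0).1 hc.2.2.2.symm) (hne' hw hw0 hc.2.2.1)
  obtain ⟨r, hr, hrt, hru, hrw⟩ : ∃ r : V, C.form r r = 0 ∧ C.form r t = 0 ∧ C.form r u ≠ 0 ∧ C.form r w ≠ 0 := by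
    by_cases h1 : C.form z w = 0
    swap
    · exact ⟨z, hz, hzt, hzu, h1⟩
    by_cases h2 : C.form z' u = 0
    swap
    · exact ⟨z', hz', hzt', h2, hzw⟩
    set k := C.form z z' with hk
    set κ : F := if k = 0 then 1 else k with hκ
    have hκ0 : κ ≠ 0 := by rw [hκ]; split_ifs with e <;> simp [e]
    refine ⟨z + κ • z', ?_, ?_, ?_, ?_⟩
    · have hzz' : C.form z' z = C.bar k := (C.bar_form z z').symm
      simp only [C.form_add_left, C.form_add_right, C.form_smul_left, C.form_smul_right, hz, hz', hzz', ← hk]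
      rw [hκ]
      split_ifs with e
      · simp [e]
      · linear_combination k * C.bar k * one_add_one hF
    · rw [C.form_add_left, C.form_smul_left, hzt, hzt', mul_zero, add_zero]
    · rw [C.form_add_left, C.form_smul_left, h2, mul_zero, add_zero]; exact hzu
    · rw [C.form_add_left, C.form_smul_left, h1, zero_add]; exact mul_ne_zero hκ0 hzw
  have hr0 : r ≠ 0 := fun e => hru (by rw [e, C.form_zero_left])
  refine ⟨pt C hF r hr, ⟨pt_mem C hF h hne r hr hr0, fun e => ?_, ((pt_commute C hF ht0).2 hrt).symm⟩,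
    fun e => hru ((pt_commute C hF hu0).1 e), fun e => hrw ((pt_commute C hF hw0).1 e)⟩
  exact hru ((pt_commute C hF hu0).1 (e ▸ hc.1.2.2.symm))

include C hF in
/-- The bottom level. -/
theorem lev (h : Pre D) (hne : (nz D).Nonempty) : Lev (nz D) 693 180 51 45 := by
  obtain ⟨hg, hdvd⟩ := good_psu hF (MulEquiv.refl (Cfsg.PSU 6 F 2)) h
  have hH : Hyp (nz D) := by
    refine ⟨h.tset, fun q x hx => nz_conj h q hx, hg.trans, ?_⟩
    rw [eq_top_iff, ← h.gen, Subgroup.closure_le]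
    intro x hx
    rcases eq_or_ne x 1 with rfl | h1
    · exact one_mem _
    · exact Subgroup.subset_closure ⟨hx, h1⟩
  haveI : IsSimpleGroup (Cfsg.PSU 6 F 2) :=
    CfsgLib.Classical.psu_isSimple (q := 2) (n := 6) (by rw [hF]; norm_num) (by norm_num) (by norm_num)
  have h3 : Cfsg.pCore 3 (Cfsg.PSU 6 F 2) = ⊥ := by
    haveI := CfsgLib.Coprime.pCore_normal' (G := Cfsg.PSU 6 F 2) 3
    refine (IsSimpleGroup.eq_bot_or_eq_top_of_normal (Cfsg.pCore 3 (Cfsg.PSU 6 F 2)) inferInstance).resolve_right fun e => ?_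
    haveI := Fact.mk Nat.prime_three
    have hp : IsPGroup 3 (Cfsg.PSU 6 F 2) := by
      have := CfsgLib.Coprime.pCore_isPGroup (G := Cfsg.PSU 6 F 2) 3
      rw [e] at this
      exact this.of_equiv Subgroup.topEquiv
    obtain ⟨n, hn⟩ := hp.exists_card_eq
    rw [hn] at hdvd
    exact absurd (Nat.prime_two.dvd_of_dvd_pow ((dvd_pow_self 2 (by norm_num : 15 ≠ 0)).trans hdvd)) (by norm_num)
  have hprim := prim_of_connected hH hg.center hg.core h3 (exists_comm_pair C hF h hne)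
    fun a ha b hb => connected C hF h hne ha hb
  obtain ⟨ω, hω0, hω1, -, -, -⟩ := exists_omega hF
  obtain ⟨hk, hl, hm⟩ := counts_at C hF h hne hω0 hω1
  obtain ⟨ck, cl, cm⟩ := counts_of_pairs hH hprim (pt_mem C hF h hne _ (form_v₀ C hF) v₀_ne)
    (b := pt C hF w₀ (form_w₀ C hF)) ⟨pt_mem C hF h hne _ _ w₀_ne, fun e => by
      obtain ⟨s, -, es⟩ := (pt_eq_iff C hF w₀_ne).1 e
      exact one_ne_zero (α := F) (by simpa [w₀, v₀] using congrFun es 2),
      (pt_commute C hF w₀_ne).2 (by simp [form_six, v₀, w₀])⟩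
    (pt_mem C hF h hne _ (form_v₀ C hF) v₀_ne)
    (pt_mem C hF h hne _ (form_uω C hF hω0) (fun e => one_ne_zero (congrFun e 0)))
    (fun r => form_v₀_uω C hF hω1 ((pt_commute C hF (fun e => one_ne_zero (congrFun e 0))).1 r)) hk hl hm
  exact
    { hyp := hH
      center := hg.center
      core := hg.core
      prim := hprim
      card := card_class C hF h hne
      deg := ck
      lam := cl
      mu := cm
      cent := fun a ha => by
        obtain ⟨g, rfl⟩ := hH.transitive _ (pt_mem C hF h hne _ (form_v₀ C hF) v₀_ne) a ha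
        exact cent_conj hH g (cent_base C hF h hne)
      rig := fun a ha φ => rigid C hF h hne hH ha φ
      pconn := fun a ha x hx y hy => perp_connected C hF h hne ha hx hy
      sep := fun a ha b hb c hc => separated C hF h hne ha hb hc }

end CfsgLib.Spor.Tri.Level.U6
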