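/-
Groups of types M(22), M(23), M(24): parameters and centralizers.
-/
import Cfsg.Agent.Lib.Spor.Tri.LevelParam
import Cfsg.Agent.Lib.Spor.Tri.LevelEleven
import Cfsg.Agent.Lib.Spor.Tri.LevelPrim
import Cfsg.Agent.Lib.Spor.Tri.LevelStep
import Cfsg.Agent.Lib.Spor.Tri.U6Stab

namespace CfsgLib.Spor.Tri.Level

open CfsgLib.Spor.Tri CfsgLib.Spor.Tri.Relations

section transfer

variable {X : Type*} [Group X] {Y : Type*} [Group Y] (e : X ≃* Y) (D : Set X)

theorem mem_image_equiv (x : X) : e x ∈ e '' D ↔ x ∈ D := ⟨fun ⟨_, hz, r⟩ => e.injective r ▸ hz, fun hx => ⟨x, hx, rfl⟩⟩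

theorem commute_equiv (a b : X) : Commute (e a) (e b) ↔ Commute a b :=
  ⟨fun r => by simpa using r.map e.symm.toMonoidHom, fun r => r.map e.toMonoidHom⟩

theorem perp_equiv (a : X) : perp (e '' D) (e a) = e '' perp D a := by
  ext y
  constructor
  · rintro ⟨⟨x, hx, rfl⟩, h1, h2⟩
    exact ⟨x, ⟨hx, fun r => h1 (r ▸ rfl), (commute_equiv e a x).1 h2⟩, rfl⟩
  · rintro ⟨x, hx, rfl⟩
    exact ⟨⟨x, hx.1, rfl⟩, fun r => hx.2.1 (e.injective r), (commute_equiv e a x).2 hx.2.2⟩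

variable [Finite X]

theorem lev_transfer (hH : Hyp D) (hZ : Subgroup.center X = ⊥) (hc : Cfsg.pCore 2 X = ⊥) {v k l m : ℕ}
    (L : Lev (e '' D) v k l m) : Lev D v k l m := by
  have hcard : ∀ S : Set X, (e '' S).ncard = S.ncard := fun S => Set.ncard_image_of_injective _ e.injective
  have hinter : ∀ a b, perp (e '' D) (e a) ∩ perp (e '' D) (e b) = e '' (perp D a ∩ perp D b) := fun a b => by
    rw [perp_equiv, perp_equiv, Set.image_inter e.injective]
  refine
    { hyp := hH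
      center := hZ
      core := hc
      prim := ⟨hH.transitive, ?_, ?_⟩
      card := hcard D ▸ L.card
      deg := fun a ha => by rw [← L.deg _ ⟨a, ha, rfl⟩, perp_equiv, hcard]
      lam := fun a ha b hb => by
        rw [← L.lam (e a) ⟨a, ha, rfl⟩ (e b) (by rw [perp_equiv]; exact ⟨b, hb, rfl⟩), hinter, hcard]
      mu := fun a ha b hb hab => by
        rw [← L.mu (e a) ⟨a, ha, rfl⟩ (e b) ⟨b, hb, rfl⟩ (fun r => hab ((commute_equiv e a b).1 r)), hinter, hcard]
      cent := fun a ha => ?_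
      rig := fun a ha φ hφD hφa hN => ?_
      pconn := fun a ha x hx y hy => ?_
      sep := fun a ha b hb c hc => ?_ }
  · obtain ⟨_, ⟨a, ha, rfl⟩, _, ⟨b, hb, rfl⟩, hab⟩ := L.prim.2.1
    exact ⟨a, ha, b, hb, fun r => hab (r ▸ rfl)⟩
  · intro B hB hblock
    have himg : ∀ g : X, (fun x => e g * x * (e g)⁻¹) '' (e '' B) = e '' ((fun x => g * x * g⁻¹) '' B) := fun g => by
      rw [Set.image_image, Set.image_image]; exact Set.image_congr fun x _ => by simp
    rcases L.prim.2.2 (e '' B) (Set.image_mono hB) (fun q => by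
      obtain ⟨g, rfl⟩ := e.surjective q
      rw [himg]
      rcases hblock g with r | r
      · exact Or.inl (by rw [r])
      · exact Or.inr ((Set.disjoint_image_iff e.injective).2 r)) with r | r
    · exact Or.inl fun x hx y hy => e.injective (r ⟨x, hx, rfl⟩ ⟨y, hy, rfl⟩)
    · exact Or.inr ((Set.image_eq_image e.injective).1 r)
  · intro g hg
    have h1 := L.cent (e a) ⟨a, ha, rfl⟩ (x := e g) (by
      rw [Subgroup.mem_centralizer_singleton_iff, ← map_mul, ← map_mul]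
      exact congrArg e (Subgroup.mem_centralizer_singleton_iff.1 hg))
    rw [loc, show {y | y ∈ e '' D ∧ y ≠ e a ∧ Commute (e a) y} = perp (e '' D) (e a) from rfl, perp_equiv,
      ← MulEquiv.coe_toMonoidHom, ← MonoidHom.map_closure] at h1
    obtain ⟨g', hg', r⟩ := h1
    exact e.injective r ▸ hg'
  · rcases L.rig (e a) ⟨a, ha, rfl⟩ (e.symm.trans (φ.trans e)) (by
        rintro _ ⟨x, hx, rfl⟩; exact ⟨φ x, hφD x hx, by simp⟩)
      (by simp [hφa]) (fun q hq => by
        rw [perp_equiv] at hq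
        obtain ⟨x, hx, rfl⟩ := hq
        simp [hN x hx]) with r | r
    · left; ext x
      have := DFunLike.congr_fun r (e x)
      simpa using this
    · right; ext x
      have := DFunLike.congr_fun r (e x)
      simp [MulAut.conj_apply] at this
      exact e.injective (by simpa [MulAut.conj_apply] using this)
  · have key : ∀ q, Relation.ReflTransGen (fun p q => p ∈ perp (e '' D) (e a) ∧ q ∈ perp (e '' D) (e a) ∧ Commute p q)
        (e x) q → Relation.ReflTransGen (fun p q => p ∈ perp D a ∧ q ∈ perp D a ∧ Commute p q) x (e.symm q) := by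
      intro q hq
      induction hq with
      | refl => rw [e.symm_apply_apply]
      | tail _ hs ih =>
        refine ih.tail ?_
        obtain ⟨h1, h2, h3⟩ := hs
        rw [perp_equiv] at h1 h2
        obtain ⟨p, hp, rfl⟩ := h1
        obtain ⟨q, hq, rfl⟩ := h2
        simp only [e.symm_apply_apply]
        exact ⟨hp, hq, (commute_equiv e p q).1 h3⟩
    have := key _ (L.pconn (e a) ⟨a, ha, rfl⟩ (e x) (by rw [perp_equiv]; exact ⟨x, hx, rfl⟩) (e y)
      (by rw [perp_equiv]; exact ⟨y, hy, rfl⟩))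
    rwa [e.symm_apply_apply] at this
  · obtain ⟨q, hq, q1, q2⟩ := L.sep (e a) ⟨a, ha, rfl⟩ (e b) (by rw [perp_equiv]; exact ⟨b, hb, rfl⟩) (e c)
      (by rw [hinter]; exact ⟨c, hc, rfl⟩)
    rw [perp_equiv] at hq
    obtain ⟨f, hf, rfl⟩ := hq
    exact ⟨f, hf, fun r => q1 ((commute_equiv e f a).2 r), fun r => q2 ((commute_equiv e f b).2 r)⟩

end transfer

theorem hyp_nz {X : Type*} [Group X] [Finite X] {D : Set X} (h : Pre D) {k : ℕ} (hg : Good k D) : Hyp (nz D) := by
  refine ⟨h.tset, fun q x hx => nz_conj h q hx, hg.trans, ?_⟩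
  rw [eq_top_iff, ← h.gen, Subgroup.closure_le]
  intro x hx
  rcases eq_or_ne x 1 with rfl | h1
  · exact one_mem _
  · exact Subgroup.subset_closure ⟨hx, h1⟩

/-- The bottom level in any copy of `PSU(6, 4)`. -/
theorem lev_u6 {F : Type} [Field F] [Fintype F] (hF : Fintype.card F = 4) {X : Type*} [Group X] [Finite X]
    (e : X ≃* Cfsg.PSU 6 F 2) {D : Set X} (h : Pre D) : Lev (nz D) 693 180 51 45 ∧ Rel 5 (nz D) := by
  classical
  obtain ⟨C⟩ := CfsgLib.Classical.uctx_exists (F := F) (q := 2) (by rw [hF]; norm_num)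
  obtain ⟨hg, -⟩ := good_psu hF e h
  have hH := hyp_nz h hg
  set D' : Set (Cfsg.PSU 6 F 2) := e '' D
  have hP : Pre D' := by
    refine ⟨?_, ?_, ?_, ?_⟩
    · rintro _ ⟨a, ha, rfl⟩; rw [← map_mul, h.invol a ha, map_one]
    · rintro _ ⟨a, ha, rfl⟩ _ ⟨b, hb, rfl⟩
      rcases h.pair a ha b hb with r | r
      · exact Or.inl (by rw [← map_mul, ← map_pow, r, map_one])
      · exact Or.inr (by rw [← map_mul, ← map_pow, r, map_one])
    · rintro g _ ⟨a, ha, rfl⟩
      obtain ⟨u, rfl⟩ := e.surjective g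
      exact ⟨u * a * u⁻¹, h.conj u a ha, by simp⟩
    · have := congrArg (Subgroup.map e.toMonoidHom) h.gen
      rw [MonoidHom.map_closure, Subgroup.map_top_of_surjective _ e.surjective] at this
      exact this
  have himg : nz D' = e '' nz D := by
    ext y
    constructor
    · rintro ⟨⟨x, hx, rfl⟩, h1⟩
      exact ⟨x, ⟨hx, fun r => h1 (by rw [r, map_one])⟩, rfl⟩
    · rintro ⟨x, hx, rfl⟩
      exact ⟨⟨x, hx.1, rfl⟩, fun r => hx.2 (e.injective (by rw [r, map_one]))⟩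
  have hne' : (nz D').Nonempty := by rw [himg]; exact hg.nonempty.image _
  have L := U6.lev C hF hP hne'
  rw [himg] at L
  have LX := lev_transfer e (nz D) hH hg.center hg.core L
  refine ⟨LX, ?_⟩
  obtain ⟨a, ha, -⟩ := LX.prim.2.1
  obtain ⟨b, hb⟩ : (perp (nz D) a).Nonempty := (Set.ncard_pos (Set.toFinite _)).1 (by rw [LX.deg a ha]; norm_num)
  obtain ⟨l, hnd, hlen, hmem, hcomm, hprod, -⟩ :=
    hasLines_of_equiv hF e h a ha b hb.1 hb.2.1.symm hb.2.2
  exact ⟨l, ⟨hnd, fun x hx => ⟨hmem x hx, (hmem x hx).2⟩, hcomm⟩, hlen, hprod⟩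

variable {G : Type*} [Group G] [Finite G] {D : Set G}

/-- The data of the local quotient when it is `PSU(6, 4)`. -/
theorem img_u6 (h : Hyp D) {d : G} (hnc : NC D d) {F : Type} [Field F] [Fintype F] (hF : Fintype.card F = 4)
    (e : ↥(loc D d) ⧸ Subgroup.center ↥(loc D d) ≃* Cfsg.PSU 6 F 2) :
    Lev (img D d) 693 180 51 45 ∧ Rel 5 (img D d) :=
  img_nz h hnc ▸ lev_u6 hF e (pre_img (pre_of_hyp h) d)

theorem nc22 (h : Hyp D) (h22 : Cfsg.IsOfTypeM22 G D) {d : G} (hd : d ∈ D) : NC D d :=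
  nc_of_good h (good_m22 (pre_of_hyp h) h22).1 hd

theorem notwin22 (h : Hyp D) (h22 : Cfsg.IsOfTypeM22 G D) :
    NoTwin D ∧ ∃ a ∈ D, ∃ b ∈ D, a ≠ b ∧ Commute a b := by
  obtain ⟨-, d, hd, c, -, -, ⟨F, hFf, hFt, hF, ⟨e⟩⟩, -⟩ := id h22
  have hnc := nc22 h h22 hd
  obtain ⟨L, -⟩ := @img_u6 G _ _ D h d hnc F hFf hFt hF e
  obtain ⟨y, hy⟩ : (perp D d).Nonempty :=
    (Set.ncard_pos (Set.toFinite _)).1 (by rw [deg_of_local h hd hnc L hd]; norm_num)
  exact ⟨notwin_of_local h hd hnc (notwin_of_lev L (by norm_num)) ⟨y, hy⟩, d, hd, y, hy.1, hy.2.1.symm, hy.2.2⟩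

/-- The neighbours common to a pair form a single class of its group, or number at most twice the inner degree. -/
theorem card_dvd_pair (h : Hyp D) {d c : G} {m : ℕ}
    (hdeg : ∀ p ∈ perp D d ∩ perp D c, (perp D d ∩ perp D c ∩ perp D p).ncard = m)
    (hbig : 2 * m < (perp D d ∩ perp D c).ncard) :
    (perp D d ∩ perp D c).ncard ∣ Nat.card (↥(Subgroup.closure (perp D d ∩ perp D c)) ⧸
      Subgroup.center ↥(Subgroup.closure (perp D d ∩ perp D c))) := by
  classical
  set P := perp D d ∩ perp D c with hP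
  set K := Subgroup.closure P with hK
  obtain ⟨p, hp⟩ : P.Nonempty := (Set.ncard_pos (Set.toFinite _)).1 (by omega)
  set p' : ↥K := ⟨p, Subgroup.subset_closure hp⟩
  set O := MulAction.orbit (ConjAct ↥K) p' with hO
  have hOP : ∀ x ∈ O, (x : G) ∈ P := by
    rintro _ ⟨g, rfl⟩
    obtain ⟨u, rfl⟩ := ConjAct.toConjAct.surjective g
    show (u : G) * p * (u : G)⁻¹ ∈ P
    have hfix : ∀ a, (∀ y ∈ P, Commute a y) → (u : G) * a * (u : G)⁻¹ = a := fun a hay => by
      have hle : K ≤ Subgroup.centralizer {a} :=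
        (Subgroup.closure_le _).2 fun y hy => Subgroup.mem_centralizer_singleton_iff.2 (hay y hy).symm.eq
      rw [Subgroup.mem_centralizer_singleton_iff.1 (hle u.2), mul_inv_cancel_right]
    have h1 : (u : G) * p * (u : G)⁻¹ ∈ perp D ((u : G) * d * (u : G)⁻¹) ∩ perp D ((u : G) * c * (u : G)⁻¹) := by
      rw [image_inter_conj h]; exact ⟨p, hp, rfl⟩
    rwa [hfix d fun y hy => hy.1.2.2, hfix c fun y hy => hy.2.2.2] at h1
  set S := Subtype.val '' O with hS
  have hSP : S ⊆ P := by rintro _ ⟨x, hx, rfl⟩; exact hOP x hx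
  have hcross : ∀ x ∈ S, ∀ y ∈ P, y ∉ S → Commute x y := by
    rintro _ ⟨x, ⟨g, rfl⟩, rfl⟩ y hy hyS
    by_contra hn
    obtain ⟨u, rfl⟩ := ConjAct.toConjAct.surjective g
    set x' : ↥K := u * p' * u⁻¹ with hx'
    set y' : ↥K := ⟨y, Subgroup.subset_closure hy⟩
    have hxD : (x' : G) ∈ D := (hOP _ ⟨ConjAct.toConjAct u, rfl⟩).1.1
    have hb : (x' : G) * y * x' = y * x' * y := h.braid hxD hy.1.1 hn
    apply hyS
    refine ⟨y', ⟨ConjAct.toConjAct (x' * y' * u), ?_⟩, rfl⟩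
    refine Subtype.ext ?_
    show ((x' * y' * u * p' * (x' * y' * u)⁻¹ : ↥K) : G) = y
    calc ((x' * y' * u * p' * (x' * y' * u)⁻¹ : ↥K) : G) = (x' : G) * y * x' * (y : G)⁻¹ * (x' : G)⁻¹ := by
          simp [hx', y', mul_assoc]
      _ = (x' : G) * y * x' * y * x' := by rw [h.inv_eq hy.1.1, h.inv_eq hxD]
      _ = (y * x' * y) * y * x' := by rw [hb]
      _ = y * (x' * (y * y) * x') := by group
      _ = y := by rw [h.mul_self hy.1.1, mul_one, h.mul_self hxD, mul_one]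
  have hall : S = P := by
    refine Set.Subset.antisymm hSP fun q hq => ?_
    by_contra hqS
    have hpS : p ∈ S := ⟨p', MulAction.mem_orbit_self _, rfl⟩
    have e1 : (P \ S).ncard ≤ m := by
      rw [← hdeg p hp]
      refine Set.ncard_le_ncard (fun y hy => ⟨hy.1, hy.1.1.1, fun r => hy.2 (r ▸ hpS), hcross p hpS y hy.1 hy.2⟩)
        (Set.toFinite _)
    have e2 : S.ncard ≤ m := by
      rw [← hdeg q hq]
      refine Set.ncard_le_ncard (fun y hy => ⟨hSP hy, (hSP hy).1.1, fun r => hqS (r ▸ hy), (hcross y hy q hq hqS).symm⟩)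
        (Set.toFinite _)
    have e3 := Set.ncard_sdiff_add_ncard_of_subset hSP (Set.toFinite _)
    omega
  rw [← hall, hS, Set.ncard_image_of_injective _ Subtype.val_injective]
  have hcnt : O.ncard = (MulAction.stabilizer (ConjAct ↥K) p').index :=
    (MulAction.index_stabilizer (ConjAct ↥K) p').symm
  rw [hcnt]
  have hle : (Subgroup.center ↥K).map (ConjAct.toConjAct : ↥K ≃* ConjAct ↥K).toMonoidHom ≤
      MulAction.stabilizer (ConjAct ↥K) p' := by
    rintro _ ⟨z, hz, rfl⟩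
    show z * p' * z⁻¹ = p'
    rw [← Subgroup.mem_center_iff.1 hz p', mul_inv_cancel_right]
  refine (Subgroup.index_dvd_of_le hle).trans (dvd_of_eq ?_)
  rw [Subgroup.index_map_of_bijective (MulEquiv.bijective _), Subgroup.index_eq_card]

/-- Type M(22). -/
theorem lev22 (h : Hyp D) (hprim : Cfsg.IsPrimitiveUnderConj D) (h22 : Cfsg.IsOfTypeM22 G D) :
    Lev D 3510 693 180 126 ∧ Rel 6 D := by
  have hg := (good_m22 (pre_of_hyp h) h22).1
  obtain ⟨hZ, d, hd, c, hc, hdc, ⟨F, hFf, hFt, hF, ⟨e⟩⟩, c₃, -, hL⟩ := h22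
  have hnc : NC D d := nc_of_good h hg hd
  obtain ⟨L, hR⟩ := @img_u6 G _ _ D h d hnc F hFf hFt hF e
  obtain ⟨μ, hall, hμ⟩ := param22 h hd hnc L hprim
  obtain ⟨rfl, hn⟩ : μ = 126 ∧ D.ncard = 3510 := by
    refine hμ.resolve_right fun hbad => ?_
    obtain ⟨rfl, -⟩ := hbad
    have hP := hall d hd c hc hdc
    have hdvd := card_dvd_pair h (d := d) (c := c) (m := 45) (fun p hp => by
      rw [← (triple_of_local h hd hnc L hp.1.1 (perp_symm hd hp.1) (perp_symm hc hp.2) (ne_of_not_commute hdc)).2 hdc]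
      exact congrArg Set.ncard (Set.inter_comm _ _)) (by rw [hP]; norm_num)
    rw [hP] at hdvd
    exact not_eleven_dvd_refl hL ((show (11 : ℕ) ∣ 198 by norm_num).trans hdvd)
  exact lev_step h hd hnc L hZ hg.core hprim hall hn (by norm_num) (by norm_num) (by norm_num) (by norm_num)
    (by norm_num) ⟨30, by norm_num, by norm_num⟩ (r := 5) (by norm_num) hg.norel hR

theorem nc23 (h : Hyp D) (h23 : Cfsg.IsOfTypeM23 G D) {d : G} (hd : d ∈ D) : NC D d :=
  nc_of_good h (good_m23 (pre_of_hyp h) h23).1 hd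

/-- The local class in type M(23). -/
theorem img_hyp22 (h : Hyp D) {d : G} (hnc : NC D d)
    (h22 : Cfsg.IsOfTypeM22 (↥(loc D d) ⧸ Subgroup.center ↥(loc D d)) (img D d)) : Hyp (img D d) :=
  img_hyp h hnc fun q hq q' hq' =>
    (good_m22 (pre_img (pre_of_hyp h) d) h22).1.trans q (by rw [img_nz h hnc]; exact hq) q'
      (by rw [img_nz h hnc]; exact hq')

theorem img_hyp23 (h : Hyp D) {d : G} (hnc : NC D d)
    (h23 : Cfsg.IsOfTypeM23 (↥(loc D d) ⧸ Subgroup.center ↥(loc D d)) (img D d)) : Hyp (img D d) :=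
  img_hyp h hnc fun q hq q' hq' =>
    (good_m23 (pre_img (pre_of_hyp h) d) h23).1.trans q (by rw [img_nz h hnc]; exact hq) q'
      (by rw [img_nz h hnc]; exact hq')

/-- Type M(23). -/
theorem lev23 (h : Hyp D) (hprim : Cfsg.IsPrimitiveUnderConj D) (h23 : Cfsg.IsOfTypeM23 G D) :
    Lev D 31671 3510 693 351 ∧ Rel 7 D := by
  have hg := (good_m23 (pre_of_hyp h) h23).1
  obtain ⟨hZ, d, hd, c, hc, hdc, h22, c₃, hc₃, hL⟩ := h23
  have hnc : NC D d := nc_of_good h hg hd
  have hX := img_hyp22 h hnc h22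
  obtain ⟨hT, hw⟩ := notwin22 hX h22
  have hgX := (good_m22 (pre_img (pre_of_hyp h) d) h22).1
  obtain ⟨q, hq, -⟩ := id hw
  have hpX := prim_of_connected hX hgX.center hgX.core (core_three_of_notwin hX hgX.center hT hq) hw
    fun a ha b hb => img_connected h hprim hd hc hdc (pairOK_refl (by norm_num) hc₃ hL) hd hnc ha hb
  obtain ⟨L, hR⟩ := lev22 hX hpX h22
  obtain ⟨μ, hall, hμ, hn⟩ := param23 h hd hnc L hprim
  subst hμ
  exact lev_step h hd hnc L hZ hg.core hprim hall hn (by norm_num) (by norm_num) (by norm_num) (by norm_num)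
    (by norm_num) ⟨63, by norm_num, by norm_num⟩ (r := 6) (by norm_num) hg.norel hR

theorem notwin23 (h : Hyp D) (h23 : Cfsg.IsOfTypeM23 G D) :
    NoTwin D ∧ ∃ a ∈ D, ∃ b ∈ D, a ≠ b ∧ Commute a b := by
  have hg := (good_m23 (pre_of_hyp h) h23).1
  obtain ⟨-, d, hd, c, -, -, h22, -⟩ := h23
  have hnc : NC D d := nc_of_good h hg hd
  obtain ⟨hT, q, hq, -⟩ := notwin22 (img_hyp22 h hnc h22) h22
  obtain ⟨y, hy, -⟩ := exists_bar hq
  exact ⟨notwin_of_local h hd hnc hT ⟨y, hy⟩, d, hd, y, hy.1, hy.2.1.symm, hy.2.2⟩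

/-- Type M(24). -/
theorem lev24 (h : Hyp D) (hprim : Cfsg.IsPrimitiveUnderConj D) (h24 : Cfsg.IsOfTypeM24 G D) :
    Lev D 306936 31671 3510 3240 ∧ Rel 8 D := by
  have hg := good_m24 (pre_of_hyp h) h24 fun a ha b hb => h.transitive a ha.1 b hb.1
  obtain ⟨hZ, d, hd, c, hc, hdc, h23, N, -, ⟨eN⟩, -⟩ := h24
  have hnc : NC D d := nc_of_good h hg hd
  have hX := img_hyp23 h hnc h23
  obtain ⟨hT, hw⟩ := notwin23 hX h23
  have hgX := (good_m23 (pre_img (pre_of_hyp h) d) h23).1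
  obtain ⟨q, hq, -⟩ := id hw
  have hpX := prim_of_connected hX hgX.center hgX.core (core_three_of_notwin hX hgX.center hT hq) hw
    fun a ha b hb => img_connected h hprim hd hc hdc (pairOK_omega N eN) hd hnc ha hb
  obtain ⟨L, hR⟩ := lev23 hX hpX h23
  obtain ⟨μ, hall, hμ, hn⟩ := param24 h hd hnc L hprim
  subst hμ
  exact lev_step h hd hnc L hZ hg.core hprim hall hn (by norm_num) (by norm_num) (by norm_num) (by norm_num)
    (by norm_num) ⟨360, by norm_num, by norm_num⟩ (r := 7) (by norm_num) hg.norel hR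

end CfsgLib.Spor.Tri.Level
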