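/-
Geometry of the transvections of `PSU(6, 4)`: totally isotropic bound, involutions, hyperovals.
-/
import Cfsg.Agent.Lib.Spor.Tri.U6Level
import Cfsg.Agent.Lib.Spor.Tri.RelationsTuples
import Mathlib.LinearAlgebra.Matrix.Rank

namespace CfsgLib.Spor.Tri.Level

open CfsgLib.Spor.Tri CfsgLib.Spor.Tri.Relations

/-- The largest commuting subsets have `w` members. -/
def WidthIs {X : Type*} [Group X] (D : Set X) (w : ℕ) : Prop :=
  (∀ E ⊆ D, (∀ a ∈ E, ∀ b ∈ E, Commute a b) → E.ncard ≤ w) ∧
    ∃ E ⊆ D, (∀ a ∈ E, ∀ b ∈ E, Commute a b) ∧ E.ncard = w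

/-- Every involution is a product of at most `k` commuting members. -/
def Decomp {X : Type*} [Group X] (k : ℕ) (D : Set X) : Prop :=
  ∀ x : X, x * x = 1 → x ≠ 1 → ∃ l : List X, Tuple D l ∧ 1 ≤ l.length ∧ l.length ≤ k ∧ l.prod = x

/-- Two hyperovals through every triangle. -/
def Hexads {X : Type*} [Group X] (D : Set X) : Prop :=
  ∀ a b c : X, Tuple D [a, b, c] → (∃ f ∈ nz D, Commute f a ∧ Commute f b ∧ ¬ Commute f c) →
    ∃ p q : List X, p.length = 3 ∧ q.length = 3 ∧ Tuple D ([a, b, c] ++ p) ∧ Tuple D ([a, b, c] ++ q) ∧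
      ([a, b, c] ++ p).prod = 1 ∧ ([a, b, c] ++ q).prod = 1 ∧ ∀ x ∈ p, x ∉ q

namespace U6

open Matrix CfsgLib.SU

variable {F : Type} [Field F] [Fintype F] (C : UCtx F 2) (hF : Fintype.card F = 4)

local notation "V" => (Fin 6 → F)

include C in
theorem orth_indep_le {k : ℕ} (b : Fin k → V) (hb : LinearIndependent F b)
    (ho : ∀ i j, C.form (b i) (b j) = 0) : k ≤ 3 := by
  classical
  let M : Matrix (Fin k) (Fin 6) F := Matrix.of fun i j => C.bar (b i j)
  have hrow : LinearIndependent F M.row := by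
    rw [Fintype.linearIndependent_iff]
    intro g hg i
    have h0 : ∑ i, C.bar (g i) • b i = 0 := by
      funext j
      have e := congrArg C.bar (congrFun hg j)
      simpa [Finset.sum_apply, M, Matrix.row, map_sum, C.bar_bar] using e
    have := Fintype.linearIndependent_iff.1 hb _ h0 i
    simpa [C.bar_bar] using congrArg C.bar this
  have hrank : M.rank = k := by rw [hrow.rank_matrix, Fintype.card_fin]
  have hker : Submodule.span F (Set.range b) ≤ LinearMap.ker M.mulVecLin := by
    rw [Submodule.span_le]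
    rintro _ ⟨j, rfl⟩
    refine LinearMap.mem_ker.2 (funext fun i => ?_)
    have e := ho j i
    show ∑ l, C.bar (b i l) * b j l = 0
    rw [form_six] at e
    rw [Fin.sum_univ_six]
    linear_combination e
  have h1 := LinearMap.finrank_range_add_finrank_ker M.mulVecLin
  have h2 := Submodule.finrank_mono hker
  rw [finrank_span_eq_card hb, Fintype.card_fin] at h2
  rw [Module.finrank_fintype_fun_eq_card, Fintype.card_fin, show Module.finrank F (LinearMap.range M.mulVecLin) = k from hrank] at h1
  omega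

variable {D : Set (Cfsg.PSU 6 F 2)}

include C hF in
theorem width_le (h : Pre D) (hne : (nz D).Nonempty) {E : Set (Cfsg.PSU 6 F 2)} (hE : E ⊆ nz D)
    (hc : ∀ a ∈ E, ∀ b ∈ E, Commute a b) : E.ncard ≤ 21 := by
  classical
  set S : Set V := {u | u ≠ 0 ∧ C.form u u = 0 ∧ ∃ hu, pt C hF u hu ∈ E} with hS
  have hcard := ncard_mul_three C hF h hne hE (fun u => ∃ hu, pt C hF u hu ∈ E)
    fun u hu _ => ⟨fun r => ⟨hu, r⟩, fun ⟨_, r⟩ => r⟩
  rw [show Nat.card {u : V // u ≠ 0 ∧ C.form u u = 0 ∧ ∃ hu, pt C hF u hu ∈ E} = S.ncard from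
    Nat.card_coe_set_eq S] at hcard
  have horth : ∀ u ∈ S, ∀ w ∈ S, C.form u w = 0 := by
    rintro u ⟨-, -, hu, hue⟩ w ⟨hw0, -, hw, hwe⟩
    exact (pt_commute C hF hw0).1 (hc _ hue _ hwe)
  set W := Submodule.span F S with hW
  have hWW : ∀ x ∈ W, ∀ y ∈ W, C.form x y = 0 := by
    intro x hx y hy
    induction hx using Submodule.span_induction with
    | mem u hu =>
      induction hy using Submodule.span_induction with
      | mem w hw => exact horth u hu w hw
      | zero => exact C.form_zero_right u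
      | add p q _ _ e1 e2 => rw [C.form_add_right, e1, e2, add_zero]
      | smul a p _ e1 => rw [C.form_smul_right, e1, mul_zero]
    | zero => exact C.form_zero_left y
    | add p q _ _ e1 e2 => rw [C.form_add_left, e1, e2, add_zero]
    | smul a p _ e1 => rw [C.form_smul_left, e1, mul_zero]
  let B := Module.finBasis F W
  have hk : Module.finrank F W ≤ 3 :=
    orth_indep_le C (fun i => (B i : V)) (B.linearIndependent.map' W.subtype W.ker_subtype)
      fun i j => hWW _ (B i).2 _ (B j).2
  have hWcard : Nat.card W ≤ 4 ^ 3 := by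
    rw [show Nat.card W = Nat.card F ^ Module.finrank F W from Module.natCard_eq_pow_finrank, Nat.card_eq_fintype_card, hF]
    exact Nat.pow_le_pow_right (by norm_num) hk
  have hsub : S ⊆ (W : Set V) \ {0} := fun u hu => ⟨Submodule.subset_span hu, hu.1⟩
  have hle := Set.ncard_le_ncard hsub (Set.toFinite _)
  rw [Set.ncard_diff_singleton_of_mem (show (0 : V) ∈ (W : Set V) from W.zero_mem)] at hle
  rw [← Nat.card_coe_set_eq (W : Set V)] at hle
  simp only [SetLike.coe_sort_coe] at hle
  omega

/-- The plane of `v₀`, `w₀` and `(0, 0, 0, 0, 1, 1)`. -/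
def InPlane (u : V) : Prop := u 0 = u 1 ∧ u 2 = u 3 ∧ u 4 = u 5

include C hF in
theorem width_exists (h : Pre D) (hne : (nz D).Nonempty) :
    ∃ E ⊆ nz D, (∀ a ∈ E, ∀ b ∈ E, Commute a b) ∧ E.ncard = 21 := by
  classical
  have h11 := one_add_one hF
  have hform : ∀ u w : V, InPlane u → InPlane w → C.form u w = 0 := fun u w ⟨a, b, c⟩ ⟨a', b', c'⟩ => by
    rw [form_six, a, b, c, a', b', c']
    linear_combination (u 1 * C.bar (w 1) + u 3 * C.bar (w 3) + u 5 * C.bar (w 5)) * h11
  set E : Set (Cfsg.PSU 6 F 2) :=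
    {x | x ∈ nz D ∧ ∀ (u : V) (hu : C.form u u = 0), u ≠ 0 → pt C hF u hu = x → InPlane u}
  refine ⟨E, fun x hx => hx.1, fun a ha b hb => ?_, ?_⟩
  · obtain ⟨u, hu, hu0, rfl⟩ := exists_pt C hF h ha.1
    obtain ⟨w, hw, hw0, rfl⟩ := exists_pt C hF h hb.1
    exact (pt_commute C hF hw0).2 (hform u w (ha.2 u hu hu0 rfl) (hb.2 w hw hw0 rfl))
  · have hiff : ∀ (u : V) (hu : C.form u u = 0), u ≠ 0 → (pt C hF u hu ∈ E ↔ InPlane u) := by
      intro u hu hu0
      refine ⟨fun r => r.2 u hu hu0 rfl, fun hP => ⟨pt_mem C hF h hne u hu hu0, fun w hw hw0 e => ?_⟩⟩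
      obtain ⟨a, -, rfl⟩ := (pt_eq_iff C hF hw0).1 e
      obtain ⟨p, q, r⟩ := hP
      exact ⟨by simp [p], by simp [q], by simp [r]⟩
    have hcard := ncard_mul_three C hF h hne (S := E) (fun x hx => hx.1) InPlane hiff
    rw [card_erase_zero (fun u : V => C.form u u = 0 ∧ InPlane u)
      ⟨C.form_zero_left _, by simp [InPlane]⟩] at hcard
    let e : {u : V // C.form u u = 0 ∧ InPlane u} ≃ (Fin 3 → F) :=
      { toFun := fun u => ![u.1 0, u.1 2, u.1 4]
        invFun := fun w => ⟨![w 0, w 0, w 1, w 1, w 2, w 2], hform _ _ ⟨rfl, rfl, rfl⟩ ⟨rfl, rfl, rfl⟩, rfl, rfl, rfl⟩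
        left_inv := fun ⟨u, _, a, b, c⟩ => Subtype.ext (by funext i; fin_cases i <;> simp [a, b, c])
        right_inv := fun w => by funext i; fin_cases i <;> simp }
    rw [Nat.card_congr e, Nat.card_fun, Nat.card_eq_fintype_card, hF] at hcard
    simp at hcard
    omega

include C hF in
/-- An involution of `SU(6, 4)` is a product of orthogonal transvections. -/
theorem decomp_su : ∀ n : ℕ, ∀ g : ↥(Cfsg.SU 6 F 2), g * g = 1 → {x : V | g.1.1 *ᵥ x ≠ x}.ncard ≤ n →
    ∃ (k : ℕ) (u : Fin k → V) (hu : ∀ i, C.form (u i) (u i) = 0), LinearIndependent F u ∧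
      (∀ i, ∃ y, u i = g.1.1 *ᵥ y + y) ∧ g = (List.ofFn fun i => tr1 C hF (u i) (hu i)).prod := by
  classical
  intro n
  induction n with
  | zero =>
    intro g _ hn
    refine ⟨0, Fin.elim0, fun i => i.elim0, linearIndependent_empty_type, fun i => i.elim0, ?_⟩
    rw [List.ofFn_zero, List.prod_nil]
    refine su_ext fun x => ?_
    rw [su_one_mulVec]
    by_contra hx
    have := (Set.ncard_pos (Set.toFinite {x : V | g.1.1 *ᵥ x ≠ x})).2 ⟨x, hx⟩
    omega
  | succ n ih =>
    intro g hgg hn
    have h11 := one_add_one hF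
    have hg2 : ∀ x, g.1.1 *ᵥ (g.1.1 *ᵥ x) = x := fun x => by rw [← suMat_mulVec_mul, hgg, su_one_mulVec]
    let N : V → V := fun x => g.1.1 *ᵥ x + x
    have hgx : ∀ x, g.1.1 *ᵥ x = x + N x := fun x => by
      show _ = x + (g.1.1 *ᵥ x + x)
      rw [add_comm (g.1.1 *ᵥ x) x, ← add_assoc, Relations.add_same hF, zero_add]
    have hsym : ∀ x y, C.form (N x) y = C.form x (N y) := fun x y => by
      have e := C.form_su g x (g.1.1 *ᵥ y)
      rw [hg2] at e
      show C.form (g.1.1 *ᵥ x + x) y = C.form x (g.1.1 *ᵥ y + y)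
      rw [C.form_add_left, C.form_add_right, e]
    have hNN : ∀ x, N (N x) = 0 := fun x => by
      show g.1.1 *ᵥ (g.1.1 *ᵥ x + x) + (g.1.1 *ᵥ x + x) = 0
      rw [Matrix.mulVec_add, hg2, add_comm x (g.1.1 *ᵥ x)]
      exact Relations.add_same hF _
    have hiso : ∀ x y, C.form (N x) (N y) = 0 := fun x y => by rw [hsym, hNN, C.form_zero_right]
    by_cases hall : ∀ x, C.form (N x) x = 0
    · obtain ⟨t, ht⟩ := C.exists_not_fixed
      have hzero : ∀ y z, C.form (N y) z = 0 := by
        intro y z
        have tr : ∀ a : F, C.bar a * C.form (N y) z + a * C.bar (C.form (N y) z) = 0 := fun a => by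
          have e := hall (y + a • z)
          have eN : N (y + a • z) = N y + a • N z := by
            simp only [N, Matrix.mulVec_add, Matrix.mulVec_smul, smul_add]; abel
          rw [eN] at e
          simp only [C.form_add_left, C.form_add_right, C.form_smul_left, C.form_smul_right, hall y, hall z] at e
          rw [C.bar_form, ← hsym]
          linear_combination e
        have h1 := tr 1
        rw [map_one, one_mul, one_mul] at h1
        have h2 : C.bar (C.form (N y) z) = C.form (N y) z := by linear_combination h1 - C.form (N y) z * h11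
        have h3 := tr t
        rw [h2] at h3
        have h4 : (C.bar t + t) * C.form (N y) z = 0 := by linear_combination h3
        refine (mul_eq_zero.1 h4).resolve_left fun e => ht ?_
        linear_combination e - t * h11
      refine ⟨0, Fin.elim0, fun i => i.elim0, linearIndependent_empty_type, fun i => i.elim0, ?_⟩
      rw [List.ofFn_zero, List.prod_nil]
      refine su_ext fun x => ?_
      rw [su_one_mulVec, hgx]
      by_contra hx
      have hne : N x ≠ 0 := fun e => hx (by rw [e, add_zero])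
      obtain ⟨w, hw⟩ := C.exists_form_eq_one hne
      have e := hzero x w
      rw [← C.bar_form, hw, map_one] at e
      exact one_ne_zero e
    · push Not at hall
      obtain ⟨x, hx⟩ := hall
      have hone : C.form (N x) x = 1 :=
        (Relations.fixed_cases C hF (by rw [C.bar_form, hsym])).resolve_left hx
      set v := N x with hv
      have hvv : C.form v v = 0 := hiso x x
      have hxv : C.form x v = 1 := by rw [← C.bar_form, hone, map_one]
      have hgv : g.1.1 *ᵥ v = v := by rw [hgx, hNN, add_zero]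
      set T := tr1 C hF v hvv with hT
      set g' := g * T with hg'
      have hcomm : g * T = T * g := su_ext fun z => by
        rw [suMat_mulVec_mul, suMat_mulVec_mul, hT, tr1_mulVec, tr1_mulVec, Matrix.mulVec_add, Matrix.mulVec_smul,
          hgv]
        congr 2
        have := C.form_su g z v
        rw [hgv] at this
        exact this.symm
      have hgg' : g' * g' = 1 := by
        calc g' * g' = g * (T * g) * T := by rw [hg']; group
          _ = (g * g) * (T * T) := by rw [← hcomm]; group
          _ = 1 := by rw [hgg, hT, tr1_sq, one_mul]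
      have hN' : ∀ z, g'.1.1 *ᵥ z + z = N z + C.form z v • v := fun z => by
        rw [hg', suMat_mulVec_mul, hT, tr1_mulVec, Matrix.mulVec_add, Matrix.mulVec_smul, hgv]
        show _ = g.1.1 *ᵥ z + z + _
        abel
      have hfix : g'.1.1 *ᵥ x = x := by
        have e : g'.1.1 *ᵥ x + x = 0 := by rw [hN', hxv, one_smul, ← hv]; exact Relations.add_same hF v
        calc g'.1.1 *ᵥ x = g'.1.1 *ᵥ x + (x + x) := by rw [Relations.add_same hF, add_zero]
          _ = x := by rw [← add_assoc, e, zero_add]
      have hsub : {z : V | g'.1.1 *ᵥ z ≠ z} ⊆ {z | g.1.1 *ᵥ z ≠ z} \ {x} := by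
        intro z hz
        refine ⟨fun e => hz ?_, fun e => hz (e ▸ hfix)⟩
        have hNz : N z = 0 := by show g.1.1 *ᵥ z + z = 0; rw [e]; exact Relations.add_same hF z
        have hzv : C.form z v = 0 := by rw [hv, ← hsym, hNz, C.form_zero_left]
        rw [hg', suMat_mulVec_mul, hT, tr1_mulVec, hzv, zero_smul, add_zero, e]
      have hxm : x ∈ {z : V | g.1.1 *ᵥ z ≠ z} := fun e => hx (by
        show C.form (g.1.1 *ᵥ x + x) x = 0
        rw [e, Relations.add_same hF, C.form_zero_left])
      have hle := Set.ncard_le_ncard hsub (Set.toFinite _)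
      rw [Set.ncard_diff_singleton_of_mem hxm] at hle
      obtain ⟨k, u, hu, hind, him, hprod⟩ := ih g' hgg' (by omega)
      refine ⟨k + 1, Fin.cons v u, Fin.cases hvv hu, linearIndependent_finCons.2 ⟨hind, fun hmem => ?_⟩,
        Fin.cases ⟨x, rfl⟩ fun i => ?_, ?_⟩
      · have hker : ∀ w ∈ Submodule.span F (Set.range u), C.form w x = 0 := by
          intro w hw
          induction hw using Submodule.span_induction with
          | mem w hw =>
            obtain ⟨i, rfl⟩ := hw
            obtain ⟨y, hy⟩ := him i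
            rw [hy, hN', C.form_add_left, C.form_smul_left, hone, hsym, ← hv, mul_one]
            linear_combination C.form y v * h11
          | zero => exact C.form_zero_left x
          | add p q _ _ e1 e2 => rw [C.form_add_left, e1, e2, add_zero]
          | smul a p _ e1 => rw [C.form_smul_left, e1, mul_zero]
        exact one_ne_zero (hone.symm.trans (hker v hmem))
      · rw [List.ofFn_succ, List.prod_cons]
        have e : g = T * g' := by rw [hg', hcomm, ← mul_assoc, hT, tr1_sq, one_mul]
        simpa using e.trans (congrArg (T * ·) hprod)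
      · obtain ⟨y, hy⟩ := him i
        refine ⟨y + C.form y v • x, ?_⟩
        rw [Fin.cons_succ, hy, hN', Matrix.mulVec_add, Matrix.mulVec_smul, hv]
        simp only [N, smul_add]
        abel

include C hF in
theorem decomp (h : Pre D) (hne : (nz D).Nonempty) : Decomp 3 (nz D) := by
  classical
  intro x hxx hx1
  obtain ⟨A, rfl⟩ := QuotientGroup.mk'_surjective (Subgroup.center ↥(Cfsg.SU 6 F 2)) x
  have hz : A * A ∈ Subgroup.center ↥(Cfsg.SU 6 F 2) := by
    rw [← QuotientGroup.eq_one_iff]
    simpa using hxx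
  set z := A * A with hzd
  have hz3 : z ^ 3 = 1 := by
    have hc := C.card_center_su (n := 6) (by rw [hF]; norm_num) (by norm_num)
    have h3 : (⟨z, hz⟩ : Subgroup.center ↥(Cfsg.SU 6 F 2)) ^ 3 = 1 := by
      have := pow_card_eq_one' (x := (⟨z, hz⟩ : Subgroup.center ↥(Cfsg.SU 6 F 2)))
      rwa [hc] at this
    exact congrArg Subtype.val h3
  set B := A * z with hB
  have hBB : B * B = 1 := by
    calc B * B = A * (z * A) * z := by rw [hB]; group
      _ = z ^ 3 := by rw [← Subgroup.mem_center_iff.1 hz A, pow_three, hzd]; group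
      _ = 1 := hz3
  have hBx : pr B = QuotientGroup.mk' _ A := by
    show QuotientGroup.mk' _ B = _
    rw [hB, map_mul, (QuotientGroup.eq_one_iff z).2 hz |> fun e => (show QuotientGroup.mk' _ z = 1 from e), mul_one]
  obtain ⟨k, u, hu, hind, him, hprod⟩ := decomp_su C hF _ B hBB le_rfl
  have hN2 : ∀ y, B.1.1 *ᵥ (B.1.1 *ᵥ y) = y := fun y => by rw [← suMat_mulVec_mul, hBB, su_one_mulVec]
  have horth : ∀ i j, C.form (u i) (u j) = 0 := fun i j => by
    obtain ⟨y, hy⟩ := him i
    obtain ⟨y', hy'⟩ := him j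
    rw [hy, hy', C.form_add_left, C.form_add_right, C.form_add_right, C.form_su]
    have e := C.form_su B y (B.1.1 *ᵥ y')
    rw [hN2] at e
    linear_combination e + (C.form y y' + C.form y (B.1.1 *ᵥ y')) * one_add_one hF
  have hk := orth_indep_le C u hind horth
  have h0 : ∀ i, u i ≠ 0 := fun i => hind.ne_zero i
  refine ⟨List.ofFn fun i => pt C hF (u i) (hu i), ⟨?_, ?_, ?_⟩, ?_, by simpa using hk, ?_⟩
  · refine List.nodup_ofFn.2 fun i j e => by_contra fun hij => ?_
    obtain ⟨a, -, ea⟩ := (pt_eq_iff C hF (h0 i)).1 e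
    have := (linearIndependent_iff'.1 hind {i, j} (fun l => if l = i then 1 else -a) (by
      rw [Finset.sum_pair hij, if_pos rfl, if_neg (Ne.symm hij), one_smul, neg_smul, ea, add_neg_cancel])) i
        (Finset.mem_insert_self i _)
    simp at this
  · intro a ha
    obtain ⟨i, rfl⟩ := List.mem_ofFn.1 ha
    exact ⟨pt_mem C hF h hne _ _ (h0 i), (pt_mem C hF h hne _ _ (h0 i)).2⟩
  · intro a ha b hb
    obtain ⟨i, rfl⟩ := List.mem_ofFn.1 ha
    obtain ⟨j, rfl⟩ := List.mem_ofFn.1 hb
    exact (pt_commute C hF (h0 j)).2 (horth i j)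
  · rw [List.length_ofFn]
    by_contra hk0
    obtain rfl : k = 0 := by omega
    rw [List.ofFn_zero, List.prod_nil] at hprod
    exact hx1 (hBx.symm.trans (by rw [hprod, map_one]))
  · rw [← hBx, hprod, map_list_prod, List.map_ofFn]
    rfl

end U6

end CfsgLib.Spor.Tri.Level
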