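/-
Lifting tuples from the local quotient.
-/
import Cfsg.Agent.Lib.Spor.Tri.U6Geom
import Cfsg.Agent.Lib.Spor.Tri.LevelTypes

namespace CfsgLib.Spor.Tri.Level

open CfsgLib.Spor.Tri CfsgLib.Spor.Tri.Relations

variable {G : Type*} [Group G] {D : Set G} (h : Hyp D) {d : G}

/-- Members commuting with `d` over a list of local images. -/
theorem lift_exists {q : List (↥(loc D d) ⧸ Subgroup.center ↥(loc D d))} (hq : ∀ x ∈ q, x ∈ img D d) :
    ∃ L : List ↥(loc D d), L.map (QuotientGroup.mk' (Subgroup.center ↥(loc D d))) = q ∧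
      ∀ x ∈ L, (x : G) ∈ perp D d := by
  classical
  induction q with
  | nil => exact ⟨[], rfl, by simp⟩
  | cons a r ih =>
    obtain ⟨L, e, hL⟩ := ih fun x hx => hq x (List.mem_cons_of_mem a hx)
    obtain ⟨y, hy, rfl⟩ := exists_bar (hq a List.mem_cons_self)
    refine ⟨⟨y, perp_loc hy⟩ :: L, by rw [List.map_cons, e]; rfl, ?_⟩
    intro x hx
    rcases List.mem_cons.1 hx with rfl | hx
    · exact hy
    · exact hL x hx

include h in
/-- A list of members commuting with `d` whose images form a tuple is a tuple. -/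
theorem lift_tuple {L : List ↥(loc D d)} (hL : ∀ x ∈ L, (x : G) ∈ perp D d)
    (ht : Tuple (img D d) (L.map (QuotientGroup.mk' (Subgroup.center ↥(loc D d))))) :
    Tuple D (L.map Subtype.val) := by
  obtain ⟨hnd, hmem, hcomm⟩ := ht
  refine ⟨(List.Nodup.of_map _ hnd).map Subtype.val_injective, fun a ha => ?_, fun a ha b hb => ?_⟩
  · obtain ⟨x, hx, rfl⟩ := List.mem_map.1 ha
    exact ⟨(hL x hx).1, h.ne_one (hL x hx).1⟩
  · obtain ⟨x, hx, rfl⟩ := List.mem_map.1 ha
    obtain ⟨y, hy, rfl⟩ := List.mem_map.1 hb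
    exact (bar_commute h (hL x hx) (hL y hy)).1 (hcomm _ (List.mem_map_of_mem hx) _ (List.mem_map_of_mem hy))

include h in
/-- Images of a tuple of members commuting with `d`. -/
theorem bar_tuple (hnc : NC D d) {L : List ↥(loc D d)} (hL : ∀ x ∈ L, (x : G) ∈ perp D d)
    (ht : Tuple D (L.map Subtype.val)) :
    Tuple (img D d) (L.map (QuotientGroup.mk' (Subgroup.center ↥(loc D d)))) := by
  obtain ⟨hnd, hmem, hcomm⟩ := ht
  refine ⟨(List.nodup_map_iff_inj_on (List.Nodup.of_map _ hnd)).2 fun x hx y hy e =>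
    Subtype.ext ((bar_inj h hnc (hL x hx) (hL y hy)).1 e), fun a ha => ?_, fun a ha b hb => ?_⟩
  · obtain ⟨x, hx, rfl⟩ := List.mem_map.1 ha
    exact ⟨bar_mem (hL x hx), bar_ne_one h hnc (hL x hx)⟩
  · obtain ⟨x, hx, rfl⟩ := List.mem_map.1 ha
    obtain ⟨y, hy, rfl⟩ := List.mem_map.1 hb
    exact (bar_commute h (hL x hx) (hL y hy)).2 (hcomm _ (List.mem_map_of_mem hx) _ (List.mem_map_of_mem hy))

/-- A product with trivial image. -/
theorem lift_prod (hZl : ∀ z ∈ Subgroup.center ↥(loc D d), (z : G) = 1 ∨ (z : G) = d) {L : List ↥(loc D d)}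
    (hp : (L.map (QuotientGroup.mk' (Subgroup.center ↥(loc D d)))).prod = 1) :
    (L.map Subtype.val).prod = 1 ∨ (L.map Subtype.val).prod = d := by
  rw [← map_list_prod] at hp
  have e : (L.map Subtype.val).prod = ((L.prod : ↥(loc D d)) : G) := (map_list_prod (Subgroup.subtype (loc D d)) L).symm
  rw [e]
  exact hZl _ (mk_eq_one.1 hp)

include h in
/-- Six members around `d` with product `d`, through any triangle with independent images. -/
theorem hexad_lift [Finite G] (hnc : NC D d)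
    (hZl : ∀ z ∈ Subgroup.center ↥(loc D d), (z : G) = 1 ∨ (z : G) = d) (hH : Hexads (img D d))
    (hS : ∀ a ∈ D, SixAt D a) {a b c : G} (ha : a ∈ perp D d) (hb : b ∈ perp D d) (hc : c ∈ perp D d)
    (ht : Tuple D [a, b, c]) (hf : ∃ f ∈ perp D d, Commute f a ∧ Commute f b ∧ ¬ Commute f c) :
    ∃ x y z : G, Tuple D [a, b, c, x, y, z] ∧ (∀ e ∈ [a, b, c, x, y, z], e ∈ perp D d) ∧
      a * b * c * (x * y * z) = d := by
  classical
  obtain ⟨f, hfp, fa, fb, fc⟩ := hf
  set A : ↥(loc D d) := ⟨a, perp_loc ha⟩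
  set B : ↥(loc D d) := ⟨b, perp_loc hb⟩
  set C : ↥(loc D d) := ⟨c, perp_loc hc⟩
  have hABC : ∀ x ∈ [A, B, C], (x : G) ∈ perp D d := by simp [A, B, C, ha, hb, hc]
  have htb : Tuple (img D d) [bar ha, bar hb, bar hc] := bar_tuple h hnc hABC (L := [A, B, C]) ht
  obtain ⟨p, q, hp, hq, tp, tq, pp, pq, hdisj⟩ := hH (bar ha) (bar hb) (bar hc) htb
    ⟨bar hfp, ⟨bar_mem hfp, bar_ne_one h hnc hfp⟩, (bar_commute h hfp ha).2 fa, (bar_commute h hfp hb).2 fb,
      fun r => fc ((bar_commute h hfp hc).1 r)⟩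
  have key : ∀ p : List (↥(loc D d) ⧸ Subgroup.center ↥(loc D d)), p.length = 3 →
      Tuple (img D d) ([bar ha, bar hb, bar hc] ++ p) → ([bar ha, bar hb, bar hc] ++ p).prod = 1 →
      (∃ x y z : G, Tuple D [a, b, c, x, y, z] ∧ (∀ e ∈ [a, b, c, x, y, z], e ∈ perp D d) ∧
        a * b * c * (x * y * z) = d) ∨
      ∃ P : List ↥(loc D d), P.map (QuotientGroup.mk' (Subgroup.center ↥(loc D d))) = p ∧
        (∀ x ∈ P, (x : G) ∈ Cl D a b c) ∧ Tuple D ([a, b, c] ++ P.map Subtype.val) := by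
    intro p hp tp pp
    obtain ⟨P, hPe, hPm⟩ := lift_exists (q := p) fun x hx => (tp.2.1 x (List.mem_append_right _ hx)).1
    have hL : ∀ x ∈ [A, B, C] ++ P, (x : G) ∈ perp D d := fun x hx =>
      (List.mem_append.1 hx).elim (hABC x) (hPm x)
    have hmap : ([A, B, C] ++ P).map (QuotientGroup.mk' (Subgroup.center ↥(loc D d))) =
        [bar ha, bar hb, bar hc] ++ p := by rw [List.map_append, hPe]; rfl
    have hT : Tuple D (([A, B, C] ++ P).map Subtype.val) := lift_tuple h hL (hmap ▸ tp)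
    obtain ⟨x, y, z, rfl⟩ := List.length_eq_three.1 (show P.length = 3 by rw [← hp, ← hPe, List.length_map])
    have hT' : Tuple D [a, b, c, (x : G), y, z] := hT
    rcases lift_prod hZl (L := [A, B, C] ++ [x, y, z]) (by rw [hmap]; exact pp) with r | r
    · right
      refine ⟨[x, y, z], hPe, fun e he => ?_, hT'⟩
      have hem : (e : G) ∈ [a, b, c, (x : G), y, z] := by simp at he; rcases he with rfl | rfl | rfl <;> simp
      refine ⟨hT'.2.1 _ hem, fun g hg ga gb gc => ?_⟩
      have hj : Commute g ((x : G) * y * z) := by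
        have e1 : (x : G) * y * z = (a * b * c)⁻¹ := by
          refine eq_inv_of_mul_eq_one_right ?_
          simpa [A, B, C, mul_assoc] using r
        rw [e1]
        exact ((ga.mul_right gb).mul_right gc).inv_right
      have hn : [(x : G), y, z].Nodup := (List.nodup_append.1 (show ([a, b, c] ++ [(x : G), y, z]).Nodup from hT'.1)).2.1
      have h3 := (commute_mul_mul_iff h.set (hPm x (by simp)).1 (hPm y (by simp)).1 (hPm z (by simp)).1 hg.1
        (fun e => by simp [e] at hn) (fun e => by simp [e] at hn) (fun e => by simp [e] at hn) (hT'.2.2 _ (by simp) _ (by simp)) (hT'.2.2 _ (by simp) _ (by simp))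
        (hT'.2.2 _ (by simp) _ (by simp))).1 hj
      simp at he
      rcases he with rfl | rfl | rfl
      · exact h3.1
      · exact h3.2.1
      · exact h3.2.2
    · left
      refine ⟨x, y, z, hT', fun e he => ?_, by simpa [A, B, C, mul_assoc] using r⟩
      simp at he
      rcases he with rfl | rfl | rfl | rfl | rfl | rfl
      · exact ha
      · exact hb
      · exact hc
      · exact hPm _ (by simp)
      · exact hPm _ (by simp)
      · exact hPm _ (by simp)
  rcases key p hp tp pp with r | ⟨P, hPe, hPc, hPt⟩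
  · exact r
  rcases key q hq tq pq with r | ⟨Q, hQe, hQc, hQt⟩
  · exact r
  exfalso
  obtain ⟨hnd, hmem, hcomm⟩ := ht
  simp at hnd
  obtain ⟨l, hlnd, hllen, hiff, -⟩ := hS a ha.1 b ⟨hb.1, h.ne_one hb.1⟩ c ⟨hc.1, h.ne_one hc.1⟩ hnd.1.1 hnd.1.2 hnd.2
    (hcomm a (by simp) b (by simp)) (hcomm a (by simp) c (by simp)) (hcomm b (by simp) c (by simp))
  have hdj : ∀ x ∈ P.map Subtype.val, x ∉ Q.map Subtype.val := by
    intro x hx hx'
    obtain ⟨u, hu, rfl⟩ := List.mem_map.1 hx
    obtain ⟨w, hw, e⟩ := List.mem_map.1 hx'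
    rw [Subtype.ext e] at hw
    exact hdisj _ (hPe ▸ List.mem_map_of_mem hu) (hQe ▸ List.mem_map_of_mem hw)
  have hnd9 : ([a, b, c] ++ (P.map Subtype.val ++ Q.map Subtype.val)).Nodup := by
    have n1 := List.nodup_append.1 hPt.1
    have n2 := List.nodup_append.1 hQt.1
    refine List.nodup_append.2 ⟨n1.1, List.nodup_append.2 ⟨n1.2.1, n2.2.1, fun x hx y hy e => hdj x hx (e ▸ hy)⟩,
      fun x hx y hy e => (List.mem_append.1 hy).elim (fun r => n1.2.2 x hx y r e) fun r => n2.2.2 x hx y r e⟩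
  have hsub : ([a, b, c] ++ (P.map Subtype.val ++ Q.map Subtype.val)) ⊆ l := by
    intro x hx
    rw [hiff]
    rcases List.mem_append.1 hx with hx | hx
    · refine ⟨hmem x hx, fun g hg ga gb gc => ?_⟩
      simp at hx
      rcases hx with rfl | rfl | rfl <;> assumption
    · rcases List.mem_append.1 hx with hx | hx
      · obtain ⟨u, hu, rfl⟩ := List.mem_map.1 hx; exact hPc u hu
      · obtain ⟨u, hu, rfl⟩ := List.mem_map.1 hx; exact hQc u hu
  have := (hnd9.subperm hsub).length_le
  simp only [List.length_append, List.length_map, List.length_cons, List.length_nil, hllen] at this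
  have e1 : P.length = 3 := by rw [← hp, ← hPe, List.length_map]
  have e2 : Q.length = 3 := by rw [← hq, ← hQe, List.length_map]
  omega

end CfsgLib.Spor.Tri.Level
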