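/-
Width, order, simplicity and quasisimple centralizers at a level.
-/
import Cfsg.Agent.Lib.Spor.Tri.U6Geom
import Cfsg.Agent.Lib.Spor.Tri.LevelTypes

namespace CfsgLib.Spor.Tri.Level

open CfsgLib.Spor.Tri CfsgLib.Spor.Tri.Relations

variable {G : Type*} [Group G] [Finite G] {D : Set G}

theorem commutingWidth_eq {w : ℕ} (W : WidthIs D w) : Cfsg.commutingWidth D = w := by
  obtain ⟨h1, E, hE, hc, hn⟩ := W
  have hmem : w ∈ {n : ℕ | ∃ E : Set G, E ⊆ D ∧ E.Finite ∧ (∀ a ∈ E, ∀ b ∈ E, Commute a b) ∧ E.ncard = n} :=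
    ⟨E, hE, Set.toFinite _, hc, hn⟩
  have hb : ∀ n ∈ {n : ℕ | ∃ E : Set G, E ⊆ D ∧ E.Finite ∧ (∀ a ∈ E, ∀ b ∈ E, Commute a b) ∧ E.ncard = n}, n ≤ w :=
    fun n ⟨S, hS, _, hcS, hnS⟩ => hnS ▸ h1 S hS hcS
  exact le_antisymm (csSup_le ⟨w, hmem⟩ hb) (le_csSup ⟨w, hb⟩ hmem)

theorem width_step (h : Hyp D) {d : G} (hd : d ∈ D) (hnc : NC D d) {w : ℕ} (W : WidthIs (img D d) w) :
    WidthIs D (w + 1) := by
  classical
  obtain ⟨h1, E, hE, hc, hn⟩ := W
  constructor
  · intro S hS hcS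
    rcases S.eq_empty_or_nonempty with rfl | ⟨a, ha⟩
    · simp
    obtain ⟨g, hg⟩ := h.transitive a (hS ha) d hd
    set S' := (fun x => g * x * g⁻¹) '' S with hS'
    have hcard : S'.ncard = S.ncard := Set.ncard_image_of_injective _ fun x y e => by simpa using e
    have hdS : d ∈ S' := ⟨a, ha, hg⟩
    have hsub : S' \ {d} ⊆ perp D d := by
      rintro _ ⟨⟨x, hx, rfl⟩, hne⟩
      refine ⟨h.conj g x (hS hx), hne, ?_⟩
      rw [← hg]; exact (Commute.conj_iff g).2 (hcS a ha x hx)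
    set T : Set (↥(loc D d) ⧸ Subgroup.center ↥(loc D d)) :=
      {q | ∃ (y : G) (hy : y ∈ perp D d), y ∈ S' \ {d} ∧ bar hy = q} with hT
    have hTimg : T ⊆ img D d := by rintro _ ⟨y, hy, -, rfl⟩; exact bar_mem hy
    have e := ncard_bar h hnc hsub hTimg fun y hy =>
      ⟨fun ⟨y', hy', hm, r⟩ => (bar_inj h hnc hy' hy).1 r ▸ hm, fun r => ⟨y, hy, r, rfl⟩⟩
    have hle : T.ncard ≤ w := h1 T hTimg (by
      rintro _ ⟨y, hy, ⟨⟨x, hx, rfl⟩, -⟩, rfl⟩ _ ⟨y', hy', ⟨⟨x', hx', rfl⟩, -⟩, rfl⟩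
      exact (bar_commute h hy hy').2 ((Commute.conj_iff g).2 (hcS x hx x' hx')))
    have e2 := Set.ncard_diff_singleton_add_one hdS (Set.toFinite _)
    omega
  · set S : Set G := {y | ∃ hy : y ∈ perp D d, bar hy ∈ E} with hS
    have hsub : S ⊆ perp D d := fun y ⟨hy, _⟩ => hy
    have e := ncard_bar h hnc hsub hE fun y hy => ⟨fun r => ⟨hy, r⟩, fun ⟨_, r⟩ => r⟩
    refine ⟨insert d S, Set.insert_subset hd fun y hy => (hsub hy).1, ?_, ?_⟩
    · intro x hx y hy
      rcases Set.mem_insert_iff.1 hx with rfl | ⟨hx, hxE⟩ <;> rcases Set.mem_insert_iff.1 hy with rfl | ⟨hy, hyE⟩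
      · exact Commute.refl _
      · exact hy.2.2
      · exact hx.2.2.symm
      · exact (bar_commute h hx hy).1 (hc _ hxE _ hyE)
    · rw [Set.ncard_insert_of_notMem (fun r => (hsub r).2.1 rfl) (Set.toFinite _), ← e, hn]

theorem loc_eq_centralizer {a : G} (hc : Subgroup.centralizer ({a} : Set G) ≤ loc D a) :
    loc D a = Subgroup.centralizer ({a} : Set G) :=
  le_antisymm (fun _ hx => Subgroup.mem_centralizer_singleton_iff.2 (commute_loc hx).symm.eq) hc

theorem card_eq_mul (h : Hyp D) {a : G} (ha : a ∈ D) :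
    Nat.card G = D.ncard * Nat.card (Subgroup.centralizer ({a} : Set G)) := by
  have horb : MulAction.orbit (ConjAct G) a = D := by
    ext x
    constructor
    · rintro ⟨g, rfl⟩
      obtain ⟨u, rfl⟩ := ConjAct.toConjAct.surjective g
      exact h.conj u a ha
    · intro hx
      obtain ⟨g, rfl⟩ := h.transitive a ha x hx
      exact ⟨ConjAct.toConjAct g, rfl⟩
  rw [Nat.card_congr (ConjAct.toConjAct (G := G)).toEquiv,
    ← Subgroup.card_mul_index (MulAction.stabilizer (ConjAct G) a), MulAction.index_stabilizer, horb, mul_comm]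
  congr 1
  rw [← Subgroup.card_map_of_injective (K := Subgroup.centralizer ({a} : Set G))
    (f := (ConjAct.toConjAct : G ≃* ConjAct G).toMonoidHom) (MulEquiv.injective _)]
  congr
  ext g
  obtain ⟨u, rfl⟩ := ConjAct.toConjAct.surjective g
  rw [Subgroup.mem_map]
  constructor
  · intro r
    refine ⟨u, Subgroup.mem_centralizer_singleton_iff.2 ?_, rfl⟩
    exact mul_inv_eq_iff_eq_mul.1 r
  · rintro ⟨x, hx, r⟩
    obtain rfl : x = u := ConjAct.toConjAct.injective r
    exact mul_inv_eq_iff_eq_mul.2 (Subgroup.mem_centralizer_singleton_iff.1 hx)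

theorem center_loc_eq {d : G} (hdl : d ∈ loc D d)
    (hZl : ∀ z ∈ Subgroup.center ↥(loc D d), (z : G) = 1 ∨ (z : G) = d) :
    Subgroup.center ↥(loc D d) = (Subgroup.zpowers d).subgroupOf (loc D d) := by
  refine le_antisymm (fun z hz => ?_) fun z hz => ?_
  · rw [Subgroup.mem_subgroupOf]
    rcases hZl z hz with r | r <;> rw [r]
    · exact one_mem _
    · exact Subgroup.mem_zpowers d
  · rw [Subgroup.mem_subgroupOf, Subgroup.mem_zpowers_iff] at hz
    obtain ⟨n, hn⟩ := hz
    refine Subgroup.mem_center_iff.2 fun g => Subtype.ext ?_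
    show (g : G) * z = z * g
    rw [← hn]
    exact ((commute_loc g.2).zpow_left n).symm.eq

theorem card_loc (h : Hyp D) {d : G} (hd : d ∈ D) (hdl : d ∈ loc D d)
    (hZl : ∀ z ∈ Subgroup.center ↥(loc D d), (z : G) = 1 ∨ (z : G) = d) :
    Nat.card ↥(loc D d) = Nat.card (↥(loc D d) ⧸ Subgroup.center ↥(loc D d)) * 2 := by
  rw [Subgroup.card_eq_card_quotient_mul_card_subgroup (Subgroup.center ↥(loc D d))]
  congr 1
  rw [Nat.card_congr (MulEquiv.subgroupCongr (center_loc_eq hdl hZl)).toEquiv,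
    Nat.card_congr (Subgroup.subgroupOfEquivOfLe (Subgroup.zpowers_le.2 hdl)).toEquiv, Nat.card_zpowers,
    h.set.1 d hd]

/-- A class of equal images in an abelian quotient. -/
theorem of_prod_even {H : Type*} [Group H] {l : List H} {y : H}
    (hl : ∀ x ∈ l, Abelianization.of x = Abelianization.of y) (hy : y * y = 1) (he : Even l.length) :
    l.prod ∈ commutator H := by
  rw [← Abelianization.ker_of, MonoidHom.mem_ker, map_list_prod,
    List.eq_replicate_of_mem (a := Abelianization.of y) (l := l.map Abelianization.of) (by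
      intro b hb; obtain ⟨x, hx, rfl⟩ := List.mem_map.1 hb; exact hl x hx),
    List.prod_replicate, List.length_map]
  obtain ⟨n, hn⟩ := he
  rw [hn, ← two_mul, pow_mul, pow_two, ← map_mul, hy, map_one, one_pow]

theorem lev_commutator_simple {v k l m : ℕ} (L : Lev D v k l m) (hk : 0 < k) : IsSimpleGroup (commutator G) := by
  obtain ⟨a, ha, -⟩ := L.prim.2.1
  obtain ⟨x, hx⟩ : (perp D a).Nonempty := (Set.ncard_pos (Set.toFinite _)).1 (by rw [L.deg a ha]; exact hk)
  exact ((Cfsg.Agent.S5361.result (class_of_hyp L.hyp ha) L.center ⟨a, ha, x, hx.1, hx.2.1.symm, hx.2.2⟩).1).2 L.prim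

/-- An odd relation makes the group simple. -/
theorem simple_of_odd {v k l m : ℕ} (L : Lev D v k l m) (hk : 0 < k) {r : ℕ} (hr : Odd r) (hR : Rel r D) :
    IsSimpleGroup G := by
  have hs := lev_commutator_simple L hk
  obtain ⟨q, hq, hlen, hprod⟩ := hR
  have hD : ∀ a ∈ D, a ∈ commutator G := by
    intro a ha
    have hall : ∀ x ∈ a :: q, Abelianization.of x = Abelianization.of a := fun x hx => by
      have hxD : x ∈ D := by
        rcases List.mem_cons.1 hx with rfl | hx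
        · exact ha
        · exact (hq.2.1 x hx).1
      obtain ⟨g, rfl⟩ := L.hyp.transitive a ha x hxD
      rw [map_mul, map_mul, map_inv, mul_comm (Abelianization.of g), mul_inv_cancel_right]
    have e := of_prod_even hall (L.hyp.mul_self ha) (by rw [List.length_cons, hlen]; exact hr.add_one)
    rwa [List.prod_cons, hprod, mul_one] at e
  have htop : commutator G = ⊤ := by
    rw [eq_top_iff, ← L.hyp.gen, Subgroup.closure_le]; exact hD
  haveI := hs
  haveI : Nontrivial G := by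
    obtain ⟨a, -, b, -, hab⟩ := L.prim.2.1
    exact ⟨a, b, hab⟩
  exact IsSimpleGroup.isSimpleGroup_of_surjective
    ((MulEquiv.subgroupCongr htop).trans Subgroup.topEquiv).toMonoidHom (MulEquiv.surjective _)

/-- Transitivity on the neighbours of a member. -/
theorem trans_perp {v k l m : ℕ} (L : Lev D v k l m) (hkl : 2 * l < k) {a x y : G} (ha : a ∈ D)
    (hx : x ∈ perp D a) (hy : y ∈ perp D a) : ∃ g ∈ loc D a, g * x * g⁻¹ = y := by
  classical
  set S : Set G := {z | ∃ g ∈ loc D a, g * x * g⁻¹ = z} with hS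
  have hSP : S ⊆ perp D a := by
    rintro _ ⟨g, hg, rfl⟩
    have e : g * a * g⁻¹ = a := by rw [← (commute_loc hg).eq, mul_inv_cancel_right]
    have r : g * x * g⁻¹ ∈ perp D (g * a * g⁻¹) := by rw [perp_conj L.hyp]; exact ⟨x, hx, rfl⟩
    rwa [e] at r
  have hcross : ∀ p ∈ S, ∀ q ∈ perp D a, q ∉ S → Commute p q := by
    rintro _ ⟨g, hg, rfl⟩ q hq hqS
    by_contra hn
    set p := g * x * g⁻¹
    have hp : p ∈ perp D a := hSP ⟨g, hg, rfl⟩
    refine hqS ⟨p * q * g, mul_mem (mul_mem (perp_loc hp) (perp_loc hq)) hg, ?_⟩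
    rw [show p * q * g * x * (p * q * g)⁻¹ = p * q * p * (p * q)⁻¹ by simp only [p]; group]
    exact pair_conj' L.hyp hp.1 hq.1 hn
  by_contra hcon
  have hyS : y ∉ S := hcon
  have hxS : x ∈ S := ⟨1, one_mem _, by simp⟩
  have e1 : (perp D a \ S).ncard ≤ l := by
    rw [← L.lam a ha x hx]
    exact Set.ncard_le_ncard (fun q hq => ⟨hq.1, hq.1.1, fun r => hq.2 (r ▸ hxS), hcross x hxS q hq.1 hq.2⟩)
      (Set.toFinite _)
  have e2 : S.ncard ≤ l := by
    rw [← L.lam a ha y hy]
    exact Set.ncard_le_ncard (fun q hq => ⟨hSP hq, (hSP hq).1, fun r => hyS (r ▸ hq),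
      (hcross q hq y hy hyS).symm⟩) (Set.toFinite _)
  have e3 := Set.ncard_sdiff_add_ncard_of_subset hSP (Set.toFinite _)
  rw [L.deg a ha] at e3
  omega

/-- Pairs of commuting members form one orbit. -/
theorem tup_two_of_lev {v k l m : ℕ} (L : Lev D v k l m) (hkl : 2 * l < k) : TupTrans 2 D := by
  intro q q' hq hq' ht ht'
  obtain ⟨a, b, rfl⟩ := List.length_eq_two.1 hq
  obtain ⟨a', b', rfl⟩ := List.length_eq_two.1 hq'
  have hmem : ∀ {a b : G}, Tuple D [a, b] → a ∈ D ∧ b ∈ perp D a := fun {a b} t =>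
    ⟨(t.2.1 a (by simp)).1, (t.2.1 b (by simp)).1, fun e => by simpa [e] using t.1, t.2.2 a (by simp) b (by simp)⟩
  obtain ⟨ha, hb⟩ := hmem ht
  obtain ⟨ha', hb'⟩ := hmem ht'
  obtain ⟨g, hg⟩ := L.hyp.transitive a ha a' ha'
  have hgb : g * b * g⁻¹ ∈ perp D a' := by rw [← hg, perp_conj L.hyp]; exact ⟨b, hb, rfl⟩
  obtain ⟨u, hu, hub⟩ := trans_perp L hkl ha' hgb hb'
  refine ⟨u * g, ?_⟩
  simp only [List.map_cons, List.map_nil, List.cons.injEq, and_true]
  constructor
  · rw [show u * g * a * (u * g)⁻¹ = u * (g * a * g⁻¹) * u⁻¹ by group, hg, ← (commute_loc hu).eq, mul_inv_cancel_right]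
  · rw [← hub]; group

/-- The quasisimple centralizer. -/
theorem loc_quasi (h : Hyp D) {d : G} (hnc : NC D d)
    (hZl : ∀ z ∈ Subgroup.center ↥(loc D d), (z : G) = 1 ∨ (z : G) = d)
    (hX : IsSimpleGroup (↥(loc D d) ⧸ Subgroup.center ↥(loc D d)))
    (hXc : Subgroup.center (↥(loc D d) ⧸ Subgroup.center ↥(loc D d)) = ⊥) (hXh : Hyp (img D d))
    {q : List G} (hq : ∀ a ∈ q, a ∈ perp D d) (he : Even q.length) (hne : q ≠ []) (hprod : q.prod = d) :
    d ∈ loc D d ∧ Cfsg.IsQuasisimple ↥(loc D d) ∧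
      Subgroup.center ↥(loc D d) = (Subgroup.zpowers d).subgroupOf (loc D d) := by
  classical
  set Z := Subgroup.center ↥(loc D d)
  set L : List ↥(loc D d) := q.attach.map fun a => ⟨a.1, perp_loc (hq a.1 a.2)⟩ with hL
  have hval : ((L.prod : ↥(loc D d)) : G) = d := by
    rw [show ((L.prod : ↥(loc D d)) : G) = (Subgroup.subtype (loc D d)) L.prod from rfl, map_list_prod, hL,
      List.map_map]
    exact (congrArg List.prod (List.attach_map_subtype_val q)).trans hprod
  have hdl : d ∈ loc D d := by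
    have r := L.prod.2
    rwa [hval] at r
  obtain ⟨a₀, ha₀⟩ := List.exists_mem_of_ne_nil q hne
  have hall : ∀ x ∈ L, Abelianization.of x =
      Abelianization.of (⟨a₀, perp_loc (hq a₀ ha₀)⟩ : ↥(loc D d)) := by
    intro x hx
    obtain ⟨⟨a, ha⟩, -, rfl⟩ := List.mem_map.1 hx
    obtain ⟨p, hp⟩ := hXh.transitive _ (bar_mem (hq a₀ ha₀)) _ (bar_mem (hq a ha))
    obtain ⟨u, rfl⟩ := QuotientGroup.mk'_surjective Z p
    have hud : (u : G) * d * (u : G)⁻¹ = d := by rw [← (commute_loc u.2).eq, mul_inv_cancel_right]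
    have hm : (u : G) * a₀ * (u : G)⁻¹ ∈ perp D d := by
      have r : (u : G) * a₀ * (u : G)⁻¹ ∈ perp D ((u : G) * d * (u : G)⁻¹) := by
        rw [perp_conj h]; exact ⟨a₀, hq a₀ ha₀, rfl⟩
      rwa [hud] at r
    have e : (u : G) * a₀ * (u : G)⁻¹ = a := (bar_inj h hnc hm (hq a ha)).1 hp
    rw [show (⟨a, perp_loc (hq a ha)⟩ : ↥(loc D d)) = u * ⟨a₀, perp_loc (hq a₀ ha₀)⟩ * u⁻¹ from
      Subtype.ext e.symm, map_mul, map_mul, map_inv, mul_comm (Abelianization.of u), mul_inv_cancel_right]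
  have hdK : (⟨d, hdl⟩ : ↥(loc D d)) ∈ commutator ↥(loc D d) := by
    have e := of_prod_even hall (Subtype.ext (h.mul_self (hq a₀ ha₀).1)) (by
      rwa [hL, List.length_map, List.length_attach])
    rwa [show L.prod = ⟨d, hdl⟩ from Subtype.ext hval] at e
  have hXtop : commutator (↥(loc D d) ⧸ Z) = ⊤ := by
    rcases IsSimpleGroup.eq_bot_or_eq_top_of_normal (commutator (↥(loc D d) ⧸ Z)) inferInstance with r | r
    · exfalso
      have hcen : Subgroup.center (↥(loc D d) ⧸ Z) = ⊤ := by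
        rw [eq_top_iff]
        intro x _
        refine Subgroup.mem_center_iff.2 fun y => commutatorElement_eq_one_iff_mul_comm.1 ?_
        rw [← Subgroup.mem_bot, ← r]
        exact Subgroup.commutator_mem_commutator (Subgroup.mem_top y) (Subgroup.mem_top x)
      rw [hXc] at hcen
      exact bot_ne_top hcen
    · exact r
  have hperf : commutator ↥(loc D d) = ⊤ := by
    have hZK : Z ≤ commutator ↥(loc D d) := fun z hz => by
      rcases hZl z hz with r | r
      · rw [show z = 1 from Subtype.ext r]; exact one_mem _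
      · rw [show z = ⟨d, hdl⟩ from Subtype.ext r]; exact hdK
    have hmap : (commutator ↥(loc D d)).map (QuotientGroup.mk' Z) = ⊤ := by
      rw [← hXtop, _root_.commutator_def, _root_.commutator_def, Subgroup.map_commutator,
        Subgroup.map_top_of_surjective _ (QuotientGroup.mk'_surjective Z)]
    have := congrArg (Subgroup.comap (QuotientGroup.mk' Z)) hmap
    rw [Subgroup.comap_map_eq, QuotientGroup.ker_mk', Subgroup.comap_top, sup_eq_left.2 hZK] at this
    exact this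
  exact ⟨hdl, ⟨⟨hperf⟩, hX⟩, center_loc_eq hdl hZl⟩

end CfsgLib.Spor.Tri.Level
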