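/-
Hyperovals in the totally isotropic planes of `PSU(6, 4)`.
-/
import Cfsg.Agent.Lib.Spor.Tri.U6Geom

namespace CfsgLib.Spor.Tri.Level.U6

open Matrix CfsgLib.SU CfsgLib.Spor.Tri CfsgLib.Spor.Tri.Relations

variable {F : Type} [Field F] [Fintype F] (C : UCtx F 2) (hF : Fintype.card F = 4)

local notation "V" => (Fin 6 → F)

variable {D : Set (Cfsg.PSU 6 F 2)}

set_option maxHeartbeats 1000000

/-- The vector with given coordinates in a plane. -/
def comb3 (v w r : V) (p : F × F × F) : V := p.1 • v + p.2.1 • w + p.2.2 • r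

/-- The point with given coordinates in a plane. -/
def P3 {v w r : Fin 6 → F}
    (horth : ∀ p p', C.form (comb3 v w r p) (comb3 v w r p') = 0) (p : F × F × F) : Cfsg.PSU 6 F 2 := pt C hF (comb3 v w r p) (horth p p)

include C hF in
theorem oval {v w r : Fin 6 → F}
    (horth : ∀ p p', C.form (comb3 v w r p) (comb3 v w r p') = 0)
    (h : Pre D) (hne : (nz D).Nonempty) (hne0 : ∀ p, p ≠ (0, 0, 0) → comb3 v w r p ≠ 0)
    (hPeq : ∀ p p', p ≠ (0, 0, 0) → P3 C hF horth p = P3 C hF horth p' →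
      ∃ s : F, p = (s * p'.1, s * p'.2.1, s * p'.2.2))
    (o : List (F × F)) (hond : o.Nodup) (ho0 : ∀ q ∈ o, q.1 ≠ 0 ∧ q.2 ≠ 0) (holen : o.length = 3)
    (hs1 : (o.map fun q => C.bar q.1).sum = 0) (hs2 : (o.map fun q => C.bar q.2).sum = 0)
    (hs12 : (o.map fun q => q.1 * C.bar q.2).sum = 0) :
    Tuple (nz D) ([P3 C hF horth (1, 0, 0), P3 C hF horth (0, 1, 0), P3 C hF horth (0, 0, 1)] ++
        o.map fun q => P3 C hF horth (1, q)) ∧
      ([P3 C hF horth (1, 0, 0), P3 C hF horth (0, 1, 0), P3 C hF horth (0, 0, 1)] ++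
        o.map fun q => P3 C hF horth (1, q)).prod = 1 := by
  classical
  have h11 := one_add_one hF
  let P : F × F × F → Cfsg.PSU 6 F 2 := P3 C hF horth
  show Tuple (nz D) ([P (1, 0, 0), P (0, 1, 0), P (0, 0, 1)] ++ o.map fun q => P (1, q)) ∧ _
  set l := [((1 : F), (0 : F), (0 : F)), (0, 1, 0), (0, 0, 1)] ++ o.map fun q => ((1 : F), q) with hl
  have el : ([P (1, 0, 0), P (0, 1, 0), P (0, 0, 1)] ++ o.map fun q => P (1, q)) = l.map P := by
    simp [hl, List.map_map, Function.comp]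
  have hl0 : ∀ p ∈ l, p ≠ (0, 0, 0) := fun p hp => by
    rcases List.mem_append.1 hp with hp | hp
    · simp at hp; rcases hp with rfl | rfl | rfl <;> simp
    · obtain ⟨q, -, rfl⟩ := List.mem_map.1 hp; simp
  rw [el]
  refine ⟨⟨?_, ?_, ?_⟩, ?_⟩
  · have hlnd : l.Nodup := by
      refine List.nodup_append.2 ⟨by simp, hond.map (fun q q' e => (Prod.ext_iff.1 e).2), ?_⟩
      intro p hp p' hp' e
      obtain ⟨q, hq, rfl⟩ := List.mem_map.1 hp'
      simp at hp
      obtain ⟨q1, q2⟩ := ho0 q hq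
      rcases hp with rfl | rfl | rfl <;> simp [Prod.ext_iff, q1.symm, q2.symm] at e
    refine (List.nodup_map_iff_inj_on hlnd).2 fun p hp p' hp' e => ?_
    obtain ⟨s, es⟩ := hPeq p p' (hl0 p hp) e
    have hs : s ≠ 0 := fun r => hl0 p hp (by rw [es, r]; simp)
    rcases List.mem_append.1 hp with hp | hp <;> rcases List.mem_append.1 hp' with hp' | hp'
    · simp at hp hp'
      rcases hp with rfl | rfl | rfl <;> rcases hp' with rfl | rfl | rfl <;>
        first | rfl | simp [Prod.ext_iff, hs.symm, hs] at es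
    · obtain ⟨q, hq, rfl⟩ := List.mem_map.1 hp'
      obtain ⟨q1, q2⟩ := ho0 q hq
      simp at hp
      rcases hp with rfl | rfl | rfl <;> simp [Prod.ext_iff, hs.symm, hs, q1, q2] at es
    · obtain ⟨q, hq, rfl⟩ := List.mem_map.1 hp
      obtain ⟨q1, q2⟩ := ho0 q hq
      simp at hp'
      rcases hp' with rfl | rfl | rfl <;> simp [Prod.ext_iff, q1, q2] at es
    · obtain ⟨q, -, rfl⟩ := List.mem_map.1 hp
      obtain ⟨q', -, rfl⟩ := List.mem_map.1 hp'
      simp only [mul_one, Prod.mk.injEq] at es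
      rw [← es.1, one_mul, one_mul] at es
      exact Prod.ext rfl es.2
  · intro x hx
    obtain ⟨p, hp, rfl⟩ := List.mem_map.1 hx
    have hm := pt_mem C hF h hne _ (horth p p) (hne0 p (hl0 p hp))
    exact ⟨hm, hm.2⟩
  · intro x hx y hy
    obtain ⟨p, -, rfl⟩ := List.mem_map.1 hx
    obtain ⟨p', hp', rfl⟩ := List.mem_map.1 hy
    exact (pt_commute C hF (hne0 p' (hl0 p' hp'))).2 (horth p p')
  · let pts : List {u : V // C.form u u = 0} := l.map fun p => ⟨comb3 v w r p, horth p p⟩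
    have e1 : l.map P = (pts.map fun u => tr1 C hF u.1 u.2).map pr := by
      simp [pts, List.map_map, Function.comp, P, P3, pt]
    rw [e1, ← map_list_prod]
    suffices hone : (pts.map fun u => tr1 C hF u.1 u.2).prod = 1 by rw [hone, map_one]
    refine su_ext fun x => ?_
    rw [Relations.prod_tr1_mulVec C hF pts (fun u hu u' hu' => by
      obtain ⟨p, -, rfl⟩ := List.mem_map.1 hu
      obtain ⟨p', -, rfl⟩ := List.mem_map.1 hu'
      exact horth p p'), su_one_mulVec]
    obtain ⟨q1, q2, q3, rfl⟩ := List.length_eq_three.1 holen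
    simp only [List.map_cons, List.map_nil, List.sum_cons, List.sum_nil, add_zero] at hs1 hs2 hs12
    simp only [pts, hl, List.cons_append, List.nil_append, List.map_cons, List.map_nil, List.sum_cons,
      List.sum_nil, add_zero, comb3]
    have n1 : ∀ q ∈ [q1, q2, q3], q.1 * C.bar q.1 = 1 ∧ q.2 * C.bar q.2 = 1 := fun q hq =>
      ⟨Relations.norm_one C hF (ho0 q hq).1, Relations.norm_one C hF (ho0 q hq).2⟩
    obtain ⟨a1, b1⟩ := n1 q1 (by simp)
    obtain ⟨a2, b2⟩ := n1 q2 (by simp)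
    obtain ⟨a3, b3⟩ := n1 q3 (by simp)
    have hs1' := congrArg C.bar hs1
    have hs2' := congrArg C.bar hs2
    have hs12' := congrArg C.bar hs12
    simp only [map_add, map_mul, C.bar_bar, map_zero] at hs1' hs2' hs12'
    funext i
    simp only [Pi.add_apply, Pi.smul_apply, smul_eq_mul, C.form_add_right, C.form_smul_right, map_one, map_zero]
    linear_combination (C.form x v * v i) * (h11 + h11) + (C.form x w * v i) * hs1 + (C.form x r * v i) * hs2 +
      (C.form x v * w i) * hs1' + (C.form x v * r i) * hs2' + (C.form x r * w i) * hs12 +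
      (C.form x w * r i) * hs12' + (C.form x w * w i) * (a1 + a2 + a3 + h11 + h11) +
      (C.form x r * r i) * (b1 + b2 + b3 + h11 + h11)

include C hF in
theorem hexads (h : Pre D) (hne : (nz D).Nonempty) : Hexads (nz D) := by
  classical
  obtain ⟨ω, hω0, hω1, hq, h3, -⟩ := Relations.exists_omega hF
  have h11 := one_add_one hF
  rintro a b c ⟨hnd, hmem, hcomm⟩ ⟨f, hf, hfa, hfb, hfc⟩
  obtain ⟨v, hv, hv0, rfl⟩ := exists_pt C hF h (hmem a (by simp)).1
  obtain ⟨w, hw, hw0, rfl⟩ := exists_pt C hF h (hmem b (by simp)).1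
  obtain ⟨r, hr, hr0, rfl⟩ := exists_pt C hF h (hmem c (by simp)).1
  obtain ⟨z, hz, hz0, rfl⟩ := exists_pt C hF h hf.1
  have fzv := (pt_commute C hF hv0).1 hfa
  have fzw := (pt_commute C hF hw0).1 hfb
  have fzr : C.form z r ≠ 0 := fun e => hfc ((pt_commute C hF hr0).2 e)
  have ovw := (pt_commute C hF hw0).1 (hcomm _ (by simp) _ (by simp) : Commute (pt C hF v hv) (pt C hF w hw))
  have ovr := (pt_commute C hF hr0).1 (hcomm _ (by simp) _ (by simp) : Commute (pt C hF v hv) (pt C hF r hr))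
  have owr := (pt_commute C hF hr0).1 (hcomm _ (by simp) _ (by simp) : Commute (pt C hF w hw) (pt C hF r hr))
  have nvw : pt C hF v hv ≠ pt C hF w hw := by simp at hnd; exact hnd.1.1
  have hind : ∀ x y t : F, x • v + y • w + t • r = 0 → x = 0 ∧ y = 0 ∧ t = 0 := by
    intro x y t e
    have et : t = 0 := by
      have := congrArg (C.form z) e
      rw [C.form_add_right, C.form_add_right, C.form_smul_right, C.form_smul_right, C.form_smul_right, fzv, fzw,
        C.form_zero_right, mul_zero, mul_zero, zero_add, zero_add] at this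
      have := congrArg C.bar ((mul_eq_zero.1 this).resolve_right fzr)
      simpa [C.bar_bar] using this
    rw [et, zero_smul, add_zero] at e
    rcases eq_or_ne x 0 with rfl | hx
    · rw [zero_smul, zero_add, smul_eq_zero] at e
      exact ⟨rfl, e.resolve_right hw0, et⟩
    · refine absurd ((pt_eq_iff C hF hv0).2 ⟨x⁻¹ * -y, fun r0 => hv0 ?_, ?_⟩) nvw
      · have : y = 0 := by simpa [hx] using r0
        rw [this, zero_smul, add_zero, smul_eq_zero] at e
        exact e.resolve_left hx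
      · rw [← smul_smul, neg_smul, ← eq_neg_of_add_eq_zero_left e, inv_smul_smul₀ hx]
  let comb : F × F × F → V := comb3 v w r
  have horth : ∀ p p', C.form (comb p) (comb p') = 0 := fun p p' => by
    simp [comb, comb3, C.form_add_left, C.form_add_right, C.form_smul_left, C.form_smul_right, hv, hw, hr, ovw, ovr, owr,
      C.form_swap_zero ovw, C.form_swap_zero ovr, C.form_swap_zero owr]
  let P : F × F × F → Cfsg.PSU 6 F 2 := P3 C hF horth
  have hne0 : ∀ p, p ≠ (0, 0, 0) → comb p ≠ 0 := fun p hp e => hp (by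
    obtain ⟨a, b, c⟩ := hind _ _ _ e; exact Prod.ext a (Prod.ext b c))
  have hPeq : ∀ p p', p ≠ (0, 0, 0) → P p = P p' → ∃ s : F, p = (s * p'.1, s * p'.2.1, s * p'.2.2) := by
    intro p p' hp e
    obtain ⟨s, -, es⟩ := (pt_eq_iff C hF (hne0 p hp)).1 e
    refine ⟨s, ?_⟩
    have e2 : (p.1 - s * p'.1) • v + (p.2.1 - s * p'.2.1) • w + (p.2.2 - s * p'.2.2) • r = 0 := by
      simp only [sub_smul, ← smul_smul]
      calc _ = comb p - s • comb p' := by simp only [comb, comb3, smul_add]; abel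
        _ = 0 := by rw [es, sub_self]
    obtain ⟨a, b, c⟩ := hind _ _ _ e2
    exact Prod.ext (sub_eq_zero.1 a) (Prod.ext (sub_eq_zero.1 b) (sub_eq_zero.1 c))
  have eP : pt C hF v hv = P3 C hF horth (1, 0, 0) ∧ pt C hF w hw = P3 C hF horth (0, 1, 0) ∧
      pt C hF r hr = P3 C hF horth (0, 0, 1) :=
    ⟨pt_congr C hF (by simp [comb, comb3]), pt_congr C hF (by simp [comb, comb3]), pt_congr C hF (by simp [comb, comb3])⟩
  have n21 : ω ^ 2 ≠ 1 := fun e => hω1 (by linear_combination h3 - ω * e)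
  have n2ω : ω ^ 2 ≠ ω := fun e => hω1 (by rw [pow_two] at e; exact mul_right_cancel₀ hω0 (e.trans (one_mul ω).symm))
  have n20 : ω ^ 2 ≠ 0 := pow_ne_zero 2 hω0
  have hb1 : C.bar ω = ω ^ 2 := C.bar_eq ω
  have hb2 : C.bar (ω ^ 2) = ω := by rw [map_pow, hb1]; linear_combination ω * h3
  let ov : List (F × F) := [(1, 1), (ω, ω ^ 2), (ω ^ 2, ω)]
  let ov' : List (F × F) := [(1, ω), (ω, 1), (ω ^ 2, ω ^ 2)]
  have hb1' : C.bar 1 = (1 : F) := map_one _
  obtain ⟨T1, P1⟩ := oval C hF horth h hne hne0 hPeq ov (by simp [ov, hω1.symm, n21.symm, n2ω.symm, n21, n2ω, hω1]) (by simp [ov, hω0])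
    rfl (by simp [ov, hb1, hb2]; linear_combination hq) (by simp [ov, hb1, hb2]; linear_combination hq)
    (by simp [ov, hb1, hb2]; linear_combination hq + ω * h3)
  obtain ⟨T2, P2⟩ := oval C hF horth h hne hne0 hPeq ov' (by simp [ov', hω1.symm, n21.symm, n2ω.symm, n21, n2ω, hω1]) (by simp [ov', hω0])
    rfl (by simp [ov', hb1, hb2]; linear_combination hq) (by simp [ov', hb1, hb2]; linear_combination hq)
    (by simp [ov', hb1, hb2]; linear_combination hq + h3)
  rw [← eP.1, ← eP.2.1, ← eP.2.2] at T1 T2 P1 P2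
  refine ⟨ov.map fun q => P (1, q), ov'.map fun q => P (1, q), rfl, rfl, T1, T2, P1, P2, fun x hx hx' => ?_⟩
  obtain ⟨q, hq1, rfl⟩ := List.mem_map.1 hx
  obtain ⟨q', hq2, e⟩ := List.mem_map.1 hx'
  obtain ⟨s, es⟩ := hPeq (1, q') (1, q) (by simp) e
  simp only [mul_one, Prod.mk.injEq] at es
  rw [← es.1, one_mul, one_mul] at es
  obtain rfl : q' = q := es.2
  simp [ov, ov'] at hq1 hq2
  rcases hq1 with rfl | rfl | rfl <;> simp [hω1, hω1.symm, n21, n21.symm, n2ω, n2ω.symm] at hq2

end CfsgLib.Spor.Tri.Level.U6
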