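/-
The geometric facts about the transvections, in any copy of `PSU(6, 4)`.
-/
import Cfsg.Agent.Lib.Spor.Tri.U6Hexads
import Cfsg.Agent.Lib.Spor.Tri.LevelTypes

namespace CfsgLib.Spor.Tri.Level

open CfsgLib.Spor.Tri CfsgLib.Spor.Tri.Relations

section

variable {X : Type*} [Group X] {Y : Type*} [Group Y] (e : X ≃* Y) (D : Set X)

theorem tuple_equiv (l : List X) : Tuple (e '' D) (l.map e) ↔ Tuple D l := by
  refine and_congr (List.nodup_map_iff e.injective) (and_congr ?_ ?_)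
  · refine ⟨fun r a ha => ?_, fun r b hb => ?_⟩
    · obtain ⟨h1, h2⟩ := r (e a) (List.mem_map_of_mem ha)
      exact ⟨(mem_image_equiv e D a).1 h1, fun q => h2 (by rw [q, map_one])⟩
    · obtain ⟨a, ha, rfl⟩ := List.mem_map.1 hb
      exact ⟨⟨a, (r a ha).1, rfl⟩, fun q => (r a ha).2 (e.injective (by rw [q, map_one]))⟩
  · refine ⟨fun r a ha b hb => (commute_equiv e a b).1 (r _ (List.mem_map_of_mem ha) _ (List.mem_map_of_mem hb)),
      fun r p hp q hq => ?_⟩
    obtain ⟨a, ha, rfl⟩ := List.mem_map.1 hp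
    obtain ⟨b, hb, rfl⟩ := List.mem_map.1 hq
    exact (commute_equiv e a b).2 (r a ha b hb)

theorem exists_map_list (l : List Y) : ∃ l' : List X, l'.map e = l :=
  ⟨l.map e.symm, by rw [List.map_map]; exact (List.map_congr_left fun x _ => e.apply_symm_apply x).trans (List.map_id l)⟩

theorem width_equiv {w : ℕ} (W : WidthIs (e '' D) w) : WidthIs D w := by
  obtain ⟨h1, E, hE, hc, hn⟩ := W
  refine ⟨fun S hS hcS => ?_, e.symm '' E, ?_, ?_, ?_⟩
  · rw [← Set.ncard_image_of_injective S e.injective]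
    refine h1 _ (Set.image_mono hS) ?_
    rintro _ ⟨a, ha, rfl⟩ _ ⟨b, hb, rfl⟩
    exact (hcS a ha b hb).map e.toMonoidHom
  · rintro _ ⟨y, hy, rfl⟩
    obtain ⟨x, hx, rfl⟩ := hE hy
    rwa [e.symm_apply_apply]
  · rintro _ ⟨a, ha, rfl⟩ _ ⟨b, hb, rfl⟩
    exact (hc a ha b hb).map e.symm.toMonoidHom
  · rw [Set.ncard_image_of_injective _ e.symm.injective, hn]

theorem decomp_equiv {k : ℕ} (H : Decomp k (e '' D)) : Decomp k D := by
  intro x hxx hx1
  obtain ⟨l, hl, h1, hk, hp⟩ := H (e x) (by rw [← map_mul, hxx, map_one]) (fun q => hx1 (e.injective (by rw [q, map_one])))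
  obtain ⟨l', rfl⟩ := exists_map_list e l
  refine ⟨l', (tuple_equiv e D l').1 hl, by simpa using h1, by simpa using hk, e.injective ?_⟩
  rw [map_list_prod]; exact hp

theorem hexads_equiv (H : Hexads (e '' D)) : Hexads D := by
  intro a b c ht hw
  obtain ⟨f, hf, fa, fb, fc⟩ := hw
  obtain ⟨p, q, hp, hq, tp, tq, pp, pq, hd⟩ := H (e a) (e b) (e c) ((tuple_equiv e D [a, b, c]).2 ht)
    ⟨e f, ⟨⟨f, hf.1, rfl⟩, fun r => hf.2 (e.injective (by rw [r, map_one]))⟩, (commute_equiv e f a).2 fa,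
      (commute_equiv e f b).2 fb, fun r => fc ((commute_equiv e f c).1 r)⟩
  obtain ⟨p', rfl⟩ := exists_map_list e p
  obtain ⟨q', rfl⟩ := exists_map_list e q
  rw [show [e a, e b, e c] = [a, b, c].map e from rfl, ← List.map_append] at tp tq pp pq
  refine ⟨p', q', by simpa using hp, by simpa using hq, (tuple_equiv e D _).1 tp, (tuple_equiv e D _).1 tq,
    e.injective ?_, e.injective ?_, fun x hx r => hd (e x) (List.mem_map_of_mem hx) (List.mem_map_of_mem r)⟩
  · rw [map_list_prod, map_one]; exact pp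
  · rw [map_list_prod, map_one]; exact pq

end

/-- `|PSU(6, 4)|`. -/
theorem card_psu_six {F : Type} [Field F] [Fintype F] (hF : Fintype.card F = 4) :
    Nat.card (Cfsg.PSU 6 F 2) = 9196830720 := by
  classical
  obtain ⟨C⟩ := CfsgLib.Classical.uctx_exists (F := F) (q := 2) (by rw [hF]; norm_num)
  have h1 := CfsgLib.SU.SemisimpleCentral.card_su C (n := 6) (by rw [hF]; norm_num) (by norm_num)
  have h2 := C.card_center_su (n := 6) (by rw [hF]; norm_num) (by norm_num)
  have h3 := Subgroup.card_eq_card_quotient_mul_card_subgroup (Subgroup.center ↥(Cfsg.SU 6 F 2))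
  rw [h2, h1] at h3
  rw [show Nat.gcd 6 (2 + 1) = 3 from rfl,
    show (2 : ℕ) ^ (6 * (6 - 1) / 2) * ∏ i ∈ Finset.range (6 - 1),
      (if Even (i + 1) then 2 ^ (i + 2) + 1 else 2 ^ (i + 2) - 1) = 27590492160 from by decide] at h3
  have : Nat.card (↥(Cfsg.SU 6 F 2) ⧸ Subgroup.center ↥(Cfsg.SU 6 F 2)) = 9196830720 := by omega
  exact this

/-- Width, involutions, hyperovals and order. -/
theorem u6_facts {F : Type} [Field F] [Fintype F] (hF : Fintype.card F = 4) {X : Type*} [Group X] [Finite X]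
    (e : X ≃* Cfsg.PSU 6 F 2) {D : Set X} (h : Pre D) :
    WidthIs (nz D) 21 ∧ Decomp 3 (nz D) ∧ Hexads (nz D) ∧ Nat.card X = 9196830720 := by
  classical
  obtain ⟨C⟩ := CfsgLib.Classical.uctx_exists (F := F) (q := 2) (by rw [hF]; norm_num)
  obtain ⟨hg, -⟩ := good_psu hF e h
  set D' : Set (Cfsg.PSU 6 F 2) := e '' D
  have hP : Pre D' := by
    refine ⟨?_, ?_, ?_, ?_⟩
    · rintro _ ⟨a, ha, rfl⟩; rw [← map_mul, h.invol a ha, map_one]
    · rintro _ ⟨a, ha, rfl⟩ _ ⟨b, hb, rfl⟩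
      rcases h.pair a ha b hb with r | r
      · exact Or.inl (by rw [← map_mul, ← map_pow, r, map_one])
      · exact Or.inr (by rw [← map_mul, ← map_pow, r, map_one])
    · rintro g _ ⟨a, ha, rfl⟩
      obtain ⟨u, rfl⟩ := e.surjective g
      exact ⟨u * a * u⁻¹, h.conj u a ha, by simp⟩
    · have := congrArg (Subgroup.map e.toMonoidHom) h.gen
      rw [MonoidHom.map_closure, Subgroup.map_top_of_surjective _ e.surjective] at this
      exact this
  have himg : nz D' = e '' nz D := by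
    ext y
    constructor
    · rintro ⟨⟨x, hx, rfl⟩, h1⟩
      exact ⟨x, ⟨hx, fun r => h1 (by rw [r, map_one])⟩, rfl⟩
    · rintro ⟨x, hx, rfl⟩
      exact ⟨⟨x, hx.1, rfl⟩, fun r => hx.2 (e.injective (by rw [r, map_one]))⟩
  have hne' : (nz D').Nonempty := by rw [himg]; exact hg.nonempty.image _
  have hw : WidthIs (nz D') 21 := ⟨fun E hE hc => U6.width_le C hF hP hne' hE hc, U6.width_exists C hF hP hne'⟩
  have hd := U6.decomp C hF hP hne'
  have hh := U6.hexads C hF hP hne'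
  rw [himg] at hw hd hh
  exact ⟨width_equiv e _ hw, decomp_equiv e _ hd, hexads_equiv e _ hh,
    (Nat.card_congr e.toEquiv).trans (card_psu_six hF)⟩

end CfsgLib.Spor.Tri.Level
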