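/-
Orders, widths, simplicity and centralizers in types M(22), M(23), M(24).
-/
import Cfsg.Agent.Lib.Spor.Tri.U6Facts
import Cfsg.Agent.Lib.Spor.Tri.LevelLift
import Cfsg.Agent.Lib.Spor.Tri.LevelOrder

namespace CfsgLib.Spor.Tri.Level

open CfsgLib.Spor.Tri CfsgLib.Spor.Tri.Relations

variable {G : Type*} [Group G] [Finite G] {D : Set G}

/-- Everything needed at a witness of type M(22). -/
structure Loc22 (D : Set G) (d : G) : Prop where
  mem : d ∈ D
  nc : NC D d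
  lev : Lev (img D d) 693 180 51 45
  rel : Rel 5 (img D d)
  width : WidthIs (img D d) 21
  decomp : Decomp 3 (img D d)
  hexads : Hexads (img D d)
  lines : HasLines (img D d)
  card : Nat.card (↥(loc D d) ⧸ Subgroup.center ↥(loc D d)) = 9196830720
  simple : IsSimpleGroup (↥(loc D d) ⧸ Subgroup.center ↥(loc D d))
  zl : ∀ z ∈ Subgroup.center ↥(loc D d), (z : G) = 1 ∨ (z : G) = d
  six : ∀ a ∈ D, SixAt D a
  norel : NoRel 5 D
  psu : ∃ (F : Type) (_ : Field F) (_ : Fintype F), Fintype.card F = 4 ∧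
    Nonempty (↥(loc D d) ⧸ Subgroup.center ↥(loc D d) ≃* Cfsg.PSU 6 F 2)

theorem local22 (h : Hyp D) (hprim : Cfsg.IsPrimitiveUnderConj D) (h22 : Cfsg.IsOfTypeM22 G D) :
    ∃ d, Loc22 D d := by
  have hP := pre_of_hyp h
  have hg := (good_m22 hP h22).1
  obtain ⟨hZ, d, hd, c, -, -, ⟨F, hFf, hFt, hF, ⟨e⟩⟩, -⟩ := h22
  have hnc : NC D d := nc_of_good h hg hd
  have hp := pre_img hP d
  obtain ⟨L, hR⟩ := @img_u6 G _ _ D h d hnc F hFf hFt hF e
  obtain ⟨hw, hdec, hhex, hcard⟩ := @u6_facts F hFf hFt hF _ _ _ e _ hp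
  rw [img_nz h hnc] at hw hdec hhex
  have hlines : HasLines (img D d) := @hasLines_of_equiv F hFf hFt hF _ _ _ e _ hp
  have hsimp : IsSimpleGroup (↥(loc D d) ⧸ Subgroup.center ↥(loc D d)) := by
    letI := hFf; letI := hFt
    have hsP : IsSimpleGroup (Cfsg.PSU 6 F 2) :=
      CfsgLib.Classical.psu_isSimple (q := 2) (n := 6) (by rw [hF]; norm_num) (by norm_num) (by norm_num)
    haveI : Nontrivial (↥(loc D d) ⧸ Subgroup.center ↥(loc D d)) := e.toEquiv.nontrivial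
    exact IsSimpleGroup.isSimpleGroup_of_surjective e.symm.toMonoidHom e.symm.surjective
  have hsix : ∀ a ∈ D, SixAt D a := fun a ha => by
    obtain ⟨g, rfl⟩ := h.transitive d hd a ha
    exact six_conj hP g (six_base hP ⟨hd, h.ne_one hd⟩ hnc hlines)
  exact ⟨d, hd, hnc, L, hR, hw, hdec, hhex, hlines, hcard, hsimp,
    fun z hz => center_loc_cases h hprim hd hnc L (by norm_num) hZ hz, hsix, hg.norel, F, hFf, hFt, hF, ⟨e⟩⟩

/-- A triangle of neighbours with independent images. -/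
theorem exists_indep {d : G} (h : Hyp D) (W : Loc22 D d) : ∃ a b c : G, a ∈ perp D d ∧ b ∈ perp D d ∧
    c ∈ perp D d ∧ Tuple D [a, b, c] ∧ ∃ f ∈ perp D d, Commute f a ∧ Commute f b ∧ ¬ Commute f c := by
  classical
  obtain ⟨A, hA, -⟩ := W.lev.prim.2.1
  obtain ⟨B, hB⟩ : (perp (img D d) A).Nonempty :=
    (Set.ncard_pos (Set.toFinite _)).1 (by rw [W.lev.deg A hA]; norm_num)
  have hne : ∀ {q}, q ∈ img D d → q ∈ nz (img D d) := fun {q} hq => by rw [img_nz h W.nc]; exact hq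
  obtain ⟨l, hnd, hlen, hmem, -, -, hiff⟩ := W.lines A (hne hA) B (hne hB.1) hB.2.1.symm hB.2.2
  obtain ⟨C, hC, hCl⟩ : ∃ C ∈ perp (img D d) A ∩ perp (img D d) B, C ∉ l := by
    by_contra hcon
    push Not at hcon
    have e := Set.ncard_le_ncard (t := {x | x ∈ l}) hcon (Set.toFinite _)
    rw [W.lev.lam A hA B hB] at e
    have e2 : {x | x ∈ l}.ncard ≤ 5 := by
      rw [show {x | x ∈ l} = ↑l.toFinset by ext; simp, Set.ncard_coe_finset]
      exact (List.toFinset_card_le l).trans hlen.le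
    omega
  obtain ⟨F, hF, hFA, hFB, hFC⟩ : ∃ F ∈ nz (img D d), Commute F A ∧ Commute F B ∧ ¬ Commute F C := by
    by_contra hcon
    push Not at hcon
    exact hCl ((hiff C (hne hC.1.1)).2 hcon)
  obtain ⟨a, ha, rfl⟩ := exists_bar hA
  obtain ⟨b, hb, rfl⟩ := exists_bar hB.1
  obtain ⟨c, hc, rfl⟩ := exists_bar hC.1.1
  obtain ⟨f, hf, rfl⟩ := exists_bar hF.1
  refine ⟨a, b, c, ha, hb, hc, ⟨?_, ?_, ?_⟩, f, hf, (bar_commute h hf ha).1 hFA, (bar_commute h hf hb).1 hFB,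
    fun r => hFC ((bar_commute h hf hc).2 r)⟩
  · have p1 := ((bar_perp h W.nc hb ha).1 hB).2.1
    have p2 := ((bar_perp h W.nc hc ha).1 hC.1).2.1
    have p3 := ((bar_perp h W.nc hc hb).1 hC.2).2.1
    simp [p1.symm, p2.symm, p3.symm]
  · simp [nz, ha.1, hb.1, hc.1, h.ne_one ha.1, h.ne_one hb.1, h.ne_one hc.1]
  · have p1 := ((bar_perp h W.nc hb ha).1 hB).2.2
    have p2 := ((bar_perp h W.nc hc ha).1 hC.1).2.2
    have p3 := ((bar_perp h W.nc hc hb).1 hC.2).2.2
    simp [p1, p2, p3, p1.symm, p2.symm, p3.symm]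

theorem quasi22 {d : G} (h : Hyp D) (W : Loc22 D d) :
    d ∈ loc D d ∧ Cfsg.IsQuasisimple ↥(loc D d) ∧
      Subgroup.center ↥(loc D d) = (Subgroup.zpowers d).subgroupOf (loc D d) := by
  obtain ⟨a, b, c, ha, hb, hc, ht, hf⟩ := exists_indep h W
  obtain ⟨x, y, z, -, hp, hprod⟩ := hexad_lift h W.nc W.zl W.hexads W.six ha hb hc ht hf
  exact loc_quasi h W.nc W.zl W.simple W.lev.center W.lev.hyp (q := [a, b, c, x, y, z]) hp ⟨3, rfl⟩
    (List.cons_ne_nil _ _) (by simpa [mul_assoc] using hprod)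

theorem simple22 (h : Hyp D) (hprim : Cfsg.IsPrimitiveUnderConj D) (h22 : Cfsg.IsOfTypeM22 G D) :
    IsSimpleGroup G := by
  obtain ⟨d, W⟩ := local22 h hprim h22
  obtain ⟨a, b, c, ha, hb, hc, ht, hf⟩ := exists_indep h W
  obtain ⟨x, y, z, ht6, hp, hprod⟩ := hexad_lift h W.nc W.zl W.hexads W.six ha hb hc ht hf
  refine simple_of_odd (lev22 h hprim h22).1 (by norm_num) (r := 7) (by decide)
    ⟨[d, a, b, c, x, y, z], ⟨List.nodup_cons.2 ⟨fun r => (hp d r).2.1 rfl, ht6.1⟩, ?_, ?_⟩, rfl, ?_⟩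
  · intro e he
    rcases List.mem_cons.1 he with rfl | he
    · exact ⟨W.mem, h.ne_one W.mem⟩
    · exact ht6.2.1 e he
  · intro e he e' he'
    rcases List.mem_cons.1 he with r | he <;> rcases List.mem_cons.1 he' with r' | he'
    · rw [r, r']
    · rw [r]; exact (hp e' he').2.2
    · rw [r']; exact (hp e he).2.2.symm
    · exact ht6.2.2 e he e' he'
  · simp only [List.prod_cons, List.prod_nil, mul_one]
    rw [show a * (b * (c * (x * (y * z)))) = a * b * c * (x * y * z) by group, hprod]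
    exact h.mul_self W.mem

theorem card22 (h : Hyp D) (hprim : Cfsg.IsPrimitiveUnderConj D) (h22 : Cfsg.IsOfTypeM22 G D) :
    Nat.card G = 64561751654400 ∧ WidthIs D 22 := by
  obtain ⟨L, -⟩ := lev22 h hprim h22
  obtain ⟨d, W⟩ := local22 h hprim h22
  refine ⟨?_, width_step h W.mem W.nc W.width⟩
  rw [card_eq_mul h W.mem, ← loc_eq_centralizer (L.cent d W.mem), L.card,
    card_loc h W.mem (quasi22 h W).1 W.zl, W.card]

/-- Everything needed at a witness of type M(23). -/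
structure Loc23 (D : Set G) (d : G) : Prop where
  mem : d ∈ D
  nc : NC D d
  ihyp : Hyp (img D d)
  iprim : Cfsg.IsPrimitiveUnderConj (img D d)
  type : Cfsg.IsOfTypeM22 (↥(loc D d) ⧸ Subgroup.center ↥(loc D d)) (img D d)
  zl : ∀ z ∈ Subgroup.center ↥(loc D d), (z : G) = 1 ∨ (z : G) = d
  norel : NoRel 6 D

theorem local23 (h : Hyp D) (hprim : Cfsg.IsPrimitiveUnderConj D) (h23 : Cfsg.IsOfTypeM23 G D) :
    ∃ d, Loc23 D d := by
  have hg := (good_m23 (pre_of_hyp h) h23).1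
  obtain ⟨hZ, d, hd, c, hc, hdc, h22, c₃, hc₃, hL⟩ := h23
  have hnc : NC D d := nc_of_good h hg hd
  have hX := img_hyp22 h hnc h22
  obtain ⟨hT, hw⟩ := notwin22 hX h22
  have hgX := (good_m22 (pre_img (pre_of_hyp h) d) h22).1
  obtain ⟨q, hq, -⟩ := id hw
  have hpX := prim_of_connected hX hgX.center hgX.core (core_three_of_notwin hX hgX.center hT hq) hw
    fun a ha b hb => img_connected h hprim hd hc hdc (pairOK_refl (by norm_num) hc₃ hL) hd hnc ha hb
  obtain ⟨L, -⟩ := lev22 hX hpX h22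
  exact ⟨d, hd, hnc, hX, hpX, h22, fun z hz => center_loc_cases h hprim hd hnc L (by norm_num) hZ hz, hg.norel⟩

theorem quasi23 {d : G} (h : Hyp D) (W : Loc23 D d) :
    d ∈ loc D d ∧ Cfsg.IsQuasisimple ↥(loc D d) ∧
      Subgroup.center ↥(loc D d) = (Subgroup.zpowers d).subgroupOf (loc D d) := by
  obtain ⟨L, hR⟩ := lev22 W.ihyp W.iprim W.type
  obtain ⟨q, -, hlen, hp, hprod⟩ := rel_lift h W.nc W.zl (by norm_num) W.norel hR
  exact loc_quasi h W.nc W.zl (simple22 W.ihyp W.iprim W.type) L.center W.ihyp hp (by rw [hlen]; decide)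
    (by rintro rfl; simp at hlen) hprod

theorem simple23 (h : Hyp D) (hprim : Cfsg.IsPrimitiveUnderConj D) (h23 : Cfsg.IsOfTypeM23 G D) :
    IsSimpleGroup G :=
  simple_of_odd (lev23 h hprim h23).1 (by norm_num) (by decide) (lev23 h hprim h23).2

theorem card23 (h : Hyp D) (hprim : Cfsg.IsPrimitiveUnderConj D) (h23 : Cfsg.IsOfTypeM23 G D) :
    Nat.card G = 4089470473293004800 ∧ WidthIs D 23 := by
  obtain ⟨L, -⟩ := lev23 h hprim h23
  obtain ⟨d, W⟩ := local23 h hprim h23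
  obtain ⟨hc, hw⟩ := card22 W.ihyp W.iprim W.type
  refine ⟨?_, width_step h W.mem W.nc hw⟩
  rw [card_eq_mul h W.mem, ← loc_eq_centralizer (L.cent d W.mem), L.card,
    card_loc h W.mem (quasi23 h W).1 W.zl, hc]

/-- Order and width in type M(24). -/
theorem card24 (h : Hyp D) (hprim : Cfsg.IsPrimitiveUnderConj D) (h24 : Cfsg.IsOfTypeM24 G D) :
    Nat.card G = 2 ^ 22 * 3 ^ 16 * 5 ^ 2 * 7 ^ 3 * 11 * 13 * 17 * 23 * 29 ∧ WidthIs D 24 := by
  obtain ⟨L₀, -⟩ := lev24 h hprim h24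
  have hg := good_m24 (pre_of_hyp h) h24 fun a ha b hb => h.transitive a ha.1 b hb.1
  obtain ⟨hZ, d, hd, c, hc, hdc, h23, N, -, ⟨eN⟩, -⟩ := h24
  have hnc : NC D d := nc_of_good h hg hd
  have hX := img_hyp23 h hnc h23
  obtain ⟨hT, hw⟩ := notwin23 hX h23
  have hgX := (good_m23 (pre_img (pre_of_hyp h) d) h23).1
  obtain ⟨q, hq, -⟩ := id hw
  have hpX := prim_of_connected hX hgX.center hgX.core (core_three_of_notwin hX hgX.center hT hq) hw
    fun a ha b hb => img_connected h hprim hd hc hdc (pairOK_omega N eN) hd hnc ha hb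
  obtain ⟨L, hR⟩ := lev23 hX hpX h23
  obtain ⟨hcX, hwX⟩ := card23 hX hpX h23
  have hzl : ∀ z ∈ Subgroup.center ↥(loc D d), (z : G) = 1 ∨ (z : G) = d := fun z hz =>
    center_loc_cases h hprim hd hnc L (by norm_num) hZ hz
  obtain ⟨l, -, -, hlp, hld⟩ := rel_lift h hnc hzl (by norm_num) hg.norel hR
  have hdl : d ∈ loc D d := by
    have e : l.prod ∈ loc D d := list_prod_mem fun a ha => perp_loc (hlp a ha)
    rwa [hld] at e
  refine ⟨?_, width_step h hd hnc hwX⟩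
  rw [card_eq_mul h hd, ← loc_eq_centralizer (L₀.cent d hd), L₀.card, card_loc h hd hdl hzl, hcX]
  all_goals norm_num

end CfsgLib.Spor.Tri.Level

namespace CfsgLib.Spor.Tri.Level

open CfsgLib.Spor.Tri CfsgLib.Spor.Tri.Relations

variable {G : Type*} [Group G] {D : Set G}

/-- A primitive 3-transposition group as a class. -/
theorem hyp_of_prim (hD : Cfsg.IsThreeTranspositionGroup D) (hprim : Cfsg.IsPrimitiveUnderConj D) : Hyp D :=
  ⟨hD.1, hD.2.1, hprim.1, hD.2.2⟩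

/-- The local property at every member. -/
theorem quasi_all [Finite G] (h : Hyp D) {d : G} (hd : d ∈ D)
    (H : d ∈ loc D d ∧ Cfsg.IsQuasisimple ↥(loc D d) ∧
      Subgroup.center ↥(loc D d) = (Subgroup.zpowers d).subgroupOf (loc D d)) :
    ∀ a ∈ D, a ∈ loc D a ∧ Cfsg.IsQuasisimple ↥(loc D a) ∧
      Subgroup.center ↥(loc D a) = (Subgroup.zpowers a).subgroupOf (loc D a) := by
  intro a ha
  obtain ⟨g, rfl⟩ := h.transitive d hd a ha
  obtain ⟨h1, h2, h3⟩ := H
  have e := loc_conj h g d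
  set φ : ↥(loc D d) ≃* ↥(loc D (g * d * g⁻¹)) :=
    ((loc D d).equivMapOfInjective (MulAut.conj g).toMonoidHom (MulAut.conj g).injective).trans
      (MulEquiv.subgroupCongr e.symm) with hφ
  have hval : ∀ x : ↥(loc D d), (φ x : G) = g * x * g⁻¹ := fun x => rfl
  refine ⟨by rw [e]; exact ⟨d, h1, rfl⟩, CfsgLib.Coprime.isQuasisimple_congr φ h2, ?_⟩
  ext z
  obtain ⟨x, rfl⟩ := φ.surjective z
  have key : g * (x : G) * g⁻¹ ∈ Subgroup.zpowers (g * d * g⁻¹) ↔ x ∈ Subgroup.center ↥(loc D d) := by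
    rw [h3, Subgroup.mem_subgroupOf]
    have r : Subgroup.zpowers ((MulAut.conj g).toMonoidHom d) = (Subgroup.zpowers d).map (MulAut.conj g).toMonoidHom :=
      (MonoidHom.map_zpowers _ _).symm
    exact (Iff.of_eq (congrArg (fun H => (MulAut.conj g).toMonoidHom x ∈ H) r)).trans
      (Subgroup.mem_map_iff_mem (MulAut.conj g).injective)
  rw [Subgroup.mem_subgroupOf, hval, key]
  constructor
  · intro hz
    refine Subgroup.mem_center_iff.2 fun y => φ.injective ?_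
    rw [map_mul, map_mul]; exact Subgroup.mem_center_iff.1 hz (φ y)
  · intro hz
    refine Subgroup.mem_center_iff.2 fun y => ?_
    obtain ⟨y', rfl⟩ := φ.surjective y
    rw [← map_mul, ← map_mul, Subgroup.mem_center_iff.1 hz y']

end CfsgLib.Spor.Tri.Level
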