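/-
No element swapping two orthogonal points of `PSU(6, 4)` fixes the classes of an invariant partition of their common neighbours.
-/
import Cfsg.Agent.Lib.Spor.Tri.U6Facts

set_option linter.all false

namespace CfsgLib.Spor.Tri.Level.U6

open Matrix CfsgLib.SU CfsgLib.Spor.Tri CfsgLib.Spor.Tri.Relations

variable {F : Type} [Field F] [Fintype F] (C : UCtx F 2) (hF : Fintype.card F = 4)

local notation "V" => (Fin 6 → F)

variable {D : Set (Cfsg.PSU 6 F 2)}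

/-- The vector `α v₀ + β w₀ + (0, 0, 0, 0, 1, 1)`. -/
def plv (p : F × F) : Fin 6 → F := ![p.1, p.1, p.2, p.2, 1, 1]

theorem plv_eq (p : F × F) : (plv p : V) = p.1 • v₀ + p.2 • w₀ + plv 0 := by
  funext i; fin_cases i <;> simp [plv, v₀, w₀]

include C hF in
theorem form_plv (p q : F × F) : C.form (plv p : V) (plv q) = 0 ∧ C.form (plv p : V) v₀ = 0 ∧
    C.form (plv p : V) w₀ = 0 ∧ C.form (v₀ : V) w₀ = 0 := by
  refine ⟨?_, ?_, ?_, ?_⟩ <;> simp [form_six, plv, v₀, w₀] <;>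
    first
      | linear_combination (p.1 * C.bar q.1 + p.2 * C.bar q.2 + 1) * one_add_one hF
      | linear_combination p.1 * one_add_one hF
      | linear_combination p.2 * one_add_one hF

theorem plv_ne (p : F × F) : (plv p : V) ≠ 0 := fun e => one_ne_zero (α := F) (by simpa [plv] using congrFun e 4)

include C hF in
theorem no_swap (h : Pre D) (hne : (nz D).Nonempty) (r : Cfsg.PSU 6 F 2 → Cfsg.PSU 6 F 2 → Prop)
    (hsym : ∀ x y, r x y → r y x) (htr : ∀ x y z, r x y → r y z → r x z)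
    (hinv : ∀ k : Cfsg.PSU 6 F 2, k * pt C hF v₀ (form_v₀ C hF) * k⁻¹ = pt C hF v₀ (form_v₀ C hF) →
      k * pt C hF w₀ (form_w₀ C hF) * k⁻¹ = pt C hF w₀ (form_w₀ C hF) → ∀ x y, r x y → r (k * x * k⁻¹) (k * y * k⁻¹))
    (hsmall : ∀ x ∈ perp (nz D) (pt C hF v₀ (form_v₀ C hF)) ∩ perp (nz D) (pt C hF w₀ (form_w₀ C hF)),
      {y | y ∈ perp (nz D) (pt C hF v₀ (form_v₀ C hF)) ∩ perp (nz D) (pt C hF w₀ (form_w₀ C hF)) ∧ r x y}.ncard ≤ 4)
    (hcom : ∀ x y z, x ∈ perp (nz D) (pt C hF v₀ (form_v₀ C hF)) ∩ perp (nz D) (pt C hF w₀ (form_w₀ C hF)) →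
      y ∈ perp (nz D) (pt C hF v₀ (form_v₀ C hF)) ∩ perp (nz D) (pt C hF w₀ (form_w₀ C hF)) →
      z ∈ perp (nz D) (pt C hF v₀ (form_v₀ C hF)) ∩ perp (nz D) (pt C hF w₀ (form_w₀ C hF)) →
      r x y → Commute x z → Commute y z)
    (g : Cfsg.PSU 6 F 2) (hga : g * pt C hF v₀ (form_v₀ C hF) * g⁻¹ = pt C hF w₀ (form_w₀ C hF))
    (hgb : g * pt C hF w₀ (form_w₀ C hF) * g⁻¹ = pt C hF v₀ (form_v₀ C hF))
    (hg : ∀ x ∈ perp (nz D) (pt C hF v₀ (form_v₀ C hF)) ∩ perp (nz D) (pt C hF w₀ (form_w₀ C hF)),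
      r x (g * x * g⁻¹)) : False := by
  classical
  set a := pt C hF v₀ (form_v₀ C hF)
  set b := pt C hF w₀ (form_w₀ C hF)
  set S := perp (nz D) a ∩ perp (nz D) b with hS
  let P : F × F → Cfsg.PSU 6 F 2 := fun p => pt C hF (plv p) (form_plv C hF p p).1
  have hP : ∀ p, P p ∈ S := fun p => by
    refine ⟨⟨pt_mem C hF h hne _ _ (plv_ne p), fun e => ?_, ((pt_commute C hF v₀_ne).2 (form_plv C hF p p).2.1).symm⟩,
      pt_mem C hF h hne _ _ (plv_ne p), fun e => ?_, ((pt_commute C hF w₀_ne).2 (form_plv C hF p p).2.2.1).symm⟩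
    · obtain ⟨t, -, et⟩ := (pt_eq_iff C hF (plv_ne p)).1 e
      exact one_ne_zero (α := F) (by simpa [plv, v₀] using congrFun et 4)
    · obtain ⟨t, -, et⟩ := (pt_eq_iff C hF (plv_ne p)).1 e
      exact one_ne_zero (α := F) (by simpa [plv, w₀] using congrFun et 4)
  have hPi : Function.Injective P := fun p q e => by
    obtain ⟨t, -, et⟩ := (pt_eq_iff C hF (plv_ne p)).1 e
    have h4 := congrFun et 4
    simp [plv] at h4
    rw [← h4, one_smul] at et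
    exact Prod.ext (congrFun et 0) (congrFun et 2)
  obtain ⟨A, rfl⟩ := QuotientGroup.mk'_surjective (Subgroup.center ↥(Cfsg.SU 6 F 2)) g
  rw [pr_conj_pt] at hga hgb
  obtain ⟨ξ, hξ, eξ⟩ := (pt_eq_iff C hF (su_mulVec_ne_zero A v₀_ne)).1 hga
  obtain ⟨ζ, hζ, eζ⟩ := (pt_eq_iff C hF (su_mulVec_ne_zero A w₀_ne)).1 hgb
  have conj_perp : ∀ x ∈ S, pr A * x * (pr A)⁻¹ ∈ S := fun x hx => by
    have ea : pr A * a * (pr A)⁻¹ = b := (pr_conj_pt C hF A _ _).trans hga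
    have eb : pr A * b * (pr A)⁻¹ = a := (pr_conj_pt C hF A _ _).trans hgb
    obtain ⟨⟨h1, h2, h3⟩, -, h5, h6⟩ := hx
    have hm := nz_conj h (pr A) h1
    refine ⟨⟨hm, fun e => h5 ?_, ?_⟩, hm, fun e => h2 ?_, ?_⟩
    · rw [← eb] at e; simpa using e
    · rw [← eb]; exact (Commute.conj_iff _).2 h6
    · rw [← ea] at e; simpa using e
    · rw [← ea]; exact (Commute.conj_iff _).2 h3
  -- the plane is preserved
  have hAy : A.1.1 *ᵥ plv 0 = (A.1.1 *ᵥ plv 0) 0 • v₀ + (A.1.1 *ᵥ plv 0) 2 • w₀ + (A.1.1 *ᵥ plv 0) 4 • plv 0 := by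
    generalize hy : A.1.1 *ᵥ (plv 0 : V) = y
    have horth : ∀ q, C.form y (plv q) = 0 := fun q => by
      have hc := hcom _ _ _ (hP 0) (conj_perp _ (hP 0)) (hP q) (hg _ (hP 0))
        ((pt_commute C hF (plv_ne q)).2 (form_plv C hF 0 q).1)
      rw [pr_conj_pt, pt_commute C hF (plv_ne q)] at hc
      rw [← hy]; exact hc
    have o0 := horth 0
    have o1 := horth (1, 0)
    have o2 := horth (0, 1)
    simp [form_six, plv] at o0 o1 o2
    funext i
    fin_cases i <;> simp [v₀, w₀, plv]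
    · linear_combination o1 - o0 - y 0 * one_add_one hF
    · linear_combination o2 - o0 - y 2 * one_add_one hF
    · linear_combination o0 - y 4 * one_add_one hF
  obtain ⟨x0, x2, η, hAy⟩ : ∃ x0 x2 η : F, A.1.1 *ᵥ plv 0 = x0 • v₀ + x2 • w₀ + η • plv 0 := ⟨_, _, _, hAy⟩
  have hη : η ≠ 0 := by
    intro e
    rw [e, zero_smul, add_zero] at hAy
    have e2 := congrArg ((A⁻¹).1.1 *ᵥ ·) hAy
    simp only [su_inv_mulVec, Matrix.mulVec_add, Matrix.mulVec_smul] at e2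
    have i1 : (A⁻¹).1.1 *ᵥ v₀ = ζ⁻¹ • (w₀ : V) := by
      conv_rhs => rw [← su_inv_mulVec A w₀, eζ, Matrix.mulVec_smul, inv_smul_smul₀ hζ]
    have i2 : (A⁻¹).1.1 *ᵥ w₀ = ξ⁻¹ • (v₀ : V) := by
      conv_rhs => rw [← su_inv_mulVec A v₀, eξ, Matrix.mulVec_smul, inv_smul_smul₀ hξ]
    rw [i1, i2] at e2
    exact one_ne_zero (α := F) (by simpa [plv, v₀, w₀] using congrFun e2 4)
  obtain ⟨ω, hω0, hω1, hω2, hω3, hωb⟩ := exists_omega hF
  have hb1 : C.bar ω = ω ^ 2 := C.bar_eq ω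
  -- scaling
  let kd : Fin 6 → F := ![ω, ω, ω ^ 2, ω ^ 2, 1, 1]
  have hkn : ∀ i, kd i * C.bar (kd i) = 1 := fun i => by
    fin_cases i <;> simp [kd, hb1] <;>
      first
        | linear_combination hω3
        | linear_combination (ω ^ 3 + 1) * hω3
  let k : ↥(Cfsg.SU 6 F 2) := C.mkSU (Matrix.diagonal kd) (by
      rw [Matrix.det_diagonal, Fin.prod_univ_six]; simp [kd]; linear_combination (ω ^ 3 + 1) * hω3) fun u v => by
    simp only [UCtx.form, Matrix.mulVec_diagonal, map_mul]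
    exact Finset.sum_congr rfl fun i _ => by linear_combination u i * C.bar (v i) * hkn i
  have kv : ∀ x, k.1.1 *ᵥ x = fun i => kd i * x i := fun x => funext fun i => Matrix.mulVec_diagonal kd x i
  have k1 : k.1.1 *ᵥ v₀ = ω • v₀ := by rw [kv]; funext i; fin_cases i <;> simp [kd, v₀]
  have k2 : k.1.1 *ᵥ w₀ = ω ^ 2 • w₀ := by rw [kv]; funext i; fin_cases i <;> simp [kd, w₀]
  have k3 : k.1.1 *ᵥ plv 0 = plv 0 := by rw [kv]; funext i; fin_cases i <;> simp [kd, plv]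
  have kP : ∀ p : F × F, k.1.1 *ᵥ plv p = plv (ω * p.1, ω ^ 2 * p.2) := fun p => by
    rw [kv]; funext i; fin_cases i <;> simp [kd, plv]
  have kfix : pr k * a * (pr k)⁻¹ = a ∧ pr k * b * (pr k)⁻¹ = b :=
    ⟨(pr_conj_pt C hF k _ _).trans (pt_smul C hF hω0 k1),
      (pr_conj_pt C hF k _ _).trans (pt_smul C hF (pow_ne_zero 2 hω0) k2)⟩
  -- translations
  let z : V := ![0, 0, 0, 0, ω, ω ^ 2]
  have hzz : C.form z z = 0 := by
    simp [form_six, z, hb1]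
    linear_combination one_add_one hF + (ω ^ 3 + 2) * hω3
  have hyz : C.form (plv 0 : V) z = 1 := by
    simp [form_six, plv, z, hb1]
    linear_combination hω2 + ω * hω3 - one_add_one hF
  have htrans : ∀ s : F × F, ∃ T : ↥(Cfsg.SU 6 F 2), (pr T * a * (pr T)⁻¹ = a ∧ pr T * b * (pr T)⁻¹ = b) ∧
      ∀ p, T.1.1 *ᵥ plv p = plv (p + s) := by
    intro s
    set d : V := s.1 • v₀ + s.2 • w₀ with hd
    have f1 : C.form z (v₀ : V) = 0 ∧ C.form z (w₀ : V) = 0 ∧ C.form (v₀ : V) z = 0 ∧ C.form (w₀ : V) z = 0 := by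
      refine ⟨?_, ?_, ?_, ?_⟩ <;> simp [form_six, z, v₀, w₀]
    have f2 : C.form (w₀ : V) v₀ = 0 := C.form_swap_zero (form_plv C hF 0 0).2.2.2
    have hdv : ∀ x : V, C.form x v₀ = 0 → C.form x w₀ = 0 → C.form x d = 0 := fun x r1 r2 => by
      rw [hd, C.form_add_right, C.form_smul_right, C.form_smul_right, r1, r2]; simp
    have zd : C.form z d = 0 := hdv z f1.1 f1.2.1
    have dd : C.form d d = 0 := by
      refine hdv d ?_ ?_ <;> simp [hd, C.form_add_left, C.form_smul_left, form_v₀ C hF, form_w₀ C hF, f2,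
        (form_plv C hF 0 0).2.2.2]
    have vd : C.form (v₀ : V) d = 0 := hdv _ (form_v₀ C hF) (form_plv C hF 0 0).2.2.2
    have wd : C.form (w₀ : V) d = 0 := hdv _ f2 (form_w₀ C hF)
    have yd : C.form (plv 0 : V) d = 0 := hdv _ (form_plv C hF 0 0).2.1 (form_plv C hF 0 0).2.2.1
    have hzd : C.form (z + d) (z + d) = 0 := by
      simp [C.form_add_left, C.form_add_right, hzz, zd, C.form_swap_zero zd, dd]
    let T := tr1 C hF (z + d) hzd * tr1 C hF z hzz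
    have hTx : ∀ x, C.form x z = 0 → C.form x d = 0 → T.1.1 *ᵥ x = x := fun x r1 r2 => by
      rw [suMat_mulVec_mul, tr1_mulVec, tr1_mulVec, r1, zero_smul, add_zero, C.form_add_right, r1, r2]; simp
    have Tv := hTx v₀ f1.2.2.1 vd
    have Tw := hTx w₀ f1.2.2.2 wd
    have Ty : T.1.1 *ᵥ plv 0 = plv 0 + d := by
      have e1 : C.form (plv 0 + z) (z + d) = 1 := by
        rw [C.form_add_left, C.form_add_right (u := (plv 0 : V)) (v := z) (v' := d), C.form_add_right (u := z) (v := z) (v' := d),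
          hyz, yd, hzz, zd, add_zero, add_zero, add_zero]
      rw [suMat_mulVec_mul, tr1_mulVec, tr1_mulVec, hyz, one_smul, e1, one_smul]
      rw [show plv 0 + z + (z + d) = plv 0 + (z + z) + d by abel, add_same hF, add_zero]
    refine ⟨T, ⟨(pr_conj_pt C hF T _ _).trans (pt_congr C hF Tv), (pr_conj_pt C hF T _ _).trans (pt_congr C hF Tw)⟩,
      fun p => ?_⟩
    rw [plv_eq p, Matrix.mulVec_add, Matrix.mulVec_add, Matrix.mulVec_smul, Matrix.mulVec_smul, Tv, Tw, Ty, hd,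
      plv_eq (p + s)]
    simp only [Prod.fst_add, Prod.snd_add]
    module
  have act : ∀ (M : ↥(Cfsg.SU 6 F 2)) (p q : F × F), M.1.1 *ᵥ plv p = plv q → pr M * P p * (pr M)⁻¹ = P q :=
    fun M p q e => (pr_conj_pt C hF M _ _).trans (pt_congr C hF e)
  have hconjK : ∀ q : Cfsg.PSU 6 F 2, q * a * q⁻¹ = a → q * b * q⁻¹ = b → ∀ x ∈ S, q * x * q⁻¹ ∈ S := by
    intro q qa qb x hx
    obtain ⟨⟨h1, h2, h3⟩, -, h5, h6⟩ := hx
    have hm := nz_conj h q h1
    refine ⟨⟨hm, fun e => h2 ?_, ?_⟩, hm, fun e => h5 ?_, ?_⟩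
    · rw [← qa] at e; simpa using e
    · rw [← qa]; exact (Commute.conj_iff _).2 h3
    · rw [← qb] at e; simpa using e
    · rw [← qb]; exact (Commute.conj_iff _).2 h6
  -- the commutator fixes every class
  have i1 : (A⁻¹).1.1 *ᵥ v₀ = ζ⁻¹ • (w₀ : V) := by
    conv_rhs => rw [← su_inv_mulVec A w₀, eζ, Matrix.mulVec_smul, inv_smul_smul₀ hζ]
  have i2 : (A⁻¹).1.1 *ᵥ w₀ = ξ⁻¹ • (v₀ : V) := by
    conv_rhs => rw [← su_inv_mulVec A v₀, eξ, Matrix.mulVec_smul, inv_smul_smul₀ hξ]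
  have hAinv : (A⁻¹).1.1 *ᵥ plv 0 = η⁻¹ • plv 0 - (η⁻¹ * x0 * ζ⁻¹) • w₀ - (η⁻¹ * x2 * ξ⁻¹) • v₀ := by
    have e2 := congrArg ((A⁻¹).1.1 *ᵥ ·) hAy
    simp only [su_inv_mulVec, Matrix.mulVec_add, Matrix.mulVec_smul, i1, i2] at e2
    conv_rhs => rw [e2]
    simp only [smul_add, smul_smul, inv_mul_cancel₀ hη, one_smul, ← mul_assoc]
    abel
  set N := A * k * A⁻¹ with hN
  have hNP : ∃ c₁ c₂ : F, ∀ p : F × F, N.1.1 *ᵥ plv p = plv (ω ^ 2 * p.1 + c₁, ω * p.2 + c₂) := by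
    refine ⟨η⁻¹ * x0 - η⁻¹ * x0 * ω ^ 2, η⁻¹ * x2 - η⁻¹ * x2 * ω, fun p => ?_⟩
    have hy : N.1.1 *ᵥ plv 0 = plv 0 + (η⁻¹ * x0 - η⁻¹ * x0 * ω ^ 2) • v₀ + (η⁻¹ * x2 - η⁻¹ * x2 * ω) • w₀ := by
      rw [hN, suMat_mulVec_mul, suMat_mulVec_mul, hAinv]
      simp only [Matrix.mulVec_sub, Matrix.mulVec_smul, k1, k2, k3, eξ, eζ, hAy, smul_smul, smul_add]
      funext i
      fin_cases i <;> simp [plv, v₀, w₀] <;> field_simp <;> ring
    have hv : N.1.1 *ᵥ v₀ = ω ^ 2 • (v₀ : V) := by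
      rw [hN, suMat_mulVec_mul, suMat_mulVec_mul, i1, Matrix.mulVec_smul, k2, Matrix.mulVec_smul,
        Matrix.mulVec_smul, eζ, smul_smul, smul_smul]
      congr 1
      field_simp
    have hw : N.1.1 *ᵥ w₀ = ω • (w₀ : V) := by
      rw [hN, suMat_mulVec_mul, suMat_mulVec_mul, i2, Matrix.mulVec_smul, k1, Matrix.mulVec_smul,
        Matrix.mulVec_smul, eξ, smul_smul, smul_smul]
      congr 1
      field_simp
    conv_lhs => rw [plv_eq p, Matrix.mulVec_add, Matrix.mulVec_add, Matrix.mulVec_smul, Matrix.mulVec_smul, hv, hw, hy]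
    rw [plv_eq (ω ^ 2 * p.1 + _, ω * p.2 + _)]
    module
  obtain ⟨c₁, c₂, hNP⟩ := hNP
  -- scaled points are related
  have key : ∀ p : F × F, r (P (ω * p.1, ω ^ 2 * p.2)) (P (ω ^ 2 * p.1 + c₁, ω * p.2 + c₂)) := by
    intro p
    have hx : (pr A)⁻¹ * P p * pr A ∈ S := by
      obtain ⟨⟨h1, h2, h3⟩, -, h5, h6⟩ := hP p
      have ea : (pr A)⁻¹ * b * pr A = a := by
        rw [show b = pr A * a * (pr A)⁻¹ from ((pr_conj_pt C hF A _ _).trans hga).symm]; group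
      have eb : (pr A)⁻¹ * a * pr A = b := by
        rw [show a = pr A * b * (pr A)⁻¹ from ((pr_conj_pt C hF A _ _).trans hgb).symm]; group
      have hm : (pr A)⁻¹ * P p * pr A ∈ nz D := by simpa using nz_conj h (pr A)⁻¹ h1
      refine ⟨⟨hm, fun e => h5 ?_, ?_⟩, hm, fun e => h2 ?_, ?_⟩
      · rw [← ea] at e; simpa using e
      · rw [← ea]; simpa using (Commute.conj_iff (pr A)⁻¹).2 h6
      · rw [← eb] at e; simpa using e
      · rw [← eb]; simpa using (Commute.conj_iff (pr A)⁻¹).2 h3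
    set x' := (pr A)⁻¹ * P p * pr A with hx'
    have e1 : pr A * x' * (pr A)⁻¹ = P p := by rw [hx']; group
    have r1 := hinv _ kfix.1 kfix.2 _ _ (hg x' hx)
    rw [e1, act k p _ (kP p)] at r1
    have r2 := hg _ (hconjK _ kfix.1 kfix.2 _ hx)
    have e2 : pr A * (pr k * x' * (pr k)⁻¹) * (pr A)⁻¹ = P (ω ^ 2 * p.1 + c₁, ω * p.2 + c₂) := by
      rw [← act N p _ (hNP p), hN, map_mul, map_mul, map_inv, hx']
      group
    rw [e2] at r2
    exact htr _ _ _ (hsym _ _ r1) r2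
  -- all sixteen are related
  have hall : ∀ s : F × F, r (P 0) (P s) := by
    intro s
    obtain ⟨p, hp⟩ : ∃ p : F × F, (ω ^ 2 * p.1 + c₁ + ω * p.1, ω * p.2 + c₂ + ω ^ 2 * p.2) = s :=
      ⟨(-(s.1 - c₁), -(s.2 - c₂)), Prod.ext (by simp only; linear_combination -(s.1 - c₁) * hω2)
        (by simp only; linear_combination -(s.2 - c₂) * hω2)⟩
    obtain ⟨T, ⟨Ta, Tb⟩, hT⟩ := htrans (ω * p.1, ω ^ 2 * p.2)
    have := hinv _ Ta Tb _ _ (key p)
    rw [act T _ _ (hT _), act T _ _ (hT _)] at this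
    rw [show ((ω * p.1, ω ^ 2 * p.2) : F × F) + (ω * p.1, ω ^ 2 * p.2) = 0 from
      Prod.ext (by simp; linear_combination ω * p.1 * one_add_one hF) (by simp; linear_combination ω ^ 2 * p.2 * one_add_one hF),
      Prod.mk_add_mk, hp] at this
    exact this
  have hsub : Set.range P ⊆ {y | y ∈ S ∧ r (P 0) y} := by
    rintro _ ⟨s, rfl⟩; exact ⟨hP s, hall s⟩
  have := (Set.ncard_le_ncard hsub (Set.toFinite _)).trans (hsmall _ (hP 0))
  rw [Set.ncard_range_of_injective hPi, Nat.card_prod, Nat.card_eq_fintype_card, hF] at this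
  omega

end CfsgLib.Spor.Tri.Level.U6
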