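/-
The centralizer of a transvection of `PSU(6, 4)`: a special 2-group extended by `SU(4, 4)`.
-/
import Cfsg.Agent.Lib.Spor.Tri.U6Facts
import Cfsg.Agent.Lib.Spor.Tri.U6Stab
import Cfsg.Agent.Lib.SU.BalanceBase
import Cfsg.Agent.Lib.Spor.Tri.LevelOrder

set_option linter.all false

namespace CfsgLib.Spor.Tri.Level

open Matrix CfsgLib.SU CfsgLib.Spor.Tri CfsgLib.Spor.Tri.Relations

/-- What is needed about the centralizer of a transvection `a`. -/
def PointData {X : Type*} [Group X] (D : Set X) (a : X) (F : Type) [Field F] [Fintype F] : Prop :=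
  ∃ ρ : ↥(Subgroup.centralizer ({a} : Set X)) →* ↥(Cfsg.SU 4 F 2),
    Function.Surjective ρ ∧ Nat.card ρ.ker = 512 ∧
    (∀ q ∈ ρ.ker, (q : X) * q = 1 ∨ (q : X) * q = a) ∧
    (∀ q ∈ ρ.ker, ∀ r ∈ ρ.ker, (q : X) * r = r * q ∨ (q : X) * r = r * q * a) ∧
    (∀ q ∈ ρ.ker, (∀ r ∈ ρ.ker, (q : X) * r = r * q) → (q : X) = 1 ∨ (q : X) = a) ∧
    ∀ (u : ↥(Subgroup.centralizer ({a} : Set X))), (u : X) ∈ perp D a → ρ u ≠ 1 ∧
      {u' | u' ∈ perp D a ∧ ∃ hu' : u' ∈ Subgroup.centralizer ({a} : Set X), ρ ⟨u', hu'⟩ = ρ u}.ncard ≤ 4 ∧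
      (∀ u' : ↥(Subgroup.centralizer ({a} : Set X)), (u' : X) ∈ perp D a → ρ u' = ρ u →
        Commute (u : X) (u' : X) ∧ ∃ q ∈ ρ.ker, (q : X) * u * (q : X)⁻¹ = u') ∧
      ∃ q ∈ ρ.ker, (q : X) * u * (q : X)⁻¹ ≠ u

namespace U6

variable {F : Type} [Field F] [Fintype F] (C : UCtx F 2) (hF : Fintype.card F = 4)

local notation "V" => (Fin 6 → F)

variable {D : Set (Cfsg.PSU 6 F 2)}

/-- The stabilizer of the first isotropic vector. -/
def fixv : Subgroup ↥(Cfsg.SU 6 F 2) where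
  carrier := {A | A.1.1 *ᵥ v₀ = v₀}
  one_mem' := su_one_mulVec _
  mul_mem' {A B} hA hB := by
    show (A * B).1.1 *ᵥ v₀ = v₀
    rw [suMat_mulVec_mul, hB, hA]
  inv_mem' {A} hA := by
    show (A⁻¹).1.1 *ᵥ v₀ = v₀
    conv_lhs => rw [← hA]
    exact su_inv_mulVec _ _

/-- The block on the last four coordinates. -/
def sub4 (A : ↥(Cfsg.SU 6 F 2)) : Matrix (Fin 4) (Fin 4) F :=
  A.1.1.submatrix (fun i => i.succ.succ) (fun i => i.succ.succ)

theorem ext4_add (x y : Fin 4 → F) : (ext4 (x + y) : V) = ext4 x + ext4 y := by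
  funext i; fin_cases i <;> simp [ext4]

theorem ext4_smul (s : F) (x : Fin 4 → F) : (ext4 (s • x) : V) = s • ext4 x := by
  funext i; fin_cases i <;> simp [ext4]

theorem ext4_zero : (ext4 (0 : Fin 4 → F) : V) = 0 := by
  funext i; fin_cases i <;> simp [ext4]

theorem ext4_inj {s t : F} {x y : Fin 4 → F} (e : s • (v₀ : V) + ext4 x = t • (v₀ : V) + ext4 y) :
    s = t ∧ x = y := by
  refine ⟨by simpa [v₀, ext4] using congrFun e 0, funext fun i => ?_⟩
  have h2 := congrFun e 2; have h3 := congrFun e 3; have h4 := congrFun e 4; have h5 := congrFun e 5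
  simp [v₀, ext4] at h2 h3 h4 h5
  fin_cases i <;> assumption

theorem form_v₀_ext4 (x : Fin 4 → F) : C.form (v₀ : V) (ext4 x) = 0 ∧ C.form (ext4 x) (v₀ : V) = 0 := by
  constructor <;> simp [form_six, v₀, ext4]

theorem form_e₀ (x : Fin 4 → F) : C.form (ext4 x) (e₀ : V) = 0 ∧ C.form (e₀ : V) (ext4 x) = 0 ∧
    C.form (v₀ : V) (e₀ : V) = 1 ∧ C.form (e₀ : V) (v₀ : V) = 1 ∧ C.form (e₀ : V) (e₀ : V) = 1 := by
  refine ⟨?_, ?_, ?_, ?_, ?_⟩ <;> simp [form_six, e₀, v₀, ext4]

include C hF in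
theorem fix_ext4 {A : ↥(Cfsg.SU 6 F 2)} (hA : A.1.1 *ᵥ v₀ = v₀) (x : Fin 4 → F) :
    A.1.1 *ᵥ ext4 x = (A.1.1 *ᵥ ext4 x) 0 • v₀ + ext4 (sub4 A *ᵥ x) := by
  have h := C.form_su A (ext4 x) v₀
  rw [hA, (form_v₀_ext4 C x).2] at h
  generalize hy : A.1.1 *ᵥ ext4 x = y at h ⊢
  have h01 : y 1 = y 0 := by
    simp [form_six, v₀] at h
    linear_combination h - y 0 * one_add_one hF
  funext i
  fin_cases i
  · simp [v₀, ext4]
  · simpa [v₀, ext4] using h01
  all_goals (rw [← hy]; simp [v₀, ext4, sub4, mulVec_six, mulVec_four])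

include C hF in
theorem sub4_form {A : ↥(Cfsg.SU 6 F 2)} (hA : A.1.1 *ᵥ v₀ = v₀) (x y : Fin 4 → F) :
    C.form (sub4 A *ᵥ x) (sub4 A *ᵥ y) = C.form x y := by
  have h := C.form_su A (ext4 x) (ext4 y)
  rw [fix_ext4 C hF hA x, fix_ext4 C hF hA y] at h
  simp only [C.form_add_left, C.form_add_right, C.form_smul_left, C.form_smul_right, form_v₀ C hF,
    (form_v₀_ext4 C _).1, (form_v₀_ext4 C _).2, form_ext4, mul_zero, zero_add] at h
  exact h

include C hF in
theorem sub4_mul {A B : ↥(Cfsg.SU 6 F 2)} (hA : A.1.1 *ᵥ v₀ = v₀) (hB : B.1.1 *ᵥ v₀ = v₀) :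
    sub4 (A * B) = sub4 A * sub4 B := by
  refine Matrix.ext_iff_mulVec.2 fun x => ?_
  have hAB : (A * B).1.1 *ᵥ v₀ = v₀ := by rw [suMat_mulVec_mul, hB, hA]
  have e := fix_ext4 C hF hAB x
  generalize ((A * B).1.1 *ᵥ ext4 x) 0 = s at e
  rw [suMat_mulVec_mul, fix_ext4 C hF hB x] at e
  rw [Matrix.mulVec_add, Matrix.mulVec_smul, hA, fix_ext4 C hF hA (sub4 B *ᵥ x), ← add_assoc, ← add_smul] at e
  rw [← Matrix.mulVec_mulVec]
  exact (ext4_inj e).2.symm

theorem sub4_one : sub4 (1 : ↥(Cfsg.SU 6 F 2)) = 1 := by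
  show (1 : Matrix (Fin 6) (Fin 6) F).submatrix _ _ = 1
  exact Matrix.submatrix_one _ fun i j e => Fin.succ_injective _ (Fin.succ_injective _ e)

/-- The block as a homomorphism. -/
noncomputable def blockHom : ↥(fixv (F := F)) →* ↥(Cfsg.GU 4 F 2) :=
  let M : ↥(fixv (F := F)) →* Matrix (Fin 4) (Fin 4) F :=
    { toFun := fun A => sub4 A.1
      map_one' := sub4_one
      map_mul' := fun A B => sub4_mul C hF A.2 B.2 }
  MonoidHom.mk' (fun A => ⟨M.toHomUnits A, C.mem_gu_iff.2 fun x y => sub4_form C hF A.2 x y⟩)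
    fun A B => Subtype.ext (map_mul M.toHomUnits A B)

theorem blockHom_val (A : ↥(fixv (F := F))) : (blockHom C hF A).1.1 = sub4 A.1 := rfl

include C hF in
theorem card_small : Nat.card ↥(Cfsg.GU 4 F 2) = 77760 ∧ Nat.card ↥(Cfsg.SU 4 F 2) = 25920 := by
  constructor
  · rw [CfsgLib.Classical.card_gu_formula C (by rw [hF]; norm_num) 4]
    decide
  · rw [CfsgLib.SU.SemisimpleCentral.card_su C (by rw [hF]; norm_num) (by norm_num)]
    decide

include C hF in
theorem card_cent_pt (h : Pre D) (hne : (nz D).Nonempty) :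
    Nat.card ↥(Subgroup.centralizer ({pt C hF v₀ (form_v₀ C hF)} : Set (Cfsg.PSU 6 F 2))) = 13271040 := by
  have L := lev C hF h hne
  have e := card_eq_mul L.hyp (pt_mem C hF h hne _ (form_v₀ C hF) v₀_ne)
  rw [L.card, card_psu_six hF] at e
  omega

include C hF in
theorem pr_fixv_mem {A : ↥(Cfsg.SU 6 F 2)} (hA : A.1.1 *ᵥ v₀ = v₀) :
    pr A ∈ Subgroup.centralizer ({pt C hF v₀ (form_v₀ C hF)} : Set (Cfsg.PSU 6 F 2)) := by
  rw [Subgroup.mem_centralizer_singleton_iff, ← mul_inv_eq_iff_eq_mul, pr_conj_pt]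
  exact pt_congr C hF hA

/-- The projection of the stabilizer. -/
noncomputable def fixPr : ↥(fixv (F := F)) →*
    ↥(Subgroup.centralizer ({pt C hF v₀ (form_v₀ C hF)} : Set (Cfsg.PSU 6 F 2))) :=
  ((pr).comp (fixv (F := F)).subtype).codRestrict _ fun A => pr_fixv_mem C hF A.2

theorem fixPr_bij : Function.Bijective (fixPr C hF) := by
  constructor
  · intro A B e
    obtain ⟨s, hs⟩ := pr_eq_imp C (by norm_num) (show pr A.1 = pr B.1 from congrArg Subtype.val e)
    have e2 := congrArg (fun M => M *ᵥ (v₀ : V)) hs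
    simp only [Matrix.smul_mulVec] at e2
    rw [show A.1.1.1 *ᵥ (v₀ : V) = v₀ from A.2, show B.1.1.1 *ᵥ (v₀ : V) = v₀ from B.2] at e2
    have hs1 : s = 1 := by simpa [v₀] using (congrFun e2 0).symm
    rw [hs1, one_smul] at hs
    exact Subtype.ext (Subtype.ext (Subtype.ext hs))
  · rintro ⟨g, hg⟩
    obtain ⟨A, rfl⟩ := QuotientGroup.mk'_surjective (Subgroup.center ↥(Cfsg.SU 6 F 2)) g
    have e : pr A * pt C hF v₀ (form_v₀ C hF) * (pr A)⁻¹ = pt C hF v₀ (form_v₀ C hF) := by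
      rw [mul_inv_eq_iff_eq_mul]; exact Subgroup.mem_centralizer_singleton_iff.1 hg
    rw [pr_conj_pt] at e
    obtain ⟨s, hs, es⟩ := (pt_eq_iff C hF (su_mulVec_ne_zero A v₀_ne)).1 e
    have hn := Relations.norm_one C hF (inv_ne_zero hs)
    have hs6 : (s : F)⁻¹ ^ 6 = 1 := by
      have := FiniteField.pow_card_sub_one_eq_one s⁻¹ (inv_ne_zero hs)
      rw [hF] at this
      linear_combination (s⁻¹ ^ 3 + 1) * this
    let S : ↥(Cfsg.SU 6 F 2) := C.mkSU ((s : F)⁻¹ • 1) (by simpa using hs6) fun u v => by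
      simp only [Matrix.smul_mulVec, Matrix.one_mulVec, C.form_smul_left, C.form_smul_right]
      linear_combination C.form u v * hn
    have hSA : (S * A).1.1 *ᵥ v₀ = v₀ := by
      rw [suMat_mulVec_mul, es, UCtx.mkSU_val, Matrix.smul_mulVec, Matrix.one_mulVec, inv_smul_smul₀ hs]
    refine ⟨⟨S * A, hSA⟩, Subtype.ext ?_⟩
    show pr (S * A) = _
    rw [map_mul, pr_eq_one_of_scalar (by norm_num) (C.mkSU_val _ _ _), one_mul]

/-- The stabilizer is the centralizer. -/
noncomputable def fixEquiv : ↥(fixv (F := F)) ≃*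
    ↥(Subgroup.centralizer ({pt C hF v₀ (form_v₀ C hF)} : Set (Cfsg.PSU 6 F 2))) :=
  MulEquiv.ofBijective (fixPr C hF) (fixPr_bij C hF)

include C hF in
theorem block_range (h : Pre D) (hne : (nz D).Nonempty) :
    (∀ A : ↥(fixv (F := F)), (sub4 A.1).det = 1) ∧
      (∀ B : ↥(Cfsg.SU 4 F 2), ∃ A : ↥(fixv (F := F)), sub4 A.1 = B.1.1) := by
  obtain ⟨cG, cS⟩ := card_small C hF
  have hcard : Nat.card ↥(fixv (F := F)) = 13271040 := by
    rw [Nat.card_congr (fixEquiv C hF).toEquiv]; exact card_cent_pt C hF h hne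
  have hsurj : ∀ B : ↥(Cfsg.SU 4 F 2), ∃ A : ↥(fixv (F := F)), sub4 A.1 = B.1.1 := by
    intro B
    obtain ⟨A, -, q0, q1, q4⟩ := block_mem C hF h hne B
    have hA : A.1.1 *ᵥ v₀ = v₀ := by
      rw [show (v₀ : V) = e₀ + e₁ by funext i; fin_cases i <;> simp [v₀, e₀, e₁], Matrix.mulVec_add, q0, q1]
    refine ⟨⟨A, hA⟩, Matrix.ext_iff_mulVec.2 fun x => ?_⟩
    have e := fix_ext4 C hF hA x
    generalize (A.1.1 *ᵥ ext4 x) 0 = s at e
    rw [q4, show ext4 (B.1.1 *ᵥ x) = (0 : F) • v₀ + ext4 (B.1.1 *ᵥ x) by rw [zero_smul, zero_add]] at e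
    exact (ext4_inj e).2.symm
  refine ⟨fun A => ?_, hsurj⟩
  let i : ↥(Cfsg.SU 4 F 2) →* ↥(Cfsg.GU 4 F 2) := MonoidHom.mk' toGU toGU_mul
  have hi : Function.Injective i := fun x y e =>
    Subtype.ext (Subtype.ext (congrArg (fun g : ↥(Cfsg.GU 4 F 2) => g.1.1) e))
  have hle : i.range ≤ (blockHom C hF).range := by
    rintro _ ⟨B, rfl⟩
    obtain ⟨A, hA⟩ := hsurj B
    exact ⟨A, Subtype.ext (Units.ext hA)⟩
  have c1 : Nat.card i.range = 25920 := (Nat.card_congr (MonoidHom.ofInjective hi).toEquiv).symm.trans cS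
  have d1 := Subgroup.card_dvd_of_le hle
  have d2 := Subgroup.card_subgroup_dvd_card (blockHom C hF).range
  have d3 := Subgroup.card_eq_card_quotient_mul_card_subgroup (blockHom C hF).ker
  rw [Nat.card_congr (QuotientGroup.quotientKerEquivRange (blockHom C hF)).toEquiv, hcard] at d3
  rw [c1] at d1
  rw [cG] at d2
  obtain ⟨k, hk⟩ := d1
  rw [hk] at d2 d3
  have hk3 : k ∣ 3 := (Nat.mul_dvd_mul_iff_left (by norm_num : 0 < 25920)).1 (by simpa using d2)
  have heq : i.range = (blockHom C hF).range := by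
    refine Subgroup.eq_of_le_of_card_ge hle ?_
    rw [c1, hk]
    rcases (Nat.dvd_prime Nat.prime_three).1 hk3 with rfl | rfl
    · norm_num
    · omega
  obtain ⟨B, hB⟩ : blockHom C hF A ∈ i.range := heq ▸ ⟨A, rfl⟩
  have e : B.1.1 = sub4 A.1 := congrArg (fun g : ↥(Cfsg.GU 4 F 2) => g.1.1) hB
  rw [← e]; exact B.1.2

/-- The map onto `SU(4, 4)`. -/
noncomputable def blockSU (h : Pre D) (hne : (nz D).Nonempty) : ↥(fixv (F := F)) →* ↥(Cfsg.SU 4 F 2) :=
  MonoidHom.mk' (fun A => C.mkSU (sub4 A.1) ((block_range C hF h hne).1 A) (sub4_form C hF A.2))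
    fun A B => Subtype.ext (Subtype.ext (sub4_mul C hF A.2 B.2))

theorem blockSU_val (h : Pre D) (hne : (nz D).Nonempty) (A : ↥(fixv (F := F))) :
    (blockSU C hF h hne A).1.1 = sub4 A.1 := rfl

include C hF in
/-- An element acting trivially on the block, by its vector and scalar. -/
theorem ker_shape {A : ↥(Cfsg.SU 6 F 2)} (hA : A.1.1 *ᵥ v₀ = v₀) (h1 : sub4 A = 1) :
    ∃ (w : Fin 4 → F) (α : F), α + C.bar α + C.form w w = 0 ∧ A.1.1 *ᵥ e₀ = e₀ + α • v₀ + ext4 w ∧
      ∀ x, A.1.1 *ᵥ ext4 x = C.form x w • v₀ + ext4 x := by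
  generalize hy : A.1.1 *ᵥ (e₀ : V) = y
  have hv := C.form_su A e₀ v₀
  rw [hA, hy, (form_e₀ C 0).2.2.2.1] at hv
  have hye : y = e₀ + (y 1) • v₀ + ext4 ![y 2, y 3, y 4, y 5] := by
    funext i; fin_cases i <;> simp [e₀, v₀, ext4]
    simp [form_six, v₀] at hv
    linear_combination hv - y 1 * one_add_one hF
  set w : Fin 4 → F := ![y 2, y 3, y 4, y 5]
  set α := y 1
  refine ⟨w, α, ?_, hye, fun x => ?_⟩
  · have hs := C.form_su A e₀ e₀
    rw [hy, hye, (form_e₀ C 0).2.2.2.2] at hs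
    simp only [C.form_add_left, C.form_add_right, C.form_smul_left, C.form_smul_right, form_v₀ C hF,
      (form_v₀_ext4 C _).1, (form_v₀_ext4 C _).2, (form_e₀ C _).1, (form_e₀ C _).2.1, (form_e₀ C (0 : Fin 4 → F)).2.2.1,
      (form_e₀ C (0 : Fin 4 → F)).2.2.2.1, (form_e₀ C (0 : Fin 4 → F)).2.2.2.2, form_ext4, mul_zero, mul_one] at hs
    linear_combination hs
  · have e := fix_ext4 C hF hA x
    rw [h1, Matrix.one_mulVec] at e
    generalize hs : (A.1.1 *ᵥ ext4 x) 0 = s at e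
    rw [e]
    have hf := C.form_su A (ext4 x) e₀
    rw [hy, e, hye, (form_e₀ C x).1] at hf
    simp only [C.form_add_left, C.form_add_right, C.form_smul_left, C.form_smul_right, form_v₀ C hF,
      (form_v₀_ext4 C _).1, (form_v₀_ext4 C _).2, (form_e₀ C _).1, (form_e₀ C (0 : Fin 4 → F)).2.2.1,
      form_ext4, mul_zero, mul_one, zero_add, add_zero] at hf
    rw [show s = C.form x w by linear_combination hf - C.form x w * one_add_one hF]

theorem decomp_vec (x : V) : ∃ (r s : F) (z : Fin 4 → F), x = r • v₀ + s • e₀ + ext4 z :=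
  ⟨x 1, x 0 - x 1, ![x 2, x 3, x 4, x 5], by funext i; fin_cases i <;> simp [v₀, e₀, ext4]⟩

theorem eq_of_basis {A B : ↥(Cfsg.SU 6 F 2)} (h0 : A.1.1 *ᵥ v₀ = B.1.1 *ᵥ v₀) (h1 : A.1.1 *ᵥ e₀ = B.1.1 *ᵥ e₀)
    (h4 : ∀ x, A.1.1 *ᵥ ext4 x = B.1.1 *ᵥ ext4 x) : A = B := by
  refine su_ext fun x => ?_
  obtain ⟨r, s, z, rfl⟩ := decomp_vec x
  simp only [Matrix.mulVec_add, Matrix.mulVec_smul, h0, h1, h4]

include C hF in
theorem norm_bin (w : Fin 4 → F) : C.form w w = 0 ∨ C.form w w = 1 := fixed_cases C hF (C.form_self_fixed w)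

include C hF in
/-- The point of a vector orthogonal to the first. -/
theorem perp_shape (h : Pre D) {u : Cfsg.PSU 6 F 2} (hu : u ∈ perp (nz D) (pt C hF v₀ (form_v₀ C hF))) :
    ∃ (μ : F) (w : Fin 4 → F) (hv : C.form (μ • v₀ + ext4 w : V) (μ • v₀ + ext4 w) = 0),
      w ≠ 0 ∧ C.form w w = 0 ∧ u = pt C hF (μ • v₀ + ext4 w) hv := by
  obtain ⟨hD, hne', hc⟩ := hu
  obtain ⟨x, hx, hx0, rfl⟩ := exists_pt C hF h hD
  have ho := (pt_commute C hF hx0).1 hc
  have hxe : x = x 0 • v₀ + ext4 ![x 2, x 3, x 4, x 5] := by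
    funext i; fin_cases i <;> simp [v₀, ext4]
    simp [form_six, v₀] at ho
    have := congrArg C.bar ho
    simp [C.bar_bar] at this
    linear_combination this - x 0 * one_add_one hF
  have hw : C.form ![x 2, x 3, x 4, x 5] ![x 2, x 3, x 4, x 5] = 0 := by
    have hx' := hx
    rw [hxe] at hx'
    simpa only [C.form_add_left, C.form_add_right, C.form_smul_left, C.form_smul_right, form_v₀ C hF,
      (form_v₀_ext4 C _).1, (form_v₀_ext4 C _).2, form_ext4, mul_zero, zero_add] using hx'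
  refine ⟨x 0, ![x 2, x 3, x 4, x 5], hxe ▸ hx, fun e => ?_, hw, pt_congr C hF hxe⟩
  refine hne' ((pt_eq_iff C hF hx0).2 ⟨x 0, fun e0 => hx0 ?_, ?_⟩)
  · rw [hxe, e0, e, ext4_zero, zero_smul, add_zero]
  · conv_lhs => rw [hxe, e, ext4_zero, add_zero]

include C hF in
/-- The block of a transvection orthogonal to the first. -/
theorem sub4_tr {μ : F} {w : Fin 4 → F} (hv : C.form (μ • v₀ + ext4 w : V) (μ • v₀ + ext4 w) = 0) :
    (tr1 C hF _ hv).1.1 *ᵥ v₀ = v₀ ∧ ∀ x, sub4 (tr1 C hF _ hv) *ᵥ x = x + C.form x w • w := by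
  have h0 : (tr1 C hF _ hv).1.1 *ᵥ v₀ = v₀ := by
    rw [tr1_mulVec, C.form_add_right, C.form_smul_right, form_v₀ C hF, (form_v₀_ext4 C w).1]
    simp
  refine ⟨h0, fun x => ?_⟩
  have e := fix_ext4 C hF h0 x
  generalize ((tr1 C hF _ hv).1.1 *ᵥ ext4 x) 0 = s at e
  rw [tr1_mulVec, C.form_add_right, C.form_smul_right, (form_v₀_ext4 C x).2, mul_zero, zero_add, form_ext4] at e
  rw [show ext4 x + C.form x w • (μ • v₀ + ext4 w) = (C.form x w * μ) • v₀ + ext4 (x + C.form x w • w) by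
    rw [ext4_add, ext4_smul, smul_add, smul_smul]; abel] at e
  exact (ext4_inj e).2.symm

include C hF in
theorem point_base (h : Pre D) (hne : (nz D).Nonempty) :
    PointData (nz D) (pt C hF v₀ (form_v₀ C hF)) F := by
  classical
  haveI := Fintype.ofFinite ↥(Cfsg.SU 6 F 2)
  set a := pt C hF v₀ (form_v₀ C hF)
  set e := fixEquiv C hF
  set ρ := (blockSU C hF h hne).comp e.symm.toMonoidHom with hρ
  have hρe : ∀ A, ρ (e A) = blockSU C hF h hne A := fun A =>
    congrArg (blockSU C hF h hne) (e.symm_apply_apply A)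
  have hev : ∀ A, ((e A : ↥(Subgroup.centralizer ({a} : Set (Cfsg.PSU 6 F 2)))) : Cfsg.PSU 6 F 2) = pr A.1 := fun A => rfl
  have hsurj : Function.Surjective ρ := fun B => by
    obtain ⟨A, hA⟩ := (block_range C hF h hne).2 B
    exact ⟨e A, (hρe A).trans (Subtype.ext (Subtype.ext hA))⟩
  have hker : Nat.card ρ.ker = 512 := by
    have e1 := Subgroup.card_eq_card_quotient_mul_card_subgroup ρ.ker
    rw [Nat.card_congr (QuotientGroup.quotientKerEquivOfSurjective ρ hsurj).toEquiv, (card_small C hF).2,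
      card_cent_pt C hF h hne] at e1
    omega
  have hex : ∀ q ∈ ρ.ker, ∃ A : ↥(fixv (F := F)), e A = q ∧ sub4 A.1 = 1 := fun q hq =>
    ⟨e.symm q, e.apply_symm_apply q, congrArg (fun B : ↥(Cfsg.SU 4 F 2) => B.1.1) hq⟩
  -- products in the kernel
  have hmul : ∀ {A B : ↥(fixv (F := F))} {w w' : Fin 4 → F} {α β : F}, A.1.1.1 *ᵥ e₀ = e₀ + α • v₀ + ext4 w →
      (∀ x, A.1.1.1 *ᵥ ext4 x = C.form x w • v₀ + ext4 x) → B.1.1.1 *ᵥ e₀ = e₀ + β • v₀ + ext4 w' →
      (∀ x, B.1.1.1 *ᵥ ext4 x = C.form x w' • v₀ + ext4 x) →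
      ((A * B).1.1.1 *ᵥ e₀ = e₀ + (α + β + C.form w' w) • v₀ + ext4 (w + w')) ∧
        ∀ x, (A * B).1.1.1 *ᵥ ext4 x = C.form x (w + w') • v₀ + ext4 x := by
    intro A B w w' α β a0 a4 b0 b4
    refine ⟨?_, fun x => ?_⟩
    · show (A.1 * B.1).1.1 *ᵥ e₀ = _
      rw [suMat_mulVec_mul, b0, Matrix.mulVec_add, Matrix.mulVec_add, a0, a4, Matrix.mulVec_smul, (show A.1.1.1 *ᵥ (v₀ : V) = v₀ from A.2), ext4_add]
      module
    · show (A.1 * B.1).1.1 *ᵥ ext4 x = _
      rw [suMat_mulVec_mul, b4, Matrix.mulVec_add, Matrix.mulVec_smul, (show A.1.1.1 *ᵥ (v₀ : V) = v₀ from A.2), a4, C.form_add_right]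
      module
  set T : ↥(fixv (F := F)) := e.symm ⟨a, Subgroup.mem_centralizer_singleton_iff.2 rfl⟩ with hT
  have hTv : T.1 = tr1 C hF v₀ (form_v₀ C hF) := by
    have h0 : (tr1 C hF v₀ (form_v₀ C hF)).1.1 *ᵥ v₀ = v₀ := by
      rw [tr1_mulVec, form_v₀ C hF, zero_smul, add_zero]
    have : T = ⟨_, h0⟩ := e.injective (Subtype.ext (by rw [hT, e.apply_symm_apply]; rfl))
    rw [this]
  have hT0 : T.1.1.1 *ᵥ e₀ = e₀ + (1 : F) • v₀ + ext4 (0 : Fin 4 → F) := by
    rw [hTv, tr1_mulVec, (form_e₀ C (0 : Fin 4 → F)).2.2.2.1, ext4_zero, add_zero]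
  have hT4 : ∀ x, T.1.1.1 *ᵥ ext4 x = C.form x 0 • v₀ + ext4 x := fun x => by
    rw [hTv, tr1_mulVec, (form_v₀_ext4 C x).2, C.form_zero_right]; simp
  have h1 : ((1 : ↥(fixv (F := F)))).1.1.1 *ᵥ e₀ = e₀ + (0 : F) • v₀ + ext4 (0 : Fin 4 → F) := by
    rw [show ((1 : ↥(fixv (F := F)))).1.1.1 *ᵥ (e₀ : V) = e₀ from su_one_mulVec _, ext4_zero]; simp
  have h14 : ∀ x, ((1 : ↥(fixv (F := F)))).1.1.1 *ᵥ ext4 x = C.form x 0 • v₀ + ext4 x := fun x => by
    rw [show ((1 : ↥(fixv (F := F)))).1.1.1 *ᵥ (ext4 x : V) = ext4 x from su_one_mulVec _, C.form_zero_right]; simp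
  have heq : ∀ {A B : ↥(fixv (F := F))} {w : Fin 4 → F} {α : F}, A.1.1.1 *ᵥ e₀ = e₀ + α • v₀ + ext4 w →
      (∀ x, A.1.1.1 *ᵥ ext4 x = C.form x w • v₀ + ext4 x) → B.1.1.1 *ᵥ e₀ = e₀ + α • v₀ + ext4 w →
      (∀ x, B.1.1.1 *ᵥ ext4 x = C.form x w • v₀ + ext4 x) → A = B := fun {A B _ _} a0 a4 b0 b4 =>
    Subtype.ext (eq_of_basis ((show A.1.1.1 *ᵥ (v₀ : V) = v₀ from A.2).trans (show B.1.1.1 *ᵥ (v₀ : V) = v₀ from B.2).symm) (a0.trans b0.symm) fun x => (a4 x).trans (b4 x).symm)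
  have hbin : ∀ {α : F}, α + C.bar α = 0 → α = 0 ∨ α = 1 := fun {α} hα => fixed_cases C hF (by
    linear_combination hα - α * one_add_one hF)
  -- every vector occurs
  have hall : ∀ w : Fin 4 → F, ∃ (A : ↥(fixv (F := F))) (α : F), sub4 A.1 = 1 ∧
      A.1.1.1 *ᵥ e₀ = e₀ + α • v₀ + ext4 w ∧ ∀ x, A.1.1.1 *ᵥ ext4 x = C.form x w • v₀ + ext4 x := by
    choose A hAe hA1 using hex
    choose w α hα a0 a4 using fun q hq => ker_shape C hF (A q hq).2 (hA1 q hq)
    have hc : ∀ w : Fin 4 → F, ∃ α : F, α + C.bar α + C.form w w = 0 := fun w => by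
      obtain ⟨x, hx⟩ := C.exists_trace (c := C.form w w) (C.form_self_fixed w)
      exact ⟨x, by linear_combination hx + C.form w w * one_add_one hF⟩
    choose ch hch using hc
    let φ : ↥ρ.ker → (Fin 4 → F) × Bool := fun q => (w q.1 q.2, decide (α q.1 q.2 = ch (w q.1 q.2)))
    have hφ : Function.Injective φ := by
      rintro ⟨q, hq⟩ ⟨r, hr⟩ ee
      simp only [φ, Prod.mk.injEq, decide_eq_decide] at ee
      obtain ⟨ew, eb⟩ := ee
      have eα : α q hq = α r hr := by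
        have k1 := hα q hq; have k2 := hα r hr; have k3 := hch (w q hq)
        rw [← ew] at k2
        rcases hbin (α := α q hq + ch (w q hq)) (by rw [map_add]; linear_combination k1 + k3 - C.form (w q hq) (w q hq) * one_add_one hF)
          with r1 | r1 <;>
        rcases hbin (α := α r hr + ch (w q hq)) (by rw [map_add]; linear_combination k2 + k3 - C.form (w q hq) (w q hq) * one_add_one hF)
          with r2 | r2
        · linear_combination r1 - r2
        · have : α q hq = ch (w q hq) := by linear_combination r1 - ch (w q hq) * one_add_one hF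
          rw [this, ew]; exact ((eb.1 this).symm)
        · have : α r hr = ch (w r hr) := by rw [← ew]; linear_combination r2 - ch (w q hq) * one_add_one hF
          rw [this, ← ew]; exact (eb.2 this)
        · linear_combination r1 - r2
      have := heq (a0 q hq) (a4 q hq) (eα ▸ ew ▸ a0 r hr) (ew ▸ a4 r hr)
      exact Subtype.ext ((hAe q hq).symm.trans ((congrArg e this).trans (hAe r hr)))
    have hbij : Function.Bijective φ := (Nat.bijective_iff_injective_and_card φ).2 ⟨hφ, by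
      rw [hker, Nat.card_prod, Nat.card_fun, Nat.card_eq_fintype_card, hF]; simp⟩
    intro x
    obtain ⟨q, hq⟩ := hbij.2 (x, true)
    have ew : w q.1 q.2 = x := congrArg Prod.fst hq
    exact ⟨A q.1 q.2, α q.1 q.2, hA1 q.1 q.2, ew ▸ a0 q.1 q.2, ew ▸ a4 q.1 q.2⟩
  refine ⟨ρ, hsurj, hker, fun q hq => ?_, fun q hq r hr => ?_, fun q hq hcen => ?_, fun u hu => ?_⟩
  · obtain ⟨A, rfl, hA⟩ := hex q hq
    obtain ⟨w, α, hα, a0, a4⟩ := ker_shape C hF A.2 hA
    obtain ⟨p0, p4⟩ := hmul a0 a4 a0 a4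
    rw [show w + w = 0 by funext i; exact (by linear_combination w i * one_add_one hF : w i + w i = 0),
      show α + α + C.form w w = C.form w w by linear_combination α * one_add_one hF] at p0
    simp only [show w + w = 0 by funext i; exact (by linear_combination w i * one_add_one hF : w i + w i = 0)] at p4
    rcases norm_bin C hF w with r | r <;> rw [r] at p0
    · exact Or.inl (congrArg Subtype.val (show e A * e A = 1 by rw [← map_mul, heq p0 p4 h1 h14, map_one]))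
    · refine Or.inr ?_
      have := congrArg (fun z => ((e z : ↥(Subgroup.centralizer ({a} : Set (Cfsg.PSU 6 F 2)))) : Cfsg.PSU 6 F 2))
        (heq p0 p4 hT0 hT4)
      simpa [hT] using this
  · obtain ⟨A, rfl, hA⟩ := hex q hq
    obtain ⟨B, rfl, hB⟩ := hex r hr
    obtain ⟨w, α, hα, a0, a4⟩ := ker_shape C hF A.2 hA
    obtain ⟨w', β, hβ, b0, b4⟩ := ker_shape C hF B.2 hB
    obtain ⟨p0, p4⟩ := hmul a0 a4 b0 b4
    obtain ⟨q0, q4⟩ := hmul b0 b4 a0 a4
    have hc : C.form w' w + C.form w w' = 0 ∨ C.form w' w + C.form w w' = 1 :=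
      fixed_cases C hF (by rw [map_add, C.bar_form, C.bar_form]; ring)
    rw [add_comm w' w] at q0
    simp only [add_comm w' w] at q4
    rcases hc with c | c
    · left
      rw [show β + α + C.form w w' = α + β + C.form w' w by
        linear_combination c - C.form w' w * one_add_one hF] at q0
      exact congrArg Subtype.val (show e A * e B = e B * e A by rw [← map_mul, ← map_mul, heq p0 p4 q0 q4])
    · right
      obtain ⟨r0, r4⟩ := hmul q0 q4 hT0 hT4
      simp only [add_zero, C.form_zero_left] at r0 r4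
      rw [show β + α + C.form w w' + 1 = α + β + C.form w' w by
        linear_combination c + (1 - C.form w' w) * one_add_one hF] at r0
      have := congrArg (fun z => ((e z : ↥(Subgroup.centralizer ({a} : Set (Cfsg.PSU 6 F 2)))) : Cfsg.PSU 6 F 2))
        (heq p0 p4 r0 r4)
      simpa [hT] using this
  · obtain ⟨A, rfl, hA⟩ := hex q hq
    obtain ⟨w, α, hα, a0, a4⟩ := ker_shape C hF A.2 hA
    have hw : w = 0 := by
      refine C.eq_zero_of_form fun z => ?_
      obtain ⟨ω, hω0, hω1, -, -, -⟩ := exists_omega hF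
      have htr : ∀ w' : Fin 4 → F, C.form w' w + C.form w w' = 0 := fun w' => by
        obtain ⟨B, β, hB, b0, b4⟩ := hall w'
        have hBk : e B ∈ ρ.ker := (hρe B).trans (Subtype.ext (Subtype.ext hB))
        have hAB : A * B = B * A := e.injective (by
          rw [map_mul, map_mul]; exact Subtype.ext (hcen _ hBk))
        have p0 := (hmul a0 a4 b0 b4).1
        rw [hAB, (hmul b0 b4 a0 a4).1] at p0
        rw [add_comm w' w] at p0
        have := congrFun p0 1
        simp [e₀, v₀, ext4] at this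
        linear_combination -this + C.form w w' * one_add_one hF
      have t1 := htr z
      have t2 := htr (ω • z)
      rw [C.form_smul_left, C.form_smul_right] at t2
      have hωb : C.bar ω + ω ≠ 0 := fun r => by
        rcases fixed_cases C hF (c := ω) (by linear_combination r - ω * one_add_one hF) with r' | r'
        · exact hω0 r'
        · exact hω1 r'
      exact (mul_eq_zero.1 (show (C.bar ω + ω) * C.form w z = 0 by
        linear_combination t2 - ω * t1 + ω * C.form w z * one_add_one hF)).resolve_left hωb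
    subst hw
    rw [C.form_zero_left, add_zero] at hα
    rcases hbin hα with rfl | rfl
    · exact Or.inl (congrArg Subtype.val (show e A = 1 by rw [heq a0 a4 h1 h14, map_one]))
    · refine Or.inr ?_
      have := congrArg (fun z => ((e z : ↥(Subgroup.centralizer ({a} : Set (Cfsg.PSU 6 F 2)))) : Cfsg.PSU 6 F 2))
        (heq a0 a4 hT0 hT4)
      simpa [hT] using this
  · obtain ⟨μ, w, hv, hw0, hww, hue⟩ := perp_shape C hF h hu
    obtain ⟨k0, k4⟩ := sub4_tr C hF hv
    have hρu : ∀ (x : ↥(Subgroup.centralizer ({a} : Set (Cfsg.PSU 6 F 2)))) {μ : F} {w : Fin 4 → F}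
        (hv : C.form (μ • v₀ + ext4 w : V) (μ • v₀ + ext4 w) = 0), (x : Cfsg.PSU 6 F 2) = pt C hF _ hv →
        ∀ y, (ρ x).1.1 *ᵥ y = y + C.form y w • w := by
      intro x μ w hv hx y
      obtain ⟨k0, k4⟩ := sub4_tr C hF hv
      have : x = e ⟨_, k0⟩ := Subtype.ext hx
      rw [this, hρe]
      exact k4 y
    obtain ⟨z, hz⟩ := C.exists_form_eq_one hw0
    refine ⟨fun e1 => ?_, ?_, fun u' hu' eu' => ?_, ?_⟩
    · have := hρu u hv hue z
      rw [e1, su_one_mulVec, hz, one_smul] at this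
      exact hw0 (by simpa using this)
    · have hsub : {u' | u' ∈ perp (nz D) a ∧ ∃ hu' : u' ∈ Subgroup.centralizer ({a} : Set (Cfsg.PSU 6 F 2)),
          ρ ⟨u', hu'⟩ = ρ u} ⊆ Set.range fun ν : F => pt C hF (ν • v₀ + ext4 w) (by
            simp only [C.form_add_left, C.form_add_right, C.form_smul_left, C.form_smul_right, form_v₀ C hF,
              (form_v₀_ext4 C _).1, (form_v₀_ext4 C _).2, form_ext4, hww, mul_zero, add_zero]) := by
        rintro u' ⟨hu', hc', eu'⟩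
        obtain ⟨μ', w', hv', hw0', -, hue'⟩ := perp_shape C hF h hu'
        have hs := hρu ⟨u', hc'⟩ hv' hue' z
        rw [eu', hρu u hv hue z, hz, one_smul] at hs
        have hw' : w = C.form z w' • w' := add_left_cancel hs
        have hs0 : C.form z w' ≠ 0 := fun r => hw0 (by rw [hw', r, zero_smul])
        refine ⟨C.form z w' * μ', ?_⟩
        rw [hue']
        refine pt_smul C hF hs0 ?_
        conv_lhs => rw [hw']
        rw [ext4_smul, smul_add, smul_smul]
      refine (Set.ncard_le_ncard hsub (Set.finite_range _)).trans ?_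
      refine (Finite.card_range_le _).trans ?_
      rw [Nat.card_eq_fintype_card, hF]
    · obtain ⟨μ', w', hv', hw0', -, hue'⟩ := perp_shape C hF h hu'
      have hs := hρu u' hv' hue' z
      rw [eu', hρu u hv hue z, hz, one_smul] at hs
      have hw' : w = C.form z w' • w' := add_left_cancel hs
      set s := C.form z w'
      have hs0 : s ≠ 0 := fun r => hw0 (by rw [hw', r, zero_smul])
      have hvv : C.form ((s * μ') • v₀ + ext4 w : V) ((s * μ') • v₀ + ext4 w) = 0 := by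
        simp only [C.form_add_left, C.form_add_right, C.form_smul_left, C.form_smul_right, form_v₀ C hF,
          (form_v₀_ext4 C _).1, (form_v₀_ext4 C _).2, form_ext4, hww, mul_zero, add_zero]
      have hue2 : (u' : Cfsg.PSU 6 F 2) = pt C hF _ hvv := hue'.trans (pt_smul C hF hs0 (by
        rw [hw', ext4_smul, smul_add, smul_smul])).symm
      have hvn : ∀ ν : F, (ν • v₀ + ext4 w : V) ≠ 0 := fun ν r => hw0 (ext4_inj (s := ν) (t := 0) (y := 0) (by
        rw [r, ext4_zero]; simp)).2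
      refine ⟨?_, ?_⟩
      · rw [hue, hue2]
        refine (pt_commute C hF (hvn _)).2 ?_
        simp only [C.form_add_left, C.form_add_right, C.form_smul_left, C.form_smul_right, form_v₀ C hF,
          (form_v₀_ext4 C _).1, (form_v₀_ext4 C _).2, form_ext4, hww, mul_zero, add_zero]
      · obtain ⟨z', hz'⟩ := C.exists_form_eq_one hw0
        obtain ⟨A, α, hA, a0, a4⟩ := hall (C.bar (μ + s * μ') • z')
        refine ⟨e A, (hρe A).trans (Subtype.ext (Subtype.ext hA)), ?_⟩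
        rw [hev, hue, hue2, pr_conj_pt]
        refine pt_congr C hF ?_
        rw [Matrix.mulVec_add, Matrix.mulVec_smul, (show A.1.1.1 *ᵥ (v₀ : V) = v₀ from A.2), a4, C.form_smul_right, ← C.bar_form z' w, hz', map_one,
          mul_one, C.bar_bar, ← add_assoc, ← add_smul]
        congr 2
        linear_combination μ * one_add_one hF
    · obtain ⟨z', hz'⟩ := C.exists_form_eq_one hw0
      obtain ⟨A, α, hA, a0, a4⟩ := hall z'
      refine ⟨e A, (hρe A).trans (Subtype.ext (Subtype.ext hA)), ?_⟩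
      rw [hev, hue, pr_conj_pt]
      have hvn : ∀ ν : F, (ν • v₀ + ext4 w : V) ≠ 0 := fun ν r => hw0 (ext4_inj (s := ν) (t := 0) (y := 0) (by
        rw [r, ext4_zero]; simp)).2
      intro r
      obtain ⟨t, ht, et⟩ := (pt_eq_iff C hF (su_mulVec_ne_zero _ (hvn μ))).1 r
      rw [Matrix.mulVec_add, Matrix.mulVec_smul, (show A.1.1.1 *ᵥ (v₀ : V) = v₀ from A.2), a4, ← C.bar_form z' w, hz',
        map_one, ← add_assoc, ← add_smul, smul_add, smul_smul, ← ext4_smul] at et
      obtain ⟨e1, e2⟩ := ext4_inj et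
      have ht1 : t = 1 := by
        have := congrArg (fun y => C.form z' y) e2
        simp only [C.form_smul_right, hz', mul_one] at this
        have h' := congrArg C.bar this
        rw [C.bar_bar, map_one] at h'
        exact h'.symm
      rw [ht1, one_mul] at e1
      exact one_ne_zero (α := F) (by linear_combination e1)

end U6

end CfsgLib.Spor.Tri.Level
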