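/-
Transfer of the facts about transvection centralizers to any group isomorphic to `PSU(6, 4)`.
-/
import Cfsg.Agent.Lib.Spor.Tri.U6Point
import Cfsg.Agent.Lib.Spor.Tri.U6Plane

set_option linter.all false

namespace CfsgLib.Spor.Tri.Level

open CfsgLib.SU CfsgLib.Spor.Tri CfsgLib.Spor.Tri.Relations

variable {F : Type} [Field F] [Fintype F] {X : Type*} [Group X] [Finite X] {D : Set X}

theorem pre_equiv {Y : Type*} [Group Y] (e : X ≃* Y) (h : Pre D) : Pre (e '' D) ∧ nz (e '' D) = e '' nz D := by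
  refine ⟨⟨?_, ?_, ?_, ?_⟩, ?_⟩
  · rintro _ ⟨a, ha, rfl⟩; rw [← map_mul, h.invol a ha, map_one]
  · rintro _ ⟨a, ha, rfl⟩ _ ⟨b, hb, rfl⟩
    rcases h.pair a ha b hb with r | r
    · exact Or.inl (by rw [← map_mul, ← map_pow, r, map_one])
    · exact Or.inr (by rw [← map_mul, ← map_pow, r, map_one])
  · rintro g _ ⟨a, ha, rfl⟩
    obtain ⟨u, rfl⟩ := e.surjective g
    exact ⟨u * a * u⁻¹, h.conj u a ha, by simp⟩
  · have := congrArg (Subgroup.map e.toMonoidHom) h.gen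
    rw [MonoidHom.map_closure, Subgroup.map_top_of_surjective _ e.surjective] at this
    exact this
  · ext y
    constructor
    · rintro ⟨⟨x, hx, rfl⟩, h1⟩
      exact ⟨x, ⟨hx, fun r => h1 (by rw [r, map_one])⟩, rfl⟩
    · rintro ⟨x, hx, rfl⟩
      exact ⟨⟨x, hx.1, rfl⟩, fun r => hx.2 (e.injective (by rw [r, map_one]))⟩

theorem point_u6 (hF : Fintype.card F = 4) (e : X ≃* Cfsg.PSU 6 F 2) (h : Pre D) {a : X} (ha : a ∈ nz D) :
    PointData (nz D) a F := by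
  classical
  obtain ⟨C⟩ := CfsgLib.Classical.uctx_exists (F := F) (q := 2) (by rw [hF]; norm_num)
  obtain ⟨hP0, hnz0⟩ := pre_equiv e h
  obtain ⟨g, hg⟩ := (U6.lev C hF hP0 ⟨e a, hnz0 ▸ ⟨a, ha, rfl⟩⟩).hyp.transitive (e a) (hnz0 ▸ ⟨a, ha, rfl⟩)
    _ (U6.pt_mem C hF hP0 ⟨e a, hnz0 ▸ ⟨a, ha, rfl⟩⟩ _ (U6.form_v₀ C hF) U6.v₀_ne)
  set f : X ≃* Cfsg.PSU 6 F 2 := e.trans (MulAut.conj g) with hf
  have hfa : f a = U6.pt C hF U6.v₀ (U6.form_v₀ C hF) := hg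
  obtain ⟨hP, hnz⟩ := pre_equiv f h
  have hne : (nz (f '' D)).Nonempty := hnz ▸ ⟨f a, a, ha, rfl⟩
  have hdata := U6.point_base C hF hP hne
  rw [← hfa, hnz] at hdata
  obtain ⟨ρ, hs, hk, hsq, hcm, hcen, hfib⟩ := hdata
  have hperp : ∀ x, f x ∈ perp (f '' nz D) (f a) ↔ x ∈ perp (nz D) a := fun x => by
    rw [perp_equiv f (D := nz D) a]; exact mem_image_equiv f _ x
  let ψ : ↥(Subgroup.centralizer ({a} : Set X)) →* ↥(Subgroup.centralizer ({f a} : Set (Cfsg.PSU 6 F 2))) :=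
    (f.toMonoidHom.comp (Subgroup.centralizer ({a} : Set X)).subtype).codRestrict _ fun x => by
      rw [Subgroup.mem_centralizer_singleton_iff]
      have := congrArg f (Subgroup.mem_centralizer_singleton_iff.1 x.2)
      rwa [map_mul, map_mul] at this
  have hψ : Function.Bijective ψ := by
    refine ⟨fun x y r => Subtype.ext (f.injective (congrArg Subtype.val r)), fun y => ?_⟩
    obtain ⟨x, hx⟩ := f.surjective y.1
    refine ⟨⟨x, Subgroup.mem_centralizer_singleton_iff.2 (f.injective ?_)⟩, Subtype.ext hx⟩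
    rw [map_mul, map_mul, hx]; exact Subgroup.mem_centralizer_singleton_iff.1 y.2
  refine ⟨ρ.comp ψ, hs.comp hψ.2, ?_, fun q hq => ?_, fun q hq r hr => ?_, fun q hq hc => ?_, fun u hu => ?_⟩
  · rw [← hk]
    refine Nat.card_eq_of_bijective (fun q : ↥(ρ.comp ψ).ker => (⟨ψ q.1, q.2⟩ : ↥ρ.ker)) ⟨fun x y r => ?_, fun y => ?_⟩
    · exact Subtype.ext (hψ.1 (congrArg Subtype.val r))
    · obtain ⟨x, hx⟩ := hψ.2 y.1
      exact ⟨⟨x, by show ρ (ψ x) = 1; rw [hx]; exact y.2⟩, Subtype.ext hx⟩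
  · rcases hsq (ψ q) hq with r | r
    · exact Or.inl (f.injective (by rw [map_mul, map_one]; exact r))
    · exact Or.inr (f.injective (by rw [map_mul]; exact r))
  · rcases hcm (ψ q) hq (ψ r) hr with e' | e'
    · exact Or.inl (f.injective (by rw [map_mul, map_mul]; exact e'))
    · exact Or.inr (f.injective (by rw [map_mul, map_mul, map_mul]; exact e'))
  · rcases hcen (ψ q) hq (fun r hr => by
      obtain ⟨x, rfl⟩ := hψ.2 r
      show f q * f x = f x * f q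
      rw [← map_mul, ← map_mul, hc x hr]) with r | r
    · exact Or.inl (f.injective (by rw [map_one]; exact r))
    · exact Or.inr (f.injective r)
  · obtain ⟨h1, h2, h3, q, hq, h4⟩ := hfib (ψ u) ((hperp _).2 hu)
    refine ⟨h1, ?_, fun u' hu' e' => ?_, ?_⟩
    · refine le_trans ?_ h2
      rw [← Set.ncard_image_of_injective _ f.injective]
      refine Set.ncard_le_ncard ?_ (Set.toFinite _)
      rintro _ ⟨u', ⟨hu', hc', e'⟩, rfl⟩
      exact ⟨(hperp _).2 hu', (ψ ⟨u', hc'⟩).2, e'⟩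
    · obtain ⟨r1, q, hq, r2⟩ := h3 (ψ u') ((hperp _).2 hu') e'
      obtain ⟨x, rfl⟩ := hψ.2 q
      exact ⟨(commute_equiv f _ _).1 r1, x, hq, f.injective (by rw [map_mul, map_mul, map_inv]; exact r2)⟩
    · obtain ⟨x, rfl⟩ := hψ.2 q
      exact ⟨x, hq, fun r => h4 (show f x * f u * (f x)⁻¹ = f u by rw [← map_inv, ← map_mul, ← map_mul, r])⟩

theorem no_swap_u6 (hF : Fintype.card F = 4) (e : X ≃* Cfsg.PSU 6 F 2) (h : Pre D) {a b : X} (ha : a ∈ nz D)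
    (hb : b ∈ perp (nz D) a) (r : X → X → Prop) (hsym : ∀ x y, r x y → r y x)
    (htr : ∀ x y z, r x y → r y z → r x z)
    (hinv : ∀ k : X, k * a * k⁻¹ = a → k * b * k⁻¹ = b → ∀ x y, r x y → r (k * x * k⁻¹) (k * y * k⁻¹))
    (hsmall : ∀ x ∈ perp (nz D) a ∩ perp (nz D) b, {y | y ∈ perp (nz D) a ∩ perp (nz D) b ∧ r x y}.ncard ≤ 4)
    (hcom : ∀ x y z, x ∈ perp (nz D) a ∩ perp (nz D) b → y ∈ perp (nz D) a ∩ perp (nz D) b →
      z ∈ perp (nz D) a ∩ perp (nz D) b → r x y → Commute x z → Commute y z)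
    (g : X) (hga : g * a * g⁻¹ = b) (hgb : g * b * g⁻¹ = a)
    (hg : ∀ x ∈ perp (nz D) a ∩ perp (nz D) b, r x (g * x * g⁻¹)) : False := by
  classical
  obtain ⟨C⟩ := CfsgLib.Classical.uctx_exists (F := F) (q := 2) (by rw [hF]; norm_num)
  obtain ⟨hP0, hnz0⟩ := pre_equiv e h
  have hne0 : (nz (e '' D)).Nonempty := ⟨e a, hnz0 ▸ ⟨a, ha, rfl⟩⟩
  have L := U6.lev C hF hP0 hne0
  have hb' : e b ∈ perp (nz (e '' D)) (e a) := by
    rw [hnz0, perp_equiv e (D := nz D) a]; exact ⟨b, hb, rfl⟩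
  have hw' : U6.pt C hF U6.w₀ (U6.form_w₀ C hF) ∈ perp (nz (e '' D)) (U6.pt C hF U6.v₀ (U6.form_v₀ C hF)) := by
    refine ⟨U6.pt_mem C hF hP0 hne0 _ _ U6.w₀_ne, fun r => ?_, (U6.pt_commute C hF U6.w₀_ne).2 (U6.form_plv C hF 0 0).2.2.2⟩
    obtain ⟨s, -, es⟩ := (U6.pt_eq_iff C hF U6.w₀_ne).1 r
    exact one_ne_zero (α := F) (by simpa [U6.w₀, U6.v₀] using congrFun es 2)
  have hv' := U6.pt_mem C hF hP0 hne0 _ (U6.form_v₀ C hF) U6.v₀_ne
  obtain ⟨hR, hperf⟩ := rank_three_data L.hyp L.prim ⟨_, hv', _, hw'.1, hw'.2.1.symm, hw'.2.2⟩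
  obtain ⟨u, hu1, hu2⟩ := conj2_commuting L.hyp hR hperf (hnz0 ▸ ⟨a, ha, rfl⟩ : e a ∈ nz (e '' D)) hb' hv' hw'
  set f : X ≃* Cfsg.PSU 6 F 2 := e.trans (MulAut.conj u) with hf
  have hfa : f a = U6.pt C hF U6.v₀ (U6.form_v₀ C hF) := hu1
  have hfb : f b = U6.pt C hF U6.w₀ (U6.form_w₀ C hF) := hu2
  obtain ⟨hP, hnz⟩ := pre_equiv f h
  have hS : ∀ x, x ∈ perp (nz (f '' D)) (f a) ∩ perp (nz (f '' D)) (f b) ↔
      f.symm x ∈ perp (nz D) a ∩ perp (nz D) b := fun x => by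
    obtain ⟨y, rfl⟩ := f.surjective x
    rw [hnz, perp_equiv f (D := nz D) a, perp_equiv f (D := nz D) b, f.symm_apply_apply]
    exact and_congr (mem_image_equiv f _ y) (mem_image_equiv f _ y)
  refine U6.no_swap C hF hP ⟨f a, hnz ▸ ⟨a, ha, rfl⟩⟩ (fun x y => r (f.symm x) (f.symm y))
    (fun x y => hsym _ _) (fun x y z => htr _ _ _) ?_ ?_ ?_ (f g) ?_ ?_ ?_
  all_goals rw [← hfa]
  all_goals try rw [← hfb]
  · intro k ka kb x y hxy
    obtain ⟨k, rfl⟩ := f.surjective k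
    rw [← map_inv, ← map_mul, ← map_mul] at ka kb
    have := hinv k (f.injective ka) (f.injective kb) _ _ hxy
    simpa using this
  · intro x hx
    refine le_trans ?_ (hsmall _ ((hS x).1 hx))
    rw [← Set.ncard_image_of_injective _ f.symm.injective]
    refine Set.ncard_le_ncard ?_ (Set.toFinite _)
    rintro _ ⟨y, ⟨hy, hxy⟩, rfl⟩
    exact ⟨(hS y).1 hy, hxy⟩
  · intro x y z hx hy hz hxy hc
    have := hcom _ _ _ ((hS x).1 hx) ((hS y).1 hy) ((hS z).1 hz) hxy ((commute_equiv f.symm x z).2 hc)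
    exact (commute_equiv f.symm y z).1 this
  · rw [← map_inv, ← map_mul, ← map_mul, hga]
  · rw [← map_inv, ← map_mul, ← map_mul, hgb]
  · intro x hx
    have := hg _ ((hS x).1 hx)
    simpa using this

end CfsgLib.Spor.Tri.Level
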