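/-
Charts of a transposition centralizer in type M(22) by points of the unitary geometry; six points in a path.
-/
import Cfsg.Agent.Lib.Spor.Tri.U6Stab
import Cfsg.Agent.Lib.Spor.Tri.LevelData
import Cfsg.Agent.Lib.Spor.Tri.PairTransfer

set_option autoImplicit false
set_option linter.all false

namespace CfsgLib.Spor.Tri.Y332

open Matrix CfsgLib.SU CfsgLib.Spor.Tri CfsgLib.Spor.Tri.Relations CfsgLib.Spor.Tri.Level

section chart

variable {G : Type*} [Group G] {F : Type} [Field F] [Fintype F] (C : UCtx F 2) (hF : Fintype.card F = 4)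

/-- The members commuting with `x` as points. -/
structure Chart (D : Set G) (x : G) (vec : G → Fin 6 → F)
    (π : ↥(Subgroup.centralizer ({x} : Set G)) →* Cfsg.PSU 6 F 2) : Prop where
  iso : ∀ y ∈ perp D x, C.form (vec y) (vec y) = 0
  ne : ∀ y ∈ perp D x, vec y ≠ 0
  map : ∀ y (hy : y ∈ perp D x) (hm : y ∈ Subgroup.centralizer ({x} : Set G)) (hv : C.form (vec y) (vec y) = 0),
    π ⟨y, hm⟩ = U6.pt C hF (vec y) hv
  inj : ∀ y ∈ perp D x, ∀ y' ∈ perp D x, ∀ s : F, vec y = s • vec y' → y = y'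
  comm : ∀ y ∈ perp D x, ∀ y' ∈ perp D x, Commute y y' ↔ C.form (vec y) (vec y') = 0
  surj : ∀ v : Fin 6 → F, C.form v v = 0 → v ≠ 0 → ∃ y ∈ perp D x, ∃ s : F, s ≠ 0 ∧ vec y = s • v
  ker : ∀ g, π g = 1 → (g : G) = 1 ∨ (g : G) = x

end chart

theorem exists_charts {G : Type*} [Group G] [Finite G] {D : Set G} (h : Hyp D)
    (hprim : Cfsg.IsPrimitiveUnderConj D) (h22 : Cfsg.IsOfTypeM22 G D) :
    ∃ (F : Type) (_ : Field F) (_ : Fintype F) (hF : Fintype.card F = 4) (C : UCtx F 2), ∀ x ∈ D,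
      ∃ vec π, Chart C hF D x vec π := by
  classical
  obtain ⟨L, -⟩ := lev22 h hprim h22
  obtain ⟨d, W⟩ := local22 h hprim h22
  obtain ⟨F, hFf, hFt, hF, ⟨e⟩⟩ := W.psu
  letI := hFf; letI := hFt
  obtain ⟨C⟩ := CfsgLib.Classical.uctx_exists (F := F) (q := 2) (by rw [hF]; norm_num)
  refine ⟨F, hFf, hFt, hF, C, fun x hx => ?_⟩
  obtain ⟨hP, hnz⟩ := pre_equiv e (pre_img (pre_of_hyp h) d)
  rw [img_nz h W.nc] at hnz
  obtain ⟨q₀, hq₀, -⟩ := W.lev.prim.2.1
  have hne : (nz (e '' img D d)).Nonempty := by rw [hnz]; exact ⟨e q₀, q₀, hq₀, rfl⟩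
  obtain ⟨g, hg⟩ := h.transitive x hx d W.mem
  have hmv : ∀ {y : G}, y ∈ perp D x → g * y * g⁻¹ ∈ perp D d := fun {y} hy => by
    rw [← hg, Level.perp_conj h]; exact ⟨y, hy, rfl⟩
  have hback : ∀ {y : G}, y ∈ perp D d → g⁻¹ * y * g ∈ perp D x := fun {y} hy => by
    rw [← hg, Level.perp_conj h] at hy
    obtain ⟨z, hz, rfl⟩ := hy
    rw [show g⁻¹ * (g * z * g⁻¹) * g = z by group]; exact hz
  have hpt : ∀ y : G, ∃ v : Fin 6 → F, ∀ hy : y ∈ perp D x,
      ∃ hv : C.form v v = 0, v ≠ 0 ∧ e (bar (hmv hy)) = U6.pt C hF v hv := by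
    intro y
    by_cases hy : y ∈ perp D x
    · obtain ⟨v, hv, hv0, e'⟩ := U6.exists_pt C hF hP (x := e (bar (hmv hy))) (by
        rw [hnz]; exact ⟨_, bar_mem _, rfl⟩)
      exact ⟨v, fun _ => ⟨hv, hv0, e'⟩⟩
    · exact ⟨0, fun r => absurd r hy⟩
  choose vec hvec using hpt
  let conjc : ↥(Subgroup.centralizer ({x} : Set G)) →* ↥(loc D d) :=
    { toFun := fun z => ⟨g * z * g⁻¹, L.cent d W.mem (Subgroup.mem_centralizer_singleton_iff.2 (by
        have := (Commute.conj_iff g).2 (Subgroup.mem_centralizer_singleton_iff.1 z.2 : Commute (z : G) x)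
        rw [hg] at this
        exact this))⟩
      map_one' := Subtype.ext (by simp)
      map_mul' := fun z z' => Subtype.ext (by simp [mul_assoc]) }
  let π : ↥(Subgroup.centralizer ({x} : Set G)) →* Cfsg.PSU 6 F 2 :=
    e.toMonoidHom.comp ((QuotientGroup.mk' _).comp conjc)
  refine ⟨vec, π, ⟨fun y hy => (hvec y hy).1, fun y hy => (hvec y hy).2.1, fun y hy hm hv => ?_, ?_, ?_, ?_, ?_⟩⟩
  · obtain ⟨_, _, e'⟩ := hvec y hy
    exact e'
  · intro y hy y' hy' s es
    obtain ⟨hv, hv0, e1⟩ := hvec y hy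
    obtain ⟨hv', hv0', e2⟩ := hvec y' hy'
    have hs : s ≠ 0 := fun r => hv0 (by rw [es, r, zero_smul])
    have := (bar_inj h W.nc (hmv hy) (hmv hy')).1 (e.injective (e1.trans ((U6.pt_smul C hF hs es).trans e2.symm)))
    exact mul_left_cancel (mul_right_cancel this)
  · intro y hy y' hy'
    obtain ⟨hv, hv0, e1⟩ := hvec y hy
    obtain ⟨hv', hv0', e2⟩ := hvec y' hy'
    rw [← Commute.conj_iff g, ← bar_commute h (hmv hy) (hmv hy'), ← commute_equiv e, e1, e2]
    exact U6.pt_commute C hF hv0'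
  · intro v hv hv0
    have hm := U6.pt_mem C hF hP hne v hv hv0
    rw [hnz] at hm
    obtain ⟨q, hq, eq⟩ := hm
    obtain ⟨z, hz, rfl⟩ := exists_bar hq
    obtain ⟨hw, hw0, e'⟩ := hvec _ (hback hz)
    have eb : bar (hmv (hback hz)) = bar hz := (bar_inj h W.nc _ _).2 (by group)
    rw [eb, eq] at e'
    obtain ⟨s, hs, es⟩ := (U6.pt_eq_iff C hF hw0).1 e'.symm
    exact ⟨_, hback hz, s, hs, es⟩
  · intro z hz
    have h1 : QuotientGroup.mk' (Subgroup.center ↥(loc D d)) (conjc z) = 1 :=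
      e.injective (by rw [map_one]; exact hz)
    rcases W.zl _ ((QuotientGroup.eq_one_iff _).1 h1) with r | r
    · left
      have r' : g * (z : G) * g⁻¹ = 1 := r
      have : g * (z : G) * g⁻¹ = g * 1 * g⁻¹ := by rw [r']; simp
      exact mul_left_cancel (mul_right_cancel this)
    · right
      have r' : g * (z : G) * g⁻¹ = d := r
      exact mul_left_cancel (mul_right_cancel (r'.trans hg.symm))

section path

variable {F : Type} [Field F] [Fintype F] {C : UCtx F 2} (hF : Fintype.card F = 4)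


/-- Six isotropic vectors in a path. -/
structure Path (C : UCtx F 2) (v : Fin 6 → (Fin 6 → F)) : Prop where
  adj : ∀ k l : Fin 6, (k.1 + 1 = l.1 ∨ l.1 + 1 = k.1) → C.form (v k) (v l) ≠ 0
  far : ∀ k l : Fin 6, k.1 + 1 ≠ l.1 → l.1 + 1 ≠ k.1 → C.form (v k) (v l) = 0

variable {v : Fin 6 → (Fin 6 → F)} (hp : Path C v)

include hp

theorem Path.form_sum (c : Fin 6 → F) :
    C.form (∑ k, c k • v k) (v 0) = c 1 * C.form (v 1) (v 0) ∧
    C.form (∑ k, c k • v k) (v 1) = c 0 * C.form (v 0) (v 1) + c 2 * C.form (v 2) (v 1) ∧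
    C.form (∑ k, c k • v k) (v 2) = c 1 * C.form (v 1) (v 2) + c 3 * C.form (v 3) (v 2) ∧
    C.form (∑ k, c k • v k) (v 3) = c 2 * C.form (v 2) (v 3) + c 4 * C.form (v 4) (v 3) ∧
    C.form (∑ k, c k • v k) (v 4) = c 3 * C.form (v 3) (v 4) + c 5 * C.form (v 5) (v 4) ∧
    C.form (∑ k, c k • v k) (v 5) = c 4 * C.form (v 4) (v 5) := by
  refine ⟨?_, ?_, ?_, ?_, ?_, ?_⟩ <;>
    simp [Fin.sum_univ_six, C.form_add_left, C.form_smul_left, hp.far]

theorem Path.coef_zero {c : Fin 6 → F} (hc : ∀ j, C.form (∑ k, c k • v k) (v j) = 0) : c = 0 := by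
  obtain ⟨h0, h1, h2, h3, h4, h5⟩ := hp.form_sum c
  rw [hc] at h0 h1 h2 h3 h4 h5
  have c1 : c 1 = 0 := (mul_eq_zero.1 h0.symm).resolve_right (hp.adj 1 0 (by decide))
  have c4 : c 4 = 0 := (mul_eq_zero.1 h5.symm).resolve_right (hp.adj 4 5 (by decide))
  rw [c1, zero_mul, zero_add] at h2
  have c3 : c 3 = 0 := (mul_eq_zero.1 h2.symm).resolve_right (hp.adj 3 2 (by decide))
  rw [c4, zero_mul, add_zero] at h3
  have c2 : c 2 = 0 := (mul_eq_zero.1 h3.symm).resolve_right (hp.adj 2 3 (by decide))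
  rw [c2, zero_mul, add_zero] at h1
  have c0 : c 0 = 0 := (mul_eq_zero.1 h1.symm).resolve_right (hp.adj 0 1 (by decide))
  rw [c3, zero_mul, zero_add] at h4
  have c5 : c 5 = 0 := (mul_eq_zero.1 h4.symm).resolve_right (hp.adj 5 4 (by decide))
  funext k
  fin_cases k <;> assumption

theorem Path.li : LinearIndependent F v :=
  Fintype.linearIndependent_iff.2 fun c hc => congrFun (hp.coef_zero fun j => by
    rw [hc, show (0 : (Fin 6 → F)) = (0 : F) • (v 0) by rw [zero_smul], C.form_smul_left, zero_mul])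

theorem Path.exists_coef (x : (Fin 6 → F)) : ∃ c : Fin 6 → F, x = ∑ k, c k • v k := by
  have hs : Submodule.span F (Set.range v) = ⊤ := hp.li.span_eq_top_of_card_eq_finrank (by simp)
  obtain ⟨c, hc⟩ := (Submodule.mem_span_range_iff_exists_fun F).1 (hs ▸ Submodule.mem_top : x ∈ Submodule.span F (Set.range v))
  exact ⟨c, hc.symm⟩

/-- A vector is determined by its products with the path. -/
theorem Path.ext {x y : (Fin 6 → F)} (h : ∀ j, C.form x (v j) = C.form y (v j)) : x = y := by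
  obtain ⟨c, hc⟩ := hp.exists_coef (x - y)
  have h0 : c = 0 := hp.coef_zero fun j => by
    have e := C.form_add_left (x - y) y (v j)
    rw [sub_add_cancel, hc] at e
    linear_combination -e + h j
  rw [h0] at hc
  simpa [sub_eq_zero] using hc

/-- A map is determined by the path. -/
theorem Path.su_ext {A B : ↥(Cfsg.SU 6 F 2)} (h : ∀ k, A.1.1 *ᵥ v k = B.1.1 *ᵥ v k) : A = B :=
  CfsgLib.SU.su_ext fun x => by
    obtain ⟨c, rfl⟩ := hp.exists_coef x
    simp [Matrix.mulVec_sum, Matrix.mulVec_smul, h]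

/-- A map that is one scalar on the path is trivial in the projective group. -/
theorem Path.pr_eq_one {A : ↥(Cfsg.SU 6 F 2)} {s : F} (h : ∀ k, A.1.1 *ᵥ v k = s • v k) : pr A = 1 := by
  refine (QuotientGroup.eq_one_iff _).2 (Subgroup.mem_center_iff.2 (scalar_central (c := s) ?_))
  refine Matrix.ext_iff_mulVec.2 fun x => ?_
  obtain ⟨c, rfl⟩ := hp.exists_coef x
  simp [Matrix.mulVec_sum, Matrix.mulVec_smul, Matrix.smul_mulVec, h, Finset.smul_sum, smul_smul, mul_comm]

omit hp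

include hF in
/-- A point fixed by a projective map is an eigenvector. -/
theorem eigen_of_commute {A : ↥(Cfsg.SU 6 F 2)} {u : (Fin 6 → F)} {hu : C.form u u = 0} (hu0 : u ≠ 0)
    (h : Commute (pr A) (U6.pt C hF u hu)) : ∃ s : F, s ≠ 0 ∧ A.1.1 *ᵥ u = s • u :=
  (U6.pt_eq_iff C hF (su_mulVec_ne_zero A hu0)).1 ((U6.pr_conj_pt C hF A u hu).symm.trans (conj_eq_of_commute h))

include hF in
/-- Eigenvectors that are not orthogonal have one eigenvalue. -/
theorem eigen_eq {A : ↥(Cfsg.SU 6 F 2)} {u w : (Fin 6 → F)} {s t : F} (hs : A.1.1 *ᵥ u = s • u) (ht : A.1.1 *ᵥ w = t • w)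
    (ht0 : t ≠ 0) (h : C.form u w ≠ 0) : s = t := by
  have e := C.form_su A u w
  rw [hs, ht, C.form_smul_left, C.form_smul_right] at e
  have h1 : s * C.bar t = 1 := mul_right_cancel₀ h (by linear_combination e)
  linear_combination (t : F) * h1 - s * Relations.norm_one C hF ht0

include hp hF in
/-- The vector orthogonal to the last five. -/
theorem Path.exists_rad : ∃ β γ : F, γ ≠ 0 ∧ (∀ k : Fin 6, k ≠ 0 → C.form (v 1 + β • v 3 + γ • v 5) (v k) = 0) ∧
    C.form (v 1 + β • v 3 + γ • v 5) (v 0) = C.form (v 1) (v 0) ∧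
    C.form (v 1 + β • v 3 + γ • v 5) (v 1 + β • v 3 + γ • v 5) = 0 := by
  have a32 : C.form (v 3) (v 2) ≠ 0 := hp.adj 3 2 (by decide)
  have a54 : C.form (v 5) (v 4) ≠ 0 := hp.adj 5 4 (by decide)
  have a12 : C.form (v 1) (v 2) ≠ 0 := hp.adj 1 2 (by decide)
  have a34 : C.form (v 3) (v 4) ≠ 0 := hp.adj 3 4 (by decide)
  refine ⟨C.form (v 1) (v 2) / C.form (v 3) (v 2),
    C.form (v 1) (v 2) / C.form (v 3) (v 2) * C.form (v 3) (v 4) / C.form (v 5) (v 4), by positivity, ?_, ?_, ?_⟩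
  · intro k hk
    simp only [C.form_add_left, C.form_smul_left]
    fin_cases k <;> simp [hp.far] at hk ⊢
    · field_simp; linear_combination (C.form (v 1) (v 2)) * Relations.one_add_one hF
    · field_simp; linear_combination (C.form (v 1) (v 2) * C.form (v 3) (v 4)) * Relations.one_add_one hF
  · simp [C.form_add_left, C.form_smul_left, hp.far]
  · simp [C.form_add_left, C.form_add_right, C.form_smul_left, C.form_smul_right, hp.far]

include hp hF in
/-- A projective map fixing the last five points. -/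
theorem Path.five {g : Cfsg.PSU 6 F 2}
    (hg : ∀ k : Fin 6, k ≠ 0 → ∀ hv, Commute g (U6.pt C hF (v k) hv)) :
    g * g = 1 ∧ (g = 1 ∨ ∃ (β γ : F) (hr : C.form (v 1 + β • v 3 + γ • v 5) (v 1 + β • v 3 + γ • v 5) = 0),
      (∀ k : Fin 6, k ≠ 0 → C.form (v 1 + β • v 3 + γ • v 5) (v k) = 0) ∧
      C.form (v 1 + β • v 3 + γ • v 5) (v 0) ≠ 0 ∧ g = U6.pt C hF (v 1 + β • v 3 + γ • v 5) hr) := by
  obtain ⟨A, rfl⟩ := QuotientGroup.mk'_surjective (Subgroup.center ↥(Cfsg.SU 6 F 2)) g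
  have hiso : ∀ k : Fin 6, C.form (v k) (v k) = 0 := fun k => hp.far k k (by omega) (by omega)
  have hv0 : ∀ k, v k ≠ 0 := fun k => hp.li.ne_zero k
  have ex : ∀ k : Fin 6, k ≠ 0 → ∃ s : F, s ≠ 0 ∧ A.1.1 *ᵥ v k = s • v k := fun k hk =>
    eigen_of_commute hF (hv0 k) (hg k hk (hiso k))
  obtain ⟨s, hs, e1⟩ := ex 1 (by decide)
  obtain ⟨s2, hs2, e2⟩ := ex 2 (by decide)
  obtain ⟨s3, hs3, e3⟩ := ex 3 (by decide)
  obtain ⟨s4, hs4, e4⟩ := ex 4 (by decide)
  obtain ⟨s5, hs5, e5⟩ := ex 5 (by decide)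
  have q2 := eigen_eq hF e2 e1 hs (hp.adj 2 1 (by decide))
  rw [q2] at e2
  have q3 := eigen_eq hF e3 e2 hs (hp.adj 3 2 (by decide))
  rw [q3] at e3
  have q4 := eigen_eq hF e4 e3 hs (hp.adj 4 3 (by decide))
  rw [q4] at e4
  have q5 := eigen_eq hF e5 e4 hs (hp.adj 5 4 (by decide))
  rw [q5] at e5
  have he : ∀ k : Fin 6, k ≠ 0 → A.1.1 *ᵥ v k = s • v k := by
    intro k hk
    fin_cases k <;> first | assumption | exact absurd rfl hk
  clear ex
  obtain ⟨β, γ, hγ, hr0, hr1, hrr⟩ := hp.exists_rad hF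
  set r := v 1 + β • v 3 + γ • v 5 with hr
  have hr1' : C.form r (v 0) ≠ 0 := hr1 ▸ hp.adj 1 0 (by decide)
  have hn := Relations.norm_one C hF hs
  have hw : ∀ k : Fin 6, k ≠ 0 → C.form (A.1.1 *ᵥ v 0) (v k) = s * C.form (v 0) (v k) := fun k hk => by
    have e := C.form_su A (v 0) (v k)
    rw [he k hk, C.form_smul_right] at e
    linear_combination s * e - C.form (A.1.1 *ᵥ v 0) (v k) * hn
  set t := (C.form (A.1.1 *ᵥ v 0) (v 0) - s * C.form (v 0) (v 0)) / C.form r (v 0) with ht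
  have hA0 : A.1.1 *ᵥ v 0 = s • v 0 + t • r := hp.ext fun j => by
    rw [C.form_add_left, C.form_smul_left, C.form_smul_left]
    rcases eq_or_ne j 0 with rfl | hj
    · rw [ht]; field_simp; ring
    · rw [hw j hj, hr0 j hj, mul_zero, add_zero]
  have hAr : A.1.1 *ᵥ r = s • r := by
    rw [hr, Matrix.mulVec_add, Matrix.mulVec_add, Matrix.mulVec_smul, Matrix.mulVec_smul, e1, e3, e5, smul_add,
      smul_add, smul_comm β, smul_comm γ]
  refine ⟨?_, ?_⟩
  · rw [← map_mul]
    refine hp.pr_eq_one (s := s * s) fun k => ?_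
    rw [suMat_mulVec_mul]
    rcases eq_or_ne k 0 with rfl | hk
    · rw [hA0, Matrix.mulVec_add, Matrix.mulVec_smul, Matrix.mulVec_smul, hA0, hAr, smul_add, add_assoc,
        smul_smul, smul_smul, smul_smul, ← add_smul, mul_comm t s,
        show s * t + s * t = 0 by linear_combination (s * t) * Relations.one_add_one hF, zero_smul, add_zero]
    · rw [he k hk, Matrix.mulVec_smul, he k hk, smul_smul]
  have htr : t = 0 ∨ t * C.bar s * C.form r (v 0) = 1 := by
    have e := C.form_su A (v 0) (v 0)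
    rw [hA0, C.form_add_left, C.form_add_right, C.form_add_right, C.form_smul_left, C.form_smul_left,
      C.form_smul_left, C.form_smul_left, C.form_smul_right, C.form_smul_right, C.form_smul_right,
      C.form_smul_right, hiso 0, hrr, mul_zero, mul_zero, mul_zero, mul_zero, zero_add, add_zero] at e
    have hb : C.bar (t * C.bar s * C.form r (v 0)) = s * C.bar t * C.form (v 0) r := by
      rw [map_mul, map_mul, C.bar_bar, C.bar_form]; ring
    have hfix : C.bar (t * C.bar s * C.form r (v 0)) = t * C.bar s * C.form r (v 0) := by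
      rw [hb]
      linear_combination e - (t * C.bar s * C.form r (v 0)) * Relations.one_add_one hF
    rcases Relations.fixed_cases C hF hfix with r' | r'
    · left
      simpa [hs, hr1'] using r'
    · exact Or.inr r'
  rcases htr with ht0 | htr
  · left
    refine hp.pr_eq_one (s := s) fun k => ?_
    rcases eq_or_ne k 0 with rfl | hk
    · rw [hA0, ht0, zero_smul, add_zero]
    · exact he k hk
  · right
    refine ⟨β, γ, hrr, hr0, hr1', ?_⟩
    have hn2 := Relations.norm_one C hF hr1'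
    rw [C.bar_form] at hn2
    have key : pr (A * (tr1 C hF r hrr)⁻¹) = 1 := by
      refine hp.pr_eq_one (s := s) fun k => ?_
      rw [inv_eq_of_mul_eq_one_right (Relations.tr1_sq C hF r hrr), suMat_mulVec_mul, tr1_mulVec]
      rcases eq_or_ne k 0 with rfl | hk
      · rw [Matrix.mulVec_add, Matrix.mulVec_smul, hA0, hAr, add_assoc, smul_smul, ← add_smul]
        have : t + C.form (v 0) r * s = 0 := by
          linear_combination (s * C.form (v 0) r) * htr - (t * s * C.bar s) * hn2 - t * hn +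
            (s * C.form (v 0) r) * Relations.one_add_one hF
        rw [this, zero_smul, add_zero]
      · have h0 : C.form (v k) r = 0 := C.form_swap_zero (hr0 k hk)
        rw [h0, zero_smul, add_zero, he k hk]
    rw [map_mul, map_inv, mul_inv_eq_one] at key
    exact key

end path

end CfsgLib.Spor.Tri.Y332
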