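/-
The involution classes in types M(22) and M(23).
-/
import Cfsg.Agent.Lib.Spor.Tri.LevelData
import Mathlib.GroupTheory.Perm.Cycle.Type

namespace CfsgLib.Spor.Tri.Level

open CfsgLib.Spor.Tri CfsgLib.Spor.Tri.Relations

variable {G : Type*} [Group G] [Finite G] {D : Set G}

/-- Conjugation on the class. -/
def conjPerm (h : Hyp D) : G →* Equiv.Perm ↥D :=
  MonoidHom.mk' (fun g =>
    { toFun := fun a => ⟨g * a.1 * g⁻¹, h.conj g a.1 a.2⟩
      invFun := fun a => ⟨g⁻¹ * a.1 * g, by simpa using h.conj g⁻¹ a.1 a.2⟩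
      left_inv := fun a => Subtype.ext (by show g⁻¹ * (g * a.1 * g⁻¹) * g = a.1; group)
      right_inv := fun a => Subtype.ext (by show g * (g⁻¹ * a.1 * g) * g⁻¹ = a.1; group) })
    fun g k => Equiv.ext fun a => Subtype.ext (by
      show g * k * a.1 * (g * k)⁻¹ = g * (k * a.1 * k⁻¹) * g⁻¹; group)

theorem conjPerm_fixed (h : Hyp D) (g : G) (a : ↥D) : conjPerm h g a = a ↔ Commute g (a : G) := by
  refine ⟨fun r => ?_, fun r => Subtype.ext ?_⟩
  · have e : g * (a : G) * g⁻¹ = a := congrArg Subtype.val r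
    exact mul_inv_eq_iff_eq_mul.1 e
  · show g * (a : G) * g⁻¹ = a
    rw [r.eq, mul_inv_cancel_right]

/-- An involution fixes a point of an odd class. -/
theorem exists_fixed_odd (h : Hyp D) (ho : Odd D.ncard) {x : G} (hx : x * x = 1) : ∃ a ∈ D, Commute x a := by
  classical
  haveI := Fintype.ofFinite ↥D
  obtain ⟨a, ha⟩ := Equiv.Perm.exists_fixed_point_of_prime (p := 2) (n := 1) (σ := conjPerm h x) (by
    rw [← Nat.card_eq_fintype_card, Nat.card_coe_set_eq]
    exact Nat.two_dvd_ne_zero.2 (Nat.odd_iff.1 ho))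
    (by rw [pow_one, ← map_pow, pow_two, hx, map_one])
  exact ⟨a, a.2, (conjPerm_fixed h x a).1 ha⟩

/-- An involution fixes a point when members are even and free involutions would be odd. -/
theorem exists_fixed_even {v k l m : ℕ} (L : Lev D v k l m) (he : Even ((v - (k + 1)) / 2)) (ho : Odd (v / 2))
    {x : G} (hx : x * x = 1) : ∃ a ∈ D, Commute x a := by
  classical
  have h := L.hyp
  haveI := Fintype.ofFinite ↥D
  by_contra hcon
  push Not at hcon
  have hsgn : ∀ g : G, g * g = 1 → Equiv.Perm.sign (conjPerm h g) =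
      (-1) ^ ((v - {a | a ∈ D ∧ Commute g a}.ncard) / 2) := by
    intro g hg
    rw [Equiv.Perm.sign_of_pow_two_eq_one (by rw [← map_pow, pow_two, hg, map_one])]
    congr 3
    · rw [← Nat.card_eq_fintype_card, Nat.card_coe_set_eq, L.card]
    · rw [← Nat.card_eq_fintype_card]
      have e : {a | a ∈ D ∧ Commute g a} = Subtype.val '' Function.fixedPoints (conjPerm h g) := by
        ext a
        exact ⟨fun ⟨ha, hc⟩ => ⟨⟨a, ha⟩, (conjPerm_fixed h g ⟨a, ha⟩).2 hc, rfl⟩,
          fun ⟨b, hb, e⟩ => e ▸ ⟨b.2, (conjPerm_fixed h g b).1 hb⟩⟩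
      rw [e, Set.ncard_image_of_injective _ Subtype.val_injective, Nat.card_coe_set_eq]
  have heven : ∀ g : G, Equiv.Perm.sign (conjPerm h g) = 1 := by
    intro g
    have hg : g ∈ Subgroup.closure D := h.gen ▸ Subgroup.mem_top g
    induction hg using Subgroup.closure_induction with
    | mem a ha =>
      rw [hsgn a (h.mul_self ha)]
      have e : {b | b ∈ D ∧ Commute a b} = insert a (perp D a) := by
        ext b
        constructor
        · rintro ⟨hb, hc⟩
          rcases eq_or_ne b a with r | r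
          · exact Or.inl r
          · exact Or.inr ⟨hb, r, hc⟩
        · rintro (rfl | hb)
          · exact ⟨ha, Commute.refl _⟩
          · exact ⟨hb.1, hb.2.2⟩
      rw [e, Set.ncard_insert_of_notMem (fun r => r.2.1 rfl) (Set.toFinite _), L.deg a ha, he.neg_one_pow]
    | one => rw [map_one, map_one]
    | mul a b _ _ ea eb => rw [map_mul, map_mul, ea, eb, one_mul]
    | inv a _ ea => rw [map_inv, map_inv, ea, inv_one]
  have e0 : {a | a ∈ D ∧ Commute x a} = ∅ := Set.eq_empty_iff_forall_notMem.2 fun a ha => hcon a ha.1 ha.2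
  have := hsgn x hx
  rw [heven, e0, Set.ncard_empty, Nat.sub_zero, ho.neg_one_pow] at this
  exact absurd this (by decide)

omit [Finite G] in
/-- A list containing three given members, reordered. -/
theorem split_three [DecidableEq G] {l : List G} {a b c : G} (hnd : l.Nodup) (habc : [a, b, c].Nodup)
    (hsub : ∀ x ∈ [a, b, c], x ∈ l) : ∃ r : List G, r.length + 3 = l.length ∧ ([a, b, c] ++ r).Perm l := by
  refine ⟨l.filter (fun x => decide (x ∉ [a, b, c])), ?_, ?_⟩
  all_goals
    have hp : ([a, b, c] ++ l.filter (fun x => decide (x ∉ [a, b, c]))).Perm l := by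
      refine (List.perm_ext_iff_of_nodup (List.nodup_append.2 ⟨habc, hnd.filter _, fun x hx y hy e => ?_⟩) hnd).2
        fun x => ?_
      · rw [← e] at hy
        exact (of_decide_eq_true (List.mem_filter.1 hy).2) hx
      · rw [List.mem_append, List.mem_filter]
        refine ⟨fun r => r.elim (hsub x) fun r => r.1, fun r => ?_⟩
        by_cases q : x ∈ [a, b, c]
        · exact Or.inl q
        · exact Or.inr ⟨r, decide_eq_true q⟩
  · rw [← hp.length_eq, List.length_append]; simp; omega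
  · exact hp

/-- A local decomposition gives a decomposition in the group. -/
theorem decomp_step (h : Hyp D) {d : G} (hd : d ∈ D) (hnc : NC D d)
    (hcent : Subgroup.centralizer ({d} : Set G) ≤ loc D d)
    (hZl : ∀ z ∈ Subgroup.center ↥(loc D d), (z : G) = 1 ∨ (z : G) = d)
    (hfix : ∀ x : G, x * x = 1 → ∃ a ∈ D, Commute x a) (hX : Decomp 3 (img D d))
    (hred : ∀ a b c : G, a ∈ perp D d → b ∈ perp D d → c ∈ perp D d → Tuple D [a, b, c] →
      ∃ l : List G, Tuple D l ∧ 1 ≤ l.length ∧ l.length ≤ 3 ∧ l.prod = a * b * c * d) :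
    Decomp 3 D := by
  classical
  have hP := pre_of_hyp h
  suffices hloc : ∀ x ∈ loc D d, x * x = 1 → x ≠ 1 →
      ∃ l : List G, Tuple D l ∧ 1 ≤ l.length ∧ l.length ≤ 3 ∧ l.prod = x by
    intro x hxx hx1
    obtain ⟨a, ha, hxa⟩ := hfix x hxx
    obtain ⟨g, hg⟩ := h.transitive a ha d hd
    obtain ⟨l, ht, h1, h3, hp⟩ := hloc (g * x * g⁻¹) (hcent (Subgroup.mem_centralizer_singleton_iff.2 (by
        rw [← hg]; exact ((Commute.conj_iff g).2 hxa).eq)))
      (by rw [show g * x * g⁻¹ * (g * x * g⁻¹) = g * (x * x) * g⁻¹ by group, hxx]; group)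
      (fun r => hx1 (by simpa using r))
    refine ⟨l.map fun y => g⁻¹ * y * g⁻¹⁻¹, tuple_map hP g⁻¹ ht, by simpa using h1, by simpa using h3, ?_⟩
    rw [show (l.map fun y => g⁻¹ * y * g⁻¹⁻¹).prod = g⁻¹ * l.prod * g⁻¹⁻¹ from
      (map_list_prod (MulAut.conj g⁻¹).toMonoidHom l).symm, hp]
    group
  intro x hx hxx hx1
  set X : ↥(loc D d) := ⟨x, hx⟩
  set mk := QuotientGroup.mk' (Subgroup.center ↥(loc D d))
  rcases eq_or_ne (mk X) 1 with r | r
  · have e : x = d := (hZl X (mk_eq_one.1 r)).resolve_left hx1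
    exact ⟨[d], ⟨List.nodup_singleton d, by simp [nz, hd, h.ne_one hd], by simp⟩, le_rfl, by simp, by simp [e]⟩
  obtain ⟨q, ht, h1, h3, hp⟩ := hX (mk X) (by
    rw [← map_mul, show X * X = 1 from Subtype.ext hxx, map_one]) r
  obtain ⟨L, hLe, hLm⟩ := lift_exists (q := q) fun y hy => (ht.2.1 y hy).1
  have hT : Tuple D (L.map Subtype.val) := lift_tuple h hLm (hLe ▸ ht)
  have hlen : L.length = q.length := by rw [← hLe, List.length_map]
  have hprod : (L.map Subtype.val).prod = ((L.prod : ↥(loc D d)) : G) :=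
    (map_list_prod (Subgroup.subtype (loc D d)) L).symm
  have hz : X * L.prod ∈ Subgroup.center ↥(loc D d) := by
    apply mk_eq_one.1
    show mk (X * L.prod) = 1
    rw [map_mul, map_list_prod, hLe, hp, ← map_mul, show X * X = 1 from Subtype.ext hxx, map_one]
  rcases hZl _ hz with e | e
  · refine ⟨L.map Subtype.val, hT, by rw [List.length_map, hlen]; exact h1, by rw [List.length_map, hlen]; exact h3, ?_⟩
    rw [hprod]
    calc ((L.prod : ↥(loc D d)) : G) = x * x * (L.prod : ↥(loc D d)) := by rw [hxx, one_mul]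
      _ = x * ((X * L.prod : ↥(loc D d)) : G) := by rw [Subgroup.coe_mul, mul_assoc]
      _ = x := by rw [e, mul_one]
  · have hxd : x = d * (L.map Subtype.val).prod := by
      have hsq : ((L.map Subtype.val).prod) * (L.map Subtype.val).prod = 1 :=
        prod_mul_self _ (fun a ha => h.mul_self (hT.2.1 a ha).1) hT.2.2
      calc x = x * ((L.map Subtype.val).prod * (L.map Subtype.val).prod) := by rw [hsq, mul_one]
        _ = ((X * L.prod : ↥(loc D d)) : G) * (L.map Subtype.val).prod := by rw [Subgroup.coe_mul, ← hprod, mul_assoc]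
        _ = d * (L.map Subtype.val).prod := by rw [e]
    rcases Nat.lt_or_ge L.length 3 with hlt | hge
    · refine ⟨d :: L.map Subtype.val, ⟨List.nodup_cons.2 ⟨fun hm => ?_, hT.1⟩, ?_, ?_⟩, by simp, by simp; omega,
        by rw [List.prod_cons, hxd]⟩
      · obtain ⟨y, hy, ey⟩ := List.mem_map.1 hm
        exact (hLm y hy).2.1 ey
      · intro a ha
        rcases List.mem_cons.1 ha with rfl | ha
        · exact ⟨hd, h.ne_one hd⟩
        · exact hT.2.1 a ha
      · intro a ha b hb
        rcases List.mem_cons.1 ha with ea | ha <;> rcases List.mem_cons.1 hb with eb | hb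
        · rw [ea, eb]
        · obtain ⟨y, hy, ey⟩ := List.mem_map.1 hb
          rw [ea, ← ey]; exact (hLm y hy).2.2
        · obtain ⟨y, hy, ey⟩ := List.mem_map.1 ha
          rw [eb, ← ey]; exact (hLm y hy).2.2.symm
        · exact hT.2.2 a ha b hb
    · obtain ⟨a, b, c, rfl⟩ := List.length_eq_three.1 (show L.length = 3 by omega)
      obtain ⟨l, hl, e1, e3, ep⟩ := hred a b c (hLm a (by simp)) (hLm b (by simp)) (hLm c (by simp)) hT
      refine ⟨l, hl, e1, e3, ?_⟩
      have hcd : Commute d ((a : G) * b * c) :=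
        ((commute_loc a.2).mul_right (commute_loc b.2)).mul_right (commute_loc c.2)
      rw [ep, hxd, ← hcd.eq]
      simp [mul_assoc]

/-- Three through six with product one, in type M(22). -/
theorem six_one (h : Hyp D) {d : G} (W : Loc22 D d) {a b c : G} (ht : Tuple D [a, b, c]) :
    ∃ r : List G, r.length = 3 ∧ Tuple D ([a, b, c] ++ r) ∧ ([a, b, c] ++ r).prod = 1 := by
  classical
  obtain ⟨hnd, hmem, hcomm⟩ := ht
  have hn := hnd
  simp at hn
  have cab : Commute a b := hcomm a (by simp) b (by simp)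
  have cac : Commute a c := hcomm a (by simp) c (by simp)
  have cbc : Commute b c := hcomm b (by simp) c (by simp)
  have ma := hmem a (by simp)
  have mb := hmem b (by simp)
  have mc := hmem c (by simp)
  obtain ⟨l, hlnd, hllen, hiff, hca⟩ := W.six a ma.1 b mb c mc hn.1.1 hn.1.2 hn.2 cab cac cbc
  obtain ⟨r, hrlen, hperm⟩ := split_three hlnd hnd fun x hx => (hiff x).2 ⟨hmem x hx, fun f _ fa fb fc => by
    simp at hx; rcases hx with rfl | rfl | rfl <;> assumption⟩
  have hTl : Tuple D l := ⟨hlnd, fun x hx => ((hiff x).1 hx).1,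
    fun x hx y hy => cl_commute ma mb mc cab cac cbc ((hiff x).1 hx) ((hiff y).1 hy)⟩
  have hT : Tuple D ([a, b, c] ++ r) := ⟨hperm.nodup_iff.2 hlnd, fun x hx => hTl.2.1 x (hperm.subset hx),
    fun x hx y hy => hTl.2.2 x (hperm.subset hx) y (hperm.subset hy)⟩
  have hprod : ([a, b, c] ++ r).prod = l.prod :=
    hperm.prod_eq' (List.pairwise_of_forall_mem_list fun x hx y hy => hT.2.2 x hx y hy)
  obtain ⟨hal, -, hcen⟩ := quasi_all h W.mem (quasi22 h W) a ma.1
  have hin : ∀ x ∈ l, x ∈ loc D a := fun x hx => by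
    rcases eq_or_ne x a with e | e
    · rw [e]; exact hal
    · exact perp_loc ⟨((hiff x).1 hx).1.1, e, hTl.2.2 a (hperm.subset (by simp)) x hx⟩
  have hz : (⟨l.prod, list_prod_mem hin⟩ : ↥(loc D a)) ∈ Subgroup.center ↥(loc D a) :=
    central_loc fun w hw h1 _ hwc => hca w ⟨hw, h1⟩ hwc
  rw [hcen, Subgroup.mem_subgroupOf, Subgroup.mem_zpowers_iff] at hz
  obtain ⟨n, hn'⟩ := hz
  replace hn' : a ^ n = l.prod := hn'
  refine ⟨r, by omega, hT, ?_⟩
  rw [hprod]
  rcases Int.even_or_odd' n with ⟨k, rfl | rfl⟩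
  · rw [← hn', zpow_mul, zpow_two, h.mul_self ma.1, one_zpow]
  · exfalso
    have e : l.prod = a := by rw [← hn', zpow_add, zpow_mul, zpow_two, h.mul_self ma.1, one_zpow, one_mul, zpow_one]
    have hT5 : Tuple D ([b, c] ++ r) := by
      refine ⟨(List.nodup_cons.1 hT.1).2, fun x hx => hT.2.1 x (List.mem_cons_of_mem a hx),
        fun x hx y hy => hT.2.2 x (List.mem_cons_of_mem a hx) y (List.mem_cons_of_mem a hy)⟩
    refine W.norel ([b, c] ++ r) (List.cons_ne_nil _ _) hT5.1 (by simp; omega) hT5.2.1 hT5.2.2 ?_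
    have e2 : a * ([b, c] ++ r).prod = a := by rw [← List.prod_cons]; exact hprod.trans e
    exact mul_left_cancel (e2.trans (mul_one a).symm)

theorem red22 (h : Hyp D) {d : G} (W : Loc22 D d) : ∀ a b c : G, a ∈ perp D d → b ∈ perp D d → c ∈ perp D d →
    Tuple D [a, b, c] → ∃ l : List G, Tuple D l ∧ 1 ≤ l.length ∧ l.length ≤ 3 ∧ l.prod = a * b * c * d := by
  classical
  intro a b c ha hb hc ht
  have hdd := h.mul_self W.mem
  by_cases hf : ∃ f ∈ perp D d, Commute f a ∧ Commute f b ∧ ¬ Commute f c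
  · obtain ⟨x, y, z, ht6, -, hprod⟩ := hexad_lift h W.nc W.zl W.hexads W.six ha hb hc ht hf
    have hxyz : Tuple D [x, y, z] := ⟨(List.nodup_append.1 (show ([a, b, c] ++ [x, y, z]).Nodup from ht6.1)).2.1,
      fun e he => ht6.2.1 e (List.mem_append_right [a, b, c] he),
      fun e he e' he' => ht6.2.2 e (List.mem_append_right [a, b, c] he) e' (List.mem_append_right [a, b, c] he')⟩
    refine ⟨[x, y, z], hxyz, by simp, le_rfl, ?_⟩
    have hsq : (a * b * c) * (a * b * c) = 1 := by
      have := prod_mul_self [a, b, c] (fun e he => h.mul_self (ht.2.1 e he).1) ht.2.2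
      simpa [mul_assoc] using this
    calc [x, y, z].prod = (a * b * c) * (a * b * c) * (x * y * z) := by rw [hsq, one_mul]; simp [mul_assoc]
      _ = a * b * c * d := by rw [mul_assoc, hprod]
  · push Not at hf
    have hne : ∀ {q}, q ∈ img D d → q ∈ nz (img D d) := fun {q} hq => by rw [img_nz h W.nc]; exact hq
    have hn := ht.1
    simp at hn
    obtain ⟨l, hlnd, hlen, hmem, hcomm, hprod, hiff⟩ := W.lines (bar ha) (hne (bar_mem ha)) (bar hb)
      (hne (bar_mem hb)) (fun e => hn.1.1 ((bar_inj h W.nc ha hb).1 e))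
      ((bar_commute h ha hb).2 (ht.2.2 a (by simp) b (by simp)))
    have hin : ∀ x ∈ [bar ha, bar hb, bar hc], x ∈ l := by
      intro x hx
      simp at hx
      rcases hx with rfl | rfl | rfl
      · exact (hiff _ (hne (bar_mem ha))).2 fun f _ fa _ => fa
      · exact (hiff _ (hne (bar_mem hb))).2 fun f _ _ fb => fb
      · refine (hiff _ (hne (bar_mem hc))).2 fun f hf' fa fb => ?_
        obtain ⟨f', hf'', rfl⟩ := exists_bar hf'.1
        exact (bar_commute h hf'' hc).2 (hf f' hf'' ((bar_commute h hf'' ha).1 fa) ((bar_commute h hf'' hb).1 fb))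
    set A : ↥(loc D d) := ⟨a, perp_loc ha⟩
    set B : ↥(loc D d) := ⟨b, perp_loc hb⟩
    set C : ↥(loc D d) := ⟨c, perp_loc hc⟩
    have hABC : ∀ x ∈ [A, B, C], (x : G) ∈ perp D d := by simp [A, B, C, ha, hb, hc]
    have htb : Tuple (img D d) [bar ha, bar hb, bar hc] := bar_tuple h W.nc hABC (L := [A, B, C]) ht
    obtain ⟨r, hrlen, hperm⟩ := split_three hlnd htb.1 hin
    obtain ⟨R, hRe, hRm⟩ := lift_exists (q := r) fun x hx => (hmem x (hperm.subset (List.mem_append_right _ hx))).1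
    have hmap : ([A, B, C] ++ R).map (QuotientGroup.mk' (Subgroup.center ↥(loc D d))) =
        [bar ha, bar hb, bar hc] ++ r := by rw [List.map_append, hRe]; rfl
    have hT : Tuple D (([A, B, C] ++ R).map Subtype.val) := lift_tuple h
      (fun x hx => (List.mem_append.1 hx).elim (hABC x) (hRm x))
      (hmap ▸ ⟨hperm.nodup_iff.2 hlnd, fun x hx => hmem x (hperm.subset hx),
        fun x hx y hy => hcomm x (hperm.subset hx) y (hperm.subset hy)⟩)
    obtain ⟨x, y, rfl⟩ := List.length_eq_two.1 (show R.length = 2 by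
      have : R.length = r.length := by rw [← hRe, List.length_map]
      omega)
    have hT' : Tuple D [a, b, c, (x : G), y] := hT
    have hp : a * b * c * ((x : G) * y) = d := by
      rcases lift_prod W.zl (L := [A, B, C] ++ [x, y]) (by
        rw [hmap, hperm.prod_eq' (List.pairwise_of_forall_mem_list fun u hu w hw =>
          hcomm u (hperm.subset hu) w (hperm.subset hw)), hprod]) with e | e
      · exact absurd e (W.norel _ (List.cons_ne_nil _ _) hT.1 (by simp) hT.2.1 hT.2.2)
      · simpa [A, B, C, mul_assoc] using e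
    have hxy : Tuple D [(x : G), y] := ⟨(List.nodup_append.1 (show ([a, b, c] ++ [(x : G), y]).Nodup from hT'.1)).2.1,
      fun e he => hT'.2.1 e (List.mem_append_right [a, b, c] he),
      fun e he e' he' => hT'.2.2 e (List.mem_append_right [a, b, c] he) e' (List.mem_append_right [a, b, c] he')⟩
    refine ⟨[(x : G), y], hxy, by simp, by simp, ?_⟩
    have hsq : (a * b * c) * (a * b * c) = 1 := by
      have := prod_mul_self [a, b, c] (fun e he => h.mul_self (ht.2.1 e he).1) ht.2.2
      simpa [mul_assoc] using this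
    calc [(x : G), (y : G)].prod = (a * b * c) * (a * b * c) * ((x : G) * y) := by rw [hsq, one_mul]; simp
      _ = a * b * c * d := by rw [mul_assoc, hp]

theorem decomp22 (h : Hyp D) (hprim : Cfsg.IsPrimitiveUnderConj D) (h22 : Cfsg.IsOfTypeM22 G D) :
    Decomp 3 D := by
  obtain ⟨L, -⟩ := lev22 h hprim h22
  obtain ⟨d, W⟩ := local22 h hprim h22
  exact decomp_step h W.mem W.nc (L.cent d W.mem) W.zl
    (fun x hx => exists_fixed_even L (by decide) (by decide) hx) W.decomp (red22 h W)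

theorem decomp23 (h : Hyp D) (hprim : Cfsg.IsPrimitiveUnderConj D) (h23 : Cfsg.IsOfTypeM23 G D) :
    Decomp 3 D := by
  classical
  obtain ⟨L, -⟩ := lev23 h hprim h23
  obtain ⟨d, W⟩ := local23 h hprim h23
  obtain ⟨e, WX⟩ := local22 W.ihyp W.iprim W.type
  refine decomp_step h W.mem W.nc (L.cent d W.mem) W.zl
    (fun x hx => exists_fixed_odd h (by rw [L.card]; decide) hx) (decomp22 W.ihyp W.iprim W.type) ?_
  intro a b c ha hb hc ht
  set A : ↥(loc D d) := ⟨a, perp_loc ha⟩
  set B : ↥(loc D d) := ⟨b, perp_loc hb⟩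
  set C : ↥(loc D d) := ⟨c, perp_loc hc⟩
  have hABC : ∀ x ∈ [A, B, C], (x : G) ∈ perp D d := by simp [A, B, C, ha, hb, hc]
  have htb : Tuple (img D d) [bar ha, bar hb, bar hc] := bar_tuple h W.nc hABC (L := [A, B, C]) ht
  obtain ⟨r, hrlen, hrt, hrp⟩ := six_one W.ihyp WX htb
  obtain ⟨R, hRe, hRm⟩ := lift_exists (q := r) fun x hx => (hrt.2.1 x (List.mem_append_right _ hx)).1
  have hmap : ([A, B, C] ++ R).map (QuotientGroup.mk' (Subgroup.center ↥(loc D d))) =
      [bar ha, bar hb, bar hc] ++ r := by rw [List.map_append, hRe]; rfl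
  have hT : Tuple D (([A, B, C] ++ R).map Subtype.val) :=
    lift_tuple h (fun x hx => (List.mem_append.1 hx).elim (hABC x) (hRm x)) (hmap ▸ hrt)
  obtain ⟨x, y, z, rfl⟩ := List.length_eq_three.1 (show R.length = 3 by rw [← hrlen, ← hRe, List.length_map])
  have hT' : Tuple D [a, b, c, (x : G), y, z] := hT
  have hp : a * b * c * ((x : G) * y * z) = d := by
    rcases lift_prod W.zl (L := [A, B, C] ++ [x, y, z]) (by rw [hmap]; exact hrp) with e | e
    · exact absurd e (W.norel _ (List.cons_ne_nil _ _) hT.1 (by simp) hT.2.1 hT.2.2)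
    · simpa [A, B, C, mul_assoc] using e
  have hxyz : Tuple D [(x : G), y, z] := ⟨(List.nodup_append.1 (show ([a, b, c] ++ [(x : G), y, z]).Nodup from hT'.1)).2.1,
    fun e he => hT'.2.1 e (List.mem_append_right [a, b, c] he),
    fun e he e' he' => hT'.2.2 e (List.mem_append_right [a, b, c] he) e' (List.mem_append_right [a, b, c] he')⟩
  refine ⟨[(x : G), y, z], hxyz, by simp, le_rfl, ?_⟩
  have hsq : (a * b * c) * (a * b * c) = 1 := by
    have := prod_mul_self [a, b, c] (fun e he => h.mul_self (ht.2.1 e he).1) ht.2.2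
    simpa [mul_assoc] using this
  calc [(x : G), (y : G), (z : G)].prod = (a * b * c) * (a * b * c) * ((x : G) * y * z) := by
        rw [hsq, one_mul]; simp [mul_assoc]
    _ = a * b * c * d := by rw [mul_assoc, hp]

/-- The classes of products of at most three commuting members. -/
theorem invol_classes (h : Hyp D) {v k l m : ℕ} (L : Lev D v k l m) (hk : 0 < k) (hl : 0 < l)
    (hN : NoRel 5 D) (hdec : Decomp 3 D) (h1 : TupTrans 1 D) (h2 : TupTrans 2 D) (h3 : TupTrans 3 D) :
    (∀ x : G, orderOf x = 2 → ∃ m : ℕ, 1 ≤ m ∧ m ≤ 3 ∧ (∃ l : List G, l.Nodup ∧ l.length = m ∧ (∀ a ∈ l, a ∈ D) ∧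
      (∀ a ∈ l, ∀ b ∈ l, Commute a b) ∧ l.prod = x)) ∧
    (∀ m : ℕ, 1 ≤ m → m ≤ 3 → (∃ x : G, orderOf x = 2 ∧ (∃ l : List G, l.Nodup ∧ l.length = m ∧ (∀ a ∈ l, a ∈ D) ∧
      (∀ a ∈ l, ∀ b ∈ l, Commute a b) ∧ l.prod = x)) ∧
      ∀ x y : G, (∃ l : List G, l.Nodup ∧ l.length = m ∧ (∀ a ∈ l, a ∈ D) ∧ (∀ a ∈ l, ∀ b ∈ l, Commute a b) ∧
        l.prod = x) → (∃ l : List G, l.Nodup ∧ l.length = m ∧ (∀ a ∈ l, a ∈ D) ∧
        (∀ a ∈ l, ∀ b ∈ l, Commute a b) ∧ l.prod = y) → IsConj x y) ∧
    ∀ (m m' : ℕ) (x : G), 1 ≤ m → m ≤ 3 → 1 ≤ m' → m' ≤ 3 → (∃ l : List G, l.Nodup ∧ l.length = m ∧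
      (∀ a ∈ l, a ∈ D) ∧ (∀ a ∈ l, ∀ b ∈ l, Commute a b) ∧ l.prod = x) → (∃ l : List G, l.Nodup ∧ l.length = m' ∧
      (∀ a ∈ l, a ∈ D) ∧ (∀ a ∈ l, ∀ b ∈ l, Commute a b) ∧ l.prod = x) → m = m' := by
  classical
  have hP := pre_of_hyp h
  have hnz : ∀ a ∈ D, a ∈ nz D := fun a ha => ⟨ha, h.ne_one ha⟩
  refine ⟨fun x hx => ?_, fun n hn1 hn3 => ⟨?_, ?_⟩, ?_⟩
  · obtain ⟨l, ht, e1, e3, hp⟩ := hdec x (by rw [← pow_two, ← hx]; exact pow_orderOf_eq_one x)
      (fun e => by rw [e, orderOf_one] at hx; norm_num at hx)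
    exact ⟨l.length, e1, e3, l, ht.1, rfl, fun a ha => (ht.2.1 a ha).1, ht.2.2, hp⟩
  · obtain ⟨a, ha, -⟩ := L.prim.2.1
    obtain ⟨b, hb⟩ : (perp D a).Nonempty := (Set.ncard_pos (Set.toFinite _)).1 (by rw [L.deg a ha]; exact hk)
    obtain ⟨c, hc⟩ : (perp D a ∩ perp D b).Nonempty :=
      (Set.ncard_pos (Set.toFinite _)).1 (by rw [L.lam a ha b hb]; exact hl)
    have p1 := hb.2.1.symm
    have p2 := hc.1.2.1.symm
    have p3 := hc.2.2.1.symm
    have ht : Tuple D [a, b, c] := ⟨by simp [p1, p2, p3], by simp [nz, ha, hb.1, hc.1.1, h.ne_one ha, h.ne_one hb.1,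
      h.ne_one hc.1.1], by simp [hb.2.2, hc.1.2.2, hc.2.2.2, hb.2.2.symm, hc.1.2.2.symm, hc.2.2.2.symm]⟩
    set q := [a, b, c].take n
    have hqm : ∀ y ∈ q, y ∈ [a, b, c] := fun y hy => List.mem_of_mem_take hy
    have hqn : q.length = n := by simp [q]; omega
    have hq : Tuple D q := ⟨ht.1.sublist (List.take_sublist _ _), fun y hy => ht.2.1 y (hqm y hy),
      fun y hy z hz => ht.2.2 y (hqm y hy) z (hqm z hz)⟩
    refine ⟨q.prod, orderOf_eq_prime ?_ ?_, q, hq.1, hqn, fun y hy => (hq.2.1 y hy).1, hq.2.2, rfl⟩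
    · rw [pow_two]; exact prod_mul_self q (fun y hy => h.mul_self (hq.2.1 y hy).1) hq.2.2
    · exact hN q (fun e => by rw [e, List.length_nil] at hqn; omega) hq.1 (by omega)
        (fun y hy => hq.2.1 y hy) hq.2.2
  · rintro x y ⟨p, p1, p2, p3, p4, rfl⟩ ⟨q, q1, q2, q3, q4, rfl⟩
    have ht : TupTrans n D := by
      rcases (by omega : n = 1 ∨ n = 2 ∨ n = 3) with rfl | rfl | rfl <;> assumption
    obtain ⟨g, hg⟩ := ht p q p2 q2 ⟨p1, fun a ha => hnz a (p3 a ha), p4⟩ ⟨q1, fun a ha => hnz a (q3 a ha), q4⟩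
    exact isConj_iff.2 ⟨g, by rw [← hg]; exact map_list_prod (MulAut.conj g).toMonoidHom p⟩
  · rintro n n' x hn1 hn3 hn1' hn3' ⟨p, p1, p2, p3, p4, rfl⟩ ⟨q, q1, q2, q3, q4, hpq⟩
    by_contra hne
    have hcross : ∀ u ∈ q, ∀ w ∈ p, Commute u w := by
      intro u hu w hw
      have hj : Commute u p.prod := hpq ▸ Commute.list_prod_right _ _ fun z hz => q4 u hu z hz
      rcases (by omega : p.length = 1 ∨ p.length = 2 ∨ p.length = 3) with e | e | e
      · obtain ⟨a, rfl⟩ := List.length_eq_one_iff.1 e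
        simp at hw hj
        rw [hw]; exact hj
      · obtain ⟨a, b, rfl⟩ := List.length_eq_two.1 e
        simp at p1 hw hj
        have := (commute_mul_iff h.set (p3 a (by simp)) (p3 b (by simp)) (q3 u hu) p1
          (p4 a (by simp) b (by simp))).1 hj
        rcases hw with rfl | rfl
        · exact this.1
        · exact this.2
      · obtain ⟨a, b, c, rfl⟩ := List.length_eq_three.1 e
        simp at p1 hw
        rw [show [a, b, c].prod = a * b * c by simp [mul_assoc]] at hj
        have := (commute_mul_mul_iff h.set (p3 a (by simp)) (p3 b (by simp)) (p3 c (by simp)) (q3 u hu)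
          p1.1.1 p1.1.2 p1.2 (p4 a (by simp) b (by simp)) (p4 a (by simp) c (by simp))
          (p4 b (by simp) c (by simp))).1 hj
        rcases hw with rfl | rfl | rfl
        · exact this.1
        · exact this.2.1
        · exact this.2.2
    have heq := eq_of_prod_eq hP hN p q p1 q1
      (fun a ha => hnz a ((List.mem_append.1 ha).elim (p3 a) (q3 a))) (fun a ha b hb => by
        rcases List.mem_append.1 ha with ha | ha <;> rcases List.mem_append.1 hb with hb | hb
        · exact p4 a ha b hb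
        · exact (hcross b hb a ha).symm
        · exact hcross a ha b hb
        · exact q4 a ha b hb) hpq.symm (by
        have a1 := List.length_filter_le (fun a => decide (a ∉ q)) p
        have a2 := List.length_filter_le (fun a => decide (a ∉ p)) q
        omega)
    exact hne (p2 ▸ q2 ▸ ((List.perm_ext_iff_of_nodup p1 q1).2 heq).length_eq)

/-- Triples form one orbit in type M(22). -/
theorem tup_three22 (h : Hyp D) {d : G} (W : Loc22 D d) (hg : Good 5 D) : TupTrans 3 D :=
  tup_step (pre_of_hyp h) hg ⟨W.mem, h.ne_one W.mem⟩ (tup_two_of_lev W.lev (by norm_num))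

end CfsgLib.Spor.Tri.Level
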