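/-
The centralizer of a product of three commuting members in type M(22).
-/
import Cfsg.Agent.Lib.Spor.Tri.LevelInvol

namespace CfsgLib.Spor.Tri.Level

open CfsgLib.Spor.Tri CfsgLib.Spor.Tri.Relations

variable {G : Type*} [Group G] [Finite G] {D : Set G}

/-- Orbit and stabilizer in a subgroup. -/
theorem card_orbit_sub (H : Subgroup G) (a : G) :
    Nat.card ↥H = {y | ∃ g ∈ H, g * a * g⁻¹ = y}.ncard * Nat.card ↥(H ⊓ Subgroup.centralizer ({a} : Set G)) := by
  set H' := H.map (ConjAct.toConjAct : G ≃* ConjAct G).toMonoidHom with hH'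
  have e1 : Nat.card ↥H = Nat.card ↥H' :=
    (Subgroup.card_map_of_injective (MulEquiv.injective _)).symm
  have horb : MulAction.orbit ↥H' a = {y | ∃ g ∈ H, g * a * g⁻¹ = y} := by
    ext y
    constructor
    · rintro ⟨⟨_, g, hg, rfl⟩, rfl⟩; exact ⟨g, hg, rfl⟩
    · rintro ⟨g, hg, rfl⟩; exact ⟨⟨_, g, hg, rfl⟩, rfl⟩
  rw [e1, ← Subgroup.card_mul_index (MulAction.stabilizer ↥H' a), MulAction.index_stabilizer, horb, mul_comm]
  congr 1
  refine Nat.card_congr
    { toFun := fun g => ⟨ConjAct.ofConjAct (g.1 : ConjAct G), ?_, ?_⟩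
      invFun := fun g => ⟨⟨ConjAct.toConjAct g.1, g.1, g.2.1, rfl⟩, ?_⟩
      left_inv := fun g => Subtype.ext (Subtype.ext rfl)
      right_inv := fun g => Subtype.ext rfl }
  · obtain ⟨u, hu, e⟩ := g.1.2
    rw [← e]; exact hu
  · exact Subgroup.mem_centralizer_singleton_iff.2 (mul_inv_eq_iff_eq_mul.1 g.2)
  · exact mul_inv_eq_iff_eq_mul.2 (Subgroup.mem_centralizer_singleton_iff.1 g.2.2)

theorem card_triple22 (h : Hyp D) (hprim : Cfsg.IsPrimitiveUnderConj D) (h22 : Cfsg.IsOfTypeM22 G D) {a b c : G}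
    (ht : Tuple D [a, b, c]) : Nat.card ↥(Subgroup.centralizer ({a * b * c} : Set G)) = 1769472 := by
  classical
  have hP := pre_of_hyp h
  obtain ⟨L, -⟩ := lev22 h hprim h22
  obtain ⟨d, W⟩ := local22 h hprim h22
  have ht3 := tup_three22 h W (good_m22 hP h22).1
  obtain ⟨hnd, hmem, hcomm⟩ := id ht
  have hn := hnd
  simp at hn
  have ha := (hmem a (by simp)).1
  have hb := (hmem b (by simp)).1
  have hc := (hmem c (by simp)).1
  have cab : Commute a b := hcomm a (by simp) b (by simp)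
  have cac : Commute a c := hcomm a (by simp) c (by simp)
  have cbc : Commute b c := hcomm b (by simp) c (by simp)
  set j := a * b * c with hj
  have htup : ∀ {l : List G}, (∀ x ∈ l, x ∈ D) → l.Nodup → (∀ x ∈ l, ∀ y ∈ l, Commute x y) → Tuple D l :=
    fun hl hnd hc => ⟨hnd, fun x hx => ⟨hl x hx, h.ne_one (hl x hx)⟩, hc⟩
  -- the chain of stabilisers in the whole group
  have hCab : ∀ g, g ∈ Subgroup.centralizer ({a} : Set G) ⊓ Subgroup.centralizer ({b} : Set G) ↔
      g * a * g⁻¹ = a ∧ g * b * g⁻¹ = b := fun g => by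
    rw [Subgroup.mem_inf, Subgroup.mem_centralizer_singleton_iff, Subgroup.mem_centralizer_singleton_iff,
      mul_inv_eq_iff_eq_mul, mul_inv_eq_iff_eq_mul]
  have o1 : {y | ∃ g ∈ Subgroup.centralizer ({a} : Set G), g * b * g⁻¹ = y} = perp D a := by
    have hbp : b ∈ perp D a := ⟨hb, Ne.symm hn.1.1, cab⟩
    ext y
    constructor
    · rintro ⟨g, hg, rfl⟩
      have e : g * a * g⁻¹ = a := mul_inv_eq_iff_eq_mul.2 (Subgroup.mem_centralizer_singleton_iff.1 hg)
      have r : g * b * g⁻¹ ∈ perp D (g * a * g⁻¹) := by rw [perp_conj h]; exact ⟨b, hbp, rfl⟩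
      rwa [e] at r
    · intro hy
      obtain ⟨g, hg, e⟩ := trans_perp L (by norm_num) ha hbp hy
      exact ⟨g, loc_eq_centralizer (L.cent a ha) ▸ hg, e⟩
  have o2 : {y | ∃ g ∈ Subgroup.centralizer ({a} : Set G) ⊓ Subgroup.centralizer ({b} : Set G), g * c * g⁻¹ = y} =
      perp D a ∩ perp D b := by
    have hcp : c ∈ perp D a ∩ perp D b := ⟨⟨hc, Ne.symm hn.1.2, cac⟩, hc, Ne.symm hn.2, cbc⟩
    ext y
    constructor
    · rintro ⟨g, hg, rfl⟩
      obtain ⟨e, e'⟩ := (hCab g).1 hg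
      have r : g * c * g⁻¹ ∈ perp D (g * a * g⁻¹) ∩ perp D (g * b * g⁻¹) := by
        rw [image_inter_conj h]; exact ⟨c, hcp, rfl⟩
      rwa [e, e'] at r
    · intro hy
      obtain ⟨g, hg⟩ := ht3 [a, b, c] [a, b, y] rfl rfl ht (htup
        (by simp [ha, hb, hy.1.1]) (by simp [hn.1.1, hy.1.2.1.symm, hy.2.2.1.symm])
        (by simp [cab, cab.symm, hy.1.2.2, hy.1.2.2.symm, hy.2.2.2, hy.2.2.2.symm]))
      simp at hg
      exact ⟨g, (hCab g).2 ⟨hg.1, hg.2.1⟩, hg.2.2⟩
  set K := Subgroup.centralizer ({a} : Set G) ⊓ Subgroup.centralizer ({b} : Set G) ⊓ Subgroup.centralizer ({c} : Set G)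
  have q0 := card_eq_mul h ha
  have q1 := card_orbit_sub (Subgroup.centralizer ({a} : Set G)) b
  have q2 := card_orbit_sub (Subgroup.centralizer ({a} : Set G) ⊓ Subgroup.centralizer ({b} : Set G)) c
  rw [o1, L.deg a ha] at q1
  rw [o2, L.lam a ha b ⟨hb, Ne.symm hn.1.1, cab⟩] at q2
  rw [L.card, (card22 h hprim h22).1, q1, q2] at q0
  -- the six of the triangle
  obtain ⟨r, hr, hrt, hrp⟩ := six_one h W ht
  obtain ⟨l, hlnd, hllen, hiff, -⟩ := W.six a ha b ⟨hb, h.ne_one hb⟩ c ⟨hc, h.ne_one hc⟩ hn.1.1 hn.1.2 hn.2 cab cac cbc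
  obtain ⟨x, y, z, rfl⟩ := List.length_eq_three.1 hr
  have hrt' : Tuple D [a, b, c, x, y, z] := hrt
  have hxyz : Tuple D [x, y, z] := htup (fun e he => (hrt'.2.1 e (List.mem_append_right [a, b, c] he)).1)
    (List.nodup_append.1 (show ([a, b, c] ++ [x, y, z]).Nodup from hrt'.1)).2.1
    fun e he e' he' => hrt'.2.2 e (List.mem_append_right [a, b, c] he) e' (List.mem_append_right [a, b, c] he')
  have hsq : j * j = 1 := by
    have := prod_mul_self [a, b, c] (fun e he => h.mul_self (hmem e he).1) hcomm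
    simpa [hj, mul_assoc] using this
  have hxj : x * y * z = j := by
    have e : j * (x * y * z) = 1 := by rw [← hrp]; simp [hj, mul_assoc]
    calc x * y * z = j * (j * (x * y * z)) := by rw [← mul_assoc, hsq, one_mul]
      _ = j := by rw [e, mul_one]
  -- members of triples with product `j` lie in the six
  have hin : ∀ u v w : G, Tuple D [u, v, w] → u * v * w = j → u ∈ Cl D a b c := by
    intro u v w hu e
    refine ⟨hu.2.1 u (by simp), fun f hf fa fb fc => ?_⟩
    have hf' : Commute f (u * v * w) := e ▸ (fa.mul_right fb).mul_right fc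
    have hn' := hu.1
    simp at hn'
    exact ((commute_mul_mul_iff h.set (hu.2.1 u (by simp)).1 (hu.2.1 v (by simp)).1 (hu.2.1 w (by simp)).1 hf.1
      hn'.1.1 hn'.1.2 hn'.2 (hu.2.2 u (by simp) v (by simp)) (hu.2.2 u (by simp) w (by simp))
      (hu.2.2 v (by simp) w (by simp))).1 hf').1
  have perm3 : ∀ {u v w : G}, Tuple D [u, v, w] → u * v * w = j →
      (Tuple D [v, u, w] ∧ v * u * w = j) ∧ (Tuple D [w, u, v] ∧ w * u * v = j) ∧
      (Tuple D [u, w, v] ∧ u * w * v = j) := by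
    intro u v w hu e
    have hn' := hu.1
    simp at hn'
    obtain ⟨⟨n1, n2⟩, n3⟩ := hn'
    have c1 : Commute u v := hu.2.2 u (by simp) v (by simp)
    have c2 : Commute u w := hu.2.2 u (by simp) w (by simp)
    have c3 : Commute v w := hu.2.2 v (by simp) w (by simp)
    have mu := (hu.2.1 u (by simp)).1
    have mv := (hu.2.1 v (by simp)).1
    have mw := (hu.2.1 w (by simp)).1
    refine ⟨⟨htup (by simp [mu, mv, mw]) (by simp [Ne.symm n1, n3, n2])
      (by simp [c1, c2, c3, c1.symm, c2.symm, c3.symm]), by rw [← c1.eq, e]⟩,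
      ⟨htup (by simp [mu, mv, mw]) (by simp [Ne.symm n2, Ne.symm n3, n1])
      (by simp [c1, c2, c3, c1.symm, c2.symm, c3.symm]), ?_⟩,
      ⟨htup (by simp [mu, mv, mw]) (by simp [n2, Ne.symm n3, n1])
      (by simp [c1, c2, c3, c1.symm, c2.symm, c3.symm]), by rw [mul_assoc, ← c3.eq, ← mul_assoc, e]⟩⟩
    rw [mul_assoc, ((c2.symm.mul_right c3.symm)).eq, e]
  have hrev : ∀ e ∈ [a, b, c, x, y, z], ∃ v w, Tuple D [e, v, w] ∧ e * v * w = j := by
    intro e he
    simp at he
    obtain ⟨p1, p2, -⟩ := perm3 ht rfl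
    obtain ⟨s1, s2, -⟩ := perm3 hxyz hxj
    rcases he with rfl | rfl | rfl | rfl | rfl | rfl
    · exact ⟨_, _, ht, rfl⟩
    · exact ⟨_, _, p1⟩
    · exact ⟨_, _, p2⟩
    · exact ⟨_, _, hxyz, hxj⟩
    · exact ⟨_, _, s1⟩
    · exact ⟨_, _, s2⟩
  have hperm : [a, b, c, x, y, z].Perm l := (hrt'.1.subperm fun e he => by
    obtain ⟨v, w, t, p⟩ := hrev e he
    exact (hiff e).2 (hin e v w t p)).perm_of_length_le (by simp [hllen])
  set H := Subgroup.centralizer ({j} : Set G) with hH
  have hHmem : ∀ g, g ∈ H ↔ g * j * g⁻¹ = j := fun g => by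
    rw [hH, Subgroup.mem_centralizer_singleton_iff, mul_inv_eq_iff_eq_mul]
  have himg : ∀ g, g * j * g⁻¹ = (g * a * g⁻¹) * (g * b * g⁻¹) * (g * c * g⁻¹) := fun g => by rw [hj]; group
  have o3 : {u | ∃ g ∈ H, g * a * g⁻¹ = u} = {e | e ∈ l} := by
    ext u
    constructor
    · rintro ⟨g, hg, rfl⟩
      have t := tuple_map hP g ht
      exact (hiff _).2 (hin _ _ _ t (by rw [← himg, (hHmem g).1 hg]))
    · intro hu
      obtain ⟨v, w, t, p⟩ := hrev u (hperm.mem_iff.2 hu)
      obtain ⟨g, hg⟩ := ht3 [a, b, c] [u, v, w] rfl rfl ht t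
      simp at hg
      exact ⟨g, (hHmem g).2 (by rw [himg, hg.1, hg.2.1, hg.2.2, p]), hg.1⟩
  have n6 : {e | e ∈ l}.ncard = 6 := by
    rw [show {e | e ∈ l} = ↑l.toFinset by ext; simp, Set.ncard_coe_finset, List.toFinset_card_of_nodup hlnd, hllen]
  have o4 : {u | ∃ g ∈ H ⊓ Subgroup.centralizer ({a} : Set G), g * b * g⁻¹ = u} = {b, c} := by
    ext u
    constructor
    · rintro ⟨g, ⟨hg, hga⟩, rfl⟩
      have e1 : g * a * g⁻¹ = a := mul_inv_eq_iff_eq_mul.2 (Subgroup.mem_centralizer_singleton_iff.1 hga)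
      have e2 : (g * b * g⁻¹) * (g * c * g⁻¹) = b * c := by
        have e3 : a * ((g * b * g⁻¹) * (g * c * g⁻¹)) = a * (b * c) := by
          calc a * ((g * b * g⁻¹) * (g * c * g⁻¹)) = g * a * g⁻¹ * (g * b * g⁻¹) * (g * c * g⁻¹) := by
                rw [e1, ← mul_assoc]
            _ = g * j * g⁻¹ := (himg g).symm
            _ = j := (hHmem g).1 hg
            _ = a * (b * c) := mul_assoc a b c
        exact mul_left_cancel e3
      have t := tuple_map hP g ht
      simp only [List.map_cons, List.map_nil] at t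
      have hcr : ∀ w ∈ [g * b * g⁻¹, g * c * g⁻¹], Commute w b ∧ Commute w c := fun w hw => by
        have hwt : w ∈ [g * a * g⁻¹, g * b * g⁻¹, g * c * g⁻¹] := List.mem_cons_of_mem _ hw
        refine (commute_mul_iff h.set hb hc (t.2.1 w hwt).1 hn.2 cbc).1 (e2 ▸ ?_)
        exact (t.2.2 w hwt _ (by simp)).mul_right (t.2.2 w hwt _ (by simp))
      have heq := eq_of_prod_eq hP W.norel [b, c] [g * b * g⁻¹, g * c * g⁻¹] (by simp [hn.2])
        (List.nodup_cons.1 t.1).2
        (fun w hw => (List.mem_append.1 hw).elim (fun r => hmem w (List.mem_cons_of_mem a r))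
          fun r => t.2.1 w (List.mem_cons_of_mem _ r))
        (fun w hw w' hw' => by
          rcases List.mem_append.1 hw with hw | hw <;> rcases List.mem_append.1 hw' with hw' | hw'
          · exact hcomm w (List.mem_cons_of_mem a hw) w' (List.mem_cons_of_mem a hw')
          · obtain ⟨r1, r2⟩ := hcr w' hw'
            simp at hw
            rcases hw with rfl | rfl
            · exact r1.symm
            · exact r2.symm
          · obtain ⟨r1, r2⟩ := hcr w hw
            simp at hw'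
            rcases hw' with rfl | rfl
            · exact r1
            · exact r2
          · exact t.2.2 w (List.mem_cons_of_mem _ hw) w' (List.mem_cons_of_mem _ hw'))
        (by simpa using e2.symm) (by
          have a1 := List.length_filter_le (fun e => decide (e ∉ [g * b * g⁻¹, g * c * g⁻¹])) [b, c]
          have a2 := List.length_filter_le (fun e => decide (e ∉ [b, c])) [g * b * g⁻¹, g * c * g⁻¹]
          simp only [List.length_cons, List.length_nil] at a1 a2
          omega)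
      have := (heq (g * b * g⁻¹)).2 (by simp)
      simpa using this
    · intro hu
      rcases hu with rfl | rfl
      · exact ⟨1, one_mem _, by simp⟩
      · obtain ⟨-, -, p3⟩ := perm3 ht rfl
        obtain ⟨g, hg⟩ := ht3 [a, b, u] [a, u, b] rfl rfl ht p3.1
        simp at hg
        refine ⟨g, ⟨(hHmem g).2 (by rw [himg, hg.1, hg.2.1, hg.2.2, p3.2]), ?_⟩, hg.2.1⟩
        exact Subgroup.mem_centralizer_singleton_iff.2 (mul_inv_eq_iff_eq_mul.1 hg.1)
  have hK : H ⊓ Subgroup.centralizer ({a} : Set G) ⊓ Subgroup.centralizer ({b} : Set G) = K := by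
    ext g
    simp only [K, Subgroup.mem_inf, hHmem, Subgroup.mem_centralizer_singleton_iff, ← mul_inv_eq_iff_eq_mul, himg]
    constructor
    · rintro ⟨⟨e, e1⟩, e2⟩
      rw [e1, e2, hj] at e
      exact ⟨⟨e1, e2⟩, mul_left_cancel e⟩
    · rintro ⟨⟨e1, e2⟩, e3⟩
      exact ⟨⟨by rw [e1, e2, e3], e1⟩, e2⟩
  have q3 := card_orbit_sub H a
  have q4 := card_orbit_sub (H ⊓ Subgroup.centralizer ({a} : Set G)) b
  rw [o3, n6] at q3
  rw [o4, Set.ncard_pair hn.2, hK] at q4
  simp only [K] at q4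
  change Nat.card ↥H = _
  omega

end CfsgLib.Spor.Tri.Level
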