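/-
The centralizer of a non-commuting pair, by induction along the local quotients.
-/
import Cfsg.Agent.Lib.Spor.Tri.LevelOrder
import Cfsg.Agent.Lib.Spor.Tri.LevelTriple
import Cfsg.Agent.Lib.Spor.Tri.SmallSymmetric

set_option autoImplicit false

namespace CfsgLib.Spor.Tri.Level

open CfsgLib.Spor.Tri CfsgLib.Spor.Tri.Relations

variable {G : Type*} [Group G]

/-- What is propagated along the levels for the non-commuting pair `a`, `d`, with `P` its set of common neighbours. -/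
structure LineAt (D : Set G) (a d : G) (w : ℕ) : Prop where
  line : ∀ x ∈ D, (∀ p ∈ perp D a ∩ perp D d, Commute x p) → x = a ∨ x = d ∨ x = a * d * a
  width : WidthIs (perp D a ∩ perp D d) w
  cent : Subgroup.centralizer ({a, d} : Set G) ≤ Subgroup.closure (perp D a ∩ perp D d)
  triv : ∀ g ∈ Subgroup.centralizer ({a, d} : Set G), (∀ p ∈ perp D a ∩ perp D d, Commute g p) → g = 1

theorem mem_cent_two {a d g : G} : g ∈ Subgroup.centralizer ({a, d} : Set G) ↔ Commute g a ∧ Commute g d := by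
  rw [Subgroup.mem_centralizer_iff]
  exact ⟨fun r => ⟨(r a (by simp)).symm, (r d (by simp)).symm⟩, fun r x hx => by
    rcases hx with rfl | rfl
    · exact r.1.symm.eq
    · exact r.2.symm.eq⟩

theorem lineAt_equiv {Y : Type*} [Group Y] (e : G ≃* Y) {D : Set G} {a d : G} {w : ℕ}
    (H : LineAt (e '' D) (e a) (e d) w) : LineAt D a d w := by
  have hP : perp (e '' D) (e a) ∩ perp (e '' D) (e d) = e '' (perp D a ∩ perp D d) := by
    rw [perp_equiv e, perp_equiv e, Set.image_inter e.injective]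
  refine ⟨fun x hx hall => ?_, ?_, fun g hg => ?_, fun g hg hall => ?_⟩
  · have := H.line (e x) ⟨x, hx, rfl⟩ (by
      rw [hP]
      rintro _ ⟨p, hp, rfl⟩
      exact (commute_equiv e x p).2 (hall p hp))
    rw [← map_mul, ← map_mul] at this
    exact this.imp (fun r => e.injective r) (Or.imp (fun r => e.injective r) fun r => e.injective r)
  · have hw := H.width
    rw [hP] at hw
    exact width_equiv e _ hw
  · have hg' := H.cent (mem_cent_two.2 ⟨(commute_equiv e g a).2 (mem_cent_two.1 hg).1,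
      (commute_equiv e g d).2 (mem_cent_two.1 hg).2⟩)
    rw [hP, show (⇑e '' (perp D a ∩ perp D d)) = ⇑e.toMonoidHom '' (perp D a ∩ perp D d) from rfl,
      ← MonoidHom.map_closure] at hg'
    exact (Subgroup.mem_map_iff_mem e.injective).1 hg'
  · refine e.injective ?_
    rw [map_one]
    refine H.triv _ (mem_cent_two.2 ⟨(commute_equiv e g a).2 (mem_cent_two.1 hg).1,
      (commute_equiv e g d).2 (mem_cent_two.1 hg).2⟩) ?_
    rw [hP]
    rintro _ ⟨p, hp, rfl⟩
    exact (commute_equiv e g p).2 (hall p hp)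

theorem image_conj_eq {D : Set G} (h : Hyp D) (g : G) : MulAut.conj g '' D = D := by
  refine Set.Subset.antisymm ?_ fun x hx => ⟨g⁻¹ * x * g⁻¹⁻¹, h.conj g⁻¹ x hx, ?_⟩
  · rintro _ ⟨x, hx, rfl⟩; exact h.conj g x hx
  · rw [MulAut.conj_apply]; group

theorem lineAt_conj {D : Set G} (h : Hyp D) (g : G) {a d : G} {w : ℕ}
    (H : LineAt D (g * a * g⁻¹) (g * d * g⁻¹) w) : LineAt D a d w :=
  lineAt_equiv (MulAut.conj g) (by rwa [image_conj_eq h g, MulAut.conj_apply, MulAut.conj_apply])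

variable [Finite G] {D : Set G} (h : Hyp D)
include h

/-- Conjugation by an element commuting with both ends preserves the common neighbours. -/
theorem common_conj {a d g x : G} (hga : Commute g a) (hgd : Commute g d) (hx : x ∈ perp D a ∩ perp D d) :
    g * x * g⁻¹ ∈ perp D a ∩ perp D d := by
  rw [← conj_eq_of_commute hga, ← conj_eq_of_commute hgd, image_inter_conj h]
  exact ⟨x, hx, rfl⟩

omit h [Finite G] in
theorem closure_common_le {a d : G} :
    Subgroup.closure (perp D a ∩ perp D d) ≤ Subgroup.centralizer ({a, d} : Set G) :=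
  (Subgroup.closure_le _).2 fun _ hx => mem_cent_two.2 ⟨hx.1.2.2.symm, hx.2.2.2.symm⟩

omit [Finite G] in
theorem line_move {x y : G} (hx : x ∈ D) (hy : y ∈ D) (hn : ¬ Commute x y) : x * y * x * (x * y)⁻¹ = y := by
  rw [mul_inv_rev, h.inv_eq hx, h.inv_eq hy]
  calc x * y * x * (y * x) = x * (y * x * y) * x := by group
    _ = x * (x * y * x) * x := by rw [h.braid hx hy hn]
    _ = y := h.conj_conj hx

/-- The common neighbours form one class of their group. -/
theorem common_transitive {a d : G} {m : ℕ} (hbig : 2 * m < (perp D a ∩ perp D d).ncard)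
    (hdeg : ∀ p ∈ perp D a ∩ perp D d, (perp D a ∩ perp D d ∩ perp D p).ncard = m) {p p' : G}
    (hp : p ∈ perp D a ∩ perp D d) (hp' : p' ∈ perp D a ∩ perp D d) :
    ∃ k ∈ Subgroup.closure (perp D a ∩ perp D d), k * p * k⁻¹ = p' := by
  set P := perp D a ∩ perp D d
  set K := Subgroup.closure P
  have key : ∀ {x y : G}, x ∈ P → y ∈ P → ¬ Commute x y → ∃ k ∈ K, k * x * k⁻¹ = y := by
    intro x y hx hy hn
    refine ⟨x * y, mul_mem (Subgroup.subset_closure hx) (Subgroup.subset_closure hy), ?_⟩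
    exact line_move h hx.1.1 hy.1.1 hn
  by_cases hc : Commute p p'
  swap
  · exact key hp hp' hc
  rcases eq_or_ne p p' with rfl | hne
  · exact ⟨1, one_mem _, by simp⟩
  obtain ⟨r, hr, hrp, hrp'⟩ : ∃ r ∈ P, ¬ Commute p r ∧ ¬ Commute r p' := by
    by_contra hcon
    push Not at hcon
    have hsub : P ⊆ (P ∩ perp D p) ∪ (P ∩ perp D p') := by
      intro r hr
      by_cases h1 : r = p
      · exact Or.inr ⟨hr, h1 ▸ hp.1.1, h1 ▸ hne, h1 ▸ hc.symm⟩
      by_cases h2 : Commute p r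
      · exact Or.inl ⟨hr, hr.1.1, h1, h2⟩
      by_cases h3 : r = p'
      · exact absurd (h3 ▸ hc) h2
      · exact Or.inr ⟨hr, hr.1.1, h3, (hcon r hr h2).symm⟩
    have := (Set.ncard_le_ncard hsub (Set.toFinite _)).trans (Set.ncard_union_le _ _)
    rw [hdeg p hp, hdeg p' hp'] at this
    omega
  obtain ⟨k, hk, e⟩ := key hp hr hrp
  obtain ⟨k', hk', e'⟩ := key hr hp' hrp'
  exact ⟨k' * k, mul_mem hk' hk, by rw [← e', ← e]; group⟩

variable {d₀ : G} (hd₀ : d₀ ∈ D) (hnc : NC D d₀) {v k l m : ℕ} (L : Lev (img D d₀) v k l m)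
variable (hzl : ∀ z ∈ Subgroup.center ↥(loc D d₀), (z : G) = 1 ∨ (z : G) = d₀)
variable (hcent : Subgroup.centralizer ({d₀} : Set G) ≤ loc D d₀)
variable {μ w : ℕ} (hmu : ∀ a ∈ D, ∀ b ∈ D, ¬ Commute a b → (perp D a ∩ perp D b).ncard = μ) (hbig : 2 * m < μ)
variable (hm : 0 < m)
variable (I : ∀ q ∈ img D d₀, ∀ q' ∈ img D d₀, ¬ Commute q q' → LineAt (img D d₀) q q' w)

include hd₀ hnc L in
theorem common_deg {a d p : G} (ha : a ∈ D) (hd : d ∈ D) (hn : ¬ Commute a d) (hp : p ∈ perp D a ∩ perp D d) :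
    (perp D a ∩ perp D d ∩ perp D p).ncard = m := by
  rw [Set.inter_comm]
  exact (triple_of_local h hd₀ hnc L hp.1.1 (perp_symm ha hp.1) (perp_symm hd hp.2) (ne_of_not_commute hn)).2 hn

include hd₀ hnc L hzl hcent hmu hbig hm I in
/-- One step up, at a pair in the neighbourhood of the witness. -/
theorem lineAt_step_local {a d : G} (ha : a ∈ perp D d₀) (hd : d ∈ perp D d₀) (hn : ¬ Commute a d) :
    LineAt D a d (w + 1) := by
  classical
  set P := perp D a ∩ perp D d with hP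
  have hd₀P : d₀ ∈ P := ⟨perp_symm hd₀ ha, perp_symm hd₀ hd⟩
  have hcard : P.ncard = μ := hmu a ha.1 d hd.1 hn
  have hdeg : ∀ p ∈ P, (P ∩ perp D p).ncard = m := fun p hp => common_deg h hd₀ hnc L ha.1 hd.1 hn hp
  have hbn : ¬ Commute (bar ha) (bar hd) := fun r => hn ((bar_commute h ha hd).1 r)
  have J := I _ (bar_mem ha) _ (bar_mem hd) hbn
  -- a member not commuting with the witness
  have hout : ∀ p ∈ P, ∃ r ∈ P, ¬ Commute p r := fun p hp => by
    by_contra hcon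
    push Not at hcon
    have hsub : P \ {p} ⊆ P ∩ perp D p := fun r hr => ⟨hr.1, hr.1.1.1, hr.2, hcon r hr.1⟩
    have := Set.ncard_le_ncard hsub (Set.toFinite _)
    rw [hdeg p hp, Set.ncard_sdiff_singleton_of_mem hp, hcard] at this
    omega
  have himg : ∀ y (hy : y ∈ perp D d₀), bar hy ∈ perp (img D d₀) (bar ha) ∩ perp (img D d₀) (bar hd) ↔ y ∈ P :=
    fun y hy => and_congr (bar_perp h hnc hy ha) (bar_perp h hnc hy hd)
  refine ⟨fun x hx hall => ?_, ⟨fun S hS hcS => ?_, ?_⟩, fun g hg => ?_, fun g hg hall => ?_⟩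
  · have hxd : x ∈ perp D d₀ := by
      refine ⟨hx, fun e => ?_, (hall d₀ hd₀P).symm⟩
      obtain ⟨r, hr, hrn⟩ := hout d₀ hd₀P
      exact hrn (e ▸ hall r hr)
    have hth : a * d * a ∈ perp D d₀ := by
      refine ⟨h.conj_mem' ha.1 hd.1, fun e => ?_, commute_third ha.2.2 hd.2.2⟩
      exact (h.third_not_commute ha.1 hd.1 hn) (e ▸ ha.2.2.symm)
    have hbar : bar hth = bar ha * bar hd * bar ha := rfl
    rcases J.line (bar hxd) (bar_mem hxd) (fun q hq => by
      obtain ⟨y, hy, rfl⟩ := exists_bar hq.1.1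
      exact (bar_commute h hxd hy).2 (hall y ((himg y hy).1 hq))) with e | e | e
    · exact Or.inl ((bar_inj h hnc hxd ha).1 e)
    · exact Or.inr (Or.inl ((bar_inj h hnc hxd hd).1 e))
    · exact Or.inr (Or.inr ((bar_inj h hnc hxd hth).1 (e.trans hbar.symm)))
  · rcases S.eq_empty_or_nonempty with rfl | ⟨p, hp⟩
    · simp
    obtain ⟨c, hc, hcp⟩ := common_transitive h (show 2 * m < P.ncard by omega) hdeg (hS hp) hd₀P
    obtain ⟨hca, hcd⟩ := mem_cent_two.1 (closure_common_le hc)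
    set S' := (fun x => c * x * c⁻¹) '' S with hS'
    have hcard' : S'.ncard = S.ncard := Set.ncard_image_of_injective _ fun x y e => by simpa using e
    have hdS : d₀ ∈ S' := ⟨p, hp, hcp⟩
    have hsub : S' \ {d₀} ⊆ perp D d₀ := by
      rintro _ ⟨⟨x, hx, rfl⟩, hne⟩
      refine ⟨h.conj c x (hS hx).1.1, hne, ?_⟩
      rw [← hcp]; exact (Commute.conj_iff c).2 (hcS p hp x hx)
    set T : Set (↥(loc D d₀) ⧸ Subgroup.center ↥(loc D d₀)) :=
      {q | ∃ (y : G) (hy : y ∈ perp D d₀), y ∈ S' \ {d₀} ∧ bar hy = q} with hT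
    have hTimg : T ⊆ img D d₀ := by rintro _ ⟨y, hy, -, rfl⟩; exact bar_mem hy
    have e := ncard_bar h hnc hsub hTimg fun y hy =>
      ⟨fun ⟨y', hy', hm, r⟩ => (bar_inj h hnc hy' hy).1 r ▸ hm, fun r => ⟨y, hy, r, rfl⟩⟩
    have hle : T.ncard ≤ w := J.width.1 T (by
        rintro _ ⟨y, hy, ⟨⟨x, hx, rfl⟩, -⟩, rfl⟩
        exact (himg _ hy).2 (common_conj h hca hcd (hS hx))) (by
      rintro _ ⟨y, hy, ⟨⟨x, hx, rfl⟩, -⟩, rfl⟩ _ ⟨y', hy', ⟨⟨x', hx', rfl⟩, -⟩, rfl⟩
      exact (bar_commute h hy hy').2 ((Commute.conj_iff c).2 (hcS x hx x' hx')))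
    have e2 := Set.ncard_diff_singleton_add_one hdS (Set.toFinite _)
    omega
  · obtain ⟨E, hE, hc, hn'⟩ := J.width.2
    set S : Set G := {y | ∃ hy : y ∈ perp D d₀, bar hy ∈ E} with hS
    have hsub : S ⊆ perp D d₀ := fun y ⟨hy, _⟩ => hy
    have e := ncard_bar h hnc hsub (hE.trans fun q hq => hq.1.1) fun y hy => ⟨fun r => ⟨hy, r⟩, fun ⟨_, r⟩ => r⟩
    refine ⟨insert d₀ S, Set.insert_subset hd₀P fun y ⟨hy, r⟩ => (himg y hy).1 (hE r), ?_, ?_⟩
    · intro x hx y hy
      rcases Set.mem_insert_iff.1 hx with rfl | ⟨hx, hxE⟩ <;> rcases Set.mem_insert_iff.1 hy with rfl | ⟨hy, hyE⟩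
      · exact Commute.refl _
      · exact hy.2.2
      · exact hx.2.2.symm
      · exact (bar_commute h hx hy).1 (hc _ hxE _ hyE)
    · rw [Set.ncard_insert_of_notMem (fun r => (hsub r).2.1 rfl) (Set.toFinite _), ← e, hn']
  · obtain ⟨hga, hgd⟩ := mem_cent_two.1 hg
    obtain ⟨c, hc, hcp⟩ := common_transitive h (show 2 * m < P.ncard by omega) hdeg hd₀P (common_conj h hga hgd hd₀P)
    obtain ⟨hca, hcd⟩ := mem_cent_two.1 (closure_common_le hc)
    suffices hs : c⁻¹ * g ∈ Subgroup.closure P by simpa using mul_mem hc hs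
    have h0 : Commute (c⁻¹ * g) d₀ := by
      show c⁻¹ * g * d₀ = d₀ * (c⁻¹ * g)
      calc c⁻¹ * g * d₀ = c⁻¹ * (g * d₀ * g⁻¹) * g := by group
        _ = d₀ * (c⁻¹ * g) := by rw [← hcp]; group
    have h1 : c⁻¹ * g ∈ loc D d₀ := hcent (Subgroup.mem_centralizer_singleton_iff.2 h0.eq)
    have hmap : ∀ {x}, x ∈ perp D d₀ → Commute (c⁻¹ * g) x → ∀ hx : x ∈ perp D d₀,
        Commute (QuotientGroup.mk' (Subgroup.center ↥(loc D d₀)) ⟨c⁻¹ * g, h1⟩) (bar hx) := fun _ r hx =>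
      (show Commute (⟨c⁻¹ * g, h1⟩ : ↥(loc D d₀)) ⟨_, perp_loc hx⟩ from Subtype.ext r.eq).map (QuotientGroup.mk' _)
    have hb := J.cent (mem_cent_two.2 ⟨hmap ha (hca.inv_left.mul_left hga) ha, hmap hd (hcd.inv_left.mul_left hgd) hd⟩)
    have hle : Subgroup.closure (perp (img D d₀) (bar ha) ∩ perp (img D d₀) (bar hd)) ≤
        ((Subgroup.closure P).subgroupOf (loc D d₀)).map (QuotientGroup.mk' _) := by
      rw [Subgroup.closure_le]
      intro q hq
      obtain ⟨y, hy, rfl⟩ := exists_bar hq.1.1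
      exact ⟨⟨y, perp_loc hy⟩, Subgroup.subset_closure ((himg y hy).1 hq), rfl⟩
    obtain ⟨u, hu, he⟩ := hle hb
    have hz := (QuotientGroup.eq (s := Subgroup.center ↥(loc D d₀))).1 he
    have hz' : ((u⁻¹ * ⟨c⁻¹ * g, h1⟩ : ↥(loc D d₀)) : G) ∈ Subgroup.closure P := by
      rcases hzl _ hz with r | r <;> rw [r]
      · exact one_mem _
      · exact Subgroup.subset_closure hd₀P
    have := mul_mem (show (u : G) ∈ Subgroup.closure P from hu) hz'
    simpa using this
  · obtain ⟨hga, hgd⟩ := mem_cent_two.1 hg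
    have h1 : g ∈ loc D d₀ := hcent (Subgroup.mem_centralizer_singleton_iff.2 (hall d₀ hd₀P).eq)
    have hmap : ∀ {x} (hx : x ∈ perp D d₀), Commute g x →
        Commute (QuotientGroup.mk' (Subgroup.center ↥(loc D d₀)) ⟨g, h1⟩) (bar hx) := fun hx r =>
      (show Commute (⟨g, h1⟩ : ↥(loc D d₀)) ⟨_, perp_loc hx⟩ from Subtype.ext r.eq).map (QuotientGroup.mk' _)
    have hb := J.triv _ (mem_cent_two.2 ⟨hmap ha hga, hmap hd hgd⟩) (fun q hq => by
      obtain ⟨y, hy, rfl⟩ := exists_bar hq.1.1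
      exact hmap hy (hall y ((himg y hy).1 hq)))
    rcases hzl _ ((QuotientGroup.eq_one_iff _).1 hb) with r | r
    · exact r
    · obtain ⟨y, hy, hyn⟩ := hout d₀ hd₀P
      exact absurd (r ▸ hall y hy) hyn

include hd₀ hnc L hzl hcent hmu hbig hm I in
/-- One step up. -/
theorem lineAt_step {a d : G} (ha : a ∈ D) (hd : d ∈ D) (hn : ¬ Commute a d) : LineAt D a d (w + 1) := by
  obtain ⟨p, hp⟩ : (perp D a ∩ perp D d).Nonempty :=
    (Set.ncard_pos (Set.toFinite _)).1 (by rw [hmu a ha d hd hn]; omega)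
  obtain ⟨g, hg⟩ := h.transitive p hp.1.1 d₀ hd₀
  refine lineAt_conj h g (lineAt_step_local h hd₀ hnc L hzl hcent hmu hbig hm I ?_ ?_ fun r => hn ((Commute.conj_iff g).1 r))
  · rw [← hg, perp_conj h]; exact ⟨a, perp_symm ha hp.1, rfl⟩
  · rw [← hg, perp_conj h]; exact ⟨d, perp_symm hd hp.2, rfl⟩

end CfsgLib.Spor.Tri.Level
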