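/-
The normalizer of the product of a non-commuting pair.
-/
import Cfsg.Agent.Lib.Spor.Tri.LineCentralizer

set_option autoImplicit false

namespace CfsgLib.Spor.Tri.Level

open CfsgLib.Spor.Tri CfsgLib.Spor.Tri.Relations

variable {G : Type*} [Group G] [Finite G] {D : Set G} (h : Hyp D) {a d : G} (ha : a ∈ D) (hd : d ∈ D)
  (hn : ¬ Commute a d)

omit [Finite G] in
theorem common_set_eq (hn : ¬ Commute a d) :
    {y : G | y ∈ D ∧ Commute a y ∧ Commute d y ∧ y ≠ a ∧ y ≠ d} = perp D a ∩ perp D d :=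
  Set.ext fun _ => ⟨fun ⟨h1, h2, h3, h4, h5⟩ => ⟨⟨h1, h4, h2⟩, h1, h5, h3⟩,
    fun ⟨⟨h1, h4, h2⟩, _, h5, h3⟩ => ⟨h1, h2, h3, h4, h5⟩⟩

omit [Finite G] in
include h ha hd hn in
theorem inv_pair {x : G} (hx : x ∈ Subgroup.zpowers (a * d)) : a * x * a⁻¹ = x⁻¹ ∧ d * x * d⁻¹ = x⁻¹ := by
  have _ := hn
  obtain ⟨j, rfl⟩ := Subgroup.mem_zpowers_iff.1 hx
  have e1 : a * (a * d) * a⁻¹ = (a * d)⁻¹ := by
    rw [mul_inv_rev, h.inv_eq hd, h.inv_eq ha, ← mul_assoc, h.mul_self ha, one_mul]
  have e2 : d * (a * d) * d⁻¹ = (a * d)⁻¹ := by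
    rw [mul_inv_rev, h.inv_eq hd, h.inv_eq ha]
    calc d * (a * d) * d = d * a * (d * d) := by group
      _ = d * a := by rw [h.mul_self hd, mul_one]
  exact ⟨by rw [← conj_zpow, e1, inv_zpow], by rw [← conj_zpow, e2, inv_zpow]⟩

omit [Finite G] in
include h ha hd hn in
theorem mul_ne_inv : (a * d)⁻¹ ≠ a * d := fun e => hn ((h.commute_iff_sq ha hd).2 (by
  rw [pow_two]; nth_rewrite 1 [← e]; rw [inv_mul_cancel]))

include h ha hd hn in
/-- The members centralizing the product are the common neighbours. -/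
theorem members_cent :
    D ∩ (Subgroup.centralizer ((Subgroup.zpowers (a * d) : Subgroup G) : Set G) : Set G) = perp D a ∩ perp D d := by
  ext y
  constructor
  · rintro ⟨hy, hyc⟩
    have hyc' : Commute y (a * d) := (Subgroup.mem_centralizer_iff.1 hyc (a * d) (Subgroup.mem_zpowers _)).symm
    have hya : Commute y a := by
      by_contra hna
      have hb := h.braid ha hy (fun r => hna r.symm)
      -- `y` is a product of three elements inverting `a * d`
      have e1 := (inv_pair h ha hd hn (Subgroup.mem_zpowers (a * d))).1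
      rw [h.inv_eq ha] at e1
      have e2 : y * (a * d) * y = a * d := by rw [hyc'.eq, mul_assoc, h.mul_self hy, mul_one]
      have key : y * (a * d) * y = (a * d)⁻¹ := by
        have hy' : y = a * (y * a * y) * a := by rw [← hb, h.conj_conj ha]
        have e4 : y * a * y * (a * d) * (y * a * y) = (a * d)⁻¹ := by
          calc y * a * y * (a * d) * (y * a * y) = y * a * (y * (a * d) * y) * a * y := by group
            _ = y * (a * (a * d) * a) * y := by rw [e2]; group
            _ = y * (a * d)⁻¹ * y := by rw [e1]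
            _ = (a * d)⁻¹ := by rw [(hyc'.inv_right).eq, mul_assoc, h.mul_self hy, mul_one]
        have e5 : a * (a * d)⁻¹ * a = a * d := by
          rw [← e1]
          exact h.conj_conj ha
        rw [hy']
        calc a * (y * a * y) * a * (a * d) * (a * (y * a * y) * a)
            = a * ((y * a * y) * (a * (a * d) * a) * (y * a * y)) * a := by group
          _ = a * ((y * a * y) * (a * d)⁻¹ * (y * a * y)) * a := by rw [e1]
          _ = a * ((y * a * y) * (a * d) * (y * a * y))⁻¹ * a := by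
              rw [show ((y * a * y) * (a * d) * (y * a * y))⁻¹ = (y * a * y)⁻¹ * (a * d)⁻¹ * (y * a * y)⁻¹ by group,
                show (y * a * y)⁻¹ = y * a * y by rw [mul_inv_rev, mul_inv_rev, h.inv_eq hy, h.inv_eq ha, mul_assoc]]
          _ = a * (a * d) * a := by rw [e4, inv_inv]
          _ = (a * d)⁻¹ := e1
      exact mul_ne_inv h ha hd hn (key.symm.trans e2)
    have hyd : Commute y d := by
      have := (hya.mul_right hyc')
      rwa [← mul_assoc, h.mul_self ha, one_mul] at this
    exact ⟨⟨hy, fun e => hn (e ▸ hyd), hya.symm⟩, hy, fun e => hn (e ▸ hya).symm, hyd.symm⟩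
  · rintro ⟨⟨hy, -, c1⟩, -, -, c2⟩
    refine ⟨hy, Subgroup.mem_centralizer_iff.2 fun x hx => ?_⟩
    obtain ⟨j, rfl⟩ := Subgroup.mem_zpowers_iff.1 hx
    exact (((c1.symm.mul_right c2.symm).zpow_right j).symm).eq

variable {w : ℕ} (H : LineAt D a d w)

include h ha hd hn H in
/-- The members inverting the product lie on the line. -/
theorem inverting_mem {x : G} (hx : x ∈ D) (hinv : x * (a * d) * x = (a * d)⁻¹) :
    x = a ∨ x = d ∨ x = a * d * a := by
  refine H.line x hx fun p hp => ?_
  by_contra hnc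
  have hp' : x * p * x ∈ perp D a ∩ perp D d := by
    rw [← members_cent h ha hd hn]
    refine ⟨h.conj_mem' hx hp.1.1, Subgroup.mem_centralizer_iff.2 fun y hy => ?_⟩
    obtain ⟨j, rfl⟩ := Subgroup.mem_zpowers_iff.1 hy
    have hc : Commute (a * d)⁻¹ p := ((hp.1.2.2).mul_left hp.2.2.2).inv_left
    have : Commute (a * d) (x * p * x) := by
      have e : x * (a * d)⁻¹ * x = a * d := by rw [← hinv]; exact h.conj_conj hx
      rw [← e]
      exact (h.commute_conj hx).2 hc
    exact (this.zpow_left j).eq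
  have e : x = p * (x * p * x) * p := by rw [h.braid hx hp.1.1 hnc]; exact (h.conj_conj hp.1.1).symm
  have ca : Commute a x := by
    rw [e]; exact commute_third hp.1.2.2 hp'.1.2.2
  have cd : Commute d x := by
    rw [e]; exact commute_third hp.2.2.2 hp'.2.2.2
  refine mul_ne_inv h ha hd hn ?_
  rw [← hinv, mul_assoc, ((ca.mul_left cd)).eq, ← mul_assoc, h.mul_self hx, one_mul]

omit [Finite G] in
include h ha hd hn in
theorem pair_sup_mem {x y : G} (hx : x = a ∨ x = d ∨ x = a * d * a) (hy : y = a ∨ y = d ∨ y = a * d * a)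
    (hxy : x ≠ y) : ∃ s ∈ Subgroup.closure ({a, d} : Set G), s * a * s⁻¹ = x ∧ s * d * s⁻¹ = y := by
  set e := a * d * a with he
  have hb : a * d * a = d * a * d := h.braid ha hd hn
  have heD : e ∈ D := h.conj_mem' ha hd
  have ma : a ∈ Subgroup.closure ({a, d} : Set G) := Subgroup.subset_closure (by simp)
  have md : d ∈ Subgroup.closure ({a, d} : Set G) := Subgroup.subset_closure (by simp)
  have me : e ∈ Subgroup.closure ({a, d} : Set G) := mul_mem (mul_mem ma md) ma
  have e1 : e * a * e⁻¹ = d := by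
    rw [h.inv_eq heD, he]
    calc a * d * a * a * (a * d * a) = a * d * (a * a) * (a * d * a) := by group
      _ = a * (d * a * d) * a := by rw [h.mul_self ha]; group
      _ = d := by rw [← hb]; exact h.conj_conj ha
  have e2 : e * d * e⁻¹ = a := by
    rw [h.inv_eq heD, he, hb]
    calc d * a * d * d * (d * a * d) = d * a * (d * d) * (d * a * d) := by group
      _ = d * (a * d * a) * d := by rw [h.mul_self hd]; group
      _ = a := by rw [hb]; exact h.conj_conj hd
  have ea : a * a * a⁻¹ = a := by group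
  have ead : a * d * a⁻¹ = e := by rw [h.inv_eq ha]
  have eda : d * a * d⁻¹ = e := by rw [h.inv_eq hd, ← hb]
  have comp : ∀ {s t u v : G}, t * a * t⁻¹ = u → s * u * s⁻¹ = v → (s * t) * a * (s * t)⁻¹ = v := by
    intro s t u v r1 r2
    rw [← r2, ← r1]; group
  have comp' : ∀ {s t u v : G}, t * d * t⁻¹ = u → s * u * s⁻¹ = v → (s * t) * d * (s * t)⁻¹ = v := by
    intro s t u v r1 r2
    rw [← r2, ← r1]; group
  rcases hx with hx | hx | hx <;> rcases hy with hy | hy | hy
  · exact absurd (hx.trans hy.symm) hxy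
  · exact ⟨1, one_mem _, by simp [hx], by simp [hy]⟩
  · exact ⟨a, ma, by rw [hx, ea], by rw [hy, ead]⟩
  · exact ⟨e, me, by rw [hx, e1], by rw [hy, e2]⟩
  · exact absurd (hx.trans hy.symm) hxy
  · exact ⟨d * e, mul_mem md me, (comp e1 (by group)).trans hx.symm, (comp' e2 eda).trans hy.symm⟩
  · exact ⟨a * e, mul_mem ma me, (comp e1 ead).trans hx.symm, (comp' e2 (by group)).trans hy.symm⟩
  · exact ⟨d, md, by rw [hx, eda], by rw [hy]; group⟩
  · exact absurd (hx.trans hy.symm) hxy

include h ha hd hn H in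
/-- The normalizer of the product of a non-commuting pair. -/
theorem line_normalizer :
    Subgroup.closure ({a, d} : Set G) ⊓ Subgroup.centralizer ({a, d} : Set G) = ⊥ ∧
    (∀ x ∈ Subgroup.closure ({a, d} : Set G), ∀ y ∈ Subgroup.centralizer ({a, d} : Set G), x * y = y * x) ∧
    Subgroup.closure ({a, d} : Set G) ⊔ Subgroup.centralizer ({a, d} : Set G) =
      Subgroup.normalizer ((Subgroup.zpowers (a * d) : Subgroup G) : Set G) ∧
    Nonempty (↥(Subgroup.closure ({a, d} : Set G)) ≃* Equiv.Perm (Fin 3)) ∧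
    Subgroup.centralizer ({a, d} : Set G) = Subgroup.closure (perp D a ∩ perp D d) := by
  set S := Subgroup.closure ({a, d} : Set G) with hS
  set C := Subgroup.centralizer ({a, d} : Set G) with hC
  set X := Subgroup.zpowers (a * d) with hX
  obtain ⟨e⟩ := nonempty_equiv_perm_three (h.mul_self ha) (h.mul_self hd) (h.braid ha hd hn).symm
    (ne_of_not_commute hn) hn
  have hcomm : ∀ x ∈ S, ∀ y ∈ C, x * y = y * x := by
    intro x hx y hy
    have hle : S ≤ Subgroup.centralizer {y} := (Subgroup.closure_le _).2 fun z hz => by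
      rcases hz with rfl | rfl
      · exact Subgroup.mem_centralizer_singleton_iff.2 (mem_cent_two.1 hy).1.symm.eq
      · exact Subgroup.mem_centralizer_singleton_iff.2 (mem_cent_two.1 hy).2.symm.eq
    exact Subgroup.mem_centralizer_singleton_iff.1 (hle hx)
  refine ⟨?_, hcomm, ?_, ⟨e⟩, le_antisymm H.cent closure_common_le⟩
  · refine (Subgroup.eq_bot_iff_forall _).2 fun x hx => ?_
    have hdec : ∀ σ : Equiv.Perm (Fin 3), (∀ τ : Equiv.Perm (Fin 3), σ * τ = τ * σ) → σ = 1 := by decide
    have h1 := hdec (e ⟨x, hx.1⟩) fun τ => by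
      obtain ⟨z, rfl⟩ := e.surjective τ
      rw [← map_mul, ← map_mul]
      exact congrArg e (Subtype.ext (hcomm z z.2 x hx.2).symm)
    simpa using congrArg Subtype.val (e.injective (h1.trans (map_one e).symm))
  · have hgen : ∀ g : G, (∀ x ∈ X, g * x * g⁻¹ ∈ X) → (∀ x ∈ X, g⁻¹ * x * g⁻¹⁻¹ ∈ X) →
        g ∈ Subgroup.normalizer (X : Set G) := fun g h1 h2 => by
      rw [Subgroup.mem_normalizer_iff]
      refine fun x => ⟨h1 x, fun hx => ?_⟩
      simpa [mul_assoc] using h2 _ hx
    refine le_antisymm (sup_le ((Subgroup.closure_le _).2 fun g hg => ?_) fun g hg => ?_) fun g hg => ?_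
    · have hgi : g⁻¹ = g ∧ ∀ x ∈ X, g * x * g⁻¹ ∈ X := by
        rcases hg with rfl | rfl
        · exact ⟨h.inv_eq ha, fun x hx => (inv_pair h ha hd hn hx).1 ▸ inv_mem hx⟩
        · exact ⟨h.inv_eq hd, fun x hx => (inv_pair h ha hd hn hx).2 ▸ inv_mem hx⟩
      exact hgen g hgi.2 fun x hx => by rw [hgi.1]; exact hgi.2 x hx
    · have hfix : ∀ g ∈ C, ∀ x ∈ X, g * x * g⁻¹ ∈ X := fun g hg x hx => by
        obtain ⟨j, rfl⟩ := Subgroup.mem_zpowers_iff.1 hx
        rw [(((mem_cent_two.1 hg).1.mul_right (mem_cent_two.1 hg).2).zpow_right j).eq, mul_inv_cancel_right]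
        exact hx
      exact hgen g (hfix g hg) (hfix g⁻¹ (inv_mem hg))
    · have hN := Subgroup.mem_normalizer_iff.1 hg
      have key : ∀ u ∈ D, (∀ x ∈ X, u * x * u⁻¹ = x⁻¹) →
          g * u * g⁻¹ = a ∨ g * u * g⁻¹ = d ∨ g * u * g⁻¹ = a * d * a := by
        intro u hu hinv
        refine inverting_mem h ha hd hn H (h.conj g u hu) ?_
        have hm : g⁻¹ * (a * d) * g ∈ X := by
          rw [hN]
          have : g * (g⁻¹ * (a * d) * g) * g⁻¹ = a * d := by group
          rw [this]
          exact Subgroup.mem_zpowers _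
        have e1 := hinv _ hm
        rw [h.inv_eq hu] at e1
        calc g * u * g⁻¹ * (a * d) * (g * u * g⁻¹) = g * (u * (g⁻¹ * (a * d) * g) * u) * g⁻¹ := by group
          _ = (a * d)⁻¹ := by rw [e1]; group
      obtain ⟨s, hs, e1, e2⟩ := pair_sup_mem h ha hd hn (key a ha fun x hx => (inv_pair h ha hd hn hx).1)
        (key d hd fun x hx => (inv_pair h ha hd hn hx).2) (fun r => ne_of_not_commute hn (by simpa using r))
      have hmem : s⁻¹ * g ∈ C := by
        refine mem_cent_two.2 ⟨?_, ?_⟩
        · exact (fixes_of_same e1 rfl).symm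
        · exact (fixes_of_same e2 rfl).symm
      have := Subgroup.mul_mem_sup hs hmem
      rwa [mul_inv_cancel_left] at this

include h ha hd hn H in
theorem line_width :
    Cfsg.commutingWidth (D ∩ (Subgroup.centralizer ((Subgroup.zpowers (a * d) : Subgroup G) : Set G) : Set G)) = w := by
  rw [members_cent h ha hd hn]
  exact commutingWidth_eq H.width

omit [Finite G] in
include H in
theorem center_common_eq_bot : Subgroup.center ↥(Subgroup.closure (perp D a ∩ perp D d)) = ⊥ := by
  refine (Subgroup.eq_bot_iff_forall _).2 fun z hz => Subtype.ext ?_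
  exact H.triv z (closure_common_le z.2) fun p hp =>
    congrArg Subtype.val (Subgroup.mem_center_iff.1 hz ⟨p, Subgroup.subset_closure hp⟩).symm

include h in
omit hn in
/-- The groups of conjugate pairs are isomorphic modulo centres. -/
theorem common_iso {a' d' : G} (hg : ∃ g : G, g * a' * g⁻¹ = a ∧ g * d' * g⁻¹ = d) (H : LineAt D a d w) :
    Nonempty (↥(Subgroup.closure (perp D a ∩ perp D d)) ≃*
      (↥(Subgroup.closure (perp D a' ∩ perp D d')) ⧸ Subgroup.center ↥(Subgroup.closure (perp D a' ∩ perp D d')))) := by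
  obtain ⟨g, rfl, rfl⟩ := hg
  have e : Subgroup.closure (perp D (g * a' * g⁻¹) ∩ perp D (g * d' * g⁻¹)) =
      (Subgroup.closure (perp D a' ∩ perp D d')).map (MulAut.conj g).toMonoidHom := by
    rw [image_inter_conj h, MonoidHom.map_closure]
    rfl
  let φ : ↥(Subgroup.closure (perp D a' ∩ perp D d')) ≃*
      ↥(Subgroup.closure (perp D (g * a' * g⁻¹) ∩ perp D (g * d' * g⁻¹))) :=
    ((Subgroup.closure (perp D a' ∩ perp D d')).equivMapOfInjective (MulAut.conj g).toMonoidHom
      (MulAut.conj g).injective).trans (MulEquiv.subgroupCongr e.symm)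
  have hZ : Subgroup.center ↥(Subgroup.closure (perp D a' ∩ perp D d')) = ⊥ := by
    refine (Subgroup.eq_bot_iff_forall _).2 fun z hz => φ.injective ?_
    rw [map_one]
    have hm : φ z ∈ Subgroup.center _ := Subgroup.mem_center_iff.2 fun y => by
      obtain ⟨y, rfl⟩ := φ.surjective y
      rw [← map_mul, ← map_mul, Subgroup.mem_center_iff.1 hz y]
    rwa [center_common_eq_bot H, Subgroup.mem_bot] at hm
  exact ⟨φ.symm.trans ((QuotientGroup.quotientMulEquivOfEq hZ).trans QuotientGroup.quotientBot).symm⟩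

end CfsgLib.Spor.Tri.Level
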