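import Cfsg.Agent.Lib.Spor.Tri.LevelData

/-!
# The class of transpositions is the only class of 3-transpositions
-/

set_option autoImplicit false
set_option linter.all false

namespace CfsgLib.Spor.Tri.UniqueClass

open CfsgLib.Spor.Tri CfsgLib.Spor.Tri.Relations CfsgLib.Spor.Tri.Level

variable {G : Type*} [Group G] [Finite G] {D : Set G}

/-- two commuting members whose common neighbours are too many to commute pairwise -/
theorem exists_quad {v k l m w : ℕ} (L : Lev D v k l m) (W : WidthIs D w) (hw : w < l) {b f : G} (hb : b ∈ D)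
    (hf : f ∈ perp D b) : ∃ a c : G, a ∈ perp D b ∩ perp D f ∧ c ∈ perp D b ∩ perp D f ∧ ¬ Commute a c := by
  by_contra hcon
  push Not at hcon
  have := W.1 (perp D b ∩ perp D f) (fun x hx => hx.1.1) fun a ha c hc => hcon a c ha hc
  rw [L.lam b hb f hf] at this
  omega

/-- the product of two conjugate pairs -/
theorem quad_order {a b c f : G} (haa : a * a = 1) (hbb : b * b = 1) (hcc : c * c = 1) (hff : f * f = 1)
    (hne : b ≠ f) (hac : ¬ Commute a c) (hab : Commute a b) (hcb : Commute c b) (haf : Commute a f)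
    (hcf : Commute c f) (hbf : Commute b f) {z : G} (hz : z = a * b * (c * f)) : z ^ 2 ≠ 1 ∧ z ^ 3 ≠ 1 ∨
      ((a * c) ^ 3 ≠ 1) := by
  by_cases h3 : (a * c) ^ 3 = 1
  · left
    have e : z = a * c * (b * f) := by
      rw [hz, show a * b * (c * f) = a * (b * c) * f by group, ← hcb.eq]; group
    have hu : Commute (a * c) (b * f) := (hab.mul_left hcb).mul_right (haf.mul_left hcf)
    have hbf2 : (b * f) ^ 2 = 1 := by rw [hbf.mul_pow, pow_two, pow_two, hbb, hff, one_mul]
    rw [e, hu.mul_pow, hu.mul_pow, hbf2, h3, mul_one, one_mul]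
    refine ⟨fun r => hac ?_, ?_⟩
    · have : a * c = 1 := by
        have h3' := h3
        rw [pow_succ, r, one_mul] at h3'
        exact h3'
      rw [eq_inv_of_mul_eq_one_left this]
      exact (Commute.refl c).inv_left
    · rw [pow_succ, hbf2, one_mul]
      intro r
      exact hne (by rw [eq_inv_of_mul_eq_one_left r, inv_eq_of_mul_eq_one_right hff])
  · exact Or.inr h3

variable {v k l m w : ℕ}

/-- a product of two commuting members is no member of a class of 3-transpositions -/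
theorem not_two (L : Lev D v k l m) (W : WidthIs D w) (hw : w < l) {D' : Set G}
    (hD' : Cfsg.IsThreeTranspositionClass D') {p q : G} (hp : p ∈ D) (hq : q ∈ perp D p) (hj : p * q ∈ D') :
    False := by
  classical
  have h := L.hyp
  obtain ⟨a₀, ha₀⟩ : ∃ a₀, a₀ ∈ perp D p := ⟨q, hq⟩
  obtain ⟨a, c, ha, hc, hac⟩ := exists_quad L W hw hp hq
  -- both pairs are conjugate to the given one
  obtain ⟨hR, hperf⟩ := rank_three_data h L.prim ⟨p, hp, q, hq.1, hq.2.1.symm, hq.2.2⟩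
  obtain ⟨g, hg1, hg2⟩ := conj2_commuting h hR hperf hp hq ha.1.1 (perp_symm hp ha.1)
  obtain ⟨g', hg1', hg2'⟩ := conj2_commuting h hR hperf hp hq hc.1.1 (perp_symm hq.1 hc.2)
  obtain ⟨⟨-, hset⟩, ⟨d, hd, hcls⟩, -⟩ := hD'
  have hmem : ∀ u : G, u * (p * q) * u⁻¹ ∈ D' := fun u => by
    rw [hcls] at hj ⊢
    exact IsConj.trans (hj : IsConj d (p * q)) (isConj_iff.2 ⟨u, rfl⟩)
  have e1 : g * (p * q) * g⁻¹ = a * p := by
    rw [show g * (p * q) * g⁻¹ = (g * p * g⁻¹) * (g * q * g⁻¹) by group, hg1, hg2]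
  have e2 : g' * (p * q) * g'⁻¹ = c * q := by
    rw [show g' * (p * q) * g'⁻¹ = (g' * p * g'⁻¹) * (g' * q * g'⁻¹) by group, hg1', hg2']
  have h3 : (a * c) ^ 3 = 1 := (h.set.2 a ha.1.1 c hc.1.1).resolve_left fun r =>
    hac ((Relations.Pre.commute_iff_sq (pre_of_hyp h) ha.1.1 hc.1.1).2 r)
  rcases quad_order (h.mul_self ha.1.1) (h.mul_self hp) (h.mul_self hc.1.1) (h.mul_self hq.1) hq.2.1.symm hac
      ha.1.2.2.symm hc.1.2.2.symm ha.2.2.2.symm hc.2.2.2.symm hq.2.2 rfl with ⟨r2, r3⟩ | r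
  · rcases hset _ (e1 ▸ hmem g) _ (e2 ▸ hmem g') with r | r
    · exact r2 r
    · exact r3 r
  · exact r h3

/-- a product of three commuting members is no member either -/
theorem not_three (h : Hyp D) {e : G} (hne : NC D e) (he : e ∈ D) (L : Lev (img D e) v k l m)
    (W : WidthIs (img D e) w) (hw : w < l) {D' : Set G} (hD' : Cfsg.IsThreeTranspositionClass D') {p q : G}
    (hp : p ∈ perp D e) (hq : q ∈ perp D e) (hpq : q ∈ perp D p) (hj : p * q * e ∈ D') : False := by
  classical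
  have hqb : bar hq ∈ perp (img D e) (bar hp) := (bar_perp h hne hq hp).2 hpq
  obtain ⟨A, C, hA, hC, hAC⟩ := exists_quad L W hw (bar_mem hp) hqb
  obtain ⟨a, ha, rfl⟩ := exists_bar hA.1.1
  obtain ⟨c, hc, rfl⟩ := exists_bar hC.1.1
  obtain ⟨hR, hperf⟩ := rank_three_data L.hyp L.prim ⟨bar hp, bar_mem hp, bar hq, bar_mem hq, hqb.2.1.symm, hqb.2.2⟩
  obtain ⟨⟨-, hset⟩, ⟨d, hd, hcls⟩, -⟩ := hD'
  have hmem : ∀ u : G, u * (p * q * e) * u⁻¹ ∈ D' := fun u => by
    rw [hcls] at hj ⊢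
    exact IsConj.trans (hj : IsConj d (p * q * e)) (isConj_iff.2 ⟨u, rfl⟩)
  have lift : ∀ {x y : G} (hx : x ∈ perp D e) (hy : y ∈ perp D e), bar hy ∈ perp (img D e) (bar hx) →
      x * y * e ∈ D' := by
    intro x y hx hy hxy
    obtain ⟨g, hg1, hg2⟩ := conj2_commuting L.hyp hR hperf (bar_mem hp) hqb (bar_mem hx) hxy
    induction g using QuotientGroup.induction_on with
    | H u =>
      have hue : (u : G) * e * (u : G)⁻¹ = e := by rw [← (commute_loc u.2).eq, mul_inv_cancel_right]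
      have hmv : ∀ {z : G} (hz : z ∈ perp D e), (u : G) * z * (u : G)⁻¹ ∈ perp D e := fun {z} hz => by
        have := perp_conj h (u : G) e
        rw [hue] at this
        rw [this]; exact ⟨z, hz, rfl⟩
      have key : ∀ {z t : G} (hz : z ∈ perp D e) (ht : t ∈ perp D e),
          (QuotientGroup.mk u : ↥(loc D e) ⧸ Subgroup.center ↥(loc D e)) * bar hz * (QuotientGroup.mk u)⁻¹ = bar ht →
          (u : G) * z * (u : G)⁻¹ = t := fun {z t} hz ht r =>
        (bar_inj h hne (hmv hz) ht).1 r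
      rw [show x * y * e = (u : G) * (p * q * e) * (u : G)⁻¹ by
        rw [show (u : G) * (p * q * e) * (u : G)⁻¹ = ((u : G) * p * (u : G)⁻¹) * ((u : G) * q * (u : G)⁻¹) *
          ((u : G) * e * (u : G)⁻¹) by group, key hp hx hg1, key hq hy hg2, hue]]
      exact hmem _
  have hap : bar hp ∈ perp (img D e) (bar ha) := perp_symm (bar_mem hp) hA.1
  have hcq : bar hq ∈ perp (img D e) (bar hc) := perp_symm (bar_mem hq) hC.2
  have m1 := lift ha hp hap
  have m2 := lift hc hq hcq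
  have hac : ¬ Commute a c := fun r => hAC ((bar_commute h ha hc).2 r)
  have h3 : (a * c) ^ 3 = 1 := (h.set.2 a ha.1 c hc.1).resolve_left fun r =>
    hac ((Relations.Pre.commute_iff_sq (pre_of_hyp h) ha.1 hc.1).2 r)
  have cp := (bar_commute h ha hp).1 hap.2.2
  have cq := (bar_commute h ha hq).1 hA.2.2.2.symm
  have dp := (bar_commute h hc hp).1 hC.1.2.2.symm
  have dq := (bar_commute h hc hq).1 hcq.2.2
  have hz : a * p * e * (c * q * e) = a * p * (c * q) := by
    have he2 := h.mul_self he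
    have c1 : Commute e (c * q) := hc.2.2.mul_right hq.2.2
    rw [mul_assoc (a * p) e, ← mul_assoc e, c1.eq, mul_assoc (c * q), he2, mul_one]
  rcases quad_order (h.mul_self ha.1) (h.mul_self hp.1) (h.mul_self hc.1) (h.mul_self hq.1) hpq.2.1.symm hac
      cp dp cq dq hpq.2.2 hz with ⟨r2, r3⟩ | r
  · rcases hset _ m1 _ m2 with r | r
    · exact r2 r
    · exact r3 r
  · exact r h3

/-- **uniqueness from the classification of involutions** -/
theorem unique (L : Lev D v k l m) (W : WidthIs D w) (hw : w < l) {d : G} (hd : d ∈ D) (hnc : NC D d)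
    {v' k' l' m' w' : ℕ} (Le : Lev (img D d) v' k' l' m') (We : WidthIs (img D d) w') (hw' : w' < l')
    (hcl : ∀ x : G, orderOf x = 2 → ∃ n : ℕ, 1 ≤ n ∧ n ≤ 3 ∧ (∃ q : List G, q.Nodup ∧ q.length = n ∧
      (∀ a ∈ q, a ∈ D) ∧ (∀ a ∈ q, ∀ b ∈ q, Commute a b) ∧ q.prod = x))
    {D' : Set G} (hD' : Cfsg.IsThreeTranspositionClass D') : D' = D := by
  have h := L.hyp
  obtain ⟨hord, ⟨d', hd', hcls⟩, -⟩ := id hD'
  obtain ⟨n, hn1, hn3, q, hnd, hlen, hmem, hcomm, hprod⟩ := hcl d' (hord.1 d' hd')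
  match n, hn1, hn3, q, hnd, hlen, hmem, hcomm, hprod with
  | 1, _, _, [a], _, _, hmem, _, hprod =>
    simp only [List.prod_cons, List.prod_nil, mul_one] at hprod
    subst hprod
    have ha := hmem a (List.mem_cons_self ..)
    rw [hcls]
    ext x
    exact ⟨fun (r : IsConj a x) => by obtain ⟨g, rfl⟩ := isConj_iff.1 r; exact h.conj g a ha,
      fun r => isConj_iff.2 (h.transitive a ha x r)⟩
  | 2, _, _, [a, b], hnd, _, hmem, hcomm, hprod =>
    simp only [List.prod_cons, List.prod_nil, mul_one] at hprod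
    simp at hnd
    exact (not_two L W hw hD' (hmem a (by simp))
      ⟨hmem b (by simp), Ne.symm hnd, hcomm a (by simp) b (by simp)⟩ (hprod ▸ hd')).elim
  | 3, _, _, [a, b, e], hnd, _, hmem, hcomm, hprod =>
    simp only [List.prod_cons, List.prod_nil, mul_one] at hprod
    simp at hnd
    have he := hmem e (by simp)
    obtain ⟨g, rfl⟩ := h.transitive e he d hd
    refine (not_three h hnc hd Le We hw' hD' (p := g * a * g⁻¹) (q := g * b * g⁻¹)
      ⟨h.conj g a (hmem a (by simp)), fun r => hnd.1.2 (by simpa using r),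
        (Commute.conj_iff g).2 (hcomm e (by simp) a (by simp))⟩
      ⟨h.conj g b (hmem b (by simp)), fun r => hnd.2 (by simpa using r),
        (Commute.conj_iff g).2 (hcomm e (by simp) b (by simp))⟩
      ⟨h.conj g b (hmem b (by simp)), fun r => hnd.1.1 (by simpa using r.symm),
        (Commute.conj_iff g).2 (hcomm a (by simp) b (by simp))⟩ ?_).elim
    rw [hcls] at hd' ⊢
    refine IsConj.trans (hd' : IsConj d' d') (isConj_iff.2 ⟨g, ?_⟩)
    rw [← hprod]
    group

end CfsgLib.Spor.Tri.UniqueClass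

namespace CfsgLib.Spor.Tri.UniqueClass

open CfsgLib.Spor.Tri CfsgLib.Spor.Tri.Relations CfsgLib.Spor.Tri.Level

variable {G : Type*} [Group G] [Finite G] {D : Set G}

theorem unique22 (h : Hyp D) (hprim : Cfsg.IsPrimitiveUnderConj D) (h22 : Cfsg.IsOfTypeM22 G D)
    (hcl : ∀ x : G, orderOf x = 2 → ∃ n : ℕ, 1 ≤ n ∧ n ≤ 3 ∧ (∃ q : List G, q.Nodup ∧ q.length = n ∧
      (∀ a ∈ q, a ∈ D) ∧ (∀ a ∈ q, ∀ b ∈ q, Commute a b) ∧ q.prod = x))
    {D' : Set G} (hD' : Cfsg.IsThreeTranspositionClass D') : D' = D := by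
  obtain ⟨L, -⟩ := lev22 h hprim h22
  obtain ⟨-, W⟩ := card22 h hprim h22
  obtain ⟨d, Wd⟩ := local22 h hprim h22
  exact unique L W (by norm_num) Wd.mem Wd.nc Wd.lev Wd.width (by norm_num) hcl hD'

theorem unique23 (h : Hyp D) (hprim : Cfsg.IsPrimitiveUnderConj D) (h23 : Cfsg.IsOfTypeM23 G D)
    (hcl : ∀ x : G, orderOf x = 2 → ∃ n : ℕ, 1 ≤ n ∧ n ≤ 3 ∧ (∃ q : List G, q.Nodup ∧ q.length = n ∧
      (∀ a ∈ q, a ∈ D) ∧ (∀ a ∈ q, ∀ b ∈ q, Commute a b) ∧ q.prod = x))
    {D' : Set G} (hD' : Cfsg.IsThreeTranspositionClass D') : D' = D := by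
  obtain ⟨L, -⟩ := lev23 h hprim h23
  obtain ⟨-, W⟩ := card23 h hprim h23
  obtain ⟨d, Wd⟩ := local23 h hprim h23
  obtain ⟨L', -⟩ := lev22 Wd.ihyp Wd.iprim Wd.type
  obtain ⟨-, W'⟩ := card22 Wd.ihyp Wd.iprim Wd.type
  exact unique L W (by norm_num) Wd.mem Wd.nc L' W' (by norm_num) hcl hD'

end CfsgLib.Spor.Tri.UniqueClass
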