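/-
Every involutory automorphism of a group of type M(22) fixes a member of the class.

If `φ a` and `a` do not commute, then `φ` fixes `a * φ a * a`.  Otherwise `φ` leaves a maximal
commuting set `B` of 22 members invariant, moves a member `y` with no neighbour in `B` to one of
its 231 neighbours of the same kind, and these are the conjugates of `y` by the products of two
members of `B`, each once; so `φ` swaps the two factors and fixes `p * y * p`.
-/
import Cfsg.Agent.Lib.Spor.Tri.LevelInvol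
import Cfsg.Agent.Lib.Spor.Tri.UniqueClass
import Cfsg.Agent.Lib.Spor.Tri.Applications

namespace CfsgLib.Spor.Tri.InvolFixed

open CfsgLib.Spor.Tri CfsgLib.Spor.Tri.Relations CfsgLib.Spor.Tri.Level

variable {G : Type*} [Group G] [Finite G] {D : Set G}

omit [Finite G] in
theorem commute_members (h : Hyp D) {f : G} (hf : f ∈ D) {l : List G} (ht : Tuple D l) (hlen : l.length ≤ 3)
    (hc : Commute f l.prod) : ∀ e ∈ l, Commute f e := by
  match l, hlen with
  | [], _ => simp
  | [a], _ =>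
    intro e he
    simp at he hc
    rw [he]; exact hc
  | [a, b], _ =>
    have hn := ht.1
    simp at hn hc
    obtain ⟨r1, r2⟩ := (commute_mul_iff h.set (ht.2.1 a (by simp)).1 (ht.2.1 b (by simp)).1 hf hn
      (ht.2.2 a (by simp) b (by simp))).1 hc
    simp [r1, r2]
  | [a, b, c], _ =>
    have hn := ht.1
    simp at hn
    obtain ⟨r1, r2, r3⟩ := (commute_mul_mul_iff h.set (ht.2.1 a (by simp)).1 (ht.2.1 b (by simp)).1
      (ht.2.1 c (by simp)).1 hf hn.1.1 hn.1.2 hn.2 (ht.2.2 a (by simp) b (by simp)) (ht.2.2 a (by simp) c (by simp))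
      (ht.2.2 b (by simp) c (by simp))).1 (by simpa [mul_assoc] using hc)
    simp [r1, r2, r3]
  | _ :: _ :: _ :: _ :: _, hl => simp only [List.length_cons] at hl; omega

/-- A largest set of pairwise commuting members. -/
structure Base (D : Set G) (B : Finset G) : Prop where
  sub : ∀ b ∈ B, b ∈ D
  comm : ∀ b ∈ B, ∀ c ∈ B, Commute b c
  card : B.card = 22
  max : ∀ e ∈ D, (∀ b ∈ B, Commute e b) → e ∈ B

/-- The image of the class under an automorphism. -/
theorem image_class (h : Hyp D) {a : G} (ha : a ∈ D) (φ : MulAut G) :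
    Cfsg.IsThreeTranspositionClass (φ '' D) := by
  obtain ⟨hs, -, hg⟩ := class_of_hyp h ha
  refine ⟨⟨?_, ?_⟩, ⟨φ a, ⟨a, ha, rfl⟩, ?_⟩, ?_⟩
  · rintro _ ⟨x, hx, rfl⟩
    rw [MulEquiv.orderOf_eq]; exact hs.1 x hx
  · rintro _ ⟨x, hx, rfl⟩ _ ⟨y, hy, rfl⟩
    rcases hs.2 x hx y hy with r | r
    · exact Or.inl (by rw [← map_mul, ← map_pow, r, map_one])
    · exact Or.inr (by rw [← map_mul, ← map_pow, r, map_one])
  · ext z
    constructor
    · rintro ⟨x, hx, rfl⟩
      obtain ⟨g, rfl⟩ := h.transitive a ha x hx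
      exact isConj_iff.2 ⟨φ g, by simp⟩
    · intro hz
      obtain ⟨g, rfl⟩ := isConj_iff.1 hz
      exact ⟨φ.symm g * a * (φ.symm g)⁻¹, h.conj _ a ha, by simp⟩
  · have := congrArg (Subgroup.map φ.toMonoidHom) hg
    rw [MonoidHom.map_closure, Subgroup.map_top_of_surjective _ φ.surjective] at this
    exact this

theorem image_eq (h : Hyp D) (hprim : Cfsg.IsPrimitiveUnderConj D) (h22 : Cfsg.IsOfTypeM22 G D)
    (φ : MulAut G) : φ '' D = D := by
  obtain ⟨L, -⟩ := lev22 h hprim h22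
  obtain ⟨d, W⟩ := local22 h hprim h22
  obtain ⟨t1, t2⟩ := Relations.tuples_m22 (pre_of_hyp h) h22
  exact UniqueClass.unique22 h hprim h22 (invol_classes h L (by norm_num) (by norm_num) W.norel
    (decomp22 h hprim h22) t1 t2 (tup_three22 h W (Relations.good_m22 (pre_of_hyp h) h22).1)).1
    (image_class h W.mem φ)

theorem exists_invariant_sylow (φ : MulAut G) (hφ : φ * φ = 1) :
    ∃ P : Sylow 2 G, ∀ x ∈ (P : Subgroup G), φ x ∈ (P : Subgroup G) := by
  classical
  haveI : Fact (Nat.Prime 2) := ⟨Nat.prime_two⟩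
  haveI := Fintype.ofFinite (Sylow 2 G)
  obtain ⟨P, hP⟩ := Equiv.Perm.exists_fixed_point_of_prime (p := 2) (n := 1)
    (σ := MulAction.toPermHom (MulAut G) (Sylow 2 G) φ) (by
      rw [← Nat.card_eq_fintype_card]
      intro hd
      have := card_sylow_modEq_one 2 G
      unfold Nat.ModEq at this
      omega)
    (by rw [pow_one, ← map_pow, pow_two, hφ, map_one])
  refine ⟨P, fun x hx => ?_⟩
  have e : φ • P = P := hP
  rw [← e, Sylow.pointwise_smul_def]
  exact ⟨x, hx, rfl⟩

theorem exists_base (h : Hyp D) (hw : WidthIs D 22) (φ : MulAut G) (hφ : φ * φ = 1) (hφD : ∀ x ∈ D, φ x ∈ D) :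
    ∃ B : Finset G, Base D B ∧ ∀ b ∈ B, φ b ∈ B := by
  classical
  haveI : Fact (Nat.Prime 2) := ⟨Nat.prime_two⟩
  obtain ⟨hle, E, hE, hEc, hEn⟩ := hw
  obtain ⟨P, hP⟩ := exists_invariant_sylow φ hφ
  obtain ⟨T, hT⟩ := (isPGroup_closure_commuting h hE hEc).exists_le_sylow
  obtain ⟨g, rfl⟩ := MulAction.exists_smul_eq G T P
  set P : Sylow 2 G := g • T with hPdef
  set B := {x | x ∈ D ∧ x ∈ (P : Subgroup G)}
  have hfin : B.Finite := Set.toFinite _
  have hcomm : ∀ a ∈ B, ∀ b ∈ B, Commute a b := fun a ha b hb =>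
    commute_of_mem_two_group h P.isPGroup' ha.1 hb.1 ha.2 hb.2
  have hn : B.ncard = 22 := by
    refine le_antisymm (hle B (fun _ hx => hx.1) hcomm) ?_
    rw [← hEn, ← Set.ncard_image_of_injective E (MulAut.conj g).injective]
    refine Set.ncard_le_ncard ?_ hfin
    rintro _ ⟨x, hx, rfl⟩
    refine ⟨h.conj g x (hE hx), ?_⟩
    rw [hPdef, Sylow.smul_def, Sylow.pointwise_smul_def]
    exact ⟨x, hT (Subgroup.subset_closure hx), rfl⟩
  refine ⟨hfin.toFinset, ⟨fun b hb => (hfin.mem_toFinset.1 hb).1,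
    fun b hb c hc => hcomm b (hfin.mem_toFinset.1 hb) c (hfin.mem_toFinset.1 hc),
    by rw [← Set.ncard_eq_toFinset_card B hfin, hn], fun e he hec => ?_⟩, fun b hb => ?_⟩
  · by_contra hne
    have hne' : e ∉ B := fun r => hne (hfin.mem_toFinset.2 r)
    have := hle (insert e B) (Set.insert_subset he fun _ hx => hx.1) (by
      intro a ha b hb
      rcases ha with ea | ha <;> rcases hb with eb | hb
      · rw [ea, eb]
      · rw [ea]; exact hec b (hfin.mem_toFinset.2 hb)
      · rw [eb]; exact (hec a (hfin.mem_toFinset.2 ha)).symm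
      · exact hcomm a ha b hb)
    rw [Set.ncard_insert_of_notMem hne' hfin, hn] at this
    omega
  · obtain ⟨hb1, hb2⟩ := hfin.mem_toFinset.1 hb
    exact hfin.mem_toFinset.2 ⟨hφD b hb1, hP b hb2⟩

variable {B : Finset G}

/-- A member outside the base commutes with at most six of it. -/
theorem le_six (h : Hyp D) (hsix : ∀ a ∈ D, SixAt D a) (hB : Base D B) {w : G} (hw : w ∈ D) (hwB : w ∉ B)
    {C : Finset G} (hCB : C ⊆ B) (hwC : ∀ b ∈ C, Commute w b) : C.card ≤ 6 := by
  classical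
  by_contra hbig
  set C' := B.filter fun b => Commute w b with hC'
  have hsub : C ⊆ C' := fun b hb => Finset.mem_filter.2 ⟨hCB hb, hwC b hb⟩
  have hbig' : 7 ≤ C'.card := by
    have := Finset.card_le_card hsub
    omega
  have hnz : ∀ {b}, b ∈ B → b ∈ nz D := fun {b} hb => ⟨hB.sub b hb, h.ne_one (hB.sub b hb)⟩
  have hclosed : ∀ {x y z}, x ∈ C' → y ∈ C' → z ∈ C' → ∀ e ∈ Cl D x y z, e ∈ C' := by
    intro x y z hx hy hz e he
    rw [hC', Finset.mem_filter] at hx hy hz ⊢
    exact ⟨hB.max e he.1.1 fun b hb => (he.2 b (hnz hb) (hB.comm b hb x hx.1) (hB.comm b hb y hy.1)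
      (hB.comm b hb z hz.1)).symm, he.2 w ⟨hw, h.ne_one hw⟩ hx.2 hy.2 hz.2⟩
  have hmemB : ∀ {x}, x ∈ C' → x ∈ B := fun hx => (Finset.mem_filter.1 hx).1
  have hsix' : ∀ {x y z}, x ∈ C' → y ∈ C' → z ∈ C' → x ≠ y → x ≠ z → y ≠ z →
      (Cl D x y z).ncard = 6 ∧ x ∈ Cl D x y z ∧ y ∈ Cl D x y z ∧ z ∈ Cl D x y z := by
    intro x y z hx hy hz n1 n2 n3
    obtain ⟨l, hnd, hlen, hiff, -⟩ := hsix x (hB.sub x (hmemB hx)) y (hnz (hmemB hy)) z (hnz (hmemB hz)) n1 n2 n3
      (hB.comm x (hmemB hx) y (hmemB hy)) (hB.comm x (hmemB hx) z (hmemB hz)) (hB.comm y (hmemB hy) z (hmemB hz))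
    refine ⟨?_, ⟨hnz (hmemB hx), fun _ _ r _ _ => r⟩, ⟨hnz (hmemB hy), fun _ _ _ r _ => r⟩,
      ⟨hnz (hmemB hz), fun _ _ _ _ r => r⟩⟩
    rw [show Cl D x y z = ↑l.toFinset by ext e; simp [hiff e], Set.ncard_coe_finset,
      List.toFinset_card_of_nodup hnd, hlen]
  have hclEq : ∀ {a b c x y z}, a ∈ C' → b ∈ C' → c ∈ C' → a ≠ b → a ≠ c → b ≠ c →
      x ∈ Cl D a b c → y ∈ Cl D a b c → z ∈ Cl D a b c → x ≠ y → x ≠ z → y ≠ z →
      Cl D x y z = Cl D a b c := by
    intro a b c x y z ha hb hc n1 n2 n3 hx hy hz m1 m2 m3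
    refine Set.eq_of_subset_of_ncard_le (fun e he => ⟨he.1, fun f hf fa fb fc =>
      he.2 f hf (hx.2 f hf fa fb fc) (hy.2 f hf fa fb fc) (hz.2 f hf fa fb fc)⟩) ?_ (Set.toFinite _)
    rw [(hsix' ha hb hc n1 n2 n3).1, (hsix' (hclosed ha hb hc x hx) (hclosed ha hb hc y hy)
      (hclosed ha hb hc z hz) m1 m2 m3).1]
  obtain ⟨a, b, c, ha, hb, hc, nab, nac, nbc⟩ := Finset.two_lt_card_iff.1 (by omega : 2 < C'.card)
  obtain ⟨hH6, haH, -, -⟩ := hsix' ha hb hc nab nac nbc
  set H := (Set.toFinite (Cl D a b c)).toFinset with hH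
  have hHc : H.card = 6 := by rw [hH, ← Set.ncard_eq_toFinset_card, hH6]
  have hmH : ∀ {x}, x ∈ H ↔ x ∈ Cl D a b c := fun {x} => Set.Finite.mem_toFinset _
  obtain ⟨d, hd, hdH⟩ : ∃ d ∈ C', d ∉ H := by
    by_contra hcon
    push Not at hcon
    have := Finset.card_le_card hcon
    omega
  have hda : d ≠ a := fun e => hdH (hmH.2 (e ▸ haH))
  let T : G → Finset G := fun x => (Set.toFinite (Cl D a d x)).toFinset \ {a, d}
  have hxC : ∀ {x}, x ∈ H.erase a → x ∈ C' ∧ x ≠ a ∧ x ≠ d := fun {x} hx => by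
    obtain ⟨e, hx⟩ := Finset.mem_erase.1 hx
    exact ⟨hclosed ha hb hc x (hmH.1 hx), e, fun r => hdH (r ▸ hx)⟩
  have hT4 : ∀ x ∈ H.erase a, (T x).card = 4 := by
    intro x hx
    obtain ⟨hxC', hxa, hxd⟩ := hxC hx
    obtain ⟨h6, h1, h2, -⟩ := hsix' ha hd hxC' hda.symm hxa.symm hxd.symm
    show (_ \ ({a, d} : Finset G)).card = 4
    rw [Finset.card_sdiff_of_subset (by intro t ht; simp only [Finset.mem_insert, Finset.mem_singleton] at ht; rcases ht with rfl | rfl <;> simp [h1, h2]), ← Set.ncard_eq_toFinset_card, h6,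
      Finset.card_pair hda.symm]
  have hdisj : (↑(H.erase a) : Set G).PairwiseDisjoint T := by
    intro x hx x' hx' hxx
    obtain ⟨hxC', hxa, hxd⟩ := hxC (Finset.mem_coe.1 hx)
    obtain ⟨hxC'', hxa', hxd'⟩ := hxC (Finset.mem_coe.1 hx')
    rw [Function.onFun, Finset.disjoint_left]
    intro e he he'
    simp only [T, Finset.mem_sdiff, Set.Finite.mem_toFinset, Finset.mem_insert, Finset.mem_singleton, not_or] at he he'
    obtain ⟨-, ma, md, mx⟩ := hsix' ha hd hxC' hda.symm hxa.symm hxd.symm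
    obtain ⟨-, ma', md', mx'⟩ := hsix' ha hd hxC'' hda.symm hxa'.symm hxd'.symm
    have e1 := hclEq ha hd hxC' hda.symm hxa.symm hxd.symm ma md he.1 hda.symm (Ne.symm he.2.1) (Ne.symm he.2.2)
    have e2 := hclEq ha hd hxC'' hda.symm hxa'.symm hxd'.symm ma' md' he'.1 hda.symm (Ne.symm he'.2.1) (Ne.symm he'.2.2)
    rw [← e2, e1] at mx'
    have e3 := hclEq ha hd hxC' hda.symm hxa.symm hxd.symm ma mx mx' hxa.symm hxa'.symm hxx
    have e4 := hclEq ha hb hc nab nac nbc haH (hmH.1 (Finset.mem_erase.1 (Finset.mem_coe.1 hx)).2)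
      (hmH.1 (Finset.mem_erase.1 (Finset.mem_coe.1 hx')).2) hxa.symm hxa'.symm hxx
    rw [← e3, e4] at md
    exact hdH (hmH.2 md)
  have hU : ((H.erase a).biUnion T ∪ {a, d}).card = 22 := by
    rw [Finset.card_union_of_disjoint, Finset.card_biUnion hdisj, Finset.sum_congr rfl hT4, Finset.sum_const,
      Finset.card_erase_of_mem (hmH.2 haH), hHc, Finset.card_pair hda.symm]
    · rfl
    · rw [Finset.disjoint_left]
      intro e he
      obtain ⟨x, -, he⟩ := Finset.mem_biUnion.1 he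
      exact (Finset.mem_sdiff.1 he).2
  have hUC : (H.erase a).biUnion T ∪ {a, d} ⊆ C' := by
    intro e he
    rcases Finset.mem_union.1 he with he | he
    · obtain ⟨x, hx, he⟩ := Finset.mem_biUnion.1 he
      exact hclosed ha hd (hxC hx).1 e ((Set.Finite.mem_toFinset _).1 (Finset.mem_sdiff.1 he).1)
    · simp only [Finset.mem_insert, Finset.mem_singleton] at he
      rcases he with rfl | rfl <;> assumption
  have hCB' : C' = B := Finset.eq_of_subset_of_card_le (Finset.filter_subset _ _) (by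
    rw [hB.card, ← hU]; exact Finset.card_le_card hUC)
  exact hwB (hB.max w hw fun e he => (Finset.mem_filter.1 (hCB'.symm ▸ he : e ∈ C')).2)

/-- No neighbour in the base. -/
def Free (D : Set G) (B : Finset G) (y : G) : Prop := y ∈ D ∧ ∀ b ∈ B, ¬ Commute y b

omit [Finite G] in
theorem Free.notMem {y : G} (hy : Free D B y) : y ∉ B := fun r => hy.2 y r (Commute.refl y)

theorem exists_free (h : Hyp D) (L : Lev D 3510 693 180 126) (hsix : ∀ a ∈ D, SixAt D a) (hB : Base D B) :
    ∃ y, Free D B y := by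
  classical
  by_contra hcon
  push Not at hcon
  set Df := (Set.toFinite D).toFinset with hDf
  have hmD : ∀ {x}, x ∈ Df ↔ x ∈ D := fun {x} => Set.Finite.mem_toFinset _
  set W := Df \ B with hW
  have hWc : W.card = 3488 := by
    rw [hW, Finset.card_sdiff_of_subset fun b hb => hmD.2 (hB.sub b hb), hB.card, hDf,
      ← Set.ncard_eq_toFinset_card, L.card]
  let k : G → ℕ := fun w => (B.filter fun b => Commute w b).card
  have hk6 : ∀ w ∈ W, k w ≤ 6 := fun w hw => le_six h hsix hB (hmD.1 (Finset.mem_sdiff.1 hw).1)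
    (Finset.mem_sdiff.1 hw).2 (Finset.filter_subset _ _) fun b hb => (Finset.mem_filter.1 hb).2
  have hk1 : ∀ w ∈ W, 1 ≤ k w := fun w hw => by
    obtain ⟨b, hb, hc⟩ := hcon w |> fun H => by
      simpa [Free, hmD.1 (Finset.mem_sdiff.1 hw).1] using H
    exact Finset.card_pos.2 ⟨b, Finset.mem_filter.2 ⟨hb, hc⟩⟩
  have hsum1 : ∀ b ∈ B, (W.filter fun w => Commute w b).card = 672 := by
    intro b hb
    have hp := L.deg b (hB.sub b hb)
    rw [Set.ncard_eq_toFinset_card _ (Set.toFinite _)] at hp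
    have e : (Set.toFinite (perp D b)).toFinset = (W.filter fun w => Commute w b) ∪ B.erase b := by
      ext w
      simp only [Set.Finite.mem_toFinset, mem_perp, Finset.mem_union, Finset.mem_filter, hW, Finset.mem_sdiff, hmD,
        Finset.mem_erase]
      constructor
      · rintro ⟨h1, h2, h3⟩
        by_cases hwB : w ∈ B
        · exact Or.inr ⟨h2, hwB⟩
        · exact Or.inl ⟨⟨h1, hwB⟩, h3.symm⟩
      · rintro (⟨⟨h1, h2⟩, h3⟩ | ⟨h1, h2⟩)
        · exact ⟨h1, fun r => h2 (r ▸ hb), h3.symm⟩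
        · exact ⟨hB.sub w h2, h1, hB.comm b hb w h2⟩
    rw [e, Finset.card_union_of_disjoint, Finset.card_erase_of_mem hb, hB.card] at hp
    · omega
    · rw [Finset.disjoint_left]
      exact fun w hw hw' => (Finset.mem_sdiff.1 (Finset.mem_filter.1 hw).1).2 (Finset.mem_of_mem_erase hw')
  have hsum2 : ∀ b ∈ B, ∀ c ∈ B, b ≠ c → (W.filter fun w => Commute w b ∧ Commute w c).card = 160 := by
    intro b hb c hc hbc
    have hp := L.lam b (hB.sub b hb) c ⟨hB.sub c hc, hbc.symm, hB.comm b hb c hc⟩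
    rw [Set.ncard_eq_toFinset_card _ (Set.toFinite _)] at hp
    have e : (Set.toFinite (perp D b ∩ perp D c)).toFinset =
        (W.filter fun w => Commute w b ∧ Commute w c) ∪ (B.erase b).erase c := by
      ext w
      simp only [Set.Finite.mem_toFinset, Set.mem_inter_iff, mem_perp, Finset.mem_union, Finset.mem_filter, hW,
        Finset.mem_sdiff, hmD, Finset.mem_erase]
      constructor
      · rintro ⟨⟨h1, h2, h3⟩, -, h4, h5⟩
        by_cases hwB : w ∈ B
        · exact Or.inr ⟨h4, h2, hwB⟩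
        · exact Or.inl ⟨⟨h1, hwB⟩, h3.symm, h5.symm⟩
      · rintro (⟨⟨h1, h2⟩, h3, h4⟩ | ⟨h1, h2, h3⟩)
        · exact ⟨⟨h1, fun r => h2 (r ▸ hb), h3.symm⟩, h1, fun r => h2 (r ▸ hc), h4.symm⟩
        · exact ⟨⟨hB.sub w h3, h2, hB.comm b hb w h3⟩, hB.sub w h3, h1, hB.comm c hc w h3⟩
    rw [e, Finset.card_union_of_disjoint, Finset.card_erase_of_mem (Finset.mem_erase.2 ⟨hbc.symm, hc⟩),
      Finset.card_erase_of_mem hb, hB.card] at hp
    · omega
    · rw [Finset.disjoint_left]
      exact fun w hw hw' => (Finset.mem_sdiff.1 (Finset.mem_filter.1 hw).1).2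
        (Finset.mem_of_mem_erase (Finset.mem_of_mem_erase hw'))
  have hone : ∑ w ∈ W, k w = 14784 := by
    simp only [k, Finset.card_filter]
    rw [Finset.sum_comm]
    simp only [← Finset.card_filter]
    rw [Finset.sum_congr rfl hsum1, Finset.sum_const, hB.card, smul_eq_mul]
  have htwo : ∑ w ∈ W, k w * k w = 88704 := by
    simp only [k, Finset.card_filter, Finset.sum_mul_sum]
    rw [Finset.sum_comm]
    have : ∀ b ∈ B, (∑ w ∈ W, ∑ c ∈ B, if Commute w b ∧ Commute w c then 1 else 0) = 672 + 21 * 160 := by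
      intro b hb
      rw [Finset.sum_comm, ← Finset.add_sum_erase B _ hb]
      simp only [← Finset.card_filter, and_self]
      rw [hsum1 b hb, Finset.sum_congr rfl fun c hc => hsum2 b hb c (Finset.mem_of_mem_erase hc)
        (Finset.ne_of_mem_erase hc).symm, Finset.sum_const, Finset.card_erase_of_mem hb, hB.card, smul_eq_mul]
    simp only [ite_zero_mul_ite_zero, one_mul]
    rw [Finset.sum_congr rfl this, Finset.sum_const, hB.card, smul_eq_mul]
  have heq : ∀ w ∈ W, k w * k w = 6 * k w := (Finset.sum_eq_sum_iff_of_le fun w hw =>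
    Nat.mul_le_mul_right _ (hk6 w hw)).1 (by rw [htwo, ← Finset.mul_sum, hone]; norm_num)
  have hsix6 : ∀ w ∈ W, k w = 6 := fun w hw => Nat.eq_of_mul_eq_mul_right (hk1 w hw) (heq w hw)
  rw [Finset.sum_congr rfl hsix6, Finset.sum_const, hWc] at hone
  simp at hone

/-- Products of two members of the base act freely on the free members. -/
theorem eq_one_of_commute (h : Hyp D) (hdec : Decomp 3 D) (hB : Base D B) {y : G} (hy : Free D B y) {j : G}
    (hj : j * j = 1) (hjB : ∀ b ∈ B, Commute b j) (hjy : Commute y j) : j = 1 := by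
  by_contra hne
  obtain ⟨l, ht, h1, h3, rfl⟩ := hdec j hj hne
  obtain ⟨e, he⟩ := List.exists_mem_of_length_pos h1
  have heB : e ∈ B := hB.max e (ht.2.1 e he).1 fun b hb =>
    (commute_members h (hB.sub b hb) ht h3 (hjB b hb) e he).symm
  exact hy.2 e heB (commute_members h hy.1 ht h3 hjy e he)

/-- The conjugate by a product of two members of the base. -/
def duad (y : G) (p : G × G) : G := p.1 * p.2 * y * (p.1 * p.2)

theorem duad_facts (h : Hyp D) (hdec : Decomp 3 D) (hB : Base D B) {y : G} (hy : Free D B y) {p q : G}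
    (hp : p ∈ B) (hq : q ∈ B) (hpq : p ≠ q) :
    duad y (p, q) ∈ perp D y ∧ Free D B (duad y (p, q)) := by
  have hpD := hB.sub p hp
  have hqD := hB.sub q hq
  have cpq := hB.comm p hp q hq
  have e : duad y (p, q) = p * (q * y * q) * p := by
    show p * q * y * (p * q) = _
    rw [show p * q * y * (p * q) = p * q * y * (q * p) by rw [cpq.eq]]; group
  have hmem : duad y (p, q) ∈ D := e ▸ h.conj_mem' hpD (h.conj_mem' hqD hy.1)
  have hjj : p * q * (p * q) = 1 := by
    have := prod_mul_self [p, q] (fun a ha => h.mul_self (by simp at ha; rcases ha with rfl | rfl <;> assumption))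
      (fun a ha b hb => by simp at ha hb; rcases ha with rfl | rfl <;> rcases hb with rfl | rfl <;>
        first | exact Commute.refl _ | exact cpq | exact cpq.symm)
    simpa using this
  refine ⟨⟨hmem, fun r => ?_, ?_⟩, hmem, fun b hb hc => hy.2 b hb ?_⟩
  · have hjy : Commute y (p * q) := by
      show y * (p * q) = p * q * y
      calc y * (p * q) = (p * q * y * (p * q)) * (p * q) := by
            rw [show p * q * y * (p * q) = y from r]
        _ = p * q * y := by rw [mul_assoc, hjj, mul_one]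
    have := eq_one_of_commute h hdec hB hy hjj (fun b hb => (hB.comm b hb p hp).mul_right (hB.comm b hb q hq)) hjy
    exact hpq (by rw [eq_inv_of_mul_eq_one_left this, h.inv_eq hqD])
  · rw [e, ← h.commute_conj hpD, h.conj_conj hpD, h.braid hpD hy.1 fun c => hy.2 p hp c.symm,
      h.braid hqD hy.1 fun c => hy.2 q hq c.symm, h.commute_conj hy.1]
    exact cpq
  · rw [e] at hc
    have h1 := (h.commute_conj hpD).2 hc
    rw [h.conj_conj hpD, h.conj_fix hpD (hB.comm p hp b hb)] at h1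
    have h2 := (h.commute_conj hqD).2 h1
    rwa [h.conj_conj hqD, h.conj_fix hqD (hB.comm q hq b hb)] at h2

theorem duad_inj (h : Hyp D) (hdec : Decomp 3 D) (hN : NoRel 5 D) (hB : Base D B) {y : G} (hy : Free D B y)
    {p q r s : G} (hp : p ∈ B) (hq : q ∈ B) (hpq : p ≠ q) (hr : r ∈ B) (hs : s ∈ B) (hrs : r ≠ s)
    (he : duad y (p, q) = duad y (r, s)) : (p = r ∧ q = s) ∨ (p = s ∧ q = r) := by
  classical
  have hmem : ∀ x ∈ [p, q] ++ [r, s], x ∈ B := by simp [hp, hq, hr, hs]
  have hnz : ∀ x ∈ [p, q] ++ [r, s], x ∈ nz D := fun x hx =>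
    ⟨hB.sub x (hmem x hx), h.ne_one (hB.sub x (hmem x hx))⟩
  have hall : ∀ a ∈ [p, q] ++ [r, s], ∀ b ∈ [p, q] ++ [r, s], Commute a b := fun a ha b hb =>
    hB.comm a (hmem a ha) b (hmem b hb)
  have hsq : ∀ {u v}, u ∈ B → v ∈ B → u * v * (u * v) = 1 := fun {u v} hu hv => by
    calc u * v * (u * v) = u * (v * u) * v := by group
      _ = u * (u * v) * v := by rw [(hB.comm v hv u hu).eq]
      _ = (u * u) * (v * v) := by group
      _ = 1 := by rw [h.mul_self (hB.sub u hu), h.mul_self (hB.sub v hv), mul_one]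
  have hb : ∀ b ∈ B, Commute b (r * s * (p * q)) := fun b hb =>
    ((hB.comm b hb r hr).mul_right (hB.comm b hb s hs)).mul_right ((hB.comm b hb p hp).mul_right (hB.comm b hb q hq))
  have hcj : Commute (r * s) (p * q) :=
    ((hB.comm r hr p hp).mul_right (hB.comm r hr q hq)).mul_left ((hB.comm s hs p hp).mul_right (hB.comm s hs q hq))
  have hjj : r * s * (p * q) * (r * s * (p * q)) = 1 := by
    calc r * s * (p * q) * (r * s * (p * q)) = r * s * ((p * q) * (r * s)) * (p * q) := by group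
      _ = (r * s * (r * s)) * (p * q * (p * q)) := by rw [← hcj.eq]; group
      _ = 1 := by rw [hsq hr hs, hsq hp hq, mul_one]
  have hjy : Commute y (r * s * (p * q)) := by
    show y * (r * s * (p * q)) = r * s * (p * q) * y
    have he' : p * q * y * (p * q) = r * s * y * (r * s) := he
    calc y * (r * s * (p * q)) = (r * s * (r * s)) * y * (r * s) * (p * q) := by rw [hsq hr hs]; group
      _ = (r * s) * (r * s * y * (r * s)) * (p * q) := by group
      _ = (r * s) * (p * q * y * (p * q)) * (p * q) := by rw [he']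
      _ = r * s * (p * q) * y * (p * q * (p * q)) := by group
      _ = r * s * (p * q) * y := by rw [hsq hp hq, mul_one]
  have hj1 := eq_one_of_commute h hdec hB hy hjj hb hjy
  have hprod : [p, q].prod = [r, s].prod := by
    simp only [List.prod_cons, List.prod_nil, mul_one]
    calc p * q = (r * s * (r * s)) * (p * q) := by rw [hsq hr hs, one_mul]
      _ = r * s * (r * s * (p * q)) := by rw [mul_assoc]
      _ = r * s := by rw [hj1, mul_one]
  have hiff := eq_of_prod_eq (pre_of_hyp h) hN [p, q] [r, s] (by simp [hpq]) (by simp [hrs]) hnz hall hprod (by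
    have a1 := List.length_filter_le (fun a => decide (a ∉ [r, s])) [p, q]
    have a2 := List.length_filter_le (fun a => decide (a ∉ [p, q])) [r, s]
    simp only [List.length_cons, List.length_nil] at a1 a2
    omega)
  have h1 := (hiff p).1 (by simp)
  have h2 := (hiff q).1 (by simp)
  simp at h1 h2
  rcases h1 with e1 | e1 <;> rcases h2 with e2 | e2
  · exact absurd (e1.trans e2.symm) hpq
  · exact Or.inl ⟨e1, e2⟩
  · exact Or.inr ⟨e1, e2⟩
  · exact absurd (e1.trans e2.symm) hpq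

/-- Every free neighbour of a free member is one of the 231 conjugates. -/
theorem exists_duad (h : Hyp D) (L : Lev D 3510 693 180 126) (hdec : Decomp 3 D) (hN : NoRel 5 D)
    (hsix : ∀ a ∈ D, SixAt D a) (hB : Base D B) {y z : G} (hy : Free D B y) (hz : z ∈ perp D y)
    (hzf : Free D B z) : ∃ p ∈ B, ∃ q ∈ B, p ≠ q ∧ duad y (p, q) = z := by
  classical
  by_contra hcon
  push Not at hcon
  set N := (Set.toFinite (perp D y)).toFinset with hNdef
  have hmN : ∀ {x}, x ∈ N ↔ x ∈ perp D y := fun {x} => Set.Finite.mem_toFinset _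
  have hNc : N.card = 693 := by rw [hNdef, ← Set.ncard_eq_toFinset_card, L.deg y hy.1]
  have hNB : ∀ w ∈ N, w ∉ B := fun w hw hwB => hy.2 w hwB (hmN.1 hw).2.2
  let k : G → ℕ := fun w => (B.filter fun b => Commute w b).card
  have hk6 : ∀ w ∈ N, k w ≤ 6 := fun w hw => le_six h hsix hB (hmN.1 hw).1 (hNB w hw)
    (Finset.filter_subset _ _) fun b hb => (Finset.mem_filter.1 hb).2
  have hmu : ∀ b ∈ B, (N.filter fun w => Commute w b).card = 126 := by
    intro b hb
    rw [← L.mu y hy.1 b (hB.sub b hb) (hy.2 b hb), Set.ncard_eq_toFinset_card _ (Set.toFinite _)]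
    congr 1
    ext w
    simp only [Finset.mem_filter, hmN, Set.Finite.mem_toFinset, Set.mem_inter_iff]
    exact ⟨fun ⟨hw, hc⟩ => ⟨hw, hw.1, fun r => hNB w (hmN.2 hw) (r ▸ hb), hc.symm⟩, fun ⟨hw, r⟩ => ⟨hw, r.2.2.symm⟩⟩
  set F := N.filter fun w => ∀ b ∈ B, ¬ Commute w b with hFdef
  have hcount : F.card ≤ 231 := by
    have hone : ∑ w ∈ N, k w = 2772 := by
      simp only [k, Finset.card_filter]
      rw [Finset.sum_comm]
      simp only [← Finset.card_filter]
      rw [Finset.sum_congr rfl hmu, Finset.sum_const, hB.card, smul_eq_mul]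
    rw [← Finset.sum_sdiff (show F ⊆ N from Finset.filter_subset _ _), Finset.sum_eq_zero (s := F)
      fun w hw => Finset.card_eq_zero.2 (Finset.filter_eq_empty_iff.2 (Finset.mem_filter.1 hw).2), add_zero] at hone
    have := Finset.sum_le_card_nsmul (N \ F) k 6 fun w hw => hk6 w (Finset.mem_sdiff.1 hw).1
    rw [hone, Finset.card_sdiff_of_subset (show F ⊆ N from Finset.filter_subset _ _), hNc, smul_eq_mul] at this
    omega
  have hzF : z ∈ F := Finset.mem_filter.2 ⟨hmN.2 hz, hzf.2⟩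
  have himg : B.offDiag.image (duad y) ⊆ F.erase z := by
    intro w hw
    obtain ⟨⟨p, q⟩, hpq, rfl⟩ := Finset.mem_image.1 hw
    obtain ⟨hp, hq, hne⟩ := Finset.mem_offDiag.1 hpq
    obtain ⟨h1, h2⟩ := duad_facts h hdec hB hy hp hq hne
    exact Finset.mem_erase.2 ⟨hcon p hp q hq hne, Finset.mem_filter.2 ⟨hmN.2 h1, h2.2⟩⟩
  have hfib : B.offDiag.card ≤ 2 * (B.offDiag.image (duad y)).card := by
    refine Finset.card_le_mul_card_image _ _ fun w hw => ?_
    obtain ⟨⟨p, q⟩, hpq, rfl⟩ := Finset.mem_image.1 hw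
    obtain ⟨hp, hq, hne⟩ := Finset.mem_offDiag.1 hpq
    refine le_trans (Finset.card_le_card (t := {(p, q), (q, p)}) ?_) Finset.card_le_two
    rintro ⟨r, s⟩ hrs
    obtain ⟨hrs', e⟩ := Finset.mem_filter.1 hrs
    obtain ⟨hr, hs, hne'⟩ := Finset.mem_offDiag.1 hrs'
    rcases duad_inj h hdec hN hB hy hr hs hne' hp hq hne e with ⟨e1, e2⟩ | ⟨e1, e2⟩
    · simp only [Finset.mem_insert, Finset.mem_singleton]
      exact Or.inl (Prod.ext e1 e2)
    · simp only [Finset.mem_insert, Finset.mem_singleton]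
      exact Or.inr (Prod.ext e1 e2)
  have := Finset.card_le_card himg
  rw [Finset.card_erase_of_mem hzF] at this
  rw [Finset.offDiag_card, hB.card] at hfib
  omega

omit [Finite G] in
theorem map_sq (φ : MulAut G) (hφ : φ * φ = 1) (x : G) : φ (φ x) = x := by
  show (φ * φ) x = x
  rw [hφ]; rfl

/-- An involutory automorphism of a group of type M(22) fixes a member of the class. -/
theorem exists_fixed (h : Hyp D) (hprim : Cfsg.IsPrimitiveUnderConj D) (h22 : Cfsg.IsOfTypeM22 G D)
    (φ : MulAut G) (hφ : φ * φ = 1) : ∃ d ∈ D, φ d = d := by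
  classical
  have hφD : ∀ x ∈ D, φ x ∈ D := fun x hx => (image_eq h hprim h22 φ) ▸ ⟨x, hx, rfl⟩
  by_contra hcon
  push Not at hcon
  have hcomm : ∀ a ∈ D, Commute a (φ a) := fun a ha => by
    by_contra hn
    refine hcon (a * φ a * a) (h.conj_mem' ha (hφD a ha)) ?_
    rw [map_mul, map_mul, map_sq φ hφ]
    exact (h.braid ha (hφD a ha) hn).symm
  obtain ⟨L, -⟩ := lev22 h hprim h22
  obtain ⟨-, hw⟩ := card22 h hprim h22
  obtain ⟨d, W⟩ := local22 h hprim h22
  have hdec := decomp22 h hprim h22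
  obtain ⟨B, hB, hφB⟩ := exists_base h hw φ hφ hφD
  obtain ⟨y, hy⟩ := exists_free h L W.six hB
  have hyf : Free D B (φ y) := ⟨hφD y hy.1, fun b hb hc => hy.2 (φ b) (hφB b hb) (by
    have := hc.map φ
    rwa [map_sq φ hφ] at this)⟩
  obtain ⟨p, hp, q, hq, hpq, he⟩ := exists_duad h L hdec W.norel W.six hB hy
    ⟨hφD y hy.1, hcon y hy.1, hcomm y hy.1⟩ hyf
  replace he : p * q * y * (p * q) = φ y := he
  have hjj : φ p * φ q * (φ p * φ q) = 1 := by
    calc φ p * φ q * (φ p * φ q) = φ p * (φ q * φ p) * φ q := by group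
      _ = (φ p * φ p) * (φ q * φ q) := by rw [(hB.comm _ (hφB q hq) _ (hφB p hp)).eq]; group
      _ = 1 := by rw [h.mul_self (hφD p (hB.sub p hp)), h.mul_self (hφD q (hB.sub q hq)), mul_one]
  have h2 : duad y (φ p, φ q) = duad y (p, q) := by
    show φ p * φ q * y * (φ p * φ q) = p * q * y * (p * q)
    have e := congrArg φ he
    simp only [map_mul, map_sq φ hφ] at e
    calc φ p * φ q * y * (φ p * φ q)
        = φ p * φ q * (φ p * φ q * φ y * (φ p * φ q)) * (φ p * φ q) := by rw [e]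
      _ = (φ p * φ q * (φ p * φ q)) * φ y * (φ p * φ q * (φ p * φ q)) := by group
      _ = p * q * y * (p * q) := by rw [hjj, one_mul, mul_one, he]
  have hne : φ p ≠ φ q := fun e => hpq (φ.injective e)
  rcases duad_inj h hdec W.norel hB hy (hφB p hp) (hφB q hq) hne hp hq hpq h2 with ⟨e1, -⟩ | ⟨e1, -⟩
  · exact hcon p (hB.sub p hp) e1
  refine hcon (p * y * p) (h.conj_mem' (hB.sub p hp) hy.1) ?_
  have cpq := hB.comm p hp q hq
  have hqq := h.mul_self (hB.sub q hq)
  rw [map_mul, map_mul, e1, ← he]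
  calc q * (p * q * y * (p * q)) * q = (q * p) * q * y * (p * (q * q)) := by group
    _ = p * (q * q) * y * (p * (q * q)) := by rw [← cpq.eq, mul_assoc p q q]
    _ = p * y * p := by rw [hqq, mul_one]

end CfsgLib.Spor.Tri.InvolFixed
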