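/-
The involutions in type M(24): a fixed member and the four classes.
-/
import Cfsg.Agent.Lib.Spor.Tri.LevelInvol
import Cfsg.Agent.Lib.Spor.Tri.InvolFixed

namespace CfsgLib.Spor.Tri.Level

open CfsgLib.Spor.Tri CfsgLib.Spor.Tri.Relations

variable {G : Type*} [Group G] [Finite G] {D : Set G}

/-- Everything needed at a witness of type M(24). -/
structure Loc24 (D : Set G) (d : G) : Prop where
  mem : d ∈ D
  nc : NC D d
  ihyp : Hyp (img D d)
  iprim : Cfsg.IsPrimitiveUnderConj (img D d)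
  type : Cfsg.IsOfTypeM23 (↥(loc D d) ⧸ Subgroup.center ↥(loc D d)) (img D d)
  dl : d ∈ loc D d
  zl : ∀ z ∈ Subgroup.center ↥(loc D d), (z : G) = 1 ∨ (z : G) = d
  good : Good 7 D

theorem local24 (h : Hyp D) (hprim : Cfsg.IsPrimitiveUnderConj D) (h24 : Cfsg.IsOfTypeM24 G D) :
    ∃ d, Loc24 D d := by
  have hg := good_m24 (pre_of_hyp h) h24 fun a ha b hb => h.transitive a ha.1 b hb.1
  obtain ⟨hZ, d, hd, c, hc, hdc, h23, N, -, ⟨eN⟩, -⟩ := h24
  have hnc : NC D d := nc_of_good h hg hd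
  have hX := img_hyp23 h hnc h23
  obtain ⟨hT, hw⟩ := notwin23 hX h23
  have hgX := (good_m23 (pre_img (pre_of_hyp h) d) h23).1
  obtain ⟨q, hq, -⟩ := id hw
  have hpX := prim_of_connected hX hgX.center hgX.core (core_three_of_notwin hX hgX.center hT hq) hw
    fun a ha b hb => img_connected h hprim hd hc hdc (pairOK_omega N eN) hd hnc ha hb
  obtain ⟨L, hR⟩ := lev23 hX hpX h23
  have hzl : ∀ z ∈ Subgroup.center ↥(loc D d), (z : G) = 1 ∨ (z : G) = d := fun z hz =>
    center_loc_cases h hprim hd hnc L (by norm_num) hZ hz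
  obtain ⟨l, -, -, hlp, hld⟩ := rel_lift h hnc hzl (by norm_num) hg.norel hR
  have hdl : d ∈ loc D d := by
    have e : l.prod ∈ loc D d := list_prod_mem fun a ha => perp_loc (hlp a ha)
    rwa [hld] at e
  exact ⟨d, hd, hnc, hX, hpX, h23, hdl, hzl, hg⟩

/-- Conjugation by a normalising involution on a subgroup. -/
def subConj (K : Subgroup G) (x : G) (hx : x * x = 1) (hn : ∀ k ∈ K, x * k * x ∈ K) : MulAut ↥K where
  toFun k := ⟨x * k * x, hn k k.2⟩
  invFun k := ⟨x * k * x, hn k k.2⟩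
  left_inv k := Subtype.ext (by
    show x * (x * (k : G) * x) * x = k
    rw [show x * (x * (k : G) * x) * x = (x * x) * k * (x * x) by group, hx, one_mul, mul_one])
  right_inv k := Subtype.ext (by
    show x * (x * (k : G) * x) * x = k
    rw [show x * (x * (k : G) * x) * x = (x * x) * k * (x * x) by group, hx, one_mul, mul_one])
  map_mul' k k' := Subtype.ext (by
    show x * ((k : G) * k') * x = x * k * x * (x * k' * x)
    rw [show x * (k : G) * x * (x * k' * x) = x * k * (x * x) * k' * x by group, hx]; group)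

/-- An involution exchanging the two members of the witness pair fixes a common neighbour. -/
theorem swap_fixes (h : Hyp D) {d f : G} (W : Loc24 D d) (hf : f ∈ perp D d)
    (W' : Loc23 (img D d) (bar hf)) {x : G} (hx : x * x = 1) (hdf : x * d * x = f) :
    ∃ u ∈ perp D d ∩ perp D f, x * u * x = u := by
  classical
  have hinv : x⁻¹ = x := inv_eq_of_mul_eq_one_right hx
  have hfd : x * f * x = d := by
    rw [← hdf, show x * (x * d * x) * x = (x * x) * d * (x * x) by group, hx, one_mul, mul_one]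
  set Y := perp D d ∩ perp D f with hY
  set K := Subgroup.closure Y with hK
  have hYx : ∀ u ∈ Y, x * u * x ∈ Y := by
    intro u hu
    have e := image_inter_conj h x d f
    rw [hinv, hdf, hfd, Set.inter_comm] at e
    rw [hY, e]; exact ⟨u, hu, rfl⟩
  have hn : ∀ k ∈ K, x * k * x ∈ K := by
    intro k hk
    have hle : K ≤ K.comap (MulAut.conj x).toMonoidHom := by
      rw [hK, Subgroup.closure_le]
      intro u hu
      exact Subgroup.subset_closure (show (MulAut.conj x) u ∈ Y by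
        rw [MulAut.conj_apply, hinv]; exact hYx u hu)
    have := hle hk
    rwa [Subgroup.mem_comap, MulEquiv.coe_toMonoidHom, MulAut.conj_apply, hinv] at this
  -- the map to the second quotient
  set mk1 := QuotientGroup.mk' (Subgroup.center ↥(loc D d)) with hmk1
  have hKd : K ≤ loc D d := (Subgroup.closure_le _).2 fun u hu => perp_loc hu.1
  have hKl : ∀ k : ↥K, mk1 ⟨k, hKd k.2⟩ ∈ loc (img D d) (bar hf) := by
    intro k
    have hle : K ≤ ((loc (img D d) (bar hf)).comap mk1).map (loc D d).subtype := by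
      rw [hK, Subgroup.closure_le]
      intro u hu
      exact ⟨⟨u, perp_loc hu.1⟩, perp_loc ((bar_perp h W.nc hu.1 hf).2 hu.2), rfl⟩
    obtain ⟨y, hy, e⟩ := hle k.2
    have : y = ⟨(k : G), hKd k.2⟩ := Subtype.ext e
    rw [← this]; exact hy
  let π : ↥K →* ↥(loc (img D d) (bar hf)) :=
    MonoidHom.mk' (fun k => ⟨mk1 ⟨k, hKd k.2⟩, hKl k⟩) fun k k' => Subtype.ext (map_mul mk1 ⟨k, hKd k.2⟩ ⟨k', hKd k'.2⟩)
  let ψ : ↥K →* ↥(loc (img D d) (bar hf)) ⧸ Subgroup.center ↥(loc (img D d) (bar hf)) :=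
    (QuotientGroup.mk' _).comp π
  have hsurj : Function.Surjective ψ := by
    rw [← MonoidHom.range_eq_top, eq_top_iff, ← W'.ihyp.gen, Subgroup.closure_le]
    intro q hq
    obtain ⟨U, hU, rfl⟩ := exists_bar hq
    obtain ⟨u, hu, rfl⟩ := exists_bar hU.1
    exact ⟨⟨u, Subgroup.subset_closure ⟨hu, (bar_perp h W.nc hu hf).1 hU⟩⟩, rfl⟩
  have hcomm : ∀ z : G, (∀ u ∈ Y, Commute z u) → ∀ k : ↥K, Commute z (k : G) := by
    intro z hz k
    have hle : K ≤ Subgroup.centralizer {z} := by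
      rw [hK, Subgroup.closure_le]
      exact fun u hu => Subgroup.mem_centralizer_singleton_iff.2 (hz u hu).symm.eq
    exact (Subgroup.mem_centralizer_singleton_iff.1 (hle k.2)).symm
  have hkeq : ψ.ker = Subgroup.center ↥K := by
    apply le_antisymm
    · intro k hk
      have hcent : ∀ u ∈ Y, Commute (k : G) u := by
        intro u hu
        have cd : Commute d u := hu.1.2.2
        have cf : Commute f u := hu.2.2.2
        rcases W'.zl (π k) (mk_eq_one.1 hk) with r | r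
        · rcases W.zl ⟨k, hKd k.2⟩ (mk_eq_one.1 r) with r' | r'
          · rw [show (k : G) = 1 from r']; exact Commute.one_left u
          · rw [show (k : G) = d from r']; exact cd
        · have r2 : mk1 (⟨k, hKd k.2⟩ * ⟨f, perp_loc hf⟩) = 1 := by
            rw [map_mul, show mk1 ⟨k, hKd k.2⟩ = bar hf from r]; exact W.ihyp.mul_self W'.mem
          rcases W.zl _ ((QuotientGroup.eq_one_iff _).1 r2) with r' | r'
          · rw [show (k : G) = f⁻¹ from eq_inv_of_mul_eq_one_left r']; exact cf.inv_left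
          · rw [show (k : G) = d * f⁻¹ from eq_mul_inv_of_mul_eq r']; exact cd.mul_left cf.inv_left
      exact Subgroup.mem_center_iff.2 fun k' => Subtype.ext ((hcomm _ hcent k').symm.eq)
    · intro k hk
      obtain ⟨LX2, -⟩ := lev22 W'.ihyp W'.iprim W'.type
      have hc : ψ k ∈ Subgroup.center _ := Subgroup.mem_center_iff.2 fun q => by
        obtain ⟨k', rfl⟩ := hsurj q
        rw [← map_mul, ← map_mul, Subgroup.mem_center_iff.1 hk k']
      rw [LX2.center, Subgroup.mem_bot] at hc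
      exact hc
  set σ := subConj K x hx hn with hσ
  have hσσ : ∀ k, σ (σ k) = k := fun k => σ.left_inv k
  have hkle : ψ.ker ≤ (ψ.comp σ.toMonoidHom).ker := by
    intro k hk
    rw [hkeq] at hk
    rw [MonoidHom.mem_ker, MonoidHom.comp_apply, ← MonoidHom.mem_ker, hkeq, Subgroup.mem_center_iff]
    intro k'
    rw [← hσσ k', MulEquiv.coe_toMonoidHom, ← map_mul, ← map_mul, Subgroup.mem_center_iff.1 hk]
  set φ₀ := ψ.liftOfSurjective hsurj ⟨ψ.comp σ.toMonoidHom, hkle⟩ with hφ₀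
  have hφ₀ψ : ∀ k, φ₀ (ψ k) = ψ (σ k) := fun k =>
    MonoidHom.liftOfRightInverse_comp_apply ψ _ _ ⟨ψ.comp σ.toMonoidHom, hkle⟩ k
  have hφφ : φ₀.comp φ₀ = MonoidHom.id _ := by
    refine MonoidHom.ext fun q => ?_
    obtain ⟨k, rfl⟩ := hsurj q
    show φ₀ (φ₀ (ψ k)) = ψ k
    rw [hφ₀ψ, hφ₀ψ, hσσ]
  let φ : MulAut (↥(loc (img D d) (bar hf)) ⧸ Subgroup.center ↥(loc (img D d) (bar hf))) :=
    MonoidHom.toMulEquiv φ₀ φ₀ hφφ hφφ
  obtain ⟨q, hq, hfix⟩ := InvolFixed.exists_fixed W'.ihyp W'.iprim W'.type φ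
    (MulEquiv.ext fun q => DFunLike.congr_fun hφφ q)
  obtain ⟨U, hU, rfl⟩ := exists_bar hq
  obtain ⟨u, hu, rfl⟩ := exists_bar hU.1
  have huY : u ∈ Y := ⟨hu, (bar_perp h W.nc hu hf).1 hU⟩
  refine ⟨u, huY, ?_⟩
  have hv := hYx u huY
  have hV := (bar_perp h W.nc hv.1 hf).2 hv.2
  have e : bar hV = bar hU := by
    have r : φ₀ (bar hU) = bar hU := hfix
    rw [show bar hU = ψ ⟨u, Subgroup.subset_closure huY⟩ from rfl, hφ₀ψ] at r
    exact r
  exact (bar_inj h W.nc hv.1 hu).1 ((bar_inj W.ihyp W'.nc hV hU).1 e)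

/-- Every involution commutes with a member. -/
theorem exists_fixed24 (h : Hyp D) (hprim : Cfsg.IsPrimitiveUnderConj D) (h24 : Cfsg.IsOfTypeM24 G D)
    {x : G} (hx : x * x = 1) : ∃ a ∈ D, Commute x a := by
  classical
  obtain ⟨L, -⟩ := lev24 h hprim h24
  obtain ⟨d, W⟩ := local24 h hprim h24
  obtain ⟨E, W'⟩ := local23 W.ihyp W.iprim W.type
  obtain ⟨f, hf, rfl⟩ := exists_bar W'.mem
  have key : ∀ {y a : G}, y * y = 1 → (Commute y a ↔ y * a * y = a) := fun {y a} hy => by
    refine ⟨fun r => by rw [r.eq, mul_assoc, hy, mul_one], fun r => ?_⟩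
    show y * a = a * y
    calc y * a = y * a * (y * y) := by rw [hy, mul_one]
      _ = y * a * y * y := by group
      _ = a * y := by rw [r]
  by_contra hcon
  push Not at hcon
  have hinv : x⁻¹ = x := inv_eq_of_mul_eq_one_right hx
  have he : x * d * x ∈ D := by simpa [hinv] using h.conj x d W.mem
  have hne : x * d * x ≠ d := fun r => hcon d W.mem ((key hx).2 r)
  have hde : Commute d (x * d * x) := by
    by_contra hn
    refine hcon (d * (x * d * x) * d) (h.conj_mem' W.mem he) ((key hx).2 ?_)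
    rw [h.braid W.mem he hn]
    calc x * (x * d * x * d * (x * d * x)) * x = (x * x) * d * (x * d * x) * d * (x * x) := by group
      _ = d * (x * d * x) * d := by rw [hx, one_mul, mul_one]
      _ = _ := h.braid W.mem he hn
  have hepair : x * d * x ∈ perp D d := ⟨he, hne, hde⟩
  obtain ⟨g, hg⟩ := tup_two_of_lev L (by norm_num) [d, x * d * x] [d, f] rfl rfl
    ⟨by simp [hne.symm], by simp [nz, W.mem, he, h.ne_one W.mem, h.ne_one he], by simp [hde, hde.symm]⟩
    ⟨by simp [hf.2.1.symm], by simp [nz, W.mem, hf.1, h.ne_one W.mem, h.ne_one hf.1],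
      by simp [hf.2.2, hf.2.2.symm]⟩
  simp at hg
  obtain ⟨hg1, hg2⟩ := hg
  have hxg : g * x * g⁻¹ * (g * x * g⁻¹) = 1 := by
    rw [show g * x * g⁻¹ * (g * x * g⁻¹) = g * (x * x) * g⁻¹ by group, hx]; group
  obtain ⟨u, hu, hfix⟩ := swap_fixes h W hf W' (x := g * x * g⁻¹) hxg (by
    calc g * x * g⁻¹ * d * (g * x * g⁻¹) = g * x * g⁻¹ * (g * d * g⁻¹) * (g * x * g⁻¹) := by rw [hg1]
      _ = g * (x * d * x) * g⁻¹ := by group
      _ = f := hg2)
  refine hcon (g⁻¹ * u * g) (by simpa using h.conj g⁻¹ u hu.1.1) ((Commute.conj_iff g).1 ?_)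
  rw [show g * (g⁻¹ * u * g) * g⁻¹ = u by group]
  exact (key hxg).2 hfix

/-- At most four commuting members for every involution. -/
theorem decomp24 (h : Hyp D) (hprim : Cfsg.IsPrimitiveUnderConj D) (h24 : Cfsg.IsOfTypeM24 G D) :
    Decomp 4 D := by
  classical
  have hP := pre_of_hyp h
  obtain ⟨L, -⟩ := lev24 h hprim h24
  obtain ⟨d, W⟩ := local24 h hprim h24
  have hX := decomp23 W.ihyp W.iprim W.type
  suffices hloc : ∀ x ∈ loc D d, x * x = 1 → x ≠ 1 →
      ∃ l : List G, Tuple D l ∧ 1 ≤ l.length ∧ l.length ≤ 4 ∧ l.prod = x by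
    intro x hxx hx1
    obtain ⟨a, ha, hxa⟩ := exists_fixed24 h hprim h24 hxx
    obtain ⟨g, hg⟩ := h.transitive a ha d W.mem
    obtain ⟨l, ht, h1, h3, hp⟩ := hloc (g * x * g⁻¹) (L.cent d W.mem (Subgroup.mem_centralizer_singleton_iff.2 (by
        rw [← hg]; exact ((Commute.conj_iff g).2 hxa).eq)))
      (by rw [show g * x * g⁻¹ * (g * x * g⁻¹) = g * (x * x) * g⁻¹ by group, hxx]; group)
      (fun r => hx1 (by simpa using r))
    refine ⟨l.map fun y => g⁻¹ * y * g⁻¹⁻¹, tuple_map hP g⁻¹ ht, by simpa using h1, by simpa using h3, ?_⟩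
    rw [show (l.map fun y => g⁻¹ * y * g⁻¹⁻¹).prod = g⁻¹ * l.prod * g⁻¹⁻¹ from
      (map_list_prod (MulAut.conj g⁻¹).toMonoidHom l).symm, hp]
    group
  intro x hx hxx hx1
  set X : ↥(loc D d) := ⟨x, hx⟩
  set mk := QuotientGroup.mk' (Subgroup.center ↥(loc D d))
  rcases eq_or_ne (mk X) 1 with r | r
  · have e : x = d := (W.zl X (mk_eq_one.1 r)).resolve_left hx1
    exact ⟨[d], ⟨List.nodup_singleton d, by simp [nz, W.mem, h.ne_one W.mem], by simp⟩, le_rfl, by simp, by simp [e]⟩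
  obtain ⟨q, ht, h1, h3, hp⟩ := hX (mk X) (by
    rw [← map_mul, show X * X = 1 from Subtype.ext hxx, map_one]) r
  obtain ⟨R, hLe, hLm⟩ := lift_exists (q := q) fun y hy => (ht.2.1 y hy).1
  have hT : Tuple D (R.map Subtype.val) := lift_tuple h hLm (hLe ▸ ht)
  have hlen : R.length = q.length := by rw [← hLe, List.length_map]
  have hprod : (R.map Subtype.val).prod = ((R.prod : ↥(loc D d)) : G) :=
    (map_list_prod (Subgroup.subtype (loc D d)) R).symm
  have hsq : ((R.map Subtype.val).prod) * (R.map Subtype.val).prod = 1 :=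
    prod_mul_self _ (fun a ha => h.mul_self (hT.2.1 a ha).1) hT.2.2
  have hz : X * R.prod ∈ Subgroup.center ↥(loc D d) := by
    apply mk_eq_one.1
    show mk (X * R.prod) = 1
    rw [map_mul, map_list_prod, hLe, hp, ← map_mul, show X * X = 1 from Subtype.ext hxx, map_one]
  have hxv : x = ((X * R.prod : ↥(loc D d)) : G) * (R.map Subtype.val).prod := by
    rw [Subgroup.coe_mul, ← hprod, mul_assoc, hsq, mul_one]
  rcases W.zl _ hz with e | e <;> rw [e] at hxv
  · exact ⟨R.map Subtype.val, hT, by rw [List.length_map, hlen]; exact h1,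
      by rw [List.length_map, hlen]; omega, by rw [hxv, one_mul]⟩
  · refine ⟨d :: R.map Subtype.val, ⟨List.nodup_cons.2 ⟨fun hm => ?_, hT.1⟩, ?_, ?_⟩, by simp, by simp; omega,
      by rw [List.prod_cons, hxv]⟩
    · obtain ⟨y, hy, ey⟩ := List.mem_map.1 hm
      exact (hLm y hy).2.1 ey
    · intro a ha
      rcases List.mem_cons.1 ha with rfl | ha
      · exact ⟨W.mem, h.ne_one W.mem⟩
      · exact hT.2.1 a ha
    · intro a ha b hb
      rcases List.mem_cons.1 ha with ea | ha <;> rcases List.mem_cons.1 hb with eb | hb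
      · rw [ea, eb]
      · obtain ⟨y, hy, ey⟩ := List.mem_map.1 hb
        rw [ea, ← ey]; exact (hLm y hy).2.2
      · obtain ⟨y, hy, ey⟩ := List.mem_map.1 ha
        rw [eb, ← ey]; exact (hLm y hy).2.2.symm
      · exact hT.2.2 a ha b hb

/-- Tuples of length four form one orbit. -/
theorem tuples24 (h : Hyp D) {d : G} (W : Loc24 D d) :
    TupTrans 1 D ∧ TupTrans 2 D ∧ TupTrans 3 D ∧ TupTrans 4 D := by
  have hP := pre_of_hyp h
  have hdn : d ∈ nz D := ⟨W.mem, h.ne_one W.mem⟩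
  obtain ⟨t1, t2, t3⟩ := tuples_m23 (pre_img hP d) W.type
  exact ⟨tup_one W.good, tup_step hP W.good hdn t1, tup_step hP W.good hdn t2, tup_step hP W.good hdn t3⟩

/-- A tuple of length four. -/
theorem exists_four (h : Hyp D) {d : G} (W : Loc24 D d) : ∃ l : List G, l.length = 4 ∧ Tuple D l := by
  classical
  obtain ⟨L, -⟩ := lev23 W.ihyp W.iprim W.type
  have hne : ∀ {q}, q ∈ img D d → q ∈ nz (img D d) := fun {q} hq => ⟨hq, W.ihyp.ne_one hq⟩
  obtain ⟨A, hA, -⟩ := L.prim.2.1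
  obtain ⟨B, hB⟩ : (perp (img D d) A).Nonempty :=
    (Set.ncard_pos (Set.toFinite _)).1 (by rw [L.deg A hA]; norm_num)
  obtain ⟨C, hC⟩ : (perp (img D d) A ∩ perp (img D d) B).Nonempty :=
    (Set.ncard_pos (Set.toFinite _)).1 (by rw [L.lam A hA B hB]; norm_num)
  have p1 := hB.2.1.symm
  have p2 := hC.1.2.1.symm
  have p3 := hC.2.2.1.symm
  have ht : Tuple (img D d) [A, B, C] := ⟨by simp [p1, p2, p3],
    by simp [nz, hA, hB.1, hC.1.1, W.ihyp.ne_one hA, W.ihyp.ne_one hB.1, W.ihyp.ne_one hC.1.1],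
    by simp [hB.2.2, hC.1.2.2, hC.2.2.2, hB.2.2.symm, hC.1.2.2.symm, hC.2.2.2.symm]⟩
  obtain ⟨R, hRe, hRm⟩ := lift_exists (q := [A, B, C]) fun x hx => (ht.2.1 x hx).1
  have hT : Tuple D (R.map Subtype.val) := lift_tuple h hRm (hRe ▸ ht)
  have hlen : R.length = 3 := by simpa using congrArg List.length hRe
  refine ⟨d :: R.map Subtype.val, by simp [hlen], List.nodup_cons.2 ⟨fun hm => ?_, hT.1⟩, ?_, ?_⟩
  · obtain ⟨y, hy, ey⟩ := List.mem_map.1 hm
    exact (hRm y hy).2.1 ey
  · intro a ha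
    rcases List.mem_cons.1 ha with rfl | ha
    · exact ⟨W.mem, h.ne_one W.mem⟩
    · exact hT.2.1 a ha
  · intro a ha b hb
    rcases List.mem_cons.1 ha with ea | ha <;> rcases List.mem_cons.1 hb with eb | hb
    · rw [ea, eb]
    · obtain ⟨y, hy, ey⟩ := List.mem_map.1 hb
      rw [ea, ← ey]; exact (hRm y hy).2.2
    · obtain ⟨y, hy, ey⟩ := List.mem_map.1 ha
      rw [eb, ← ey]; exact (hRm y hy).2.2.symm
    · exact hT.2.2 a ha b hb

end CfsgLib.Spor.Tri.Level
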