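/-
The centralizer of two commuting transpositions in type M(22).
-/
import Cfsg.Agent.Lib.Spor.Tri.PairTransfer
import Cfsg.Agent.Lib.Spor.Tri.LevelData
import Cfsg.Agent.Lib.Spor.Tri.LevelOrder

set_option linter.all false

namespace CfsgLib.Spor.Tri.Level

open CfsgLib.Spor.Tri CfsgLib.Spor.Tri.Relations

variable {G : Type*} [Group G] [Finite G] {D : Set G}

/-- The local facts, at any member. -/
structure Loc22All (D : Set G) (F : Type) [Field F] [Fintype F] (a : G) : Prop where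
  nc : NC D a
  lev : Lev (img D a) 693 180 51 45
  decomp : Decomp 3 (img D a)
  zl : ∀ z ∈ Subgroup.center ↥(loc D a), (z : G) = 1 ∨ (z : G) = a
  self : a ∈ loc D a
  ceq : loc D a = Subgroup.centralizer ({a} : Set G)
  psu : Nonempty (↥(loc D a) ⧸ Subgroup.center ↥(loc D a) ≃* Cfsg.PSU 6 F 2)

theorem local_all (h : Hyp D) (hprim : Cfsg.IsPrimitiveUnderConj D) (h22 : Cfsg.IsOfTypeM22 G D) :
    ∃ (F : Type) (_ : Field F) (_ : Fintype F), Fintype.card F = 4 ∧ ∀ a ∈ D, Loc22All D F a := by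
  classical
  obtain ⟨L, -⟩ := lev22 h hprim h22
  obtain ⟨d, W⟩ := local22 h hprim h22
  obtain ⟨F, hFf, hFt, hF, ⟨e⟩⟩ := W.psu
  refine ⟨F, hFf, hFt, hF, fun a ha => ?_⟩
  obtain ⟨g, hg⟩ := h.transitive d W.mem a ha
  have hP := pre_of_hyp h
  have hnc := nc22 h h22 ha
  have eloc : loc D a = (loc D d).map (MulAut.conj g).toMonoidHom := by rw [← hg]; exact loc_conj h g d
  set φ : ↥(loc D d) ≃* ↥(loc D a) :=
    ((loc D d).equivMapOfInjective (MulAut.conj g).toMonoidHom (MulAut.conj g).injective).trans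
      (MulEquiv.subgroupCongr eloc.symm)
  let e' : ↥(loc D a) ⧸ Subgroup.center ↥(loc D a) ≃* Cfsg.PSU 6 F 2 :=
    (QuotientGroup.congr _ _ φ (by
      ext z
      obtain ⟨y, rfl⟩ := φ.surjective z
      rw [show φ y ∈ Subgroup.map (φ : ↥(loc D d) →* ↥(loc D a)) (Subgroup.center ↥(loc D d)) ↔ y ∈ Subgroup.center ↥(loc D d) from
        ⟨fun ⟨w, hw, r⟩ => φ.injective r ▸ hw, fun hy => ⟨y, hy, rfl⟩⟩]
      refine ⟨fun hy => Subgroup.mem_center_iff.2 fun w => ?_, fun hy => Subgroup.mem_center_iff.2 fun w => φ.injective ?_⟩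
      · obtain ⟨w, rfl⟩ := φ.surjective w
        rw [← map_mul, ← map_mul, Subgroup.mem_center_iff.1 hy]
      · rw [map_mul, map_mul, Subgroup.mem_center_iff.1 hy])).symm.trans e
  have hp := pre_img hP a
  obtain ⟨L', -⟩ := @img_u6 G _ _ D h a hnc F hFf hFt hF e'
  obtain ⟨-, hdec, -, -⟩ := @u6_facts F hFf hFt hF _ _ _ e' _ hp
  rw [img_nz h hnc] at hdec
  have hZ : Subgroup.center G = ⊥ := L.center
  have hc := loc_eq_centralizer (L.cent a ha)
  exact ⟨hnc, L', hdec, fun z hz => center_loc_cases h hprim ha hnc L' (by norm_num) hZ hz,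
    hc ▸ Subgroup.mem_centralizer_singleton_iff.2 rfl, hc, ⟨e'⟩⟩

variable {F : Type} [Field F] [Fintype F]

/-- No member is a square. -/
theorem square_ne (h : Hyp D) {a : G} (W : Loc22All D F a) (ha : a ∈ D) (x : G) : x * x ≠ a := by
  classical
  intro e
  have hxl : x ∈ loc D a := W.ceq ▸ Subgroup.mem_centralizer_singleton_iff.2 (by rw [← e, mul_assoc])
  set X : ↥(loc D a) := ⟨x, hxl⟩
  have haz : (⟨a, W.self⟩ : ↥(loc D a)) ∈ Subgroup.center ↥(loc D a) :=
    Subgroup.mem_center_iff.2 fun y => Subtype.ext (commute_loc y.2).symm.eq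
  have hq : (QuotientGroup.mk X : ↥(loc D a) ⧸ Subgroup.center ↥(loc D a)) * QuotientGroup.mk X = 1 := by
    rw [← QuotientGroup.mk_mul, QuotientGroup.eq_one_iff, show X * X = ⟨a, W.self⟩ from Subtype.ext e]
    exact haz
  have key : ∀ z ∈ Subgroup.center ↥(loc D a), (z : G) * z = 1 := fun z hz => by
    rcases W.zl z hz with r | r <;> rw [r]
    · rw [one_mul]
    · exact h.mul_self ha
  by_cases h1 : (QuotientGroup.mk X : ↥(loc D a) ⧸ Subgroup.center ↥(loc D a)) = 1
  · exact h.ne_one ha (e.symm.trans (key X ((QuotientGroup.eq_one_iff _).1 h1)))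
  obtain ⟨l, hl, -, -, hprod⟩ := W.decomp _ hq h1
  obtain ⟨L, hLl, hL⟩ := lift_exists (fun y hy => (hl.2.1 y hy).1)
  rw [← hLl] at hl hprod
  have ht := lift_tuple h hL hl
  have hsq : (L.map Subtype.val).prod * (L.map Subtype.val).prod = 1 :=
    prod_mul_self _ (fun y hy => h.mul_self (ht.2.1 y hy).1) ht.2.2
  have hp : ((L.prod : ↥(loc D a)) : G) = (L.map Subtype.val).prod := by
    induction L with
    | nil => rfl
    | cons y r ih => simp
  set P : ↥(loc D a) := L.prod
  rw [← map_list_prod] at hprod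
  have hz : P⁻¹ * X ∈ Subgroup.center ↥(loc D a) := QuotientGroup.eq.1 hprod
  have hX : x = (P : G) * ((P⁻¹ * X : ↥(loc D a)) : G) := by simp [X]
  have hcm : Commute (P : G) ((P⁻¹ * X : ↥(loc D a)) : G) :=
    (show Commute P (P⁻¹ * X) from Subgroup.mem_center_iff.1 hz P).map (loc D a).subtype
  rw [hX, hcm.symm.mul_mul_mul_comm, hp, hsq, key _ hz, one_mul] at e
  exact h.ne_one ha e.symm

/-- What is needed about the centralizer of two commuting members. -/
def PairKernelData (D : Set G) (a b : G) (F : Type) [Field F] [Fintype F] : Prop :=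
  ∃ π : ↥(Subgroup.centralizer ({a, b} : Set G)) →* ↥(Cfsg.SU 4 F 2),
    Function.Surjective π ∧ Nat.card π.ker = 1024 ∧
    (∀ q ∈ π.ker, (q : G) * q = 1 ∨ (q : G) * q = a * b) ∧
    (∀ q ∈ π.ker, (∀ r ∈ π.ker, (q : G) * r = r * q) → (q : G) ∈ Subgroup.closure ({a, b} : Set G)) ∧
    (∀ q : ↥(Subgroup.centralizer ({a, b} : Set G)), (q : G) = a ∨ (q : G) = b → q ∈ π.ker) ∧
    ∀ (u : ↥(Subgroup.centralizer ({a, b} : Set G))), (u : G) ∈ perp D a ∩ perp D b → π u ≠ 1 ∧
      {u' | u' ∈ perp D a ∩ perp D b ∧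
        ∃ hu' : u' ∈ Subgroup.centralizer ({a, b} : Set G), π ⟨u', hu'⟩ = π u}.ncard ≤ 4 ∧
      (∀ u' : ↥(Subgroup.centralizer ({a, b} : Set G)), (u' : G) ∈ perp D a ∩ perp D b → π u' = π u →
        Commute (u : G) (u' : G) ∧ ∃ q ∈ π.ker, (q : G) * u * (q : G)⁻¹ = u') ∧
      ∃ q ∈ π.ker, (q : G) * u * (q : G)⁻¹ ≠ u

theorem mem_cent_pair {a b g : G} : g ∈ Subgroup.centralizer ({a, b} : Set G) ↔ Commute g a ∧ Commute g b := by
  rw [Subgroup.mem_centralizer_iff]
  constructor
  · exact fun r => ⟨(r a (by simp)).symm, (r b (by simp)).symm⟩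
  · rintro ⟨r1, r2⟩ y (rfl | rfl)
    · exact r1.eq.symm
    · exact r2.eq.symm

theorem pair_data (h : Hyp D) (hF : Fintype.card F = 4) (Wall : ∀ x ∈ D, Loc22All D F x) {a b : G} (ha : a ∈ D)
    (hb : b ∈ perp D a) : PairKernelData D a b F := by
  classical
  have W := Wall a ha
  obtain ⟨e⟩ := W.psu
  set K := Subgroup.centralizer ({a, b} : Set G)
  have hP := point_u6 hF e (pre_img (pre_of_hyp h) a) (a := bar hb) ⟨bar_mem hb, bar_ne_one h W.nc hb⟩
  rw [img_nz h W.nc] at hP
  obtain ⟨ρ, hs, hk, hsq, hcm, hcen, hfib⟩ := hP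
  have hKl : K ≤ loc D a := fun g hg => W.ceq ▸ Subgroup.mem_centralizer_singleton_iff.2 (mem_cent_pair.1 hg).1.eq
  let q0 : ↥K →* ↥(loc D a) ⧸ Subgroup.center ↥(loc D a) := (QuotientGroup.mk' _).comp (Subgroup.inclusion hKl)
  let β : ↥K →* ↥(Subgroup.centralizer ({bar hb} : Set (↥(loc D a) ⧸ Subgroup.center ↥(loc D a)))) :=
    q0.codRestrict _ fun g => Subgroup.mem_centralizer_singleton_iff.2 (by
      have : Commute (⟨g.1, hKl g.2⟩ : ↥(loc D a)) ⟨b, perp_loc hb⟩ := Subtype.ext (mem_cent_pair.1 g.2).2.eq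
      exact (this.map (QuotientGroup.mk' _)).eq)
  have hab : Commute a b := hb.2.2
  have haK : a ∈ K := mem_cent_pair.2 ⟨Commute.refl a, hab⟩
  have hbK : b ∈ K := mem_cent_pair.2 ⟨hab.symm, Commute.refl b⟩
  have hconj : ∀ (g : ↥(loc D a)) (y : G) (hy : y ∈ perp D a), (g : G) * y * (g : G)⁻¹ ∈ perp D a := fun g y hy => by
    have r := perp_conj h (g : G) a
    rw [show (g : G) * a * (g : G)⁻¹ = a by rw [← (commute_loc g.2).eq, mul_inv_cancel_right]] at r
    rw [r]; exact ⟨y, hy, rfl⟩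
  have hbar : ∀ (g : ↥(loc D a)) (y : G) (hy : y ∈ perp D a),
      bar (hconj g y hy) = (QuotientGroup.mk g : ↥(loc D a) ⧸ Subgroup.center ↥(loc D a)) * bar hy *
        (QuotientGroup.mk g)⁻¹ := fun g y hy => rfl
  have hβs : Function.Surjective β := by
    rintro ⟨g, hg⟩
    obtain ⟨g, rfl⟩ := QuotientGroup.mk'_surjective _ g
    have e1 : bar (hconj g b hb) = bar hb := by
      rw [hbar _ _ hb]
      exact mul_inv_eq_iff_eq_mul.2 (Subgroup.mem_centralizer_singleton_iff.1 hg)
    have e2 := (bar_inj h W.nc _ hb).1 e1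
    exact ⟨⟨g.1, mem_cent_pair.2 ⟨(commute_loc g.2).symm, mul_inv_eq_iff_eq_mul.1 e2⟩⟩, Subtype.ext rfl⟩
  have haz : (⟨a, W.self⟩ : ↥(loc D a)) ∈ Subgroup.center ↥(loc D a) :=
    Subgroup.mem_center_iff.2 fun y => Subtype.ext (commute_loc y.2).symm.eq
  have hβk : ∀ g : ↥K, β g = 1 ↔ (g : G) = 1 ∨ (g : G) = a := fun g => by
    constructor
    · intro r
      exact W.zl ⟨g.1, hKl g.2⟩ ((QuotientGroup.eq_one_iff _).1 (congrArg Subtype.val r))
    · intro r
      refine Subtype.ext ((QuotientGroup.eq_one_iff _).2 ?_)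
      rcases r with r | r
      · rw [show Subgroup.inclusion hKl g = 1 from Subtype.ext r]; exact one_mem _
      · rw [show Subgroup.inclusion hKl g = ⟨a, W.self⟩ from Subtype.ext r]; exact haz
  set π := ρ.comp β with hπ
  have hπs : Function.Surjective π := hs.comp hβs
  have hπk : Nat.card π.ker = 1024 := by
    have e1 := Subgroup.card_eq_card_quotient_mul_card_subgroup π.ker
    rw [Nat.card_congr (QuotientGroup.quotientKerEquivOfSurjective π hπs).toEquiv] at e1
    have e2 := Subgroup.card_eq_card_quotient_mul_card_subgroup β.ker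
    rw [Nat.card_congr (QuotientGroup.quotientKerEquivOfSurjective β hβs).toEquiv] at e2
    have e3 := Subgroup.card_eq_card_quotient_mul_card_subgroup ρ.ker
    rw [Nat.card_congr (QuotientGroup.quotientKerEquivOfSurjective ρ hs).toEquiv, hk] at e3
    have e4 : Nat.card β.ker = 2 := by
      rw [Nat.card_eq_two_iff]
      refine ⟨1, ⟨⟨a, haK⟩, (hβk _).2 (Or.inr rfl)⟩, fun r => h.ne_one ha (congrArg (fun z : ↥β.ker => (z.1 : G)) r).symm, ?_⟩
      refine Set.eq_univ_of_forall fun g => ?_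
      rcases (hβk g.1).1 g.2 with r | r
      · exact Or.inl (Subtype.ext (Subtype.ext r))
      · exact Or.inr (Subtype.ext (Subtype.ext r))
    rw [e4, e3] at e2
    rw [e2] at e1
    refine Nat.eq_of_mul_eq_mul_left (Nat.card_pos (α := ↥(Cfsg.SU 4 F 2))) (e1.symm.trans ?_)
    rw [mul_assoc]; norm_num
  have hbb : bar hb * bar hb = 1 := by
    show QuotientGroup.mk' (Subgroup.center ↥(loc D a)) (⟨b, perp_loc hb⟩ : ↥(loc D a)) * QuotientGroup.mk' _ ⟨b, perp_loc hb⟩ = 1
    rw [← map_mul, show (⟨b, perp_loc hb⟩ : ↥(loc D a)) * ⟨b, perp_loc hb⟩ = 1 from Subtype.ext (h.mul_self hb.1), map_one]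
  refine ⟨π, hπs, hπk, fun q hq => ?_, fun q hq hc => ?_, fun q hq => ?_, fun u hu => ?_⟩
  · -- squares
    have hcases : (q : G) * q = 1 ∨ (q : G) * q = a ∨ (q : G) * q = b ∨ (q : G) * q = a * b := by
      rcases hsq (β q) hq with r | r
      · rcases (hβk (q * q)).1 (by rw [map_mul]; exact Subtype.ext r) with s | s
        · exact Or.inl s
        · exact Or.inr (Or.inl s)
      · rcases (hβk (q * q * ⟨b, hbK⟩)).1 (Subtype.ext (by
          rw [map_mul, map_mul]
          show (β q : ↥(loc D a) ⧸ Subgroup.center ↥(loc D a)) * (β q) * bar hb = 1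
          rw [r]
          exact hbb)) with s | s
        · refine Or.inr (Or.inr (Or.inl ?_))
          have s' : (q : G) * q * b = 1 := s
          rw [eq_inv_of_mul_eq_one_left s', h.inv_eq hb.1]
        · refine Or.inr (Or.inr (Or.inr ?_))
          have s' : (q : G) * q * b = a := s
          calc (q : G) * q = (q : G) * q * b * b := by rw [mul_assoc _ b b, h.mul_self hb.1, mul_one]
            _ = a * b := by rw [s']
    rcases hcases with r | r | r | r
    · exact Or.inl r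
    · exact absurd r (square_ne h W ha _)
    · exact absurd r (square_ne h (Wall b hb.1) hb.1 _)
    · exact Or.inr r
  · rcases hcen (β q) hq (fun r hr => by
      obtain ⟨r, rfl⟩ := hβs r
      rw [← Subgroup.coe_mul, ← Subgroup.coe_mul, ← map_mul, ← map_mul]
      exact congrArg (fun z => ((β z : ↥(Subgroup.centralizer _)) : ↥(loc D a) ⧸ Subgroup.center ↥(loc D a)))
        (Subtype.ext (hc r hr))) with r | r
    · rcases (hβk q).1 (Subtype.ext r) with s | s <;> rw [s]
      · exact one_mem _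
      · exact Subgroup.subset_closure (by simp)
    · rcases (hβk (q * ⟨b, hbK⟩)).1 (Subtype.ext (by
          rw [map_mul]
          show (β q : ↥(loc D a) ⧸ Subgroup.center ↥(loc D a)) * bar hb = 1
          rw [r]
          exact hbb)) with s | s
      · have s' : (q : G) * b = 1 := s
        rw [eq_inv_of_mul_eq_one_left s', h.inv_eq hb.1]
        exact Subgroup.subset_closure (by simp)
      · have s' : (q : G) * b = a := s
        rw [show (q : G) = a * b by
          calc (q : G) = (q : G) * b * b := by rw [mul_assoc _ b b, h.mul_self hb.1, mul_one]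
            _ = a * b := by rw [s']]
        exact mul_mem (Subgroup.subset_closure (by simp)) (Subgroup.subset_closure (by simp))
  · rcases hq with r | r
    · show ρ (β q) = 1
      rw [(hβk q).2 (Or.inr r), map_one]
    · show ρ (β q) = 1
      have e1 : β q = ⟨bar hb, Subgroup.mem_centralizer_singleton_iff.2 rfl⟩ :=
        Subtype.ext (congrArg QuotientGroup.mk (show Subgroup.inclusion hKl q = ⟨b, perp_loc hb⟩ from Subtype.ext r))
      rw [e1]
      set B : ↥(Subgroup.centralizer ({bar hb} : Set (↥(loc D a) ⧸ Subgroup.center ↥(loc D a)))) :=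
        ⟨bar hb, Subgroup.mem_centralizer_singleton_iff.2 rfl⟩
      -- a central involution of the centralizer
      have hBc : ∀ y, y * B = B * y := fun y => Subtype.ext (Subgroup.mem_centralizer_singleton_iff.1 y.2)
      by_contra hne
      have hcz : ρ B ∈ Subgroup.center ↥(Cfsg.SU 4 F 2) := Subgroup.mem_center_iff.2 fun y => by
        obtain ⟨y, rfl⟩ := hs y
        rw [← map_mul, ← map_mul, hBc]
      have h2 : orderOf (ρ B) = 2 := orderOf_eq_prime (by
        rw [pow_two, ← map_mul, show B * B = 1 from Subtype.ext (by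
          exact hbb),
          map_one]) hne
      obtain ⟨C⟩ := CfsgLib.Classical.uctx_exists (F := F) (q := 2) (by rw [hF]; norm_num)
      have hc1 := C.card_center_su (n := 4) (by rw [hF]; norm_num) (by norm_num)
      have hd := orderOf_dvd_natCard (⟨ρ B, hcz⟩ : ↥(Subgroup.center ↥(Cfsg.SU 4 F 2)))
      rw [hc1, ← Subgroup.orderOf_coe, h2] at hd
      norm_num at hd
  · obtain ⟨h1, h2, h3, q, hq, h4⟩ := hfib (β u) ((bar_perp h W.nc hu.1 hb).2 hu.2)
    refine ⟨h1, ?_, fun u' hu' e' => ?_, ?_⟩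
    · refine le_trans ?_ h2
      let f : G → ↥(loc D a) ⧸ Subgroup.center ↥(loc D a) := fun y =>
        if hy : y ∈ perp D a then bar hy else 1
      refine Set.ncard_le_ncard_of_injOn f ?_ ?_ (Set.toFinite _)
      · rintro y ⟨hy, hyK, e'⟩
        simp only [f, dif_pos hy.1]
        exact ⟨(bar_perp h W.nc hy.1 hb).2 hy.2, (β ⟨y, hyK⟩).2, e'⟩
      · rintro y ⟨hy, -⟩ z ⟨hz, -⟩ r
        simp only [f, dif_pos hy.1, dif_pos hz.1] at r
        exact (bar_inj h W.nc hy.1 hz.1).1 r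
    · obtain ⟨r1, q, hq, r2⟩ := h3 (β u') ((bar_perp h W.nc hu'.1 hb).2 hu'.2) e'
      obtain ⟨q, rfl⟩ := hβs q
      refine ⟨(bar_commute h hu.1 hu'.1).1 r1, q, hq, ?_⟩
      exact (bar_inj h W.nc (hconj ⟨q.1, hKl q.2⟩ u.1 hu.1) hu'.1).1 ((hbar ⟨q.1, hKl q.2⟩ u.1 hu.1).trans r2)
    · obtain ⟨q, rfl⟩ := hβs q
      refine ⟨q, hq, fun r => h4 ?_⟩
      exact (hbar ⟨q.1, hKl q.2⟩ u.1 hu.1).symm.trans ((bar_inj h W.nc _ hu.1).2 r)

end CfsgLib.Spor.Tri.Level
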