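/-
The centralizer of a product of two commuting transpositions in type M(22).
-/
import Cfsg.Agent.Lib.Spor.Tri.PairLocal
import Cfsg.Agent.Lib.SU.Classify

set_option linter.all false

namespace CfsgLib.Spor.Tri.Level

open CfsgLib.Spor.Tri CfsgLib.Spor.Tri.Relations

variable {G : Type*} [Group G] [Finite G] {D : Set G} {F : Type} [Field F] [Fintype F]

/-- A member commuting with a product of two commuting members commutes with both. -/
theorem commute_pair (h : Hyp D) {a b p : G} (ha : a ∈ D) (hb : b ∈ perp D a) (hp : p ∈ D)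
    (hc : Commute p (a * b)) : Commute p a ∧ Commute p b := by
  have key : Commute p a := by
    by_contra hn
    have hbn : ¬ Commute p b := fun r => hn (by
      have := hc.mul_right r
      rwa [mul_assoc, h.mul_self hb.1, mul_one] at this)
    have e : b * p * b = a * p * a := by
      have r : (a * b) * p * (a * b) = p := by
        rw [← hc.eq, mul_assoc, show (a * b) * (a * b) = 1 by
          rw [hb.2.2.symm.mul_mul_mul_comm, h.mul_self ha, h.mul_self hb.1, mul_one], mul_one]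
      calc b * p * b = (a * a) * b * p * b * (a * a) := by rw [h.mul_self ha, one_mul, mul_one]
        _ = a * (a * b * p * (b * a)) * a := by group
        _ = a * p * a := by rw [← hb.2.2.eq, r]
    rw [h.braid ha hp (fun r => hn r.symm), h.braid hb.1 hp (fun r => hbn r.symm)] at e
    exact hb.2.1 (mul_left_cancel (mul_right_cancel e))
  refine ⟨key, ?_⟩
  have := key.mul_right hc
  rwa [← mul_assoc, h.mul_self ha, one_mul] at this

theorem pair_cases (h : Hyp D) (hN : NoRel 5 D) {a b g : G} (ha : a ∈ D) (hb : b ∈ perp D a)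
    (hg : g ∈ Subgroup.centralizer ({a * b} : Set G)) :
    g ∈ Subgroup.centralizer ({a, b} : Set G) ∨ (g * a * g⁻¹ = b ∧ g * b * g⁻¹ = a) := by
  classical
  have e : g * (a * b) * g⁻¹ = a * b := mul_inv_eq_iff_eq_mul.2 (Subgroup.mem_centralizer_singleton_iff.1 hg)
  set p := g * a * g⁻¹ with hp
  set q := g * b * g⁻¹ with hq
  have epq : p * q = a * b := by rw [← e, hp, hq]; group
  have hpD : p ∈ D := h.conj g a ha
  have hqD : q ∈ D := h.conj g b hb.1
  have hpq : Commute p q := (Commute.conj_iff g).2 hb.2.2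
  have hne : p ≠ q := fun r => hb.2.1 (by simpa [hp, hq] using r.symm)
  have cp := commute_pair h ha hb hpD (epq ▸ (Commute.refl p).mul_right hpq)
  have cq := commute_pair h ha hb hqD (epq ▸ hpq.symm.mul_right (Commute.refl q))
  by_cases hpa : p = a
  · rw [hpa] at epq
    exact Or.inl (mem_cent_pair.2 ⟨mul_inv_eq_iff_eq_mul.1 hpa, mul_inv_eq_iff_eq_mul.1 (mul_left_cancel epq)⟩)
  by_cases hpb : p = b
  · rw [hpb, hb.2.2.eq] at epq
    exact Or.inr ⟨hpb, mul_left_cancel epq⟩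
  exfalso
  by_cases hqa : q = a
  · rw [hqa, hb.2.2.eq] at epq
    exact hpb (mul_right_cancel epq)
  by_cases hqb : q = b
  · rw [hqb] at epq
    exact hpa (mul_right_cancel epq)
  refine hN [a, b, p, q] (by simp) ?_ (by simp) ?_ ?_ ?_
  · simp [hb.2.1.symm, Ne.symm hpa, Ne.symm hqa, Ne.symm hpb, Ne.symm hqb, hne]
  · simp [ha, hb.1, hpD, hqD, h.ne_one ha, h.ne_one hb.1, h.ne_one hpD, h.ne_one hqD]
  · simp [hb.2.2, hb.2.2.symm, cp.1, cp.1.symm, cp.2, cp.2.symm, cq.1, cq.1.symm, cq.2, cq.2.symm, hpq, hpq.symm]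
  · simp only [List.prod_cons, List.prod_nil, mul_one]
    rw [show a * (b * (p * q)) = (a * b) * (p * q) by group, epq, hb.2.2.symm.mul_mul_mul_comm, h.mul_self ha,
      h.mul_self hb.1, mul_one]

theorem pair_le {a b : G} : Subgroup.centralizer ({a, b} : Set G) ≤ Subgroup.centralizer ({a * b} : Set G) :=
  fun g hg => Subgroup.mem_centralizer_singleton_iff.2 ((mem_cent_pair.1 hg).1.mul_right (mem_cent_pair.1 hg).2).eq

theorem pair_swap (h : Hyp D) (hprim : Cfsg.IsPrimitiveUnderConj D) {a b : G} (ha : a ∈ D) (hb : b ∈ perp D a) :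
    ∃ g ∈ Subgroup.centralizer ({a * b} : Set G), g * a * g⁻¹ = b ∧ g * b * g⁻¹ = a := by
  obtain ⟨hR, hperf⟩ := rank_three_data h hprim ⟨a, ha, b, hb.1, hb.2.1.symm, hb.2.2⟩
  obtain ⟨g, hg1, hg2⟩ := conj2_commuting h hR hperf ha hb hb.1 (perp_symm ha hb)
  refine ⟨g, Subgroup.mem_centralizer_singleton_iff.2 (mul_inv_eq_iff_eq_mul.1 ?_), hg1, hg2⟩
  rw [show g * (a * b) * g⁻¹ = (g * a * g⁻¹) * (g * b * g⁻¹) by group, hg1, hg2, hb.2.2.eq]

theorem pair_normal (h : Hyp D) (hN : NoRel 5 D) {a b c k : G} (ha : a ∈ D) (hb : b ∈ perp D a)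
    (hc : c ∈ Subgroup.centralizer ({a * b} : Set G)) (hk : k ∈ Subgroup.centralizer ({a, b} : Set G)) :
    c * k * c⁻¹ ∈ Subgroup.centralizer ({a, b} : Set G) := by
  obtain ⟨k1, k2⟩ := mem_cent_pair.1 hk
  rcases pair_cases h hN ha hb hc with hc' | ⟨c1, c2⟩
  · exact mul_mem (mul_mem hc' hk) (inv_mem hc')
  · refine mem_cent_pair.2 ⟨?_, ?_⟩
    · rw [← c2]; exact (Commute.conj_iff c).2 k2
    · rw [← c1]; exact (Commute.conj_iff c).2 k1

theorem simple_su4 (hF : Fintype.card F = 4) :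
    IsSimpleGroup ↥(Cfsg.SU 4 F 2) ∧ Subgroup.center ↥(Cfsg.SU 4 F 2) = ⊥ ∧ Nat.card ↥(Cfsg.SU 4 F 2) = 25920 := by
  obtain ⟨C⟩ := CfsgLib.Classical.uctx_exists (F := F) (q := 2) (by rw [hF]; norm_num)
  have hc := C.card_center_su (n := 4) (by rw [hF]; norm_num) (by norm_num)
  have hb : Subgroup.center ↥(Cfsg.SU 4 F 2) = ⊥ := Subgroup.card_eq_one.1 (hc.trans (by norm_num))
  haveI : IsSimpleGroup (Cfsg.PSU 4 F 2) :=
    CfsgLib.Classical.psu_isSimple (q := 2) (n := 4) (by rw [hF]; norm_num) (by norm_num) (by norm_num)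
  let e : Cfsg.PSU 4 F 2 ≃* ↥(Cfsg.SU 4 F 2) :=
    (QuotientGroup.quotientMulEquivOfEq hb).trans QuotientGroup.quotientBot
  haveI : Nontrivial ↥(Cfsg.SU 4 F 2) := e.toEquiv.symm.nontrivial
  exact ⟨IsSimpleGroup.isSimpleGroup_of_surjective e.toMonoidHom e.surjective, hb, (U6.card_small C hF).2⟩

/-- The kernel lies in every image of itself. -/
theorem ker_invariant (h : Hyp D) (hF : Fintype.card F = 4) (hN : NoRel 5 D) {a b : G} (ha : a ∈ D)
    (hb : b ∈ perp D a) (π : ↥(Subgroup.centralizer ({a, b} : Set G)) →* ↥(Cfsg.SU 4 F 2))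
    (hs : Function.Surjective π) (hk : Nat.card π.ker = 1024) {c : G}
    (hc : c ∈ Subgroup.centralizer ({a * b} : Set G)) {q : ↥(Subgroup.centralizer ({a, b} : Set G))}
    (hq : π q = 1) : π ⟨c * q * c⁻¹, pair_normal h hN ha hb hc q.2⟩ = 1 := by
  classical
  let θ : ↥(Subgroup.centralizer ({a, b} : Set G)) →* ↥(Subgroup.centralizer ({a, b} : Set G)) := MonoidHom.mk' (fun k => ⟨c * k * c⁻¹, pair_normal h hN ha hb hc k.2⟩) fun x y =>
    Subtype.ext (by simp)
  have hθs : Function.Surjective θ := fun y => ⟨⟨c⁻¹ * y * c⁻¹⁻¹, pair_normal h hN ha hb (inv_mem hc) y.2⟩,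
    Subtype.ext (by simp only [θ, MonoidHom.mk'_apply]; group)⟩
  haveI h1 : (π.ker.map θ).Normal := Subgroup.Normal.map inferInstance θ hθs
  haveI h2 : ((π.ker.map θ).map π).Normal := Subgroup.Normal.map h1 π hs
  obtain ⟨hS, -, hcard⟩ := simple_su4 (F := F) hF
  rcases hS.eq_bot_or_eq_top_of_normal _ h2 with e | e
  · have hm : π (θ q) ∈ (π.ker.map θ).map π :=
      Subgroup.mem_map_of_mem π (Subgroup.mem_map_of_mem θ (show q ∈ π.ker from hq))
    rw [e] at hm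
    exact Subgroup.mem_bot.1 hm
  · have d1 : Nat.card ↥((π.ker.map θ).map π) ∣ Nat.card ↥π.ker :=
      (Subgroup.card_map_dvd (π.ker.map θ) π).trans (Subgroup.card_map_dvd π.ker θ)
    rw [e, Subgroup.card_top, hcard, hk] at d1
    exact absurd (Nat.le_of_dvd (Nat.succ_pos _) d1) (not_le.2 (Nat.lt_of_lt_of_le (Nat.lt_succ_self 1024) (by norm_num)))

/-- An element exchanging the two members acts non-trivially above the kernel. -/
theorem pair_faithful (h : Hyp D) (hF : Fintype.card F = 4) (Wall : ∀ x ∈ D, Loc22All D F x) (hN : NoRel 5 D)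
    (hne : ∀ a ∈ D, ∀ b ∈ perp D a, (perp D a ∩ perp D b).Nonempty) {a b : G} (ha : a ∈ D)
    (hb : b ∈ perp D a) (π : ↥(Subgroup.centralizer ({a, b} : Set G)) →* ↥(Cfsg.SU 4 F 2))
    (hfib : ∀ (u : ↥(Subgroup.centralizer ({a, b} : Set G))), (u : G) ∈ perp D a ∩ perp D b → π u ≠ 1 ∧
      {u' | u' ∈ perp D a ∩ perp D b ∧
        ∃ hu' : u' ∈ Subgroup.centralizer ({a, b} : Set G), π ⟨u', hu'⟩ = π u}.ncard ≤ 4 ∧
      (∀ u' : ↥(Subgroup.centralizer ({a, b} : Set G)), (u' : G) ∈ perp D a ∩ perp D b → π u' = π u →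
        Commute (u : G) (u' : G) ∧ ∃ q ∈ π.ker, (q : G) * u * (q : G)⁻¹ = u') ∧
      ∃ q ∈ π.ker, (q : G) * u * (q : G)⁻¹ ≠ u)
    {c : G} (hc : c ∈ Subgroup.centralizer ({a * b} : Set G)) (c1 : c * a * c⁻¹ = b) (c2 : c * b * c⁻¹ = a)
    (hπ : ∀ k : ↥(Subgroup.centralizer ({a, b} : Set G)), π ⟨c * k * c⁻¹, pair_normal h hN ha hb hc k.2⟩ = π k) :
    False := by
  classical
  obtain ⟨x, hxa, hxb⟩ := hne a ha b hb
  have inK : ∀ {y : G}, y ∈ perp D a → y ∈ perp D b → y ∈ Subgroup.centralizer ({a, b} : Set G) := fun hy hy' =>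
    mem_cent_pair.2 ⟨hy.2.2.symm, hy'.2.2.symm⟩
  have hperpK : ∀ (g : G), g * a * g⁻¹ = a ∧ g * b * g⁻¹ = b ∨ g * a * g⁻¹ = b ∧ g * b * g⁻¹ = a → ∀ y,
      y ∈ perp D a ∩ perp D b → g * y * g⁻¹ ∈ perp D a ∩ perp D b := by
    intro g hg y hy
    have r1 : g * y * g⁻¹ ∈ perp D (g * a * g⁻¹) := by rw [perp_conj h]; exact ⟨y, hy.1, rfl⟩
    have r2 : g * y * g⁻¹ ∈ perp D (g * b * g⁻¹) := by rw [perp_conj h]; exact ⟨y, hy.2, rfl⟩
    rcases hg with ⟨e1, e2⟩ | ⟨e1, e2⟩ <;> rw [e1] at r1 <;> rw [e2] at r2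
    · exact ⟨r1, r2⟩
    · exact ⟨r2, r1⟩
  have hx' := hperpK c (Or.inr ⟨c1, c2⟩) x ⟨hxa, hxb⟩
  obtain ⟨-, -, hx3, -⟩ := hfib ⟨c * x * c⁻¹, inK hx'.1 hx'.2⟩ hx'
  obtain ⟨-, q, hq, hqe⟩ := hx3 ⟨x, inK hxa hxb⟩ ⟨hxa, hxb⟩ (hπ ⟨x, inK hxa hxb⟩).symm
  set c' := (q : G) * c with hc'
  obtain ⟨q1, q2⟩ := mem_cent_pair.1 q.2
  have d1 : c' * a * c'⁻¹ = b := by
    rw [hc', show (q : G) * c * a * ((q : G) * c)⁻¹ = q * (c * a * c⁻¹) * (q : G)⁻¹ by group, c1, q2.eq, mul_inv_cancel_right]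
  have d2 : c' * b * c'⁻¹ = a := by
    rw [hc', show (q : G) * c * b * ((q : G) * c)⁻¹ = q * (c * b * c⁻¹) * (q : G)⁻¹ by group, c2, q1.eq, mul_inv_cancel_right]
  have hfix : c' * x * c'⁻¹ = x := by
    rw [hc', show (q : G) * c * x * ((q : G) * c)⁻¹ = q * (c * x * c⁻¹) * (q : G)⁻¹ by group]
    exact hqe
  have hπ' : ∀ (k : ↥(Subgroup.centralizer ({a, b} : Set G))) (hk : c' * k * c'⁻¹ ∈ Subgroup.centralizer ({a, b} : Set G)), π ⟨c' * k * c'⁻¹, hk⟩ = π k := fun k hk => by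
    have e : (⟨c' * k * c'⁻¹, hk⟩ : ↥(Subgroup.centralizer ({a, b} : Set G))) = q * ⟨c * k * c⁻¹, pair_normal h hN ha hb hc k.2⟩ * q⁻¹ :=
      Subtype.ext (by simp only [hc', Subgroup.coe_mul, Subgroup.coe_inv]; group)
    rw [e, map_mul, map_mul, map_inv, hπ, show π q = 1 from hq, one_mul, inv_one, mul_one]
  -- inside the centralizer of the common neighbour
  have W := Wall x hxa.1
  obtain ⟨e⟩ := W.psu
  have hA : a ∈ perp D x := perp_symm ha hxa
  have hB : b ∈ perp D x := perp_symm hb.1 hxb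
  have hgl : c' ∈ loc D x := W.ceq ▸ Subgroup.mem_centralizer_singleton_iff.2 (mul_inv_eq_iff_eq_mul.1 hfix)
  let rel : ↥(loc D x) ⧸ Subgroup.center ↥(loc D x) → ↥(loc D x) ⧸ Subgroup.center ↥(loc D x) → Prop :=
    fun P Q => ∃ (y : G) (hy : y ∈ perp D x) (y' : G) (hy' : y' ∈ perp D x) (hya : y ∈ perp D a ∩ perp D b)
      (hya' : y' ∈ perp D a ∩ perp D b), P = bar hy ∧ Q = bar hy' ∧
      π ⟨y, inK hya.1 hya.2⟩ = π ⟨y', inK hya'.1 hya'.2⟩
  have hperp : ∀ {y : G} (hy : y ∈ perp D x), bar hy ∈ perp (img D x) (bar hA) ∩ perp (img D x) (bar hB) ↔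
      y ∈ perp D a ∩ perp D b := fun hy => (bar_perp h W.nc hy hA).and (bar_perp h W.nc hy hB)
  have hnz := img_nz h W.nc
  refine no_swap_u6 hF e (pre_img (pre_of_hyp h) x) (a := bar hA) (b := bar hB) (hnz.symm ▸ bar_mem hA)
    (hnz.symm ▸ (bar_perp h W.nc hB hA).2 hb) rel ?_ ?_ ?_ ?_ ?_
    (QuotientGroup.mk (⟨c', hgl⟩ : ↥(loc D x))) ?_ ?_ ?_
  all_goals try rw [hnz]
  · rintro P Q ⟨y, hy, y', hy', hya, hya', rfl, rfl, r⟩
    exact ⟨y', hy', y, hy, hya', hya, rfl, rfl, r.symm⟩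
  · rintro P Q R ⟨y, hy, y', hy', hya, hya', rfl, rfl, r⟩ ⟨z, hz, z', hz', hza, hza', e1, rfl, r'⟩
    obtain rfl := (bar_inj h W.nc hy' hz).1 e1
    exact ⟨y, hy, z', hz', hya, hza', rfl, rfl, r.trans r'⟩
  · intro k ka kb P Q ⟨y, hy, y', hy', hya, hya', eP, eQ, r⟩
    subst eP eQ
    obtain ⟨k, rfl⟩ := QuotientGroup.mk'_surjective _ k
    have hkx : (k : G) * x * (k : G)⁻¹ = x := by rw [← (commute_loc k.2).eq, mul_inv_cancel_right]
    have hmv : ∀ {z : G}, z ∈ perp D x → (k : G) * z * (k : G)⁻¹ ∈ perp D x := fun {z} hz => by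
      have r := perp_conj h (k : G) x
      rw [hkx] at r
      rw [r]; exact ⟨z, hz, rfl⟩
    have k1 : (k : G) * a * (k : G)⁻¹ = a := (bar_inj h W.nc (hmv hA) hA).1 ka
    have k2 : (k : G) * b * (k : G)⁻¹ = b := (bar_inj h W.nc (hmv hB) hB).1 kb
    have hkK : (k : G) ∈ Subgroup.centralizer ({a, b} : Set G) := mem_cent_pair.2 ⟨mul_inv_eq_iff_eq_mul.1 k1, mul_inv_eq_iff_eq_mul.1 k2⟩
    refine ⟨_, hmv hy, _, hmv hy', hperpK _ (Or.inl ⟨k1, k2⟩) _ hya, hperpK _ (Or.inl ⟨k1, k2⟩) _ hya', rfl, rfl, ?_⟩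
    show π (⟨(k : G), hkK⟩ * ⟨y, inK hya.1 hya.2⟩ * ⟨(k : G), hkK⟩⁻¹) =
      π (⟨(k : G), hkK⟩ * ⟨y', inK hya'.1 hya'.2⟩ * ⟨(k : G), hkK⟩⁻¹)
    rw [map_mul, map_mul, map_mul, map_mul, r]
  · intro P hP
    obtain ⟨y, hy, rfl⟩ := exists_bar hP.1.1
    have hya := (hperp hy).1 hP
    refine le_trans ?_ (hfib ⟨y, inK hya.1 hya.2⟩ hya).2.1
    let f : G → ↥(loc D x) ⧸ Subgroup.center ↥(loc D x) := fun z => if hz : z ∈ perp D x then bar hz else 1
    refine le_trans (Set.ncard_le_ncard ?_ (Set.toFinite _)) (Set.ncard_image_le (f := f) (Set.toFinite _))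
    rintro Q ⟨-, z, hz, z', hz', hza, hza', e1, rfl, r⟩
    obtain rfl := (bar_inj h W.nc hy hz).1 e1
    exact ⟨z', ⟨hza', inK hza'.1 hza'.2, r.symm⟩, by simp only [f, dif_pos hz']⟩
  · intro P Q R hP hQ hR ⟨y, hy, y', hy', hya, hya', eP, eQ, r⟩ hcomm
    subst eP eQ
    obtain ⟨z, hz, rfl⟩ := exists_bar hR.1.1
    have hza := (hperp hz).1 hR
    have c0 := (bar_commute h hy hz).1 hcomm
    refine (bar_commute h hy' hz).2 ?_
    by_contra hn
    set Y : ↥(Subgroup.centralizer ({a, b} : Set G)) := ⟨y, inK hya.1 hya.2⟩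
    set Y' : ↥(Subgroup.centralizer ({a, b} : Set G)) := ⟨y', inK hya'.1 hya'.2⟩
    set Z : ↥(Subgroup.centralizer ({a, b} : Set G)) := ⟨z, inK hza.1 hza.2⟩
    have e2 : π (Y * Z) ^ 2 = 1 := by
      rw [← map_pow, show (Y * Z) ^ 2 = 1 from Subtype.ext (by
        show (y * z) ^ 2 = 1
        exact (h.commute_iff_sq hy.1 hz.1).1 c0), map_one]
    have e3 : π (Y * Z) ^ 3 = 1 := by
      rw [map_mul, show π Y = π Y' from r, ← map_mul, ← map_pow, show (Y' * Z) ^ 3 = 1 from Subtype.ext (by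
        show (y' * z) ^ 3 = 1
        exact h.cube hy'.1 hz.1 hn), map_one]
    have e1 : π (Y * Z) = 1 := by rwa [pow_succ, e2, one_mul] at e3
    have hZsq : π Z * π Z = 1 := by
      rw [← map_mul, show Z * Z = 1 from Subtype.ext (h.mul_self hz.1), map_one]
    have eYZ : π Y' = π Z := by
      rw [map_mul, show π Y = π Y' from r] at e1
      rw [eq_inv_of_mul_eq_one_left e1, inv_eq_of_mul_eq_one_right hZsq]
    exact hn ((hfib Z hza).2.2.1 Y' hya' eYZ).1.symm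
  · have e0 := (bar_inj h W.nc (x := c' * a * c'⁻¹) (y := b) (by rw [d1]; exact hB) hB).2 d1
    exact e0
  · have e0 := (bar_inj h W.nc (x := c' * b * c'⁻¹) (y := a) (by rw [d2]; exact hA) hA).2 d2
    exact e0
  · intro P hP
    obtain ⟨y, hy, rfl⟩ := exists_bar hP.1.1
    have hya := (hperp hy).1 hP
    have hy'x : c' * y * c'⁻¹ ∈ perp D x := by
      have r := perp_conj h c' x
      rw [hfix] at r
      rw [r]; exact ⟨y, hy, rfl⟩
    have hy'a := hperpK c' (Or.inr ⟨d1, d2⟩) y hya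
    exact ⟨y, hy, _, hy'x, hya, hy'a, rfl, rfl, (hπ' ⟨y, inK hya.1 hya.2⟩ _).symm⟩

theorem aut_psu4_le (hF : Fintype.card F = 4) : Nat.card (MulAut (Cfsg.PSU 4 F 2)) ≤ 51840 := by
  classical
  haveI := Fact.mk Nat.prime_two
  obtain ⟨C, hC⟩ := CfsgLib.SU.classify (F := F) (p := 2) (f := 1) (q := 2) (by norm_num) le_rfl
    (by rw [hF]; norm_num) (n := 4) (by norm_num) (by norm_num)
  obtain ⟨cG, cS⟩ := U6.card_small C hF
  haveI : Finite (RingAut F) :=
    Finite.of_injective (fun σ : RingAut F => (σ : F → F)) fun σ τ r => RingEquiv.ext (congrFun r)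
  have hR : Nat.card (RingAut F) ≤ 2 := by
    obtain ⟨ω, hω0, hω1, hω2, hω3, hcases⟩ := Relations.exists_omega (F := F) hF
    have hinj : Function.Injective fun σ : RingAut F => decide (σ ω = ω) := by
      intro σ τ r
      simp only [decide_eq_decide] at r
      have key : ∀ σ : RingAut F, σ ω = ω ∨ σ ω = ω ^ 2 := fun σ => by
        rcases hcases (σ ω) with s | s | s | s
        · exact absurd ((map_eq_zero σ).1 s) hω0
        · exact absurd (σ.injective (s.trans (map_one σ).symm)) hω1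
        · exact Or.inl s
        · exact Or.inr s
      have eω : σ ω = τ ω := by
        rcases key σ with s | s <;> rcases key τ with t | t
        · rw [s, t]
        · rw [s, r.1 s]
        · rw [r.2 t, t]
        · rw [s, t]
      refine RingEquiv.ext fun x => ?_
      rcases hcases x with rfl | rfl | rfl | rfl
      · rw [map_zero, map_zero]
      · rw [map_one, map_one]
      · exact eω
      · rw [map_pow, map_pow, eω]
    have := Nat.card_le_card_of_injective _ hinj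
    rwa [Nat.card_eq_fintype_card (α := Bool), Fintype.card_bool] at this
  let S := (⊤ : Subgroup ↥(Cfsg.GU 4 F 2)).map C.indHom
  have hsurj : Function.Surjective fun p : ↥(Cfsg.SU 4 F 2) × RingAut F => C.ind (CfsgLib.SU.toGU p.1) p.2 := by
    intro β
    obtain ⟨g, σ, rfl⟩ := hC β
    -- a scalar makes the determinant one
    have hg := C.mem_gu_iff.1 g.2
    set dt := g.1.1.det with hdt
    have hdt0 : dt ≠ 0 := by
      have := (Matrix.isUnit_iff_isUnit_det _).1 g.1.isUnit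
      exact this.ne_zero
    have hd3 : dt ^ 3 = 1 := by
      have := FiniteField.pow_card_sub_one_eq_one dt hdt0
      rwa [hF] at this
    have hinv : dt⁻¹ * C.bar dt⁻¹ = 1 := Relations.norm_one C hF (inv_ne_zero hdt0)
    have hdet : (dt⁻¹ • g.1.1).det = 1 := by
      rw [Matrix.det_smul, Fintype.card_fin, ← hdt, inv_pow, inv_mul_eq_iff_eq_mul₀ (pow_ne_zero 4 hdt0)]
      linear_combination -dt * hd3
    let s : ↥(Cfsg.SU 4 F 2) := C.mkSU (dt⁻¹ • g.1.1) hdet fun u v => by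
      rw [Matrix.smul_mulVec, Matrix.smul_mulVec, C.form_smul_left, C.form_smul_right, hg]
      linear_combination C.form u v * hinv
    refine ⟨(s, σ), ?_⟩
    have e1 : ((CfsgLib.SU.toGU s)⁻¹ * g).1.1 = dt • (1 : Matrix (Fin 4) (Fin 4) F) := by
      have em : g.1.1 = (CfsgLib.SU.toGU s).1.1 * (dt • (1 : Matrix (Fin 4) (Fin 4) F)) := by
        show g.1.1 = (dt⁻¹ • g.1.1) * (dt • (1 : Matrix (Fin 4) (Fin 4) F))
        rw [Matrix.mul_smul, Matrix.mul_one, smul_smul, mul_inv_cancel₀ hdt0, one_smul]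
      show ((CfsgLib.SU.toGU s).1⁻¹).1 * g.1.1 = _
      rw [em, ← Matrix.mul_assoc, ← Units.val_mul, inv_mul_cancel, Units.val_one, Matrix.one_mul]
    have e2 := CfsgLib.SU.indHom_scalar (C := C) (by norm_num) e1
    show C.ind (CfsgLib.SU.toGU s) σ = C.ind g σ
    have key : ∀ g : ↥(Cfsg.GU 4 F 2), C.ind g σ = C.indHom g * C.ind 1 σ := fun g => by
      rw [C.indHom_apply, C.ind_one_mul, mul_one]
    rw [key g, key (CfsgLib.SU.toGU s)]
    congr 1
    conv_rhs => rw [show g = CfsgLib.SU.toGU s * ((CfsgLib.SU.toGU s)⁻¹ * g) by rw [mul_inv_cancel_left], map_mul, e2, mul_one]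
  refine (Nat.card_le_card_of_surjective _ hsurj).trans ?_
  rw [Nat.card_prod, cS]
  omega

end CfsgLib.Spor.Tri.Level
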