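/-
The common neighbours of two non-commuting transvections of `PSU(6, 4)`.
-/
import Cfsg.Agent.Lib.Spor.Tri.LineCentralizer
import Cfsg.Agent.Lib.Spor.Tri.PairCentral

set_option autoImplicit false
set_option linter.all false

namespace CfsgLib.Spor.Tri.Level.U6

open Matrix CfsgLib.SU CfsgLib.Spor.Tri CfsgLib.Spor.Tri.Relations

variable {F : Type} [Field F] [Fintype F] (C : UCtx F 2) (hF : Fintype.card F = 4)

local notation "V" => (Fin 6 → F)

variable {D : Set (Cfsg.PSU 6 F 2)} {ω : F} (hω0 : ω ≠ 0) (hω1 : ω ≠ 1)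

local notation "aP" => pt C hF v₀ (form_v₀ C hF)
local notation "cP" => pt C hF (uω ω) (form_uω C hF hω0)

include hω0 in
theorem uω_ne : (uω ω : V) ≠ 0 := fun e => one_ne_zero (congrFun e 0)

include hω1 in
theorem pair_noncomm : ¬ Commute aP cP := fun r =>
  form_v₀_uω C hF hω1 ((pt_commute C hF (uω_ne hω0)).1 r)

include hω1 in
theorem common_iff (h : Pre D) (hne : (nz D).Nonempty) (u : V) (hu : C.form u u = 0) (hu0 : u ≠ 0) :
    pt C hF u hu ∈ perp (nz D) aP ∩ perp (nz D) cP ↔ C.form u v₀ = 0 ∧ C.form u (uω ω) = 0 := by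
  constructor
  · rintro ⟨r, r'⟩
    exact ⟨(pt_commute C hF v₀_ne).1 r.2.2.symm, (pt_commute C hF (uω_ne hω0)).1 r'.2.2.symm⟩
  · rintro ⟨r, r'⟩
    have h1 := (pt_commute C hF (hu := hu) (hw := form_v₀ C hF) v₀_ne).2 r
    have h2 := (pt_commute C hF (hu := hu) (hw := form_uω C hF hω0) (uω_ne hω0)).2 r'
    have hm := pt_mem C hF h hne u hu hu0
    exact ⟨⟨hm, fun e => pair_noncomm C hF hω0 hω1 (e ▸ h2), h1.symm⟩,
      ⟨hm, fun e => pair_noncomm C hF hω0 hω1 (e ▸ h1).symm, h2.symm⟩⟩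

include hF hω1 in
theorem first_zero {u : V} (h1 : C.form u v₀ = 0) (h2 : C.form u (uω ω) = 0) : u 0 = 0 ∧ u 1 = 0 := by
  simp [form_six, v₀, uω] at h1 h2
  rw [eq_of_add_zero hF h1] at h2
  have h0 : u 0 = 0 := by
    by_contra hne
    have h3 : (1 : F) + C.bar ω = 0 := mul_left_cancel₀ hne (by linear_combination h2)
    exact hω1 (C.bar.injective (by rw [map_one]; exact eq_of_add_zero hF h3))
  exact ⟨h0, by rw [eq_of_add_zero hF h1, h0]⟩

theorem ext4_ne {w : Fin 4 → F} (hw : w ≠ 0) : (ext4 w : V) ≠ 0 := fun e => hw (funext fun i => by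
  have h2 := congrFun e 2; have h3 := congrFun e 3; have h4 := congrFun e 4; have h5 := congrFun e 5
  simp [ext4] at h2 h3 h4 h5
  fin_cases i <;> assumption)

include hF in
theorem ext4_mem (h : Pre D) (hne : (nz D).Nonempty) (hω1 : ω ≠ 1) {w : Fin 4 → F} (hw : C.form w w = 0)
    (hw0 : w ≠ 0) : pt C hF (ext4 w) (by rw [form_ext4, hw]) ∈ perp (nz D) aP ∩ perp (nz D) cP :=
  (common_iff C hF hω0 hω1 h hne _ _ (ext4_ne hw0)).2
    ⟨by simp [form_six, v₀, ext4], by simp [form_six, uω, ext4]⟩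

include hω1 in
/-- An element centralizing both points comes from a matrix fixing the first two unit vectors. -/
theorem exists_fix {g : Cfsg.PSU 6 F 2} (hga : Commute g aP) (hgc : Commute g cP) :
    ∃ A : ↥(Cfsg.SU 6 F 2), pr A = g ∧ A.1.1 *ᵥ e₀ = e₀ ∧ A.1.1 *ᵥ e₁ = e₁ := by
  have hu0 : (uω ω : V) ≠ 0 := uω_ne hω0
  have ga := conj_eq_of_commute hga
  have gc := conj_eq_of_commute hgc
  obtain ⟨A, hA⟩ := QuotientGroup.mk'_surjective (Subgroup.center ↥(Cfsg.SU 6 F 2)) g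
  rw [← hA] at ga gc
  have eA : pt C hF (A.1.1 *ᵥ v₀) (by rw [C.form_su, form_v₀ C hF]) = aP := (pr_conj_pt C hF A _ _).symm.trans ga
  have eC : pt C hF (A.1.1 *ᵥ uω ω) (by rw [C.form_su, form_uω C hF hω0]) = cP :=
    (pr_conj_pt C hF A _ _).symm.trans gc
  obtain ⟨s, hs, es⟩ := (pt_eq_iff C hF (su_mulVec_ne_zero A v₀_ne)).1 eA
  obtain ⟨t, ht, et⟩ := (pt_eq_iff C hF (su_mulVec_ne_zero A hu0)).1 eC
  have hst : s = t := by
    have e := C.form_su A v₀ (uω ω)
    rw [es, et, C.form_smul_left, C.form_smul_right] at e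
    have h1 : s * C.bar t = 1 := mul_right_cancel₀ (form_v₀_uω C hF hω1) (by linear_combination e)
    linear_combination (t : F) * h1 - s * Relations.norm_one C hF ht
  subst hst
  have hinv : (s : F)⁻¹ * C.bar s⁻¹ = 1 := Relations.norm_one C hF (inv_ne_zero hs)
  have hs6 : (s : F)⁻¹ ^ 6 = 1 := by
    have := FiniteField.pow_card_sub_one_eq_one s⁻¹ (inv_ne_zero hs)
    rw [hF] at this
    linear_combination (s⁻¹ ^ 3 + 1) * this
  let S : ↥(Cfsg.SU 6 F 2) := C.mkSU ((s : F)⁻¹ • 1) (by simpa using hs6) fun u v => by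
    simp only [Matrix.smul_mulVec, Matrix.one_mulVec, C.form_smul_left, C.form_smul_right]
    linear_combination C.form u v * hinv
  have hSv : ∀ x, S.1.1 *ᵥ x = (s : F)⁻¹ • x := fun x => by
    rw [UCtx.mkSU_val, Matrix.smul_mulVec, Matrix.one_mulVec]
  have hS1 : pr S = 1 := (QuotientGroup.eq_one_iff _).2 (Subgroup.mem_center_iff.2 (scalar_central (C.mkSU_val _ _ _)))
  refine ⟨S * A, by rw [map_mul, hS1, one_mul]; exact hA, ?_⟩
  have f1 : (S * A).1.1 *ᵥ v₀ = v₀ := by rw [suMat_mulVec_mul, es, hSv, inv_smul_smul₀ hs]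
  have f2 : (S * A).1.1 *ᵥ uω ω = uω ω := by rw [suMat_mulVec_mul, et, hSv, inv_smul_smul₀ hs]
  have hω' : ω - 1 ≠ 0 := sub_ne_zero.2 hω1
  have he1 : e₁ = (ω - 1)⁻¹ • (uω ω - v₀) := by
    funext i; fin_cases i <;> simp [e₁, uω, v₀]
    field_simp
  have g1 : (S * A).1.1 *ᵥ e₁ = e₁ := by rw [he1, Matrix.mulVec_smul, Matrix.mulVec_sub, f1, f2]
  refine ⟨?_, g1⟩
  rw [show (e₀ : V) = v₀ - e₁ by funext i; fin_cases i <;> simp [e₀, e₁, v₀], Matrix.mulVec_sub, f1, g1]

theorem eq_of_block {A A' : ↥(Cfsg.SU 6 F 2)} (h0 : A.1.1 *ᵥ e₀ = A'.1.1 *ᵥ e₀) (h1 : A.1.1 *ᵥ e₁ = A'.1.1 *ᵥ e₁)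
    (h4 : ∀ x, A.1.1 *ᵥ ext4 x = A'.1.1 *ᵥ ext4 x) : A = A' := su_ext fun x => by
  have hx : x = x 0 • e₀ + x 1 • e₁ + ext4 ![x 2, x 3, x 4, x 5] := by
    funext i; fin_cases i <;> simp [e₀, e₁, ext4]
  rw [hx]
  simp only [Matrix.mulVec_add, Matrix.mulVec_smul, h0, h1, h4]

include hω1 in
/-- Every block is a product of transvections in common neighbours. -/
theorem block_common (h : Pre D) (hne : (nz D).Nonempty) (B : ↥(Cfsg.SU 4 F 2)) :
    ∃ A : ↥(Cfsg.SU 6 F 2), pr A ∈ Subgroup.closure (perp (nz D) aP ∩ perp (nz D) cP) ∧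
      A.1.1 *ᵥ e₀ = e₀ ∧ A.1.1 *ᵥ e₁ = e₁ ∧ ∀ x, A.1.1 *ᵥ ext4 x = ext4 (B.1.1 *ᵥ x) := by
  let R : ↥(Cfsg.SU 6 F 2) → ↥(Cfsg.SU 4 F 2) → Prop := fun A B =>
    pr A ∈ Subgroup.closure (perp (nz D) aP ∩ perp (nz D) cP) ∧
      A.1.1 *ᵥ e₀ = e₀ ∧ A.1.1 *ᵥ e₁ = e₁ ∧ ∀ x, A.1.1 *ᵥ ext4 x = ext4 (B.1.1 *ᵥ x)
  let K : Subgroup ↥(Cfsg.SU 4 F 2) :=
    { carrier := {B | ∃ A, R A B}
      one_mem' := ⟨1, by rw [map_one]; exact one_mem _, su_one_mulVec _, su_one_mulVec _,
        fun x => by rw [su_one_mulVec, su_one_mulVec]⟩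
      mul_mem' := by
        rintro B B' ⟨A, a1, a2, a3, a4⟩ ⟨A', b1, b2, b3, b4⟩
        exact ⟨A * A', by rw [map_mul]; exact mul_mem a1 b1, by rw [suMat_mulVec_mul, b2, a2],
          by rw [suMat_mulVec_mul, b3, a3], fun x => by rw [suMat_mulVec_mul, b4, a4, suMat_mulVec_mul]⟩
      inv_mem' := by
        rintro B ⟨A, a1, a2, a3, a4⟩
        refine ⟨A⁻¹, by rw [map_inv]; exact inv_mem a1, ?_, ?_, fun x => ?_⟩
        · conv_lhs => rw [← a2]
          rw [su_inv_mulVec]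
        · conv_lhs => rw [← a3]
          rw [su_inv_mulVec]
        · conv_lhs => rw [← su_mulVec_inv B x, ← a4]
          rw [su_inv_mulVec] }
  suffices hK : K = ⊤ by exact (hK ▸ Subgroup.mem_top B : B ∈ K)
  rw [eq_top_iff, ← CfsgLib.Perm.Trans.Unit.su_closure (F := F) (q := 2) (by rw [hF]; norm_num) 4 (by norm_num)
    (by norm_num), Subgroup.closure_le]
  rintro T ⟨w, c, hw, hT⟩
  have hTv : ∀ x, T.1.1 *ᵥ x = x + (c * C.form x w) • w := fun x => by
    rw [hT, CfsgLib.Perm.Trans.Unit.unitaryTransvection_mulVec, CfsgLib.Perm.Trans.Unit.hermForm_eq_form C]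
  rw [CfsgLib.Perm.Trans.Unit.hermForm_eq_form C] at hw
  rcases eq_or_ne w 0 with rfl | hw0
  · rw [show T = 1 from su_ext fun x => by rw [hTv, su_one_mulVec, smul_zero, add_zero]]
    exact K.one_mem
  have hc : c = 0 ∨ c = 1 := by
    have hw' : Cfsg.hermForm 4 F 2 w w = 0 := by rw [CfsgLib.Perm.Trans.Unit.hermForm_eq_form C, hw]
    rcases (CfsgLib.Perm.Trans.Unit.unitaryTransvection_iff (by rw [hF]; norm_num) hw0 hw' c).1
      (fun x y => by rw [← hT]; exact T.2 x y) with e | e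
    · exact Or.inl e
    · right
      simp only [show (2 - 1 : ℕ) = 1 from rfl, pow_one] at e
      rw [e]
      linear_combination -one_add_one hF
  rcases hc with rfl | rfl
  · rw [show T = 1 from su_ext fun x => by rw [hTv, su_one_mulVec, zero_mul, zero_smul, add_zero]]
    exact K.one_mem
  refine ⟨tr1 C hF (ext4 w) (by rw [form_ext4, hw]),
    Subgroup.subset_closure (ext4_mem C hF hω0 h hne hω1 hw hw0), ?_, ?_, fun x => ?_⟩
  · rw [tr1_mulVec, show C.form (e₀ : V) (ext4 w) = 0 by simp [form_six, e₀, ext4], zero_smul, add_zero]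
  · rw [tr1_mulVec, show C.form (e₁ : V) (ext4 w) = 0 by simp [form_six, e₁, ext4], zero_smul, add_zero]
  · rw [tr1_mulVec, form_ext4, hTv, one_mul]
    funext i; fin_cases i <;> simp [ext4]

include hω1 in
theorem base_cent (h : Pre D) (hne : (nz D).Nonempty) :
    Subgroup.centralizer ({aP, cP} : Set (Cfsg.PSU 6 F 2)) ≤ Subgroup.closure (perp (nz D) aP ∩ perp (nz D) cP) := by
  intro g hg
  obtain ⟨A, rfl, q0, q1⟩ := exists_fix C hF hω0 hω1 (mem_cent_two.1 hg).1 (mem_cent_two.1 hg).2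
  obtain ⟨B, hB⟩ := exists_block C A q0 q1
  obtain ⟨A', hm, r0, r1, r4⟩ := block_common C hF hω0 hω1 h hne B
  rw [eq_of_block (q0.trans r0.symm) (q1.trans r1.symm) fun x => (hB x).trans (r4 x).symm]
  exact hm

include hω1 in
theorem base_triv (h : Pre D) (hne : (nz D).Nonempty) {g : Cfsg.PSU 6 F 2}
    (hg : g ∈ Subgroup.centralizer ({aP, cP} : Set (Cfsg.PSU 6 F 2)))
    (hall : ∀ p ∈ perp (nz D) aP ∩ perp (nz D) cP, Commute g p) : g = 1 := by
  obtain ⟨A, rfl, q0, q1⟩ := exists_fix C hF hω0 hω1 (mem_cent_two.1 hg).1 (mem_cent_two.1 hg).2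
  obtain ⟨B, hB⟩ := exists_block C A q0 q1
  have hline : ∀ w : Fin 4 → F, C.form w w = 0 → w ≠ 0 → ∃ s : F, s ≠ 0 ∧ B.1.1 *ᵥ w = s • w := by
    intro w hw hw0
    have e := (pr_conj_pt C hF A (ext4 w) (by rw [form_ext4, hw])).symm.trans
      (conj_eq_of_commute (hall _ (ext4_mem C hF hω0 h hne hω1 hw hw0)))
    obtain ⟨s, hs, es⟩ := (pt_eq_iff C hF (su_mulVec_ne_zero A (ext4_ne hw0))).1 e
    rw [hB] at es
    refine ⟨s, hs, funext fun i => ?_⟩
    have h2 := congrFun es 2; have h3 := congrFun es 3; have h4 := congrFun es 4; have h5 := congrFun es 5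
    simp [ext4] at h2 h3 h4 h5
    fin_cases i <;> simpa
  have hBc : B ∈ Subgroup.center ↥(Cfsg.SU 4 F 2) := by
    have hle : (⊤ : Subgroup ↥(Cfsg.SU 4 F 2)) ≤ Subgroup.centralizer {B} := by
      rw [← CfsgLib.Perm.Trans.Unit.su_closure (F := F) (q := 2) (by rw [hF]; norm_num) 4 (by norm_num)
        (by norm_num), Subgroup.closure_le]
      rintro T ⟨w, c, hw, hT⟩
      rw [SetLike.mem_coe, Subgroup.mem_centralizer_singleton_iff]
      have hTv : ∀ x, T.1.1 *ᵥ x = x + (c * C.form x w) • w := fun x => by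
        rw [hT, CfsgLib.Perm.Trans.Unit.unitaryTransvection_mulVec, CfsgLib.Perm.Trans.Unit.hermForm_eq_form C]
      rw [CfsgLib.Perm.Trans.Unit.hermForm_eq_form C] at hw
      refine su_ext fun x => ?_
      rcases eq_or_ne w 0 with rfl | hw0
      · simp only [suMat_mulVec_mul, hTv, smul_zero, add_zero]
      obtain ⟨s, hs, es⟩ := hline w hw hw0
      have hBx : C.form (B.1.1 *ᵥ x) w = s * C.form x w := by
        have e := C.form_su B x w
        rw [es, C.form_smul_right] at e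
        rw [← e]
        linear_combination (-(C.form (B.1.1 *ᵥ x) w)) * Relations.norm_one C hF hs
      rw [suMat_mulVec_mul, suMat_mulVec_mul, hTv, hTv, hBx, Matrix.mulVec_add, Matrix.mulVec_smul, es, smul_smul]
      congr 2
      ring
    exact Subgroup.mem_center_iff.2 fun T => Subgroup.mem_centralizer_singleton_iff.1 (hle (Subgroup.mem_top T))
  rw [(simple_su4 (F := F) hF).2.1, Subgroup.mem_bot] at hBc
  subst hBc
  rw [show A = 1 from eq_of_block (q0.trans (su_one_mulVec _).symm) (q1.trans (su_one_mulVec _).symm)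
    fun x => by rw [hB, su_one_mulVec, su_one_mulVec], map_one]

include hω1 in
theorem base_line (hω3 : ω ^ 3 = 1) (hall4 : ∀ x : F, x = 0 ∨ x = 1 ∨ x = ω ∨ x = ω ^ 2) (h : Pre D)
    (hne : (nz D).Nonempty) {x : Cfsg.PSU 6 F 2} (hx : x ∈ nz D)
    (hall : ∀ p ∈ perp (nz D) aP ∩ perp (nz D) cP, Commute x p) : x = aP ∨ x = cP ∨ x = aP * cP * aP := by
  obtain ⟨z, hziso, hz0, rfl⟩ := exists_pt C hF h hx
  have hz := hziso
  have h11 := one_add_one hF
  have hnω : ω * C.bar ω = 1 := Relations.norm_one C hF hω0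
  have key : ∀ w : Fin 4 → F, C.form w w = 0 → w ≠ 0 → C.form z (ext4 w) = 0 := fun w hw hw0 =>
    (pt_commute C hF (ext4_ne hw0)).1 (hall _ (ext4_mem C hF hω0 h hne hω1 hw hw0))
  have k1 := key ![1, 1, 0, 0] (by simp [UCtx.form, Fin.sum_univ_succ, h11]) (fun e => one_ne_zero (congrFun e 0))
  have k2 := key ![1, 0, 1, 0] (by simp [UCtx.form, Fin.sum_univ_succ, h11]) (fun e => one_ne_zero (congrFun e 0))
  have k3 := key ![1, 0, 0, 1] (by simp [UCtx.form, Fin.sum_univ_succ, h11]) (fun e => one_ne_zero (congrFun e 0))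
  have k4 := key ![1, ω, 0, 0] (by simp [UCtx.form, Fin.sum_univ_succ, hnω, h11]) (fun e => one_ne_zero (congrFun e 0))
  simp [form_six, ext4] at k1 k2 k3 k4
  have e3 := eq_of_add_zero hF k1
  rw [e3] at k4
  have e2 : z 2 = 0 := by
    by_contra hne'
    have h3 : (1 : F) + C.bar ω = 0 := mul_left_cancel₀ hne' (by linear_combination k4)
    exact hω1 (C.bar.injective (by rw [map_one]; exact eq_of_add_zero hF h3))
  rw [e2] at e3 k2 k3
  rw [zero_add] at k2 k3
  rw [form_six, e2, e3, k2, k3] at hz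
  simp at hz
  have hz0' : z 0 ≠ 0 := by
    intro e
    rw [e, zero_mul, zero_add] at hz
    have e1 : z 1 = 0 := by
      by_contra hne'
      rw [Relations.norm_one C hF hne'] at hz
      exact one_ne_zero hz
    exact hz0 (funext fun i => by fin_cases i <;> simp [e, e1, e2, e3, k2, k3])
  set t := z 1 * (z 0)⁻¹ with ht
  have hzt : z = z 0 • uω t := by
    funext i; fin_cases i <;> simp [uω, e2, e3, k2, k3, ht]
    field_simp
  have ht0 : t ≠ 0 := by
    intro e
    have e1 : z 1 = 0 := (mul_eq_zero.1 e).resolve_right (inv_ne_zero hz0')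
    rw [e1, zero_mul, add_zero, Relations.norm_one C hF hz0'] at hz
    exact one_ne_zero hz
  have hid : pt C hF z hziso = pt C hF (uω t) (form_uω C hF ht0) := pt_smul C hF hz0' hzt
  rcases hall4 t with e | e | e | e
  · exact absurd e ht0
  · left
    rw [hid]
    exact pt_congr C hF (by funext i; fin_cases i <;> simp [uω, v₀, e])
  · right; left
    rw [hid]
    exact pt_congr C hF (by rw [e])
  · right; right
    rw [hid]
    have hinv : (aP)⁻¹ = aP := (pre_of_mem h (pt_mem C hF h hne _ _ v₀_ne))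
    conv_rhs => arg 2; rw [← hinv]
    refine ((pr_conj_pt C hF (tr1 C hF v₀ (form_v₀ C hF)) (uω ω) (form_uω C hF hω0)).trans ?_).symm
    refine pt_smul C hF hω0 ?_
    rw [tr1_mulVec]
    funext i
    fin_cases i <;> simp [form_six, uω, v₀, e]
    · linear_combination h11
    · linear_combination (ω : F) * h11 - hω3
where
  pre_of_mem (h : Pre D) {a : Cfsg.PSU 6 F 2} (ha : a ∈ nz D) : a⁻¹ = a := h.inv_eq ha.1

include hω1 in
theorem base_width_le (h : Pre D) (hne : (nz D).Nonempty) {E : Set (Cfsg.PSU 6 F 2)}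
    (hE : E ⊆ perp (nz D) aP ∩ perp (nz D) cP) (hc : ∀ a ∈ E, ∀ b ∈ E, Commute a b) : E.ncard ≤ 5 := by
  classical
  set S : Set V := {u | u ≠ 0 ∧ C.form u u = 0 ∧ ∃ hu, pt C hF u hu ∈ E} with hS
  have hcard := ncard_mul_three C hF h hne (fun x hx => (hE hx).1.1) (fun u => ∃ hu, pt C hF u hu ∈ E)
    fun u hu _ => ⟨fun r => ⟨hu, r⟩, fun ⟨_, r⟩ => r⟩
  rw [show Nat.card {u : V // u ≠ 0 ∧ C.form u u = 0 ∧ ∃ hu, pt C hF u hu ∈ E} = S.ncard from
    Nat.card_coe_set_eq S] at hcard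
  have hz : ∀ u ∈ S, u 0 = 0 ∧ C.form u v₀ = 0 := by
    rintro u ⟨hu0, -, hu, hue⟩
    have r := (common_iff C hF hω0 hω1 h hne u hu hu0).1 (hE hue)
    exact ⟨(first_zero C hF hω1 r.1 r.2).1, r.1⟩
  have horth : ∀ u ∈ insert v₀ S, ∀ w ∈ insert v₀ S, C.form u w = 0 := by
    intro u hu w hw
    rcases Set.mem_insert_iff.1 hu with rfl | hu <;> rcases Set.mem_insert_iff.1 hw with rfl | hw
    · exact form_v₀ C hF
    · exact C.form_swap_zero (hz w hw).2
    · exact (hz u hu).2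
    · obtain ⟨-, -, hui, hue⟩ := hu
      obtain ⟨hw0, -, hwi, hwe⟩ := hw
      exact (pt_commute C hF hw0).1 (hc _ hue _ hwe)
  set W' := Submodule.span F (insert v₀ S) with hW'
  set W := Submodule.span F S with hW
  have hWW : ∀ x ∈ W', ∀ y ∈ W', C.form x y = 0 := by
    intro x hx y hy
    induction hx using Submodule.span_induction with
    | mem u hu =>
      induction hy using Submodule.span_induction with
      | mem w hw => exact horth u hu w hw
      | zero => exact C.form_zero_right u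
      | add p q _ _ e1 e2 => rw [C.form_add_right, e1, e2, add_zero]
      | smul a p _ e1 => rw [C.form_smul_right, e1, mul_zero]
    | zero => exact C.form_zero_left y
    | add p q _ _ e1 e2 => rw [C.form_add_left, e1, e2, add_zero]
    | smul a p _ e1 => rw [C.form_smul_left, e1, mul_zero]
  let B := Module.finBasis F W'
  have hk : Module.finrank F W' ≤ 3 :=
    orth_indep_le C (fun i => (B i : V)) (B.linearIndependent.map' W'.subtype W'.ker_subtype)
      fun i j => hWW _ (B i).2 _ (B j).2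
  have hW0 : ∀ x ∈ W, x 0 = 0 := by
    intro x hx
    induction hx using Submodule.span_induction with
    | mem u hu => exact (hz u hu).1
    | zero => rfl
    | add p q _ _ e1 e2 => simp [e1, e2]
    | smul a p _ e1 => simp [e1]
  have hlt : W < W' := by
    refine lt_of_le_of_ne (Submodule.span_mono (Set.subset_insert _ _)) fun e => ?_
    have hv : (v₀ : V) ∈ W := e ▸ Submodule.subset_span (Set.mem_insert _ _)
    simpa [v₀] using hW0 _ hv
  have hk2 : Module.finrank F W ≤ 2 := by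
    have := Submodule.finrank_lt_finrank_of_lt hlt
    omega
  have hWcard : Nat.card W ≤ 4 ^ 2 := by
    rw [show Nat.card W = Nat.card F ^ Module.finrank F W from Module.natCard_eq_pow_finrank, Nat.card_eq_fintype_card, hF]
    exact Nat.pow_le_pow_right (by norm_num) hk2
  have hsub : S ⊆ (W : Set V) \ {0} := fun u hu => ⟨Submodule.subset_span hu, hu.1⟩
  have hle := Set.ncard_le_ncard hsub (Set.toFinite _)
  rw [Set.ncard_diff_singleton_of_mem (show (0 : V) ∈ (W : Set V) from W.zero_mem)] at hle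
  rw [← Nat.card_coe_set_eq (W : Set V)] at hle
  simp only [SetLike.coe_sort_coe] at hle
  omega

/-- The line of `(0, 0, 1, 1, 0, 0)` and `(0, 0, 0, 0, 1, 1)`. -/
def InLine (u : V) : Prop := u 0 = 0 ∧ u 1 = 0 ∧ u 2 = u 3 ∧ u 4 = u 5

include hω1 in
theorem base_width (h : Pre D) (hne : (nz D).Nonempty) : WidthIs (perp (nz D) aP ∩ perp (nz D) cP) 5 := by
  classical
  refine ⟨fun E hE hc => base_width_le C hF hω0 hω1 h hne hE hc, ?_⟩
  have h11 := one_add_one hF
  have hform : ∀ u w : V, InLine u → InLine w → C.form u w = 0 := fun u w ⟨z0, z1, b, c⟩ ⟨z0', z1', b', c'⟩ => by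
    rw [form_six, z0, z1, b, c, b', c']
    linear_combination (u 3 * C.bar (w 3) + u 5 * C.bar (w 5)) * h11
  set E : Set (Cfsg.PSU 6 F 2) :=
    {x | x ∈ nz D ∧ ∀ (u : V) (hu : C.form u u = 0), u ≠ 0 → pt C hF u hu = x → InLine u}
  refine ⟨E, fun x hx => ?_, fun a ha b hb => ?_, ?_⟩
  · obtain ⟨u, hu, hu0, rfl⟩ := exists_pt C hF h hx.1
    obtain ⟨z0, z1, -⟩ := hx.2 u hu hu0 rfl
    exact (common_iff C hF hω0 hω1 h hne u hu hu0).2 ⟨by simp [form_six, v₀, z0, z1], by simp [form_six, uω, z0, z1]⟩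
  · obtain ⟨u, hu, hu0, rfl⟩ := exists_pt C hF h ha.1
    obtain ⟨w, hw, hw0, rfl⟩ := exists_pt C hF h hb.1
    exact (pt_commute C hF hw0).2 (hform u w (ha.2 u hu hu0 rfl) (hb.2 w hw hw0 rfl))
  · have hiff : ∀ (u : V) (hu : C.form u u = 0), u ≠ 0 → (pt C hF u hu ∈ E ↔ InLine u) := by
      intro u hu hu0
      refine ⟨fun r => r.2 u hu hu0 rfl, fun hP => ⟨pt_mem C hF h hne u hu hu0, fun w hw hw0 e => ?_⟩⟩
      obtain ⟨a, -, rfl⟩ := (pt_eq_iff C hF hw0).1 e
      obtain ⟨z0, z1, p, q⟩ := hP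
      exact ⟨by simp [z0], by simp [z1], by simp [p], by simp [q]⟩
    have hcard := ncard_mul_three C hF h hne (S := E) (fun x hx => hx.1) InLine hiff
    rw [card_erase_zero (fun u : V => C.form u u = 0 ∧ InLine u)
      ⟨C.form_zero_left _, by simp [InLine]⟩] at hcard
    let e : {u : V // C.form u u = 0 ∧ InLine u} ≃ (Fin 2 → F) :=
      { toFun := fun u => ![u.1 2, u.1 4]
        invFun := fun w => ⟨![0, 0, w 0, w 0, w 1, w 1], hform _ _ ⟨rfl, rfl, rfl, rfl⟩ ⟨rfl, rfl, rfl, rfl⟩, rfl, rfl, rfl, rfl⟩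
        left_inv := fun ⟨u, _, a, b, c, d⟩ => Subtype.ext (by funext i; fin_cases i <;> simp [a, b, c, d])
        right_inv := fun w => by funext i; fin_cases i <;> simp }
    rw [Nat.card_congr e, Nat.card_fun, Nat.card_fin, Nat.card_eq_fintype_card, hF] at hcard
    omega

end CfsgLib.Spor.Tri.Level.U6
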