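/-
The centralizers of non-commuting pairs in the types M(22), M(23), M(24).
-/
import Cfsg.Agent.Lib.Spor.Tri.U6Common
import Cfsg.Agent.Lib.Spor.Tri.LevelFour

set_option autoImplicit false

namespace CfsgLib.Spor.Tri.Level

open CfsgLib.Spor.Tri CfsgLib.Spor.Tri.Relations

variable {G : Type*} [Group G] [Finite G] {D : Set G}

/-- Non-commuting pairs are conjugate. -/
theorem conj_noncomm {v k l m : ℕ} (L : Lev D v k l m) (hk : 0 < k) {a d a' d' : G} (ha : a ∈ D) (hd : d ∈ D)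
    (hn : ¬ Commute a d) (ha' : a' ∈ D) (hd' : d' ∈ D) (hn' : ¬ Commute a' d') :
    ∃ g : G, g * a * g⁻¹ = a' ∧ g * d * g⁻¹ = d' := by
  obtain ⟨y, hy⟩ : (perp D a).Nonempty := (Set.ncard_pos (Set.toFinite _)).1 (by rw [L.deg a ha]; exact hk)
  obtain ⟨hR, hperf⟩ := rank_three_data L.hyp L.prim ⟨a, ha, y, hy.1, hy.2.1.symm, hy.2.2⟩
  obtain ⟨g, hg⟩ := L.hyp.transitive a ha a' ha'
  obtain ⟨u, hu, hud⟩ := exists_conj_not_commute L.hyp hR hperf ha' (L.hyp.conj g d hd) hd'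
    (fun r => hn ((Commute.conj_iff g).1 (by rw [hg]; exact r))) hn'
  refine ⟨u * g, ?_, ?_⟩
  · calc u * g * a * (u * g)⁻¹ = u * (g * a * g⁻¹) * u⁻¹ := by group
      _ = a' := by rw [hg, conj_eq_of_commute hu]
  · calc u * g * d * (u * g)⁻¹ = u * (g * d * g⁻¹) * u⁻¹ := by group
      _ = d' := hud

/-- The base of the induction. -/
theorem lineAt_u6 {F : Type} [Field F] [Fintype F] (hF : Fintype.card F = 4) {X : Type*} [Group X] [Finite X]
    {D : Set X} (e : X ≃* Cfsg.PSU 6 F 2) (L : Lev D 693 180 51 45) {a d : X} (ha : a ∈ D) (hd : d ∈ D)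
    (hn : ¬ Commute a d) : LineAt D a d 5 := by
  obtain ⟨C⟩ := CfsgLib.Classical.uctx_exists (F := F) (q := 2) (by rw [hF]; norm_num)
  obtain ⟨ω, hω0, hω1, -, hω3, hall⟩ := exists_omega hF
  obtain ⟨hP, hnz⟩ := pre_equiv e (pre_of_hyp L.hyp)
  rw [nz_eq L.hyp] at hnz
  have hne : (nz (e '' D)).Nonempty := by rw [hnz]; exact ⟨e a, a, ha, rfl⟩
  have hm1 := U6.pt_mem C hF hP hne _ (U6.form_v₀ C hF) U6.v₀_ne
  have hm2 := U6.pt_mem C hF hP hne _ (U6.form_uω C hF hω0) (U6.uω_ne hω0)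
  rw [hnz] at hm1 hm2
  obtain ⟨a', ha', ea⟩ := hm1
  obtain ⟨d', hd', ed⟩ := hm2
  have hn' : ¬ Commute a' d' := fun r => U6.pair_noncomm C hF hω0 hω1 (by
    rw [← ea, ← ed]; exact (commute_equiv e a' d').2 r)
  obtain ⟨g, rfl, rfl⟩ := conj_noncomm L (by norm_num) ha hd hn ha' hd' hn'
  refine lineAt_conj L.hyp g (lineAt_equiv e ?_)
  rw [ea, ed, ← hnz]
  exact ⟨fun x hx hx' => U6.base_line C hF hω0 hω1 hω3 hall hP hne hx hx', U6.base_width C hF hω0 hω1 hP hne,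
    U6.base_cent C hF hω0 hω1 hP hne, fun g hg hg' => U6.base_triv C hF hω0 hω1 hP hne hg hg'⟩

theorem lineAt22 (h : Hyp D) (hprim : Cfsg.IsPrimitiveUnderConj D) (h22 : Cfsg.IsOfTypeM22 G D) {a d : G}
    (ha : a ∈ D) (hd : d ∈ D) (hn : ¬ Commute a d) : LineAt D a d 6 := by
  obtain ⟨L, -⟩ := lev22 h hprim h22
  obtain ⟨d₀, W⟩ := local22 h hprim h22
  obtain ⟨F, hFf, hFt, hF, ⟨e⟩⟩ := W.psu
  exact lineAt_step h W.mem W.nc W.lev W.zl (L.cent _ W.mem) L.mu (by norm_num) (by norm_num)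
    (fun q hq q' hq' hn' => lineAt_u6 hF e W.lev hq hq' hn') ha hd hn

theorem lineAt23 (h : Hyp D) (hprim : Cfsg.IsPrimitiveUnderConj D) (h23 : Cfsg.IsOfTypeM23 G D) {a d : G}
    (ha : a ∈ D) (hd : d ∈ D) (hn : ¬ Commute a d) : LineAt D a d 7 := by
  obtain ⟨L, -⟩ := lev23 h hprim h23
  obtain ⟨d₀, W⟩ := local23 h hprim h23
  obtain ⟨L', -⟩ := lev22 W.ihyp W.iprim W.type
  exact lineAt_step h W.mem W.nc L' W.zl (L.cent _ W.mem) L.mu (by norm_num) (by norm_num)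
    (fun q hq q' hq' hn' => lineAt22 W.ihyp W.iprim W.type hq hq' hn') ha hd hn

theorem lineAt24 (h : Hyp D) (hprim : Cfsg.IsPrimitiveUnderConj D) (h24 : Cfsg.IsOfTypeM24 G D) {a d : G}
    (ha : a ∈ D) (hd : d ∈ D) (hn : ¬ Commute a d) : LineAt D a d 8 := by
  obtain ⟨L, -⟩ := lev24 h hprim h24
  obtain ⟨d₀, W⟩ := local24 h hprim h24
  obtain ⟨L', -⟩ := lev23 W.ihyp W.iprim W.type
  exact lineAt_step h W.mem W.nc L' W.zl (L.cent _ W.mem) L.mu (by norm_num) (by norm_num)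
    (fun q hq q' hq' hn' => lineAt23 W.ihyp W.iprim W.type hq hq' hn') ha hd hn

end CfsgLib.Spor.Tri.Level
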