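/-
The group of the common neighbours of a non-commuting pair as a group generated by a class.
-/
import Cfsg.Agent.Lib.Spor.Tri.LineTypes
import Cfsg.Agent.Lib.Spor.Tri.LineNormalizer
import Cfsg.Agent.Lib.Spor.ReflectionIndex

set_option autoImplicit false

namespace CfsgLib.Spor.Tri.Level

open CfsgLib.Spor.Tri CfsgLib.Spor.Tri.Relations

section generic

variable {G : Type*} [Group G] [Finite G] {D : Set G}

/-- The common neighbours as members of their group. -/
def commonEl (D : Set G) (a d : G) : Set ↥(Subgroup.closure (perp D a ∩ perp D d)) :=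
  {x | (x : G) ∈ perp D a ∩ perp D d}

theorem common_hyp (h : Hyp D) {a d : G} {m : ℕ} (hbig : 2 * m < (perp D a ∩ perp D d).ncard)
    (hdeg : ∀ p ∈ perp D a ∩ perp D d, (perp D a ∩ perp D d ∩ perp D p).ncard = m) : Hyp (commonEl D a d) := by
  refine ⟨⟨fun x hx => ?_, fun x hx y hy => ?_⟩, fun g x hx => ?_, fun x hx y hy => ?_,
    Subgroup.closure_closure_coe_preimage (k := perp D a ∩ perp D d)⟩
  · rw [← Subgroup.orderOf_coe]; exact h.set.1 _ hx.1.1
  · exact (h.set.2 _ hx.1.1 _ hy.1.1).imp (fun r => Subtype.ext r) fun r => Subtype.ext r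
  · exact common_conj h (mem_cent_two.1 (closure_common_le g.2)).1 (mem_cent_two.1 (closure_common_le g.2)).2 hx
  · obtain ⟨k, hk, e⟩ := common_transitive h hbig hdeg hx hy
    exact ⟨⟨k, hk⟩, Subtype.ext e⟩

omit [Finite G] in
theorem commonEl_perp {a d : G} {x y : ↥(Subgroup.closure (perp D a ∩ perp D d))} :
    y ∈ perp (commonEl D a d) x ↔ (y : G) ∈ perp D a ∩ perp D d ∩ perp D x :=
  ⟨fun r => ⟨r.1, r.1.1.1, fun e => r.2.1 (Subtype.ext e), r.2.2.map (Subgroup.subtype _)⟩,
    fun r => ⟨r.1, fun e => r.2.2.1 (congrArg Subtype.val e), Subtype.ext r.2.2.2.eq⟩⟩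

theorem notwin_of_core {X : Type*} [Group X] [Finite X] {E : Set X} (h : Hyp E) (h3 : Cfsg.pCore 3 X = ⊥) :
    NoTwin E := fun x hx y hy e => by
  have h1 := (h.perp_iff_three_core hx hy).1 e
  rw [h3, Subgroup.mem_bot] at h1
  calc x = x * (x⁻¹ * y) := by rw [h1, mul_one]
    _ = y := by group

/-- A central quotient of a group with central core has no core. -/
theorem pCore_center_quotient {R : Type*} [Group R] [Finite R] (p : ℕ) [Fact p.Prime]
    (hc : Cfsg.pCore p R ≤ Subgroup.center R) : Cfsg.pCore p (R ⧸ Subgroup.center R) = ⊥ := by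
  haveI hN := CfsgLib.Coprime.pCore_normal' (G := R ⧸ Subgroup.center R) p
  set T := Cfsg.pCore p (R ⧸ Subgroup.center R) with hT
  set mk := QuotientGroup.mk' (Subgroup.center R) with hmk
  set M := T.comap mk with hM
  haveI : M.Normal := hN.comap mk
  let f : ↥M →* ↥T := (mk.comp M.subtype).codRestrict T fun x => x.2
  have hf : Function.Surjective f := fun t => by
    obtain ⟨x, hx⟩ := QuotientGroup.mk'_surjective (Subgroup.center R) (t : R ⧸ Subgroup.center R)
    exact ⟨⟨x, show mk x ∈ T by rw [hmk, hx]; exact t.2⟩, Subtype.ext hx⟩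
  have hker : f.ker ≤ Subgroup.center ↥M := fun x hx => by
    have h1 : mk (x : R) = 1 := congrArg Subtype.val hx
    exact Subgroup.mem_center_iff.2 fun y =>
      Subtype.ext (Subgroup.mem_center_iff.1 ((QuotientGroup.eq_one_iff _).1 h1) y)
  haveI : Group.IsNilpotent ↥T := (CfsgLib.Coprime.pCore_isPGroup p).isNilpotent
  haveI hnil : Group.IsNilpotent ↥M := Subgroup.isNilpotent_of_ker_le_center f hker
  let P : Sylow p ↥M := default
  have hPn : (P : Subgroup ↥M).Normal := Sylow.normal_of_normalizerCondition Group.normalizerCondition_of_isNilpotent P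
  haveI : (P : Subgroup ↥M).Characteristic := P.characteristic_of_normal hPn
  haveI : ((P : Subgroup ↥M).map M.subtype).Normal := CfsgLib.Coprime.map_subtype_normal_of_characteristic M _
  have hle : (P : Subgroup ↥M).map M.subtype ≤ Subgroup.center R :=
    (CfsgLib.Coprime.le_pCore (P.isPGroup'.map M.subtype)).trans hc
  have hker' : (P : Subgroup ↥M) ≤ f.ker := fun x hx =>
    Subtype.ext ((QuotientGroup.eq_one_iff _).2 (hle ⟨x, hx, rfl⟩))
  have htop : (P.mapSurjective hf : Subgroup ↥T) = ⊤ :=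
    ((P.mapSurjective hf).is_maximal' ((CfsgLib.Coprime.pCore_isPGroup p).to_subgroup ⊤) le_top).symm
  rw [Sylow.coe_mapSurjective] at htop
  refine (Subgroup.eq_bot_iff_forall _).2 fun t ht => ?_
  have hm : (⟨t, ht⟩ : ↥T) ∈ (P : Subgroup ↥M).map f := htop ▸ Subgroup.mem_top _
  obtain ⟨x, hx, e⟩ := hm
  rw [MonoidHom.mem_ker.1 (hker' hx)] at e
  exact (congrArg Subtype.val e).symm

theorem commutator_of_surjective {X Y : Type*} [Group X] [Group Y] (f : X →* Y) (hf : Function.Surjective f)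
    (hp : ⁅commutator X, commutator X⁆ = commutator X) : ⁅commutator Y, commutator Y⁆ = commutator Y := by
  have e : (commutator X).map f = commutator Y := by
    rw [commutator_def, Subgroup.map_commutator, Subgroup.map_top_of_surjective f hf, ← commutator_def]
  rw [← e, ← Subgroup.map_commutator, hp]

end generic

section refl

variable {K : Type*} [Group K] [Finite K] {n : ℕ} {Q : QuadraticForm (ZMod 3) (Fin n → ZMod 3)} {c : ZMod 3}

/-- Group-theoretic facts about a projective reflection group. -/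
theorem projRefl_facts (h5 : 5 ≤ n) (hc : c ≠ 0) (hQ : (QuadraticMap.polarBilin Q).Nondegenerate)
    (e : K ≃* Cfsg.reflectionSubgroup (⇑Q) c ⧸ Subgroup.center (Cfsg.reflectionSubgroup (⇑Q) c)) :
    Cfsg.pCore 2 K = ⊥ ∧ Cfsg.pCore 3 K = ⊥ ∧ ⁅commutator K, commutator K⁆ = commutator K := by
  haveI : Fact (Nat.Prime 3) := ⟨Nat.prime_three⟩
  haveI : Fact (Nat.Prime 2) := ⟨Nat.prime_two⟩
  have hQ' := CfsgLib.Orth.nd_of_qf Q hQ
  obtain ⟨h2, h3, hD2, hconn⟩ := CfsgLib.Spor.ReflectionClass.facts hQ' h5 hc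
  have hH := hyp_of_class (CfsgLib.Spor.ReflectionClass.isClass hQ' h5 hc)
  have hperf : ⁅commutator (Cfsg.reflectionSubgroup (⇑Q) c), commutator (Cfsg.reflectionSubgroup (⇑Q) c)⁆ =
      commutator (Cfsg.reflectionSubgroup (⇑Q) c) := by
    rw [hH.commutator_eq_layer (hH.layer_index_le hD2 h2 h3 hconn)]
    exact CfsgLib.Coprime.layer_isPerfect
  have key : ∀ p, p.Prime → Cfsg.pCore p ↥(Cfsg.reflectionSubgroup (⇑Q) c) ≤ Subgroup.center _ →
      Cfsg.pCore p K = ⊥ := by
    intro p hp hle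
    haveI := Fact.mk hp
    haveI := CfsgLib.Coprime.pCore_normal' (G := K) p
    haveI : ((Cfsg.pCore p K).map e.toMonoidHom).Normal := Subgroup.Normal.map inferInstance _ e.surjective
    have h1 := CfsgLib.Coprime.le_pCore ((CfsgLib.Coprime.pCore_isPGroup (G := K) p).map e.toMonoidHom)
    rw [pCore_center_quotient p hle, le_bot_iff] at h1
    exact (Subgroup.map_eq_bot_iff_of_injective _ e.injective).1 h1
  exact ⟨key 2 Nat.prime_two h2, key 3 Nat.prime_three h3,
    commutator_of_surjective (e.symm.toMonoidHom.comp (QuotientGroup.mk' _))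
      (e.symm.surjective.comp (QuotientGroup.mk'_surjective _)) hperf⟩

/-- The commutator subgroup of the isometry group consists of products of reflections of one norm. -/
theorem commutator_le_refl (h5 : 5 ≤ n) (hc : c ≠ 0) (hQ : (QuadraticMap.polarBilin Q).Nondegenerate) :
    commutator (Cfsg.isometryGroup (ZMod 3) (⇑Q)) ≤ Cfsg.reflectionSubgroup (⇑Q) c := by
  have hdec : ∀ x y z : ZMod 3, x ≠ 0 → y ≠ 0 → x * y = z * z → x = y := by decide
  haveI : Fact (Nat.Prime 3) := ⟨Nat.prime_three⟩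
  have hQ' := CfsgLib.Orth.nd_of_qf Q hQ
  have hidx := CfsgLib.Spor.ReflectionIndex.classGroup_index_five hQ' (F := ZMod 3) (by decide)
    (by rw [Fintype.card_fin]; exact h5) hc
  set H := (CfsgLib.Orth.classGroup (⇑Q) (CfsgLib.Orth.sqc c)).subgroupOf (Cfsg.isometryGroup (ZMod 3) (⇑Q))
  have h1 : commutator (Cfsg.isometryGroup (ZMod 3) (⇑Q)) ≤ H := by
    rw [commutator_def, Subgroup.commutator_le]
    intro x _ y _
    simp only [commutatorElement_def, Subgroup.mul_mem_iff_of_index_two hidx, inv_mem_iff]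
    tauto
  refine h1.trans fun g hg => ?_
  have hle : CfsgLib.Orth.classGroup (⇑Q) (CfsgLib.Orth.sqc c) ≤
      (Cfsg.reflectionSubgroup (⇑Q) c).map (Cfsg.isometryGroup (ZMod 3) (⇑Q)).subtype := by
    rw [CfsgLib.Orth.classGroup, Subgroup.closure_le]
    rintro r ⟨hr, v, hv, hvc, hrv⟩
    have hval : Q v = c := by
      have hsq : IsSquare (Q v * c) := by
        rw [← CfsgLib.Orth.sqc_eq_one_iff (mul_ne_zero hv hc), CfsgLib.Orth.sqc_mul hv hc, hvc,
          CfsgLib.Orth.sqc_mul_self hc]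
      obtain ⟨s, hs⟩ := hsq
      exact hdec _ _ _ hv hc hs
    have hg' := CfsgLib.Classical.reflectionIso_coe Q v (hval ▸ hc)
    refine ⟨CfsgLib.Classical.reflectionIso Q v (hval ▸ hc), Subgroup.subset_closure ⟨v, hval, hg'⟩, ?_⟩
    exact (CfsgLib.Orth.isRefl_reflectionMatrix hg').unique hrv
  obtain ⟨r, hr, e⟩ := hle hg
  exact (Subtype.ext e : r = g) ▸ hr

end refl

end CfsgLib.Spor.Tri.Level
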