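/-
Structure of the centralizer of a product of two commuting transpositions in type M(22).
-/
import Cfsg.Agent.Lib.Spor.Tri.PairCentral
import Cfsg.Agent.Lib.Invol.PConstrained
import Cfsg.Agent.Lib.PGroup.CharPLocal
import Cfsg.Agent.Lib.PGroup.SymplecticPairs

set_option linter.all false

namespace CfsgLib.Spor.Tri.Level

open CfsgLib.Spor.Tri CfsgLib.Spor.Tri.Relations
open scoped commutatorElement

variable {G : Type*} [Group G] [Finite G] {D : Set G}

/-- A maximal subgroup above the squares avoiding an element. -/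
theorem exists_complement {X : Type*} [Group X] [Finite X] (E : Subgroup X) {z A : X} (hz : z ∈ E) (hz2 : z * z = 1)
    (hzc : ∀ g, g * z = z * g) (hsq : ∀ e ∈ E, e * e = 1 ∨ e * e = z) (hA : A ∈ E) (hA2 : A * A = 1)
    (hAc : ∀ e ∈ E, e * A = A * e) (hAz : A ≠ z) (hA1 : A ≠ 1) :
    ∃ M : Subgroup X, M ≤ E ∧ z ∈ M ∧ A ∉ M ∧ ∀ e ∈ E, e ∈ M ∨ A * e ∈ M := by
  classical
  have hz0 : A ∉ Subgroup.zpowers z := by
    intro hm
    obtain ⟨k, hk⟩ := Subgroup.mem_zpowers_iff.1 hm
    rcases Int.even_or_odd k with ⟨j, rfl⟩ | ⟨j, rfl⟩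
    · rw [← two_mul, zpow_mul, show z ^ (2 : ℤ) = 1 by rw [zpow_two, hz2], one_zpow] at hk
      exact hA1 hk.symm
    · rw [zpow_add_one, zpow_mul, show z ^ (2 : ℤ) = 1 by rw [zpow_two, hz2], one_zpow, one_mul] at hk
      exact hAz hk.symm
  let S : Set (Subgroup X) := {M | M ≤ E ∧ z ∈ M ∧ A ∉ M}
  obtain ⟨M, hM⟩ := Set.Finite.exists_maximal (Set.toFinite S)
    ⟨Subgroup.zpowers z, Subgroup.zpowers_le.2 hz, Subgroup.mem_zpowers z, hz0⟩
  obtain ⟨hME, hzM, hAM⟩ := hM.1
  refine ⟨M, hME, hzM, hAM, fun x hx => ?_⟩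
  by_contra hcon
  push Not at hcon
  obtain ⟨hxM, hAxM⟩ := hcon
  -- commutators lie in `⟨z⟩`
  have hcomm : ∀ e ∈ E, ∀ f ∈ E, e * f = f * e ∨ e * f = f * e * z := by
    intro e he f hf
    have key : ∀ g ∈ E, g⁻¹ = g ∨ g⁻¹ = g * z := fun g hg => by
      rcases hsq g hg with r | r
      · exact Or.inl (inv_eq_of_mul_eq_one_right r)
      · exact Or.inr (inv_eq_of_mul_eq_one_right (by rw [← mul_assoc, r, hz2]))
    have e0 : (e * f)⁻¹ = f⁻¹ * e⁻¹ := mul_inv_rev e f
    rcases key _ (mul_mem he hf) with r | r <;> rcases key f hf with s | s <;> rcases key e he with t | t <;>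
      rw [r, s, t] at e0
    · exact Or.inl e0
    · exact Or.inr (by rw [e0]; group)
    · exact Or.inr (by rw [e0, mul_assoc f z e, ← hzc e]; group)
    · exact Or.inl (by rw [e0, mul_assoc f z, ← mul_assoc z e z, ← hzc e, mul_assoc e z z, hz2, mul_one])
    · exact Or.inr (by rw [← e0, mul_assoc _ z z, hz2, mul_one])
    · exact Or.inl (mul_right_cancel (e0.trans (mul_assoc f e z).symm))
    · refine Or.inl (mul_right_cancel (b := z) ?_)
      rw [e0, mul_assoc f z e, ← hzc e]; group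
    · refine Or.inr ?_
      rw [show f * z * (e * z) = f * e * (z * z) by rw [mul_assoc f z, ← mul_assoc z e z, ← hzc e]; group, hz2, mul_one] at e0
      rw [← e0, mul_assoc _ z z, hz2, mul_one]
  have hnorm : ∀ m ∈ M, x * m * x⁻¹ ∈ M := fun m hm => by
    rcases hcomm x hx m (hME hm) with r | r
    · rwa [r, mul_inv_cancel_right]
    · rw [r, mul_assoc m x z, hzc x, ← mul_assoc, mul_inv_cancel_right]
      exact mul_mem hm hzM
  have hxx : x * x ∈ M := by
    rcases hsq x hx with r | r <;> rw [r]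
    · exact one_mem _
    · exact hzM
  let M' : Subgroup X :=
    { carrier := {y | y ∈ M ∨ x * y ∈ M}
      one_mem' := Or.inl (one_mem _)
      inv_mem' := by
        rintro y (hy | hy)
        · exact Or.inl (inv_mem hy)
        · refine Or.inr ?_
          have h1 : x * (x * (x * y)⁻¹ * x⁻¹) * 1 = x * x * ((x * y)⁻¹) * x⁻¹ := by group
          rw [show x * y⁻¹ = x * (x * y)⁻¹ * x⁻¹ * (x * x) by group]
          exact mul_mem (hnorm _ (inv_mem hy)) hxx
      mul_mem' := by
        rintro y y' (hy | hy) (hy' | hy')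
        · exact Or.inl (mul_mem hy hy')
        · refine Or.inr ?_
          rw [show x * (y * y') = (x * y * x⁻¹) * (x * y') by group]
          exact mul_mem (hnorm y hy) hy'
        · refine Or.inr ?_
          rw [← mul_assoc]
          exact mul_mem hy hy'
        · refine Or.inl ?_
          rw [show y * y' = ((x * x)⁻¹) * (x * (x * y) * x⁻¹) * (x * y') by group]
          exact mul_mem (mul_mem (inv_mem hxx) (hnorm _ hy)) hy' }
  have hle : M ≤ M' := fun m hm => Or.inl hm
  have hM'S : M' ∈ S := by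
    refine ⟨?_, Or.inl hzM, ?_⟩
    · rintro y (hy | hy)
      · exact hME hy
      · rw [show y = x⁻¹ * (x * y) by group]
        exact mul_mem (inv_mem hx) (hME hy)
    · rintro (r | r)
      · exact hAM r
      · exact hAxM (by rwa [← hAc x hx])
  have := hM.2 hM'S hle
  exact hxM (this (Or.inr hxx : x ∈ M'))

variable {F : Type} [Field F] [Fintype F]

/-- The centralizer of a product of two commuting members. -/
theorem pair_structure (h : Hyp D) (hprim : Cfsg.IsPrimitiveUnderConj D) (h22 : Cfsg.IsOfTypeM22 G D) {a b : G}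
    (ha : a ∈ D) (hb : b ∈ perp D a) :
    ((Subgroup.centralizer ({a, b} : Set G)).subgroupOf (Subgroup.centralizer ({a * b} : Set G))).index = 2 ∧
    (Subgroup.center ↥(Subgroup.centralizer ({a, b} : Set G))).map (Subgroup.centralizer ({a, b} : Set G)).subtype =
      Subgroup.closure ({a, b} : Set G) ∧
    ∃ E : Subgroup G, Subgroup.closure ({a, b} : Set G) ≤ E ∧ E ≤ Subgroup.centralizer ({a * b} : Set G) ∧
      (∀ c ∈ Subgroup.centralizer ({a * b} : Set G), ∀ x ∈ E, c * x * c⁻¹ ∈ E) ∧ Nat.card E = 2 ^ 10 ∧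
      (∀ x ∈ E, ∀ y ∈ E, x * y * x⁻¹ * y⁻¹ ∈ Subgroup.closure ({a, b} : Set G) ∧
        x ^ 2 ∈ Subgroup.closure ({a, b} : Set G)) ∧
      Cfsg.generalizedFittingSubgroup ↥(Subgroup.centralizer ({a * b} : Set G)) =
        E.subgroupOf (Subgroup.centralizer ({a * b} : Set G)) ∧
      (∃ M : Subgroup ↥(Subgroup.centralizer ({a * b} : Set G)), Cfsg.IsExtraspecial 2 ↥M ∧ Nat.card M = 2 ^ 9 ∧
        Nonempty (↥(E.subgroupOf (Subgroup.centralizer ({a * b} : Set G))) ≃* Multiplicative (ZMod 2) × ↥M)) ∧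
      ∃ (_ : (E.subgroupOf (Subgroup.centralizer ({a * b} : Set G))).Normal) (F : Type) (_ : Field F) (_ : Fintype F),
        Fintype.card F = 4 ∧
        Nonempty (↥(Subgroup.centralizer ({a * b} : Set G)) ⧸ E.subgroupOf (Subgroup.centralizer ({a * b} : Set G)) ≃*
          MulAut (Cfsg.PSU 4 F 2)) := by
  classical
  haveI := Fact.mk Nat.prime_two
  obtain ⟨F, hFf, hFt, hF, Wall⟩ := local_all h hprim h22
  obtain ⟨L, -⟩ := lev22 h hprim h22
  obtain ⟨d, W⟩ := local22 h hprim h22
  have hN := W.norel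
  have hne : ∀ x ∈ D, ∀ y ∈ perp D x, (perp D x ∩ perp D y).Nonempty := fun x hx y hy =>
    Set.nonempty_of_ncard_ne_zero (by rw [L.lam x hx y hy]; norm_num)
  obtain ⟨π, hs, hk, hsq, hcen, hab, hfib⟩ := pair_data h hF Wall ha hb
  obtain ⟨hSimp, hZ4, hc4⟩ := simple_su4 (F := F) hF
  set C := Subgroup.centralizer ({a * b} : Set G) with hCdef
  have hKC : Subgroup.centralizer ({a, b} : Set G) ≤ C := pair_le
  obtain ⟨s, hsC, s1, s2⟩ := pair_swap h hprim ha hb
  have hsK : s ∉ Subgroup.centralizer ({a, b} : Set G) := fun r => hb.2.1 (by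
    rw [← s1, (mem_cent_pair.1 r).1.eq, mul_inv_cancel_right])
  have haK : a ∈ Subgroup.centralizer ({a, b} : Set G) := mem_cent_pair.2 ⟨Commute.refl a, hb.2.2⟩
  have hbK : b ∈ Subgroup.centralizer ({a, b} : Set G) := mem_cent_pair.2 ⟨hb.2.2.symm, Commute.refl b⟩
  have hidx : ((Subgroup.centralizer ({a, b} : Set G)).subgroupOf C).index = 2 := by
    rw [Subgroup.index_eq_two_iff]
    refine ⟨⟨s, hsC⟩, fun g => ?_⟩
    rw [Subgroup.mem_subgroupOf, Subgroup.mem_subgroupOf]
    rcases pair_cases h hN ha hb g.2 with hg | ⟨g1, g2⟩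
    · refine Or.inr ⟨hg, fun r => hsK ?_⟩
      have := mul_mem (inv_mem hg) r
      simpa using this
    · refine Or.inl ⟨?_, fun r => hb.2.1 ?_⟩
      · show (g : G) * s ∈ Subgroup.centralizer ({a, b} : Set G)
        refine mem_cent_pair.2 ⟨mul_inv_eq_iff_eq_mul.1 ?_, mul_inv_eq_iff_eq_mul.1 ?_⟩
        · rw [show (g : G) * s * a * ((g : G) * s)⁻¹ = g * (s * a * s⁻¹) * (g : G)⁻¹ by group, s1, g2]
        · rw [show (g : G) * s * b * ((g : G) * s)⁻¹ = g * (s * b * s⁻¹) * (g : G)⁻¹ by group, s2, g1]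
      · rw [← g1, (mem_cent_pair.1 r).1.eq, mul_inv_cancel_right]
  set E := π.ker.map (Subgroup.centralizer ({a, b} : Set G)).subtype with hE
  have hEK : E ≤ Subgroup.centralizer ({a, b} : Set G) := Subgroup.map_subtype_le _
  have hmemE : ∀ {x : G} (hx : x ∈ Subgroup.centralizer ({a, b} : Set G)), x ∈ E ↔ π ⟨x, hx⟩ = 1 := fun {x} hx =>
    ⟨fun ⟨y, hy, e⟩ => (Subtype.ext e : y = ⟨x, hx⟩) ▸ hy, fun r => ⟨⟨x, hx⟩, r, rfl⟩⟩
  have hEsq : ∀ x ∈ E, x * x = 1 ∨ x * x = a * b := by
    rintro _ ⟨q, hq, rfl⟩; exact hsq q hq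
  have hV : Subgroup.closure ({a, b} : Set G) ≤ E := by
    rw [Subgroup.closure_le]
    rintro x (rfl | rfl)
    · exact (hmemE haK).2 (hab _ (Or.inl rfl))
    · exact (hmemE hbK).2 (hab _ (Or.inr rfl))
  have habV : a * b ∈ Subgroup.closure ({a, b} : Set G) :=
    mul_mem (Subgroup.subset_closure (by simp)) (Subgroup.subset_closure (by simp))
  have hcenter : (Subgroup.center ↥(Subgroup.centralizer ({a, b} : Set G))).map
      (Subgroup.centralizer ({a, b} : Set G)).subtype = Subgroup.closure ({a, b} : Set G) := by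
    refine le_antisymm ?_ ?_
    · rintro _ ⟨z, hz, rfl⟩
      have hπz : π z ∈ Subgroup.center ↥(Cfsg.SU 4 F 2) := Subgroup.mem_center_iff.2 fun y => by
        obtain ⟨y, rfl⟩ := hs y
        rw [← map_mul, ← map_mul, Subgroup.mem_center_iff.1 hz]
      rw [hZ4, Subgroup.mem_bot] at hπz
      exact hcen z hπz fun r _ => congrArg Subtype.val (Subgroup.mem_center_iff.1 hz r).symm
    · rw [Subgroup.closure_le]
      rintro x (rfl | rfl)
      · exact ⟨⟨_, haK⟩, Subgroup.mem_center_iff.2 fun y => Subtype.ext (mem_cent_pair.1 y.2).1.eq, rfl⟩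
      · exact ⟨⟨_, hbK⟩, Subgroup.mem_center_iff.2 fun y => Subtype.ext (mem_cent_pair.1 y.2).2.eq, rfl⟩
  have hEn : ∀ c ∈ C, ∀ x ∈ E, c * x * c⁻¹ ∈ E := fun c hc x hx => by
    obtain ⟨q, hq, rfl⟩ := hx
    exact (hmemE _).2 (ker_invariant h hF hN ha hb π hs hk hc hq)
  have hEcard : Nat.card E = 2 ^ 10 := by
    rw [hE, Subgroup.card_map_of_injective (Subgroup.subtype_injective _), hk]; norm_num
  haveI hEN : (E.subgroupOf C).Normal := ⟨fun x hx g => hEn g g.2 x hx⟩
  -- nothing outside acts trivially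
  have hout : ∀ c : ↥C, (∀ k : ↥(Subgroup.centralizer ({a, b} : Set G)),
      π ⟨c * k * (c : G)⁻¹, pair_normal h hN ha hb c.2 k.2⟩ = π k) → (c : G) ∈ E := by
    intro c hc
    rcases pair_cases h hN ha hb c.2 with hcK | ⟨c1, c2⟩
    · refine (hmemE hcK).2 ?_
      have hπz : π ⟨c, hcK⟩ ∈ Subgroup.center ↥(Cfsg.SU 4 F 2) := Subgroup.mem_center_iff.2 fun y => by
        obtain ⟨y, rfl⟩ := hs y
        have e := hc y
        rw [show (⟨(c : G) * y * (c : G)⁻¹, pair_normal h hN ha hb c.2 y.2⟩ :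
          ↥(Subgroup.centralizer ({a, b} : Set G))) = ⟨c, hcK⟩ * y * ⟨c, hcK⟩⁻¹ from Subtype.ext rfl,
          map_mul, map_mul, map_inv] at e
        rw [← mul_inv_eq_iff_eq_mul.1 e]
      rwa [hZ4, Subgroup.mem_bot] at hπz
    · exact (pair_faithful h hF Wall hN hne ha hb π hfib c.2 c1 c2 hc).elim
  -- the automorphisms induced
  let f : ↥(Subgroup.centralizer ({a, b} : Set G)) →* ↥C ⧸ E.subgroupOf C :=
    (QuotientGroup.mk' _).comp (Subgroup.inclusion hKC)
  have hfk : f.ker = π.ker := by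
    ext k
    rw [MonoidHom.mem_ker, MonoidHom.mem_ker]
    exact (QuotientGroup.eq_one_iff _).trans (hmemE k.2)
  haveI hfn : f.range.Normal := by
    refine ⟨?_⟩
    rintro _ ⟨k, rfl⟩ g
    obtain ⟨g, rfl⟩ := QuotientGroup.mk'_surjective _ g
    exact ⟨⟨(g : G) * k * (g : G)⁻¹, pair_normal h hN ha hb g.2 k.2⟩, rfl⟩
  let e₁ : ↥f.range ≃* ↥(Cfsg.SU 4 F 2) :=
    ((QuotientGroup.quotientKerEquivRange f).symm.trans (QuotientGroup.quotientMulEquivOfEq hfk)).trans
      (QuotientGroup.quotientKerEquivOfSurjective π hs)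
  let e₂ : ↥f.range ≃* Cfsg.PSU 4 F 2 :=
    e₁.trans ((QuotientGroup.quotientMulEquivOfEq hZ4).trans QuotientGroup.quotientBot).symm
  let Φ : ↥C ⧸ E.subgroupOf C →* MulAut (Cfsg.PSU 4 F 2) := (MulAut.congr e₂).toMonoidHom.comp MulAut.conjNormal
  have hΦinj : Function.Injective Φ := by
    rw [injective_iff_map_eq_one]
    intro g hg
    have hg' : MulAut.conjNormal (H := f.range) g = 1 := (MulAut.congr e₂).injective (hg.trans (map_one _).symm)
    obtain ⟨g, rfl⟩ := QuotientGroup.mk'_surjective _ g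
    refine (QuotientGroup.eq_one_iff _).2 (hout g fun k => ?_)
    have e : f ⟨(g : G) * k * (g : G)⁻¹, pair_normal h hN ha hb g.2 k.2⟩ = f k :=
      congrArg Subtype.val (DFunLike.congr_fun hg' (⟨f k, k, rfl⟩ : ↥f.range))
    have e' : (⟨(g : G) * k * (g : G)⁻¹, pair_normal h hN ha hb g.2 k.2⟩ :
        ↥(Subgroup.centralizer ({a, b} : Set G))) * k⁻¹ ∈ f.ker := by
      rw [MonoidHom.mem_ker, map_mul, map_inv, e, mul_inv_cancel]
    rw [hfk, MonoidHom.mem_ker, map_mul, map_inv, mul_inv_eq_one] at e'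
    exact e'
  have hcardQ : Nat.card (↥C ⧸ E.subgroupOf C) = 51840 := by
    have e1 := Subgroup.card_eq_card_quotient_mul_card_subgroup (E.subgroupOf C)
    have e2 := Subgroup.card_mul_index ((Subgroup.centralizer ({a, b} : Set G)).subgroupOf C)
    have e3 := Subgroup.card_eq_card_quotient_mul_card_subgroup π.ker
    rw [Nat.card_congr (QuotientGroup.quotientKerEquivOfSurjective π hs).toEquiv, hk, hc4] at e3
    rw [Nat.card_congr (Subgroup.subgroupOfEquivOfLe hKC).toEquiv, hidx, e3] at e2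
    rw [Nat.card_congr (Subgroup.subgroupOfEquivOfLe (hEK.trans hKC)).toEquiv, hEcard, ← e2] at e1
    omega
  have hΦ : Function.Bijective Φ := by
    haveI : Finite (MulAut (Cfsg.PSU 4 F 2)) :=
      Finite.of_injective (fun φ : MulAut (Cfsg.PSU 4 F 2) => (φ : Cfsg.PSU 4 F 2 → Cfsg.PSU 4 F 2))
        fun x y r => MulEquiv.ext (congrFun r)
    refine (Nat.bijective_iff_injective_and_card Φ).2 ⟨hΦinj, le_antisymm (Nat.card_le_card_of_injective _ hΦinj) ?_⟩
    rw [hcardQ]
    exact aut_psu4_le hF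
  -- the generalized Fitting subgroup
  have hEp : IsPGroup 2 ↥(E.subgroupOf C) := IsPGroup.of_card (n := 10)
    ((Nat.card_congr (Subgroup.subgroupOfEquivOfLe (hEK.trans hKC)).toEquiv).trans hEcard)
  have hcore : Cfsg.pCore 2 ↥C = E.subgroupOf C := by
    refine le_antisymm ?_ (CfsgLib.Coprime.le_pCore hEp)
    haveI := CfsgLib.Coprime.pCore_normal' (G := ↥C) 2
    have hP : IsPGroup 2 ↥(Cfsg.pCore 2 ↥C) := CfsgLib.Coprime.pCore_isPGroup (G := ↥C) 2
    set N := ((Cfsg.pCore 2 ↥C).comap (Subgroup.inclusion hKC)).map π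
    haveI hN' : N.Normal := Subgroup.Normal.map inferInstance π hs
    have hpN : IsPGroup 2 ↥N := (hP.comap_of_injective _ (Subgroup.inclusion_injective hKC)).map π
    have hNb : N = ⊥ := by
      refine (hSimp.eq_bot_or_eq_top_of_normal N hN').resolve_right fun r => ?_
      obtain ⟨n, hn⟩ := hpN.exists_card_eq
      rw [r, Subgroup.card_top, hc4] at hn
      have : 3 ∣ 2 ^ n := hn ▸ (by norm_num)
      exact absurd (Nat.prime_three.dvd_of_dvd_pow this) (by norm_num)
    intro c hc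
    refine hout c fun k => ?_
    have hm : (⟨(c : G) * k * (c : G)⁻¹, pair_normal h hN ha hb c.2 k.2⟩ :
        ↥(Subgroup.centralizer ({a, b} : Set G))) * k⁻¹ ∈ (Cfsg.pCore 2 ↥C).comap (Subgroup.inclusion hKC) := by
      show Subgroup.inclusion hKC _ ∈ Cfsg.pCore 2 ↥C
      rw [show Subgroup.inclusion hKC ((⟨(c : G) * k * (c : G)⁻¹, pair_normal h hN ha hb c.2 k.2⟩ :
        ↥(Subgroup.centralizer ({a, b} : Set G))) * k⁻¹) =
        c * (Subgroup.inclusion hKC k * c⁻¹ * (Subgroup.inclusion hKC k)⁻¹) from Subtype.ext (by simp [mul_assoc])]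
      exact mul_mem hc (Subgroup.Normal.conj_mem inferInstance _ (inv_mem hc) _)
    have := Subgroup.mem_map_of_mem π hm
    rw [show ((Cfsg.pCore 2 ↥C).comap (Subgroup.inclusion hKC)).map π = ⊥ from hNb, Subgroup.mem_bot, map_mul, map_inv,
      mul_inv_eq_one] at this
    exact this
  have hCE : ∀ c : ↥C, (∀ x ∈ E, (c : G) * x = x * c) → (c : G) ∈ E := by
    -- the centralizer of the kernel is inside it
    let T : Subgroup ↥(Subgroup.centralizer ({a, b} : Set G)) :=
      (Subgroup.centralizer (E : Set G)).subgroupOf (Subgroup.centralizer ({a, b} : Set G))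
    haveI hT : T.Normal := ⟨fun t ht g => Subgroup.mem_centralizer_iff.2 fun x hx => by
      have r : (g : G)⁻¹ * x * (g : G)⁻¹⁻¹ * (t : G) = (t : G) * ((g : G)⁻¹ * x * (g : G)⁻¹⁻¹) :=
        Subgroup.mem_centralizer_iff.1 ht _ (hEn _ (hKC (inv_mem g.2)) x hx)
      calc x * ((g : G) * t * (g : G)⁻¹) = g * ((g : G)⁻¹ * x * (g : G)⁻¹⁻¹ * t) * (g : G)⁻¹ := by group
        _ = g * ((t : G) * ((g : G)⁻¹ * x * (g : G)⁻¹⁻¹)) * (g : G)⁻¹ := by rw [r]
        _ = (g : G) * t * (g : G)⁻¹ * x := by group⟩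
    have hTb : T.map π = ⊥ := by
      refine (hSimp.eq_bot_or_eq_top_of_normal _ (Subgroup.Normal.map hT π hs)).resolve_right fun r => ?_
      obtain ⟨x, hxa, hxb⟩ := hne a ha b hb
      have hxK : x ∈ Subgroup.centralizer ({a, b} : Set G) := mem_cent_pair.2 ⟨hxa.2.2.symm, hxb.2.2.symm⟩
      obtain ⟨-, -, -, q, hq, hqe⟩ := hfib ⟨x, hxK⟩ ⟨hxa, hxb⟩
      obtain ⟨t, ht, et⟩ : π ⟨x, hxK⟩ ∈ T.map π := r ▸ Subgroup.mem_top _
      have hx1 : π (⟨x, hxK⟩ * t⁻¹) = 1 := by rw [map_mul, map_inv, et, mul_inv_cancel]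
      set e := ((⟨x, hxK⟩ * t⁻¹ : ↥(Subgroup.centralizer ({a, b} : Set G))) : G) with he
      have heE : e ∈ E := (hmemE (⟨x, hxK⟩ * t⁻¹ : ↥(Subgroup.centralizer ({a, b} : Set G))).2).2 hx1
      have hxe : x = e * t := by rw [he]; simp
      have hqE : (q : G) ∈ E := (hmemE q.2).2 hq
      have hqt : (q : G) * t = t * q := Subgroup.mem_centralizer_iff.1 ht _ hqE
      have hne' : (q : G) * x * (q : G)⁻¹ * x ∈ E ∧ ((q : G) * x * (q : G)⁻¹ * x) ∈ ({1, a * b} : Set G) := by
        have e1 : (q : G) * x * (q : G)⁻¹ * x = (q : G) * e * (q : G)⁻¹ * e⁻¹ := by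
          have ex : x⁻¹ = x := h.inv_eq hxa.1
          calc (q : G) * x * (q : G)⁻¹ * x = (q : G) * (e * t) * (q : G)⁻¹ * x⁻¹ := by rw [← hxe, ex]
            _ = (q : G) * e * ((t : G) * (q : G)⁻¹) * ((t : G)⁻¹ * e⁻¹) := by rw [hxe]; group
            _ = (q : G) * e * (q : G)⁻¹ * e⁻¹ := by
              rw [(show Commute (q : G) (t : G) from hqt).inv_left.eq.symm]; group
        rw [e1]
        refine ⟨mul_mem (mul_mem (mul_mem hqE heE) (inv_mem hqE)) (inv_mem heE), ?_⟩
        have key : ∀ u ∈ E, u⁻¹ = u ∨ u⁻¹ = u * (a * b) := fun u hu => by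
          rcases hEsq u hu with r | r
          · exact Or.inl (inv_eq_of_mul_eq_one_right r)
          · refine Or.inr (inv_eq_of_mul_eq_one_right ?_)
            rw [← mul_assoc, r, hb.2.2.symm.mul_mul_mul_comm, h.mul_self ha, h.mul_self hb.1, mul_one]
        have hz : ∀ u ∈ E, u * (a * b) = (a * b) * u := fun u hu =>
          Subgroup.mem_centralizer_singleton_iff.1 (hKC (hEK hu))
        have hz2 : (a * b) * (a * b) = 1 := by
          rw [hb.2.2.symm.mul_mul_mul_comm, h.mul_self ha, h.mul_self hb.1, mul_one]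
        rcases key _ hqE with r1 | r1 <;> rcases key _ heE with r2 | r2 <;>
          rcases hEsq _ (mul_mem hqE heE) with r3 | r3 <;> rw [r1, r2] <;>
          simp only [Set.mem_insert_iff, Set.mem_singleton_iff]
        · exact Or.inl (by rw [← r3]; group)
        · exact Or.inr (by rw [← r3]; group)
        · exact Or.inr (by rw [show (q : G) * e * q * (e * (a * b)) = (q * e) * (q * e) * (a * b) by group, r3, one_mul])
        · exact Or.inl (by rw [show (q : G) * e * q * (e * (a * b)) = (q * e) * (q * e) * (a * b) by group, r3, hz2])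
        · refine Or.inr ?_
          rw [show (q : G) * e * (q * (a * b)) * e = (q * e) * q * ((a * b) * e) by group, ← hz _ heE,
            show (q : G) * e * q * (e * (a * b)) = (q * e) * (q * e) * (a * b) by group, r3, one_mul]
        · refine Or.inl ?_
          rw [show (q : G) * e * (q * (a * b)) * e = (q * e) * q * ((a * b) * e) by group, ← hz _ heE,
            show (q : G) * e * q * (e * (a * b)) = (q * e) * (q * e) * (a * b) by group, r3, hz2]
        · refine Or.inl ?_
          rw [show (q : G) * e * (q * (a * b)) * (e * (a * b)) = (q * e) * q * ((a * b) * e) * (a * b) by group,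
            ← hz _ heE, show (q : G) * e * q * (e * (a * b)) * (a * b) = (q * e) * (q * e) * ((a * b) * (a * b)) by group,
            r3, hz2, mul_one]
        · refine Or.inr ?_
          rw [show (q : G) * e * (q * (a * b)) * (e * (a * b)) = (q * e) * q * ((a * b) * e) * (a * b) by group,
            ← hz _ heE, show (q : G) * e * q * (e * (a * b)) * (a * b) = (q * e) * (q * e) * ((a * b) * (a * b)) by group,
            r3, hz2, mul_one]
      obtain ⟨-, hmem⟩ := hne'
      obtain ⟨q1, q2⟩ := mem_cent_pair.1 q.2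
      set y := (q : G) * x * (q : G)⁻¹ with hy
      have hyD : y ∈ D := h.conj _ x hxa.1
      have hya : Commute y a := by
        have := (Commute.conj_iff (q : G)).2 hxa.2.2.symm
        rwa [show (q : G) * a * (q : G)⁻¹ = a by rw [q1.eq, mul_inv_cancel_right]] at this
      have hyb : Commute y b := by
        have := (Commute.conj_iff (q : G)).2 hxb.2.2.symm
        rwa [show (q : G) * b * (q : G)⁻¹ = b by rw [q2.eq, mul_inv_cancel_right]] at this
      rcases hmem with r | r
      · exact hqe (by show y = x; rw [eq_inv_of_mul_eq_one_left r, h.inv_eq hxa.1])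
      · have r' : y * x = a * b := r
        have hyna : y ≠ a := fun r1 => hxb.2.1 (mul_left_cancel (by rw [r1] at r'; exact r'))
        have hynb : y ≠ b := fun r1 => hxa.2.1 (mul_left_cancel (by rw [r1, hb.2.2.eq] at r'; exact r'))
        have hyx : y ≠ x := hqe
        have hcyx : Commute y x := by
          have : y = a * b * x := by rw [← r', mul_assoc, h.mul_self hxa.1, mul_one]
          rw [this]
          exact (hxa.2.2.mul_left hxb.2.2).mul_left (Commute.refl x)
        refine hN [a, b, y, x] (by simp) ?_ (by simp) ?_ ?_ ?_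
        · simp [hb.2.1.symm, Ne.symm hyna, Ne.symm hxa.2.1, Ne.symm hynb, Ne.symm hxb.2.1, hyx]
        · simp [ha, hb.1, hyD, hxa.1, h.ne_one ha, h.ne_one hb.1, h.ne_one hyD, h.ne_one hxa.1]
        · simp [hb.2.2, hb.2.2.symm, hya, hya.symm, hyb, hyb.symm, hxa.2.2, hxa.2.2.symm, hxb.2.2, hxb.2.2.symm,
            hcyx, hcyx.symm]
        · simp only [List.prod_cons, List.prod_nil, mul_one]
          rw [show a * (b * (y * x)) = (a * b) * (y * x) by group, r', hb.2.2.symm.mul_mul_mul_comm, h.mul_self ha,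
            h.mul_self hb.1, mul_one]
    intro c hc
    refine hout c fun k => ?_
    -- `[c, k]` centralizes the kernel
    have hm : (⟨(c : G) * k * (c : G)⁻¹, pair_normal h hN ha hb c.2 k.2⟩ :
        ↥(Subgroup.centralizer ({a, b} : Set G))) * k⁻¹ ∈ T := by
      refine Subgroup.mem_centralizer_iff.2 fun x hx => ?_
      show x * ((c : G) * k * (c : G)⁻¹ * (k : G)⁻¹) = (c : G) * k * (c : G)⁻¹ * (k : G)⁻¹ * x
      have hx' := hEn _ (hKC (inv_mem k.2)) x hx
      have r1 : (c : G)⁻¹ * ((k : G)⁻¹ * x * (k : G)⁻¹⁻¹) * c = (k : G)⁻¹ * x * (k : G)⁻¹⁻¹ := by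
        rw [mul_assoc, ← hc _ hx', inv_mul_cancel_left]
      have r2 : (c : G)⁻¹ * x * c = x := by rw [mul_assoc, ← hc x hx, inv_mul_cancel_left]
      calc x * ((c : G) * k * (c : G)⁻¹ * (k : G)⁻¹)
          = (c : G) * ((c : G)⁻¹ * x * c) * k * (c : G)⁻¹ * (k : G)⁻¹ := by group
        _ = (c : G) * k * ((k : G)⁻¹ * x * (k : G)⁻¹⁻¹) * (c : G)⁻¹ * (k : G)⁻¹ := by rw [r2]; group
        _ = (c : G) * k * ((c : G)⁻¹ * ((k : G)⁻¹ * x * (k : G)⁻¹⁻¹) * c) * (c : G)⁻¹ * (k : G)⁻¹ := by rw [r1]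
        _ = (c : G) * k * (c : G)⁻¹ * (k : G)⁻¹ * x := by group
    have := Subgroup.mem_map_of_mem π hm
    rw [hTb, Subgroup.mem_bot, map_mul, map_inv, mul_inv_eq_one] at this
    exact this
  have hclean : CfsgLib.Invol.PClean 2 ↥C := by
    intro y hy hyc
    rw [hcore] at hyc
    have hyE : (y : G) ∈ E := hCE y fun x hx =>
      (congrArg Subtype.val (Subgroup.mem_centralizer_iff.1 hyc ⟨x, hKC (hEK hx)⟩ hx)).symm
    obtain ⟨n, hn⟩ := (IsPGroup.iff_orderOf.1 hEp) ⟨y, hyE⟩
    rw [← Subgroup.orderOf_coe] at hn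
    rw [← orderOf_eq_one_iff]
    rw [hn] at hy ⊢
    rcases n with _ | n
    · rfl
    · exact absurd hy (by simp [Nat.coprime_pow_left_iff, Nat.even_pow])
  have hFit : Cfsg.generalizedFittingSubgroup ↥C = E.subgroupOf C :=
    (CfsgLib.CharPLoc.fStar_eq_pCore_iff.2 hclean).trans hcore
  -- the extraspecial factor
  let z : ↥C := ⟨a * b, Subgroup.mem_centralizer_singleton_iff.2 rfl⟩
  let A : ↥C := ⟨a, hKC haK⟩
  have hzc : ∀ g : ↥C, g * z = z * g := fun g => Subtype.ext (Subgroup.mem_centralizer_singleton_iff.1 g.2)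
  have hz2 : z * z = 1 := Subtype.ext (by
    show a * b * (a * b) = 1
    rw [hb.2.2.symm.mul_mul_mul_comm, h.mul_self ha, h.mul_self hb.1, mul_one])
  have hz1 : z ≠ 1 := fun r => hb.2.1 (by
    have r' : a * b = 1 := congrArg Subtype.val r
    exact (mul_left_cancel (r'.trans (h.mul_self ha).symm)))
  have hA2 : A * A = 1 := Subtype.ext (h.mul_self ha)
  have hAz : A ≠ z := fun r => h.ne_one hb.1 (by
    have r' : a * 1 = a * b := (mul_one a).trans (congrArg Subtype.val r)
    exact (mul_left_cancel r').symm)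
  have hA1 : A ≠ 1 := fun r => h.ne_one ha (congrArg Subtype.val r)
  have haE : a ∈ E := hV (Subgroup.subset_closure (by simp))
  obtain ⟨M, hME, hzM, hAM, hMc⟩ := exists_complement (E.subgroupOf C) (z := z) (A := A)
    (hV habV) hz2 hzc (fun e he => (hEsq e he).imp (fun r => Subtype.ext r) fun r => Subtype.ext r) haE hA2
    (fun e he => Subtype.ext (mem_cent_pair.1 (hEK he)).1.eq) hAz hA1
  have hMp : IsPGroup 2 ↥M := hEp.to_le hME
  have hzp : ∀ u : ↥C, u = 1 ∨ u = z → u ∈ Subgroup.zpowers z := fun u hu => by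
    rcases hu with rfl | rfl
    · exact one_mem _
    · exact Subgroup.mem_zpowers _
  have hsmall : CfsgLib.SympPairs.Small 2 z M := by
    refine ⟨by rw [pow_two]; exact hz2, hz1, hzM, hzc, fun x hx y hy => ?_⟩
    -- commutators are products of squares
    have key : ∀ u ∈ M, u * u ∈ Subgroup.zpowers z := fun u hu =>
      hzp _ ((hEsq u (hME hu)).imp (fun r => Subtype.ext r) fun r => Subtype.ext r)
    have hc : ∀ u ∈ Subgroup.zpowers z, ∀ v : ↥C, v * u = u * v := fun u hu v => by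
      obtain ⟨k, rfl⟩ := Subgroup.mem_zpowers_iff.1 hu
      exact ((show Commute v z from hzc v).zpow_right k).eq
    have e : ⁅x, y⁆ = (x * y) * (x * y) * ((x * x)⁻¹ * (y * y)⁻¹) := by
      rw [show (x * y) * (x * y) * ((x * x)⁻¹ * (y * y)⁻¹) = x * y * x * (y * (x * x)⁻¹) * (y * y)⁻¹ by group,
        hc _ (inv_mem (key x hx)) y, commutatorElement_def]
      group
    rw [e]
    exact mul_mem (key _ (mul_mem hx hy)) (mul_mem (inv_mem (key x hx)) (inv_mem (key y hy)))
  have hcenM : ∀ e ∈ M, e ∈ Subgroup.centralizer (M : Set ↥C) → e ∈ Subgroup.zpowers z := by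
    intro e he hec
    have hcE : ∀ r : ↥(Subgroup.centralizer ({a, b} : Set G)), r ∈ π.ker → (e : G) * r = r * e := by
      intro r hr
      have hrE : (r : G) ∈ E := ⟨r, hr, rfl⟩
      have hca : (e : G) * a = a * e := (mem_cent_pair.1 (hEK (hME he))).1.eq
      rcases hMc ⟨r, hKC r.2⟩ hrE with hrM | hrM
      · exact (congrArg Subtype.val (Subgroup.mem_centralizer_iff.1 hec _ hrM)).symm
      · have e1 : (e : G) * (a * r) = (a * r) * e := (congrArg Subtype.val (Subgroup.mem_centralizer_iff.1 hec _ hrM)).symm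
        rw [← mul_assoc, hca, mul_assoc, mul_assoc] at e1
        exact mul_left_cancel e1
    have heV := hcen ⟨e, hEK (hME he)⟩ ((hmemE _).1 (hME he)) hcE
    have hmem : (e : G) = 1 ∨ (e : G) = a ∨ (e : G) = b ∨ (e : G) = a * b := by
      have : ∀ u ∈ Subgroup.closure ({a, b} : Set G), u = 1 ∨ u = a ∨ u = b ∨ u = a * b := by
        intro u hu
        induction hu using Subgroup.closure_induction with
        | mem u hu => rcases hu with rfl | rfl <;> simp
        | one => simp
        | mul u v _ _ iu iv =>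
          have aa := h.mul_self ha; have bb := h.mul_self hb.1; have ba : b * a = a * b := hb.2.2.eq.symm
          have e1 : a * (a * b) = b := by rw [← mul_assoc, aa, one_mul]
          have e2 : b * (a * b) = a := by rw [← mul_assoc, ba, mul_assoc, bb, mul_one]
          have e3 : a * b * a = b := by rw [mul_assoc, ba, e1]
          have e4 : a * b * b = a := by rw [mul_assoc, bb, mul_one]
          have e5 : a * b * (a * b) = 1 := by rw [mul_assoc, e2, aa]
          rcases iu with rfl | rfl | rfl | rfl <;> rcases iv with rfl | rfl | rfl | rfl <;>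
            simp [aa, bb, ba, e1, e2, e3, e4, e5]
        | inv u _ iu =>
          rcases iu with rfl | rfl | rfl | rfl
          · simp
          · simp [h.inv_eq ha]
          · simp [h.inv_eq hb.1]
          · simp [mul_inv_rev, h.inv_eq ha, h.inv_eq hb.1, hb.2.2.eq]
      exact this _ heV
    rcases hmem with r | r | r | r
    · exact hzp _ (Or.inl (Subtype.ext r))
    · exact absurd (show A ∈ M by rwa [show A = e from Subtype.ext r.symm]) hAM
    · refine absurd ?_ hAM
      rw [show A = z * e from Subtype.ext (by show a = a * b * (e : G); rw [r, mul_assoc, h.mul_self hb.1, mul_one])]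
      exact mul_mem hzM he
    · exact hzp _ (Or.inr (Subtype.ext r))
  -- as a direct product
  let g₁ : ↥(Subgroup.zpowers A) →* ↥(E.subgroupOf C) := Subgroup.inclusion (Subgroup.zpowers_le.2 haE)
  let g₂ : ↥M →* ↥(E.subgroupOf C) := Subgroup.inclusion hME
  have hcomm12 : ∀ x y, Commute (g₁ x) (g₂ y) := fun x y => by
    obtain ⟨k, hk'⟩ := Subgroup.mem_zpowers_iff.1 x.2
    have hAy : Commute A (y : ↥C) := Subtype.ext (mem_cent_pair.1 (hEK (hME y.2))).1.eq.symm
    exact Subtype.ext (show (x : ↥C) * y = y * x by rw [← hk']; exact (hAy.zpow_left k).eq)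
  let Ψ := g₁.noncommCoprod g₂ hcomm12
  have hzA : ∀ u ∈ Subgroup.zpowers A, u = 1 ∨ u = A := fun u hu => by
    obtain ⟨k, rfl⟩ := Subgroup.mem_zpowers_iff.1 hu
    rcases Int.even_or_odd k with ⟨j, rfl⟩ | ⟨j, rfl⟩
    · left; rw [← two_mul, zpow_mul, zpow_two, hA2, one_zpow]
    · right; rw [zpow_add_one, zpow_mul, zpow_two, hA2, one_zpow, one_mul]
  have hΨ : Function.Bijective Ψ := by
    refine ⟨(injective_iff_map_eq_one _).2 ?_, fun e => ?_⟩
    · rintro ⟨x, y⟩ hxy
      have e : (x : ↥C) * (y : ↥C) = 1 := congrArg Subtype.val hxy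
      rcases hzA x x.2 with r | r <;> rw [r] at e
      · exact Prod.ext (Subtype.ext r) (Subtype.ext (by rwa [one_mul] at e))
      · refine absurd ?_ hAM
        rw [eq_inv_of_mul_eq_one_left e]
        exact inv_mem y.2
    · rcases hMc e e.2 with r | r
      · exact ⟨(1, ⟨e, r⟩), Subtype.ext (one_mul _)⟩
      · exact ⟨(⟨A, Subgroup.mem_zpowers A⟩, ⟨A * e, r⟩), Subtype.ext (by
          show A * (A * (e : ↥C)) = e
          rw [← mul_assoc, hA2, one_mul])⟩
  have hAcard : Nat.card ↥(Subgroup.zpowers A) = 2 := by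
    rw [Nat.card_zpowers, orderOf_eq_prime (by rw [pow_two, hA2]) hA1]
  have hMcard : Nat.card M = 2 ^ 9 := by
    have e := Nat.card_congr (Equiv.ofBijective Ψ hΨ)
    rw [Nat.card_prod, hAcard, Nat.card_congr (Subgroup.subgroupOfEquivOfLe (hEK.trans hKC)).toEquiv, hEcard] at e
    omega
  have hna : ∃ x ∈ M, ∃ y ∈ M, ⁅x, y⁆ ≠ 1 := by
    by_contra hall
    push Not at hall
    have hle : M ≤ Subgroup.zpowers z := fun m hm => hcenM m hm (Subgroup.mem_centralizer_iff.2 fun y hy =>
      commutatorElement_eq_one_iff_mul_comm.1 (hall y hy m hm))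
    have := Subgroup.card_le_of_le hle
    rw [hMcard, Nat.card_zpowers, orderOf_eq_prime (by rw [pow_two, hz2]) hz1] at this
    norm_num at this
  have hext : Cfsg.IsExtraspecial 2 ↥M := CfsgLib.SympPairs.isExtraspecial_of_data M hMp hsmall
    (fun e he => by rw [pow_two]; exact hzp _ ((hEsq e (hME he)).imp (fun r => Subtype.ext r) fun r => Subtype.ext r))
    hcenM hna
  haveI : Fact (Nat.Prime 2) := ⟨Nat.prime_two⟩
  let e2 : Multiplicative (ZMod 2) ≃* ↥(Subgroup.zpowers A) :=
    mulEquivOfPrimeCardEq (p := 2) (by simp) hAcard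
  refine ⟨hidx, hcenter, E, hV, hEK.trans hKC, hEn, hEcard, fun x hx y hy => ⟨?_, ?_⟩, hFit,
    ⟨M, hext, hMcard, ⟨(MulEquiv.ofBijective Ψ hΨ).symm.trans (MulEquiv.prodCongr e2.symm (MulEquiv.refl _))⟩⟩,
    hEN, F, hFf, hFt, hF, ⟨MulEquiv.ofBijective Φ hΦ⟩⟩
  · have key : ∀ u ∈ E, u * u ∈ Subgroup.closure ({a, b} : Set G) := fun u hu => by
      rcases hEsq u hu with r | r <;> rw [r]
      · exact one_mem _
      · exact habV
    have hc : (x * x)⁻¹ * y = y * (x * x)⁻¹ := by
      have h1 : Commute (x * x) y := by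
        rcases hEsq x hx with r | r <;> rw [r]
        · exact Commute.one_left y
        · exact (Subgroup.mem_centralizer_singleton_iff.1 (hKC (hEK hy))).symm
      exact h1.inv_left.eq
    rw [show x * y * x⁻¹ * y⁻¹ = (x * y) * x * ((x * x)⁻¹ * y) * (y * y)⁻¹ by group, hc,
      show (x * y) * x * (y * (x * x)⁻¹) * (y * y)⁻¹ = (x * y) * (x * y) * ((x * x)⁻¹ * (y * y)⁻¹) by group]
    exact mul_mem (key _ (mul_mem hx hy)) (mul_mem (inv_mem (key x hx)) (inv_mem (key y hy)))
  · rw [pow_two]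
    rcases hEsq x hx with r | r <;> rw [r]
    · exact one_mem _
    · exact habV

end CfsgLib.Spor.Tri.Level
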