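/-
The common neighbours of a non-commuting pair in type M(22) as reflections.
-/
import Cfsg.Agent.Lib.Spor.Tri.LineGroup
import Cfsg.Agent.Lib.Spor.Tri.LevelTriple
import Cfsg.Agent.Lib.Spor.Tri.PairStructure
import Cfsg.Agent.Lib.Perm.Asch.Forms.OCongr

set_option autoImplicit false
set_option linter.all false

namespace CfsgLib.Spor.Tri.Y332

open Matrix CfsgLib.Spor.Tri CfsgLib.Spor.Tri.Relations CfsgLib.Spor.Tri.Level CfsgLib.Spor

section form

theorem neg_zero_key : ∀ y : ZMod 3, y = -y → y = 0 := by decide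

/-- The Gram matrix of a path of six, divided by the norm. -/
def pathM : Matrix (Fin 6) (Fin 6) (ZMod 3) :=
  Matrix.of fun i j => if i = j then 2 else if i.1 + 1 = j.1 ∨ j.1 + 1 = i.1 then 1 else 0

/-- The value of the form of a path. -/
def pathQ (c : ZMod 3) (x : Fin 6 → ZMod 3) : ZMod 3 :=
  2 * c * (2 * (x 0 * x 0 + x 1 * x 1 + x 2 * x 2 + x 3 * x 3 + x 4 * x 4 + x 5 * x 5) +
    2 * (x 0 * x 1 + x 1 * x 2 + x 2 * x 3 + x 3 * x 4 + x 4 * x 5))

theorem pathM_det : pathM.det = 1 := by decide +kernel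

theorem pathQ_count : ∀ c : ZMod 3, c ≠ 0 →
    (Finset.univ.filter fun x : Fin 6 → ZMod 3 => pathQ c x = c).card = 252 := by decide +kernel

variable {Q : QuadraticForm (ZMod 3) (Fin 6 → ZMod 3)} {c : ZMod 3}

/-- A form of discriminant one has the path as a basis. -/
theorem exists_path (hQ : (QuadraticMap.polarBilin Q).Nondegenerate) (hμ : Cfsg.polarGramDet (⇑Q) = 1) (hc : c ≠ 0) :
    ∃ P : GL (Fin 6) (ZMod 3), (∀ x, Q ((P : Matrix (Fin 6) (Fin 6) (ZMod 3)) *ᵥ x) = pathQ c x) ∧
      ∀ i j, QuadraticMap.polar (⇑Q) ((P : Matrix (Fin 6) (Fin 6) (ZMod 3)) *ᵥ Pi.single i 1)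
        ((P : Matrix (Fin 6) (Fin 6) (ZMod 3)) *ᵥ Pi.single j 1) = c * pathM i j := by
  have hA : (CfsgLib.Classical.polarGram Q)ᵀ = CfsgLib.Classical.polarGram Q := by
    ext i j; exact QuadraticMap.polar_comm _ _ _
  have hdA : (CfsgLib.Classical.polarGram Q).det = 1 := hμ
  have hdB : (c • pathM).det = 1 := by
    rw [Matrix.det_smul, pathM_det, Fintype.card_fin, mul_one]
    rcases (by decide : ∀ c : ZMod 3, c ≠ 0 → c ^ 6 = 1) c hc with e
    exact e
  obtain ⟨P, hP⟩ := CfsgLib.Perm.Asch.exists_congr_symm (F := ZMod 3) (κ := Fin 6) (by decide) hA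
    (show (c • pathM)ᵀ = c • pathM by
      rw [Matrix.transpose_smul, show pathMᵀ = pathM by decide +kernel])
    (by rw [hdA]; decide) (by rw [hdB]; decide) (by rw [hdA, hdB, mul_one]; exact ⟨1, by rw [mul_one]⟩)
  have key : ∀ x y, QuadraticMap.polar (⇑Q) ((P : Matrix (Fin 6) (Fin 6) (ZMod 3)) *ᵥ x)
      ((P : Matrix (Fin 6) (Fin 6) (ZMod 3)) *ᵥ y) = x ⬝ᵥ (c • pathM) *ᵥ y := by
    intro x y
    rw [← CfsgLib.Classical.dotProduct_polarGram_mulVec, ← hP, ← Matrix.mulVec_mulVec, ← Matrix.mulVec_mulVec,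
      Matrix.dotProduct_mulVec x, Matrix.vecMul_transpose]
  refine ⟨P, fun x => ?_, fun i j => ?_⟩
  · have e := key x x
    rw [CfsgLib.Classical.polar_self_two] at e
    have h2 : ∀ a b : ZMod 3, 2 * a = b → a = 2 * b := by decide
    rw [h2 _ _ e]
    simp [pathQ, pathM, dotProduct, Matrix.mulVec, Fin.sum_univ_six, Matrix.smul_apply]
    ring
  · rw [key]
    simp [Matrix.mulVec, dotProduct, Pi.single_apply, Matrix.smul_apply]

theorem card_norm (hQ : (QuadraticMap.polarBilin Q).Nondegenerate) (hμ : Cfsg.polarGramDet (⇑Q) = 1) (hc : c ≠ 0) :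
    {v | Q v = c}.ncard = 252 := by
  obtain ⟨P, hP, -⟩ := exists_path hQ hμ hc
  have e : {v | Q v = c} = (fun x => (P : Matrix (Fin 6) (Fin 6) (ZMod 3)) *ᵥ x) '' {x | pathQ c x = c} := by
    ext v
    constructor
    · intro hv
      have ev : (P : Matrix (Fin 6) (Fin 6) (ZMod 3)) *ᵥ
          (((P⁻¹ : GL (Fin 6) (ZMod 3)) : Matrix (Fin 6) (Fin 6) (ZMod 3)) *ᵥ v) = v := by
        rw [Matrix.mulVec_mulVec, ← Units.val_mul, mul_inv_cancel, Units.val_one, Matrix.one_mulVec]
      exact ⟨_, by rw [Set.mem_setOf_eq, ← hP, ev]; exact hv, ev⟩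
    · rintro ⟨x, hx, rfl⟩
      show Q _ = c
      rw [hP]; exact hx
  rw [e, Set.ncard_image_of_injective _ (Matrix.mulVec_injective_iff_isUnit.2 P.isUnit)]
  rw [show {x : Fin 6 → ZMod 3 | pathQ c x = c} = ↑(Finset.univ.filter fun x => pathQ c x = c) by ext; simp,
    Set.ncard_coe_finset]
  exact pathQ_count c hc

end form

variable {G : Type*} [Group G] [Finite G] {D : Set G}

/-- The order of the centralizer of a member, of a commuting pair and of a non-commuting pair. -/
theorem card_cents (h : Hyp D) (hprim : Cfsg.IsPrimitiveUnderConj D) (h22 : Cfsg.IsOfTypeM22 G D) :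
    (∀ a ∈ D, ∀ b ∈ D, ¬ Commute a b → Nat.card ↥(Subgroup.centralizer ({a, b} : Set G)) = 6531840) ∧
    ∀ a ∈ D, ∀ b ∈ perp D a, Nat.card ↥(Subgroup.centralizer ({a * b} : Set G)) = 53084160 := by
  obtain ⟨L, -⟩ := lev22 h hprim h22
  have hG := (card22 h hprim h22).1
  have hinf : ∀ a b : G, Subgroup.centralizer ({a} : Set G) ⊓ Subgroup.centralizer ({b} : Set G) =
      Subgroup.centralizer ({a, b} : Set G) := fun a b => by
    ext g
    rw [Subgroup.mem_inf, mem_cent_two, Subgroup.mem_centralizer_singleton_iff, Subgroup.mem_centralizer_singleton_iff]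
    exact Iff.rfl
  have hca : ∀ a ∈ D, Nat.card ↥(Subgroup.centralizer ({a} : Set G)) = 18393661440 := fun a ha => by
    have := card_eq_mul h ha
    rw [hG, L.card] at this
    omega
  have hne : ∀ a ∈ D, (perp D a).Nonempty := fun a ha =>
    (Set.ncard_pos (Set.toFinite _)).1 (by rw [L.deg a ha]; norm_num)
  obtain ⟨a₀, ha₀⟩ : D.Nonempty := by
    obtain ⟨a, ha, -⟩ := hprim.2.1
    exact ⟨a, ha⟩
  obtain ⟨b₀, hb₀⟩ := hne a₀ ha₀
  obtain ⟨hR, hperf⟩ := rank_three_data h hprim ⟨a₀, ha₀, b₀, hb₀.1, hb₀.2.1.symm, hb₀.2.2⟩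
  constructor
  · intro a ha b hb hn
    have o1 : {y | ∃ g ∈ Subgroup.centralizer ({a} : Set G), g * b * g⁻¹ = y} = D \ (perp D a ∪ {a}) := by
      ext y
      constructor
      · rintro ⟨g, hg, rfl⟩
        have e : g * a * g⁻¹ = a := mul_inv_eq_iff_eq_mul.2 (Subgroup.mem_centralizer_singleton_iff.1 hg)
        refine ⟨h.conj g b hb, ?_⟩
        rintro (r | r)
        · exact hn ((Commute.conj_iff g).1 (by rw [e]; exact r.2.2))
        · exact hn ((Commute.conj_iff g).1 (by rw [e, Set.mem_singleton_iff.1 r]))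
      · rintro ⟨hy, hy'⟩
        have hy2 : ¬ Commute a y := fun r => hy' (by
          rcases eq_or_ne y a with e | e
          · exact Or.inr e
          · exact Or.inl ⟨hy, e, r⟩)
        obtain ⟨g, hga, hgb⟩ := exists_conj_not_commute h hR hperf ha hb hy hn hy2
        exact ⟨g, Subgroup.mem_centralizer_singleton_iff.2 hga.eq, hgb⟩
    have q := card_orbit_sub (Subgroup.centralizer ({a} : Set G)) b
    have n1 : (D \ (perp D a ∪ {a})).ncard = 2816 := by
      have hsub : perp D a ∪ {a} ⊆ D := Set.union_subset (fun x hx => hx.1) (Set.singleton_subset_iff.2 ha)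
      rw [Set.ncard_sdiff hsub (Set.toFinite _), L.card, Set.ncard_union_eq (Set.disjoint_singleton_right.2
        fun r => r.2.1 rfl) (Set.toFinite _) (Set.toFinite _), L.deg a ha, Set.ncard_singleton]
    rw [o1, n1, hca a ha, hinf] at q
    omega
  · intro a ha b hb
    have o1 : {y | ∃ g ∈ Subgroup.centralizer ({a} : Set G), g * b * g⁻¹ = y} = perp D a := by
      ext y
      constructor
      · rintro ⟨g, hg, rfl⟩
        have e : g * a * g⁻¹ = a := mul_inv_eq_iff_eq_mul.2 (Subgroup.mem_centralizer_singleton_iff.1 hg)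
        have r : g * b * g⁻¹ ∈ perp D (g * a * g⁻¹) := by rw [Level.perp_conj h]; exact ⟨b, hb, rfl⟩
        rwa [e] at r
      · intro hy
        obtain ⟨g, hg, e⟩ := trans_perp L (by norm_num) ha hb hy
        exact ⟨g, loc_eq_centralizer (L.cent a ha) ▸ hg, e⟩
    have q := card_orbit_sub (Subgroup.centralizer ({a} : Set G)) b
    rw [o1, L.deg a ha, hca a ha, hinf] at q
    obtain ⟨hidx, -⟩ := pair_structure h hprim h22 ha hb
    have hle : Subgroup.centralizer ({a, b} : Set G) ≤ Subgroup.centralizer ({a * b} : Set G) := fun g hg =>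
      Subgroup.mem_centralizer_singleton_iff.2 ((mem_cent_two.1 hg).1.mul_right (mem_cent_two.1 hg).2).eq
    have e := Subgroup.card_mul_index ((Subgroup.centralizer ({a, b} : Set G)).subgroupOf
      (Subgroup.centralizer ({a * b} : Set G)))
    rw [hidx, Nat.card_congr (Subgroup.subgroupOfEquivOfLe hle).toEquiv] at e
    omega

/-- The common neighbours are the reflections. -/
theorem line_vectors (h : Hyp D) (hprim : Cfsg.IsPrimitiveUnderConj D) (h22 : Cfsg.IsOfTypeM22 G D) {a b : G}
    (ha : a ∈ D) (hb : b ∈ D) (hn : ¬ Commute a b) :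
    ∃ (Q : QuadraticForm (ZMod 3) (Fin 6 → ZMod 3)) (c : ZMod 3) (vec : G → Fin 6 → ZMod 3), c ≠ 0 ∧
      (QuadraticMap.polarBilin Q).Nondegenerate ∧ Cfsg.polarGramDet (⇑Q) = 1 ∧
      (∀ x ∈ perp D a ∩ perp D b, Q (vec x) = c) ∧
      (∀ x ∈ perp D a ∩ perp D b, ∀ y ∈ perp D a ∩ perp D b, x ≠ y →
        (Commute x y ↔ QuadraticMap.polar (⇑Q) (vec y) (vec x) = 0)) ∧
      ∀ w, Q w = c → ∃ x ∈ perp D a ∩ perp D b, vec x = w ∨ vec x = -w := by
  classical
  haveI : Fact (Nat.Prime 3) := ⟨Nat.prime_three⟩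
  have H := lineAt22 h hprim h22 ha hb hn
  obtain ⟨L, -⟩ := lev22 h hprim h22
  obtain ⟨hT, -, -, -, hK⟩ := line_normalizer h ha hb hn H
  obtain ⟨-, d₁, hd₁, c₁, hc₁, hn₁, -, c, hc, Q, hQn, hμ, ⟨eQ⟩⟩ := id h22
  obtain ⟨eP⟩ := common_iso h (conj_noncomm L (by norm_num) hd₁ hc₁ hn₁ ha hb hn) H
  have eK := eP.trans eQ
  set P := perp D a ∩ perp D b with hPdef
  set K := Subgroup.closure P
  set R := Cfsg.reflectionSubgroup (⇑Q) c
  have hQ := CfsgLib.Orth.nd_of_qf Q hQn
  have h5 : 5 ≤ 6 := by norm_num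
  set S := ReflectionClass.cls Q c with hS
  set mk := QuotientGroup.mk' (Subgroup.center ↥R)
  have hsq : ∀ r ∈ S, r * r = 1 := fun r hr => ReflectionClass.mul_self_cls hQ hc hr
  have hset := ReflectionClass.hyp_set hQ hc
  -- commuting is seen in the quotient
  have hcomm : ∀ r ∈ S, ∀ s ∈ S, Commute (mk r) (mk s) → Commute r s := by
    intro r hr s hs e
    rcases hset.2 r hr s hs with q | q
    · rw [pow_two] at q
      show r * s = s * r
      rw [eq_inv_of_mul_eq_one_left q, _root_.mul_inv_rev, inv_eq_of_mul_eq_one_right (hsq r hr),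
        inv_eq_of_mul_eq_one_right (hsq s hs)]
    have hc2 : (r * s) ^ 2 ∈ Subgroup.center ↥R := by
      refine (QuotientGroup.eq_one_iff _).1 ?_
      show mk ((r * s) ^ 2) = 1
      rw [map_pow, map_mul, e.mul_pow, pow_two, pow_two, ← map_mul, ← map_mul, hsq r hr, hsq s hs, map_one, mul_one]
    have hcen : r * s ∈ Subgroup.center ↥R := by
      have e4 : r * s = ((r * s) ^ 2) ^ 2 := by rw [← pow_mul, pow_succ, q, one_mul]
      rw [e4]; exact Subgroup.pow_mem _ hc2 2
    have e5 := Subgroup.mem_center_iff.1 hcen r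
    show r * s = s * r
    calc r * s = r * (r * s) * r * (r * r) * 1 := by
          rw [hsq r hr, e5, mul_assoc (r * s * r), mul_one, mul_one, mul_assoc, hsq r hr, mul_one]
      _ = s * r := by rw [hsq r hr, ← mul_assoc r r s, hsq r hr, one_mul, mul_one, mul_one]
  have hinj : ∀ r ∈ S, ∀ s ∈ S, mk r = mk s → r = s := by
    intro r hr s hs e
    by_contra hne
    have hcm := hcomm r hr s hs (e ▸ Commute.refl _)
    have hcen : r * s ∈ Subgroup.center ↥R := by
      refine (QuotientGroup.eq_one_iff _).1 ?_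
      show mk (r * s) = 1
      rw [map_mul, ← e, ← map_mul, hsq r hr, map_one]
    obtain ⟨u, hu, hru⟩ := (ReflectionClass.mem_cls hQ hc).1 hr
    obtain ⟨v, hv, hsv⟩ := (ReflectionClass.mem_cls hQ hc).1 hs
    have h1 : v ≠ u := fun e => hne (ReflectionClass.up_injective Q c
      ((ReflectionClass.eq_iff hQ hc hu hv hru hsv).2 (Or.inl e)))
    have h2 : v ≠ -u := fun e => hne (ReflectionClass.up_injective Q c
      ((ReflectionClass.eq_iff hQ hc hu hv hru hsv).2 (Or.inr e)))
    obtain ⟨w, hw, hwu, hwv, g1, g2⟩ := ReflectionClass.exists_separating' hQ h5 hc hu hv h1 h2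
    obtain ⟨t, ht, htw⟩ := ReflectionClass.exists_el hQ hc hw
    obtain ⟨f1, f2⟩ := ReflectionClass.ne_of_perp hQ hc hu hwu
    have cr : Commute r t := (ReflectionClass.commute_iff hQ hc hu hw hru htw f1 f2).2 hwu
    have cs : ¬ Commute s t := fun q => hwv ((ReflectionClass.commute_iff hQ hc hv hw hsv htw g1 g2).1 q)
    refine cs ?_
    have e1 : Commute t (r * s) := Subgroup.mem_center_iff.1 hcen t
    have e2 : s = r * (r * s) := by rw [← mul_assoc, hsq r hr, one_mul]
    rw [e2]
    exact (cr.symm.mul_right e1).symm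
  -- vectors of the members of the class
  set I := mk '' S with hI
  have hcardI : I.ncard = 126 := by
    have e : I.ncard = S.ncard := Set.ncard_image_of_injOn fun r hr s hs q => hinj r hr s hs q
    rw [e]
    have hN := card_norm hQn hμ hc
    choose! refl hrefl using fun v (hv : Q v = c) => ReflectionClass.exists_el hQ hc hv
    have hfib : ∀ r ∈ S, ({v | Q v = c} ∩ refl ⁻¹' {r}).ncard = 2 := by
      intro r hr
      obtain ⟨u, hu, hru⟩ := (ReflectionClass.mem_cls hQ hc).1 hr
      have hu' : Q (-u) = c := (CfsgLib.Perm.Trans.Quad.qneg hQ u).trans hu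
      have e : {v | Q v = c} ∩ refl ⁻¹' {r} = {u, -u} := by
        ext v
        constructor
        · rintro ⟨hv, hvr⟩
          have hvr' : refl v = r := hvr
          exact (ReflectionClass.eq_iff hQ hc hu hv hru (hrefl v hv).2).1 (by rw [hvr'])
        · intro hv
          have hv' : Q v = c := by rcases hv with rfl | rfl <;> assumption
          exact ⟨hv', ReflectionClass.up_injective Q c
            ((ReflectionClass.eq_iff hQ hc hu hv' hru (hrefl v hv').2).2 hv).symm⟩
      rw [e, Set.ncard_pair]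
      intro q
      refine hc ?_
      have : u = 0 := by
        funext i
        have key : ∀ y : ZMod 3, y = -y → y = 0 := neg_zero_key
        exact key _ (congrFun q i)
      rw [← hu, this]
      exact QuadraticMap.map_zero Q
    set T : Finset (Fin 6 → ZMod 3) := Finset.univ.filter fun v => Q v = c
    have hT : T.card = 252 := by
      rw [← hN, ← Set.ncard_coe_finset]; congr 1; ext; simp [T]
    have := Finset.card_eq_sum_card_image refl T
    rw [hT, Finset.sum_const_nat (m := 2) (fun r hr => by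
      obtain ⟨v, hv, rfl⟩ := Finset.mem_image.1 hr
      rw [← hfib _ (hrefl v (Finset.mem_filter.1 hv).2).1, ← Set.ncard_coe_finset]
      congr 1; ext; simp [T])] at this
    have himg : (↑(T.image refl) : Set _) = S := by
      ext r
      simp only [Finset.coe_image, Set.mem_image, T, Finset.coe_filter, Finset.mem_univ, true_and, Set.mem_setOf_eq]
      constructor
      · rintro ⟨v, hv, rfl⟩; exact (hrefl v hv).1
      · intro hr
        obtain ⟨v, hv, hrv⟩ := (ReflectionClass.mem_cls hQ hc).1 hr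
        exact ⟨v, hv, ReflectionClass.up_injective Q c
          ((ReflectionClass.eq_iff hQ hc hv hv hrv (hrefl v hv).2).2 (Or.inl rfl)).symm⟩
    rw [← himg, Set.ncard_coe_finset]
    omega
  set J : Set ↥K := eK.symm '' I with hJ
  have hcardJ : J.ncard = 126 := by rw [hJ, Set.ncard_image_of_injective _ eK.symm.injective, hcardI]
  have hcK : Nat.card ↥K = 6531840 := by
    rw [← (card_cents h hprim h22).1 a ha b hb hn, hK]
  -- each is a common neighbour
  have hmem : ∀ x ∈ J, (x : G) ∈ P := by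
    intro x hx
    obtain ⟨q, hq, rfl⟩ := id hx
    obtain ⟨r, hr, rfl⟩ := id hq
    set x := eK.symm (mk r)
    have horb : {y | ∃ g ∈ K, g * (x : G) * g⁻¹ = y} = Subtype.val '' J := by
      ext y
      constructor
      · rintro ⟨g, hg, rfl⟩
        obtain ⟨s, hs⟩ := QuotientGroup.mk'_surjective (Subgroup.center ↥R) (eK ⟨g, hg⟩)
        refine ⟨eK.symm (mk (s * r * s⁻¹)), ⟨_, ⟨_, ReflectionClass.conj_mem_cls hQ hc s hr, rfl⟩, rfl⟩, ?_⟩
        have e : eK.symm (mk (s * r * s⁻¹)) = (⟨g, hg⟩ : ↥K) * x * (⟨g, hg⟩ : ↥K)⁻¹ := by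
          rw [map_mul, map_mul, map_inv, map_mul, map_mul, map_inv, hs, eK.symm_apply_apply]
        rw [e]; rfl
      · rintro ⟨_, ⟨_, ⟨s, hs, rfl⟩, rfl⟩, rfl⟩
        obtain ⟨t, ht⟩ := ReflectionClass.transitive hQ h5 hc hr hs
        refine ⟨(eK.symm (mk t) : G), (eK.symm (mk t)).2, ?_⟩
        have e : eK.symm (mk s) = eK.symm (mk t) * x * (eK.symm (mk t))⁻¹ := by
          rw [← ht, map_mul, map_mul, map_inv, map_mul, map_mul, map_inv]
        rw [e]; rfl
    have q1 := card_orbit_sub K (x : G)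
    rw [horb, Set.ncard_image_of_injective _ Subtype.val_injective, hcardJ, hcK] at q1
    have hxK : (x : G) ∈ Subgroup.centralizer ({a, b} : Set G) := closure_common_le x.2
    have hx1 : (x : G) ≠ 1 := by
      intro e
      have e2 : x = 1 := Subtype.ext e
      have e3 : mk r = 1 := by
        have := congrArg eK e2
        rwa [map_one, MulEquiv.apply_symm_apply] at this
      have hrc : r ∈ Subgroup.center ↥R := (QuotientGroup.eq_one_iff r).1 e3
      obtain ⟨u, hu, hru⟩ := (ReflectionClass.mem_cls hQ hc).1 hr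
      have hall : ∀ s ∈ S, s = r := fun s hs => by
        obtain ⟨t, ht⟩ := ReflectionClass.transitive hQ h5 hc hr hs
        rw [← ht, Subgroup.mem_center_iff.1 hrc t, mul_inv_cancel_right]
      obtain ⟨-, -, ⟨s, hs, s', hs', hss⟩, -⟩ := ReflectionClass.facts hQ h5 hc
      exact hss ((hall s hs).trans (hall s' hs').symm)
    have hx2 : (x : G) * x = 1 := by
      have e : x * x = 1 := by
        show eK.symm (mk r) * eK.symm (mk r) = 1
        rw [← map_mul, ← map_mul, hsq r hr, map_one, map_one]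
      exact congrArg Subtype.val e
    set Kx := K ⊓ Subgroup.centralizer ({(x : G)} : Set G)
    have hKx : Nat.card ↥Kx = 51840 := by omega
    have hord : orderOf (a * b) = 3 := by
      refine orderOf_eq_prime ((h.set.2 a ha b hb).resolve_left fun r => hn ((h.commute_iff_sq ha hb).2 r)) ?_
      intro e
      exact hn (by rw [eq_inv_of_mul_eq_one_left e, h.inv_eq hb])
    have hcommK : ∀ k ∈ K, Commute k (a * b) := fun k hk => by
      obtain ⟨k1, k2⟩ := mem_cent_two.1 (closure_common_le hk)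
      exact k1.mul_right k2
    have h243 : 243 ∣ Nat.card ↥(Subgroup.centralizer ({(x : G)} : Set G)) := by
      set Z := Subgroup.zpowers (a * b)
      have hxab : Commute (x : G) (a * b) := hcommK x x.2
      let φ : ↥Kx × ↥Z →* ↥(Subgroup.centralizer ({(x : G)} : Set G)) :=
        { toFun := fun p => ⟨(p.1 : G) * p.2, by
            refine mul_mem p.1.2.2 ?_
            obtain ⟨k, hk⟩ := Subgroup.mem_zpowers_iff.1 p.2.2
            rw [← hk]
            exact Subgroup.mem_centralizer_singleton_iff.2 (hxab.zpow_right k).symm.eq⟩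
          map_one' := Subtype.ext (by simp)
          map_mul' := fun p p' => Subtype.ext (by
            show (p.1 : G) * p'.1 * ((p.2 : G) * p'.2) = (p.1 : G) * p.2 * ((p'.1 : G) * p'.2)
            obtain ⟨k, hk⟩ := Subgroup.mem_zpowers_iff.1 p.2.2
            have e : Commute (p'.1 : G) (p.2 : G) := by
              rw [← hk]; exact (hcommK _ p'.1.2.1).zpow_right k
            rw [mul_assoc, ← mul_assoc (p'.1 : G), e.eq]
            group) }
      have hφ : Function.Injective φ := by
        rw [injective_iff_map_eq_one]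
        intro p hp
        have e : (p.1 : G) * p.2 = 1 := congrArg Subtype.val hp
        have h1 : (p.2 : G) ∈ Subgroup.closure ({a, b} : Set G) ⊓ Subgroup.centralizer ({a, b} : Set G) := by
          refine ⟨?_, ?_⟩
          · obtain ⟨k, hk⟩ := Subgroup.mem_zpowers_iff.1 p.2.2
            rw [← hk]
            exact zpow_mem (mul_mem (Subgroup.subset_closure (by simp)) (Subgroup.subset_closure (by simp))) k
          · show (p.2 : G) ∈ Subgroup.centralizer ({a, b} : Set G)
            rw [eq_inv_of_mul_eq_one_right e]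
            exact inv_mem (closure_common_le p.1.2.1)
        rw [hT, Subgroup.mem_bot] at h1
        rw [h1, mul_one] at e
        exact Prod.ext (Subtype.ext e) (Subtype.ext h1)
      have := Subgroup.card_dvd_of_injective φ hφ
      rw [Nat.card_prod, Nat.card_zpowers, hord, hKx] at this
      exact dvd_trans (by norm_num) this
    obtain ⟨t1, t2⟩ := Relations.tuples_m22 (pre_of_hyp h) h22
    obtain ⟨e₀, W⟩ := local22 h hprim h22
    obtain ⟨n, hn1, hn3, q, hnd, hlen, hqm, hqc, hprod⟩ :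
        ∃ n : ℕ, 1 ≤ n ∧ n ≤ 3 ∧ (∃ q : List G, q.Nodup ∧ q.length = n ∧ (∀ a ∈ q, a ∈ D) ∧
          (∀ a ∈ q, ∀ b ∈ q, Commute a b) ∧ q.prod = (x : G)) :=
      (invol_classes h L (by norm_num) (by norm_num) W.norel (decomp22 h hprim h22) t1 t2
        (tup_three22 h W (Relations.good_m22 (pre_of_hyp h) h22).1)).1 x
        (orderOf_eq_prime (by rw [pow_two]; exact hx2) hx1)
    match n, hn1, hn3, q, hnd, hlen, hqm, hqc, hprod with
    | 1, _, _, [p], _, _, hqm, _, hprod =>
      simp only [List.prod_cons, List.prod_nil, mul_one] at hprod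
      have hxD : (x : G) ∈ D := hprod ▸ hqm p (List.mem_cons_self ..)
      obtain ⟨c1, c2⟩ := mem_cent_two.1 hxK
      exact ⟨⟨hxD, fun e => hn (e ▸ c2), c1.symm⟩, hxD, fun e => hn (e ▸ c1).symm, c2.symm⟩
    | 2, _, _, [p, p'], hnd, _, hqm, hqc, hprod =>
      simp only [List.prod_cons, List.prod_nil, mul_one] at hprod
      simp at hnd
      rw [← hprod, (card_cents h hprim h22).2 p (hqm p (by simp)) p'
        ⟨hqm p' (by simp), Ne.symm hnd, hqc p (by simp) p' (by simp)⟩] at h243
      norm_num at h243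
    | 3, _, _, [p, p', p''], hnd, _, hqm, hqc, hprod =>
      simp only [List.prod_cons, List.prod_nil, mul_one, ← mul_assoc] at hprod
      rw [← hprod, card_triple22 h hprim h22 (a := p) (b := p') (c := p'')
        ⟨hnd, fun e he => ⟨hqm e he, h.ne_one (hqm e he)⟩, hqc⟩] at h243
      norm_num at h243
  have hPJ : Subtype.val '' J = P := by
    refine Set.eq_of_subset_of_ncard_le (fun y ⟨x, hx, e⟩ => e ▸ hmem x hx) ?_ (Set.toFinite _)
    rw [Set.ncard_image_of_injective _ Subtype.val_injective, hcardJ, L.mu a ha b hb hn]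
  have hvec : ∀ y : G, ∃ v, y ∈ P → ∃ r ∈ S, Q v = c ∧ CfsgLib.Perm.Trans.Quad.IsRefl (⇑Q) v (ReflectionClass.up Q c r) ∧
      ∃ x : ↥K, (x : G) = y ∧ eK x = mk r := by
    intro y
    by_cases hy : y ∈ P
    · rw [← hPJ] at hy
      obtain ⟨x, ⟨_, ⟨r, hr, rfl⟩, rfl⟩, rfl⟩ := hy
      obtain ⟨v, hv, hrv⟩ := (ReflectionClass.mem_cls hQ hc).1 hr
      exact ⟨v, fun _ => ⟨r, hr, hv, hrv, _, rfl, eK.apply_symm_apply _⟩⟩
    · exact ⟨0, fun r => absurd r hy⟩
  choose vec hvec using hvec
  refine ⟨Q, c, vec, hc, hQn, hμ, fun y hy => ?_, fun y hy z hz hne => ?_, fun w hw => ?_⟩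
  · obtain ⟨r, -, hv, -⟩ := hvec y hy
    exact hv
  · obtain ⟨r, hr, hu, hru, x, rfl, ex⟩ := hvec y hy
    obtain ⟨s, hs, hv, hsv, x', rfl, ex'⟩ := hvec z hz
    have hrs : r ≠ s := fun e => hne (congrArg Subtype.val (eK.injective (ex.trans ((congrArg mk e).trans ex'.symm))))
    have h1 : vec x' ≠ vec x := fun e => hrs (ReflectionClass.up_injective Q c
      ((ReflectionClass.eq_iff hQ hc hu hv hru hsv).2 (Or.inl e)))
    have h2 : vec x' ≠ -vec x := fun e => hrs (ReflectionClass.up_injective Q c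
      ((ReflectionClass.eq_iff hQ hc hu hv hru hsv).2 (Or.inr e)))
    rw [← ReflectionClass.commute_iff hQ hc hu hv hru hsv h1 h2]
    constructor
    · intro e
      refine hcomm r hr s hs ?_
      rw [← ex, ← ex']
      exact (show Commute x x' from Subtype.ext e).map eK
    · intro e
      have : Commute (eK x) (eK x') := by rw [ex, ex']; exact e.map mk
      have h2 : x * x' = x' * x := eK.injective (by rw [map_mul, map_mul]; exact this)
      exact congrArg Subtype.val h2
  · obtain ⟨s, hs, hsw⟩ := ReflectionClass.exists_el hQ hc hw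
    have hy : (eK.symm (mk s) : G) ∈ P := hmem _ ⟨_, ⟨s, hs, rfl⟩, rfl⟩
    obtain ⟨r, hr, hu, hru, x, hx, ex⟩ := hvec _ hy
    have e : r = s := hinj r hr s hs (by rw [← ex, Subtype.ext hx, eK.apply_symm_apply])
    subst e
    exact ⟨_, hy, (ReflectionClass.eq_iff hQ hc hw hu hsw hru).1 rfl⟩

/-- A path of six exists among the common neighbours. -/
theorem line_exists (h : Hyp D) (hprim : Cfsg.IsPrimitiveUnderConj D) (h22 : Cfsg.IsOfTypeM22 G D) {a b : G}
    (ha : a ∈ D) (hb : b ∈ D) (hn : ¬ Commute a b) :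
    ∃ p : Fin 6 → G, (∀ k, p k ∈ perp D a ∩ perp D b) ∧
      ∀ k l : Fin 6, Commute (p k) (p l) ↔ ¬ (k.1 + 1 = l.1 ∨ l.1 + 1 = k.1) := by
  obtain ⟨Q, c, vec, hc, hQn, hμ, -, hcom, hsurj⟩ := line_vectors h hprim h22 ha hb hn
  obtain ⟨P, hP, hpol⟩ := exists_path hQn hμ hc
  have hnorm : ∀ k, Q ((P : Matrix (Fin 6) (Fin 6) (ZMod 3)) *ᵥ Pi.single k 1) = c := fun k => by
    rw [hP]
    exact (by decide +kernel : ∀ c : ZMod 3, ∀ k : Fin 6, pathQ c (Pi.single k 1) = c) c k
  choose p hp hpv using fun k => hsurj _ (hnorm k)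
  refine ⟨p, hp, fun k l => ?_⟩
  rcases eq_or_ne k l with rfl | hkl
  · exact ⟨fun _ => by omega, fun _ => Commute.refl _⟩
  have hval : QuadraticMap.polar (⇑Q) (vec (p l)) (vec (p k)) = 0 ↔ c * pathM l k = 0 := by
    rw [← hpol]
    rcases hpv l with e | e <;> rcases hpv k with e' | e' <;> rw [e, e'] <;>
      simp [QuadraticMap.polar_neg_left, QuadraticMap.polar_neg_right]
  have hpne : p k ≠ p l := fun e => by
    have e2 := hpv k
    rw [e] at e2
    have key : ∀ u v : Fin 6 → ZMod 3, (vec (p l) = u ∨ vec (p l) = -u) → (vec (p l) = v ∨ vec (p l) = -v) →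
        u = v ∨ u = -v := by
      intro u v r r'
      rcases r with r | r <;> rcases r' with r' | r'
      · exact Or.inl (r.symm.trans r')
      · exact Or.inr (r.symm.trans r')
      · exact Or.inr (by rw [← r', r, neg_neg])
      · exact Or.inl (neg_injective (r.symm.trans r'))
    have hinjP := Matrix.mulVec_injective_iff_isUnit.2 P.isUnit
    rcases key _ _ e2 (hpv l) with r | r
    · have := congrFun (hinjP r) k
      simp [hkl] at this
    · rw [← Matrix.mulVec_neg] at r
      have := congrFun (hinjP r) k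
      simp [hkl] at this
  rw [hcom _ (hp k) _ (hp l) hpne, hval, mul_eq_zero, or_iff_right hc]
  exact (by decide +kernel : ∀ k l : Fin 6, k ≠ l → (pathM l k = 0 ↔ ¬ (k.1 + 1 = l.1 ∨ l.1 + 1 = k.1))) k l hkl

end CfsgLib.Spor.Tri.Y332
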