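/-
Configurations of transpositions along the diagram Y332 in type M(22): existence and the further relations.
-/
import Cfsg.Agent.Lib.Spor.Tri.Y332Data
import Cfsg.Agent.Lib.Spor.Tri.Y332Chart
import Cfsg.Agent.Lib.Spor.Tri.Y332Line

set_option autoImplicit false
set_option linter.all false

namespace CfsgLib.Spor.Tri.Y332

open Matrix CfsgLib.SU CfsgLib.Spor.TC CfsgLib.Spor.Tri CfsgLib.Spor.Tri.Relations CfsgLib.Spor.Tri.Level

variable {G : Type*} [Group G] [Finite G] {D : Set G}

/-! ### No seven of nondegenerate tree shape among common neighbours -/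

/-- The shape of a path. -/
def chainPar : Fin 7 → Fin 7 := ![0, 0, 1, 2, 3, 4, 5]

/-- The shape of E7. -/
def forkPar : Fin 7 → Fin 7 := ![0, 0, 1, 2, 3, 4, 2]

/-- The edges of a shape. -/
def treeAdj (par : Fin 7 → Fin 7) (k l : Fin 7) : Bool :=
  (k != 0 && par k == l) || (l != 0 && par l == k)

/-- The Gram matrix of a shape. -/
def treeM (par : Fin 7 → Fin 7) : Matrix (Fin 7) (Fin 7) (ZMod 3) :=
  Matrix.of fun k l => if k = l then 2 else if treeAdj par k l then 1 else 0

/-- The inverse for a path. -/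
def chainInv : Matrix (Fin 7) (Fin 7) (ZMod 3) :=
  !![2, 0, 1, 1, 0, 2, 2; 0, 0, 1, 1, 0, 2, 2; 1, 1, 0, 0, 0, 0, 0; 1, 1, 0, 2, 0, 1, 1; 0, 0, 0, 0, 0, 1, 1;
    2, 2, 0, 1, 1, 0, 0; 2, 2, 0, 1, 1, 0, 2]

/-- The inverse for E7. -/
def forkInv : Matrix (Fin 7) (Fin 7) (ZMod 3) :=
  !![2, 0, 1, 0, 2, 2, 1; 0, 0, 1, 0, 2, 2, 1; 1, 1, 0, 0, 0, 0, 0; 0, 0, 0, 0, 1, 1, 0; 2, 2, 0, 1, 1, 1, 0;
    2, 2, 0, 1, 1, 0, 0; 1, 1, 0, 0, 0, 0, 2]

theorem no_tree (h : Hyp D) (hprim : Cfsg.IsPrimitiveUnderConj D) (h22 : Cfsg.IsOfTypeM22 G D) {a b : G}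
    (ha : a ∈ D) (hb : b ∈ D) (hn : ¬ Commute a b) (par : Fin 7 → Fin 7) (hpar : ∀ k, k ≠ 0 → par k < k)
    (hsep : ∀ k l, k ≠ l → ∃ j, treeAdj par k j ≠ treeAdj par l j)
    (N : Matrix (Fin 7) (Fin 7) (ZMod 3)) (hN : treeM par * N = 1)
    (p : Fin 7 → G) (hp : ∀ k, p k ∈ perp D a ∩ perp D b)
    (hc : ∀ k l, Commute (p k) (p l) ↔ treeAdj par k l = false) : False := by
  obtain ⟨Q, c, vec, hc0, hQn, -, hnorm, hcom, -⟩ := line_vectors h hprim h22 ha hb hn
  have hne : ∀ k l, k ≠ l → p k ≠ p l := fun k l hkl e => by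
    obtain ⟨j, hj⟩ := hsep k l hkl
    apply hj
    have h1 := hc k j
    rw [e, hc l j] at h1
    cases h1' : treeAdj par k j <;> cases h2' : treeAdj par l j <;> simp_all
  have hsigns : ∀ x : ZMod 3, ∀ c : ZMod 3, x ≠ 0 → c ≠ 0 → x = c ∨ -x = c := by decide
  -- choose signs along the tree
  have hu : ∀ m : ℕ, ∃ u : Fin 7 → Fin 6 → ZMod 3, (∀ k, u k = vec (p k) ∨ u k = -vec (p k)) ∧
      ∀ k : Fin 7, k.1 < m → k ≠ 0 → QuadraticMap.polar (⇑Q) (u k) (u (par k)) = c := by
    intro m
    induction m with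
    | zero => exact ⟨fun k => vec (p k), fun k => Or.inl rfl, fun k hk => absurd hk (Nat.not_lt_zero _)⟩
    | succ m ih =>
      obtain ⟨u, hu1, hu2⟩ := ih
      by_cases hm : m < 7 ∧ m ≠ 0
      swap
      · refine ⟨u, hu1, fun k hk hk0 => hu2 k ?_ hk0⟩
        have h1 : k.1 ≠ 0 := fun e => hk0 (Fin.ext e)
        omega
      set q : Fin 7 := ⟨m, hm.1⟩
      have hq0 : q ≠ 0 := fun e => hm.2 (congrArg Fin.val e)
      have hlt := hpar q hq0
      have hx : QuadraticMap.polar (⇑Q) (u q) (u (par q)) ≠ 0 := by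
        have key : QuadraticMap.polar (⇑Q) (vec (p q)) (vec (p (par q))) ≠ 0 := fun e => by
          have h1 := (hcom _ (hp (par q)) _ (hp q) (hne _ _ (ne_of_lt hlt))).2 e
          rw [hc] at h1
          simp [treeAdj, hq0] at h1
        rcases hu1 q with e | e <;> rcases hu1 (par q) with e' | e' <;> rw [e, e'] <;>
          simpa [QuadraticMap.polar_neg_left, QuadraticMap.polar_neg_right] using key
      have hother : ∀ (y : Fin 6 → ZMod 3), ∀ k : Fin 7, k ≠ 0 → k.1 < m →
          QuadraticMap.polar (⇑Q) (Function.update u q y k) (Function.update u q y (par k)) = c := by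
        intro y k hk0 hk
        have h1 := hpar k hk0
        rw [Function.update_of_ne (fun e => by rw [e] at hk; exact lt_irrefl m hk),
          Function.update_of_ne (fun e => by rw [e] at h1; exact absurd h1 (by simp [Fin.lt_def, q]; omega))]
        exact hu2 k hk hk0
      rcases hsigns _ c hx hc0 with e | e
      · refine ⟨u, hu1, fun k hk hk0 => ?_⟩
        rcases Nat.lt_or_eq_of_le (Nat.le_of_lt_succ hk) with r | r
        · exact hu2 k r hk0
        · rw [show k = q from Fin.ext r]; exact e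
      · refine ⟨Function.update u q (-(u q)), fun k => ?_, fun k hk hk0 => ?_⟩
        · rcases eq_or_ne k q with rfl | r
          · rw [Function.update_self]
            exact (hu1 q).symm.imp (fun r => by rw [r, neg_neg]) (fun r => by rw [r])
          · rw [Function.update_of_ne r]; exact hu1 k
        · rcases Nat.lt_or_eq_of_le (Nat.le_of_lt_succ hk) with r | r
          · exact hother _ k hk0 r
          · rw [show k = q from Fin.ext r, Function.update_self, Function.update_of_ne (ne_of_lt hlt),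
              QuadraticMap.polar_neg_left]
            exact e
  obtain ⟨u, hu1, hu2⟩ := hu 7
  have gram : ∀ k l, QuadraticMap.polar (⇑Q) (u k) (u l) = c * treeM par k l := by
    intro k l
    rcases eq_or_ne k l with rfl | hkl
    · have e : Q (u k) = c := by
        rcases hu1 k with e | e <;> rw [e]
        · exact hnorm _ (hp k)
        · rw [QuadraticMap.map_neg]; exact hnorm _ (hp k)
      rw [CfsgLib.Classical.polar_self_two, e]
      simp [treeM, mul_comm]
    cases hadj : treeAdj par k l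
    · have h1 := (hcom _ (hp l) _ (hp k) (hne _ _ hkl.symm)).1 ((hc k l).2 hadj).symm
      rw [show treeM par k l = 0 by simp [treeM, hkl, hadj], mul_zero]
      rcases hu1 k with e | e <;> rcases hu1 l with e' | e' <;> rw [e, e'] <;>
        simp [QuadraticMap.polar_neg_left, QuadraticMap.polar_neg_right, h1]
    · rw [show treeM par k l = 1 by simp [treeM, hkl, hadj], mul_one]
      simp only [treeAdj, Bool.or_eq_true, Bool.and_eq_true, bne_iff_ne, beq_iff_eq] at hadj
      rcases hadj with ⟨r0, rfl⟩ | ⟨r0, rfl⟩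
      · exact hu2 k k.2 r0
      · rw [QuadraticMap.polar_comm]; exact hu2 l l.2 r0
  have hli : LinearIndependent (ZMod 3) u := by
    refine Fintype.linearIndependent_iff.2 fun g hg => ?_
    have h1 : ∀ l, Matrix.vecMul g (treeM par) l = 0 := fun l => by
      have e : QuadraticMap.polar (⇑Q) (∑ k, g k • u k) (u l) = c * Matrix.vecMul g (treeM par) l := by
        have e1 : QuadraticMap.polar (⇑Q) (∑ k, g k • u k) (u l) = QuadraticMap.polarBilin Q (∑ k, g k • u k) (u l) := rfl
        rw [e1, map_sum, LinearMap.sum_apply, Matrix.vecMul, dotProduct, Finset.mul_sum]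
        refine Finset.sum_congr rfl fun k _ => ?_
        rw [map_smul, LinearMap.smul_apply, QuadraticMap.polarBilin_apply_apply, gram, smul_eq_mul]
        ring
      rw [hg] at e
      simp [hc0] at e
      exact e
    have h2 : g = 0 := by
      have h3 : Matrix.vecMul (Matrix.vecMul g (treeM par)) N = g := by rw [Matrix.vecMul_vecMul, hN, Matrix.vecMul_one]
      rw [funext h1] at h3
      rw [← h3]
      exact Matrix.zero_vecMul N
    exact congrFun h2
  have := hli.fintype_card_le_finrank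
  simp at this

theorem no_chain (h : Hyp D) (hprim : Cfsg.IsPrimitiveUnderConj D) (h22 : Cfsg.IsOfTypeM22 G D) {a b : G}
    (ha : a ∈ D) (hb : b ∈ D) (hn : ¬ Commute a b) (p : Fin 7 → G) (hp : ∀ k, p k ∈ perp D a ∩ perp D b)
    (hc : ∀ k l, Commute (p k) (p l) ↔ treeAdj chainPar k l = false) : False :=
  no_tree h hprim h22 ha hb hn chainPar (by decide) (by decide) chainInv (by decide +kernel) p hp hc

theorem no_fork (h : Hyp D) (hprim : Cfsg.IsPrimitiveUnderConj D) (h22 : Cfsg.IsOfTypeM22 G D) {a b : G}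
    (ha : a ∈ D) (hb : b ∈ D) (hn : ¬ Commute a b) (p : Fin 7 → G) (hp : ∀ k, p k ∈ perp D a ∩ perp D b)
    (hc : ∀ k l, Commute (p k) (p l) ↔ treeAdj forkPar k l = false) : False :=
  no_tree h hprim h22 ha hb hn forkPar (by decide) (by decide) forkInv (by decide +kernel) p hp hc

/-! ### Configurations -/

/-- Nine members in the pattern of the diagram. -/
structure Config (D : Set G) (t : ℕ → G) : Prop where
  mem : ∀ x, t x ∈ D
  comm : ∀ x y, x < 9 → y < 9 → (Commute (t x) (t y) ↔ edge x y = false)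

omit [Finite G] in
theorem edge_lt {x y : ℕ} (h : edge x y = true) : x < 9 ∧ y < 9 := by
  unfold edge at h
  split at h <;> simp_all

variable {t : ℕ → G}

omit [Finite G] in
theorem Config.diag (h : Hyp D) (hC : Config D t) : Diag t where
  sq x := h.mul_self (hC.mem x)
  comm x y hx hy e := ((hC.comm x y hx hy).2 e).eq
  braid x y e := by
    have hn : ¬ Commute (t x) (t y) := fun r => by
      rw [hC.comm x y (edge_lt e).1 (edge_lt e).2, e] at r
      exact Bool.noConfusion r
    exact h.braid (hC.mem x) (hC.mem y) hn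

omit [Finite G] in
theorem Config.ncomm (hC : Config D t) {x y : ℕ} (e : edge x y = true) : ¬ Commute (t x) (t y) := fun r => by
  rw [hC.comm x y (edge_lt e).1 (edge_lt e).2, e] at r
  exact Bool.noConfusion r

omit [Finite G] in
theorem Config.mem_perp (hC : Config D t) {x y : ℕ} (hx : x < 9) (hy : y < 9) (e : edge x y = false) (z : ℕ)
    (hz : z < 9) (hd : edge x z ≠ edge y z) : t y ∈ perp D (t x) :=
  ⟨hC.mem y, fun r => hd (by
    have h1 := hC.comm x z hx hz
    rw [← r, hC.comm y z hy hz] at h1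
    cases h1' : edge x z <;> cases h2' : edge y z <;> simp_all), (hC.comm x y hx hy).2 e⟩

/-- The six at the first node. -/
def six (k : Fin 6) : ℕ := ![8, 7, 3, 4, 5, 6] k

theorem six_lt : ∀ k, six k < 9 := by decide

theorem six_edge : ∀ k l : Fin 6, edge (six k) (six l) = decide (k.1 + 1 = l.1 ∨ l.1 + 1 = k.1) := by decide

omit [Finite G] in
theorem Config.six_perp (hC : Config D t) (k : Fin 6) : t (six k) ∈ perp D (t 0) ∩ perp D (t 1) := by
  have key : ∀ k : Fin 6, edge 0 (six k) = false ∧ edge 1 (six k) = false ∧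
      edge 0 1 ≠ edge (six k) 1 ∧ edge 1 0 ≠ edge (six k) 0 := by decide
  obtain ⟨k0, k1, d0, d1⟩ := key k
  exact ⟨hC.mem_perp (by omega) (six_lt k) k0 1 (by omega) d0, hC.mem_perp (by omega) (six_lt k) k1 0 (by omega) d1⟩

section local_

variable {F : Type} [Field F] [Fintype F] {hF : Fintype.card F = 4} {C : UCtx F 2}
  {vec : G → Fin 6 → F} {x : G} {π : ↥(Subgroup.centralizer ({x} : Set G)) →* Cfsg.PSU 6 F 2}

omit [Finite G] in
theorem Chart.path (hch : Chart C hF D x vec π) {p : Fin 6 → G} (hp : ∀ k, p k ∈ perp D x)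
    (hc : ∀ k l : Fin 6, Commute (p k) (p l) ↔ ¬ (k.1 + 1 = l.1 ∨ l.1 + 1 = k.1)) :
    Path C fun k => vec (p k) := by
  refine ⟨fun k l e r => ?_, fun k l e1 e2 => (hch.comm _ (hp k) _ (hp l)).1 ((hc k l).2 (by omega))⟩
  exact (hc k l).1 ((hch.comm _ (hp k) _ (hp l)).2 r) e

omit [Finite G] in
theorem Chart.fixes (hch : Chart C hF D x vec π) {u y : G} (hu : u ∈ Subgroup.centralizer ({x} : Set G))
    (hy : y ∈ perp D x) (h : Commute u y) (hv : C.form (vec y) (vec y) = 0) :
    Commute (π ⟨u, hu⟩) (U6.pt C hF (vec y) hv) := by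
  have hm : y ∈ Subgroup.centralizer ({x} : Set G) := Subgroup.mem_centralizer_singleton_iff.2 hy.2.2.symm.eq
  rw [← hch.map y hy hm hv]
  exact (show Commute (⟨u, hu⟩ : ↥(Subgroup.centralizer ({x} : Set G))) ⟨y, hm⟩ from Subtype.ext h.eq).map π

end local_

/-- A power commuting with the first six: its fourth power is trivial. -/
theorem fourth_power (h : Hyp D) (hprim : Cfsg.IsPrimitiveUnderConj D) (h22 : Cfsg.IsOfTypeM22 G D)
    (hC : Config D t) {u : G} (hu : ∀ x, x ∈ [1, 2, 3, 4, 5, 8] → Commute u (t x)) : u ^ 4 = 1 := by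
  obtain ⟨F, hFf, hFt, hF, C, hch⟩ := exists_charts h hprim h22
  letI := hFf; letI := hFt
  obtain ⟨vec, π, hch⟩ := hch (t 8) (hC.mem 8)
  have hp : ∀ k : Fin 6, t k.1 ∈ perp D (t 8) := fun k => by
    have key : ∀ k : Fin 6, edge 8 k.1 = false ∧ edge 8 7 ≠ edge k.1 7 ∨ edge 8 k.1 = false ∧ edge 8 2 ≠ edge k.1 2 := by
      decide
    rcases key k with ⟨e, d⟩ | ⟨e, d⟩
    · exact hC.mem_perp (by omega) (by omega) e 7 (by omega) d
    · exact hC.mem_perp (by omega) (by omega) e 2 (by omega) d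
  have hpath := hch.path hp fun k l => by
    rw [hC.comm k.1 l.1 (by omega) (by omega)]
    exact (by decide : ∀ k l : Fin 6, edge k.1 l.1 = false ↔ ¬ (k.1 + 1 = l.1 ∨ l.1 + 1 = k.1)) k l
  have hum : u ∈ Subgroup.centralizer ({t 8} : Set G) :=
    Subgroup.mem_centralizer_singleton_iff.2 (hu 8 (by simp)).eq
  obtain ⟨h2, -⟩ := hpath.five hF (g := π ⟨u, hum⟩) fun k hk hv => hch.fixes hum (hp k) (hu _ (by
    have key : ∀ k : Fin 6, k ≠ 0 → k.1 ∈ [1, 2, 3, 4, 5, 8] := by decide
    exact key k hk)) hv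
  rw [← map_mul] at h2
  rw [show u ^ 4 = (u * u) * (u * u) by simp only [pow_succ, pow_zero, one_mul, mul_assoc]]
  rcases hch.ker _ h2 with r | r
  · have r' : u * u = 1 := r
    rw [r', mul_one]
  · have r' : u * u = t 8 := r
    rw [r', h.mul_self (hC.mem 8)]

/-- An element commuting with seven nodes of shape E7 is trivial. -/
theorem center_one (h : Hyp D) (hprim : Cfsg.IsPrimitiveUnderConj D) (h22 : Cfsg.IsOfTypeM22 G D)
    (hC : Config D t) {z : G} (hz : ∀ x, x ∈ [0, 1, 2, 3, 4, 5, 7] → Commute z (t x)) : z = 1 := by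
  obtain ⟨F, hFf, hFt, hF, C, hch⟩ := exists_charts h hprim h22
  letI := hFf; letI := hFt
  obtain ⟨vec, π, hch⟩ := hch (t 0) (hC.mem 0)
  have hp : ∀ k : Fin 6, t (six k) ∈ perp D (t 0) := fun k => (hC.six_perp k).1
  have hcsix : ∀ k l : Fin 6, Commute (t (six k)) (t (six l)) ↔ ¬ (k.1 + 1 = l.1 ∨ l.1 + 1 = k.1) := fun k l => by
    rw [hC.comm _ _ (six_lt k) (six_lt l), six_edge]; simp
  have hpath := hch.path hp hcsix
  set v : Fin 6 → Fin 6 → F := fun k => vec (t (six k)) with hvdef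
  have hc2 : t 2 ∈ perp D (t 0) := hC.mem_perp (by omega) (by omega) (by decide) 3 (by omega) (by decide)
  have hzm : z ∈ Subgroup.centralizer ({t 0} : Set G) :=
    Subgroup.mem_centralizer_singleton_iff.2 (hz 0 (by simp)).eq
  set g := π ⟨z, hzm⟩ with hg
  obtain ⟨A, hA⟩ := QuotientGroup.mk'_surjective (Subgroup.center ↥(Cfsg.SU 6 F 2)) g
  have hfix : ∀ {y : G} (hy : y ∈ perp D (t 0)), Commute z y → ∃ s : F, s ≠ 0 ∧ A.1.1 *ᵥ vec y = s • vec y :=
    fun {y} hy e => eigen_of_commute hF (hu := hch.iso y hy) (hch.ne y hy) (by rw [hA]; exact hch.fixes hzm hy e (hch.iso y hy))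
  obtain ⟨sc, hsc, ec⟩ := hfix hc2 (hz 2 (by simp))
  obtain ⟨sd, hsd, ed⟩ : ∃ s : F, s ≠ 0 ∧ A.1.1 *ᵥ v 2 = s • v 2 := hfix (hp 2) (hz 3 (by simp))
  obtain ⟨se, hse, ee⟩ : ∃ s : F, s ≠ 0 ∧ A.1.1 *ᵥ v 3 = s • v 3 := hfix (hp 3) (hz 4 (by simp))
  have fcd : C.form (vec (t 2)) (v 2) ≠ 0 := fun r =>
    hC.ncomm (x := 2) (y := 3) (by decide) ((hch.comm _ hc2 _ (hp 2)).2 r)
  have q1 : sc = sd := eigen_eq hF ec ed hsd fcd
  have q2 : se = sd := eigen_eq hF ee ed hsd (hpath.adj 3 2 (by decide))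
  rw [q1] at ec
  rw [q2] at ee
  -- the third node is a combination of two of the six
  set γ := C.form (v 3) (v 4) / C.form (v 5) (v 4) with hγdef
  set ρ := C.form (vec (t 2)) (v 2) / C.form (v 3) (v 2) with hρdef
  have a54 : C.form (v 5) (v 4) ≠ 0 := hpath.adj 5 4 (by decide)
  have a32 : C.form (v 3) (v 2) ≠ 0 := hpath.adj 3 2 (by decide)
  have a34 : C.form (v 3) (v 4) ≠ 0 := hpath.adj 3 4 (by decide)
  have hγ : γ ≠ 0 := div_ne_zero a34 a54
  have hρ : ρ ≠ 0 := div_ne_zero fcd a32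
  have hc : vec (t 2) = ρ • (v 3 + γ • v 5) := hpath.ext fun j => by
    rw [C.form_smul_left, C.form_add_left, C.form_smul_left]
    have hz2 : ∀ j : Fin 6, j ≠ 2 → C.form (vec (t 2)) (v j) = 0 := fun j hj =>
      (hch.comm _ hc2 _ (hp j)).1 ((hC.comm 2 (six j) (by omega) (six_lt j)).2
        ((by decide : ∀ j : Fin 6, j ≠ 2 → edge 2 (six j) = false) j hj))
    rcases eq_or_ne j 2 with rfl | hj
    · rw [hpath.far 5 2 (by decide) (by decide), mul_zero, add_zero, hρdef, div_mul_cancel₀ _ a32]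
    rw [hz2 j hj]
    rcases eq_or_ne j 4 with rfl | hj4
    · rw [hγdef, div_mul_cancel₀ _ a54]
      linear_combination -(ρ * C.form (v 3) (v 4)) * Relations.one_add_one hF
    · rw [hpath.far 3 j (fun e => hj4 (Fin.ext e.symm)) (fun e => hj (Fin.ext (Nat.succ_injective e))),
        hpath.far 5 j (fun e => absurd j.2 (by simp at e; omega)) (fun e => hj4 (Fin.ext (Nat.succ_injective e))),
        mul_zero, add_zero, mul_zero]
  have eg : A.1.1 *ᵥ v 5 = sd • v 5 := by
    have e := ec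
    rw [hc, Matrix.mulVec_smul, Matrix.mulVec_add, Matrix.mulVec_smul, ee, smul_comm sd ρ, smul_add sd,
      smul_comm sd γ] at e
    exact smul_right_injective _ hγ (add_left_cancel (smul_right_injective _ hρ e))
  have hg6 : ∀ k : Fin 6, k ≠ 0 → ∀ hv, Commute g (U6.pt C hF (v k) hv) := by
    intro k hk hv
    by_cases h5 : k = 5
    · subst h5
      rw [← hA]
      refine mul_inv_eq_iff_eq_mul.1 ?_
      exact (U6.pr_conj_pt C hF A _ hv).trans (U6.pt_smul C hF hsd eg)
    · exact hch.fixes hzm (hp k) (hz _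
        ((by decide : ∀ k : Fin 6, k ≠ 0 → k ≠ 5 → six k ∈ [0, 1, 2, 3, 4, 5, 7]) k hk h5)) hv
  obtain ⟨-, h1 | ⟨β, γ', hr, hr0, hr1, hgr⟩⟩ := hpath.five hF hg6
  · rcases hch.ker _ h1 with r | r
    · exact r
    · have r' : z = t 0 := r
      exact absurd (r' ▸ hz 1 (by simp)) (hC.ncomm (x := 0) (y := 1) (by decide))
  -- the transvection is a member of the common neighbours
  exfalso
  set r := v 1 + β • v 3 + γ' • v 5
  have hr0' : r ≠ 0 := fun e => hr1 (by rw [e, show (0 : Fin 6 → F) = (0 : F) • v 0 by rw [zero_smul], C.form_smul_left, zero_mul])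
  obtain ⟨R, hR, s, hs, eR⟩ := hch.surj r hr hr0'
  have hRm : R ∈ Subgroup.centralizer ({t 0} : Set G) := Subgroup.mem_centralizer_singleton_iff.2 hR.2.2.symm.eq
  have hπR : π ⟨R, hRm⟩ = g := by
    rw [hgr, hch.map R hR hRm (hch.iso R hR)]
    exact U6.pt_smul C hF hs eR
  have hzR : z = R ∨ z = t 0 * R := by
    have h1 : π (⟨z, hzm⟩ * ⟨R, hRm⟩⁻¹) = 1 := by rw [map_mul, map_inv, hπR, ← hg, mul_inv_cancel]
    rcases hch.ker _ h1 with q | q
    · left
      exact mul_inv_eq_one.1 q
    · right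
      have q' : z * R⁻¹ = t 0 := q
      rw [← q', inv_mul_cancel_right]
  have hbR : Commute R (t 1) := by
    have hzb : Commute z (t 1) := hz 1 (by simp)
    rcases hzR with q | q
    · exact q ▸ hzb
    · by_contra hn
      have hnab := hC.ncomm (x := 0) (y := 1) (by decide)
      rw [q] at hzb
      have haR : Commute (t 0) R := hR.2.2
      have b1 : t 1 * t 0 * t 1 = t 0 * t 1 * t 0 := ((hC.diag h).braid 0 1 (by decide)).symm
      have b2 : t 1 * R * t 1 = R * t 1 * R := h.braid (hC.mem 1) hR.1 fun e => hn e.symm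
      have hb2 := h.mul_self (hC.mem 1)
      have ha2 := h.mul_self (hC.mem 0)
      have hR2 := h.mul_self hR.1
      -- conjugating the product by the second node fixes it
      have e1 : t 1 * (t 0 * R) * t 1 = t 0 * R := by rw [← hzb.eq, mul_assoc, hb2, mul_one]
      have e2 : t 0 * t 1 * (t 0 * R) * t 1 * R = t 0 * R := by
        calc t 0 * t 1 * (t 0 * R) * t 1 * R = (t 0 * t 1 * t 0) * (R * t 1 * R) := by group
          _ = (t 1 * t 0 * t 1) * (t 1 * R * t 1) := by rw [b1, b2]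
          _ = t 1 * t 0 * (t 1 * t 1) * R * t 1 := by group
          _ = t 1 * (t 0 * R) * t 1 := by rw [hb2]; group
          _ = t 0 * R := e1
      rw [show t 0 * t 1 * (t 0 * R) * t 1 * R = t 0 * (t 1 * (t 0 * R) * t 1) * R by group, e1] at e2
      have e3 : t 0 * (t 0 * R) * R = 1 := by rw [← mul_assoc, ha2, one_mul, hR2]
      rw [e3] at e2
      refine hR.2.1 ?_
      rw [← h.inv_eq (hC.mem 0)]
      exact eq_inv_of_mul_eq_one_right e2.symm
  have hab := hC.ncomm (x := 0) (y := 1) (by decide)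
  have hRb : R ≠ t 1 := fun e => hab (e ▸ hR.2.2)
  have hRv : ∀ k : Fin 6, Commute R (t (six k)) ↔ k ≠ 0 := fun k => by
    rw [hch.comm R hR _ (hp k), eR, C.form_smul_left, mul_eq_zero, or_iff_right hs]
    exact ⟨fun e hk => hr1 (hk ▸ e), hr0 k⟩
  refine no_chain h hprim h22 (hC.mem 0) (hC.mem 1) hab (Fin.cons R fun k => t (six k)) ?_ ?_
  · intro k
    refine Fin.cases ?_ (fun k => ?_) k
    · exact ⟨hR, hR.1, hRb, hbR.symm⟩
    · exact hC.six_perp k
  · intro k l
    refine Fin.cases ?_ (fun k => ?_) k <;> refine Fin.cases ?_ (fun l => ?_) l <;>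
      simp only [Fin.cons_zero, Fin.cons_succ]
    · exact iff_of_true (Commute.refl R) (by decide)
    · rw [hRv l]
      exact (by decide : ∀ l : Fin 6, l ≠ 0 ↔ treeAdj chainPar 0 l.succ = false) l
    · rw [Commute.symm_iff, hRv k]
      exact (by decide : ∀ k : Fin 6, k ≠ 0 ↔ treeAdj chainPar k.succ 0 = false) k
    · rw [hcsix k l]
      exact (by decide : ∀ k l : Fin 6, ¬ (k.1 + 1 = l.1 ∨ l.1 + 1 = k.1) ↔
        treeAdj chainPar k.succ l.succ = false) k l

/-- The translation has order dividing three. -/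
theorem trans_cube (h : Hyp D) (hprim : Cfsg.IsPrimitiveUnderConj D) (h22 : Cfsg.IsOfTypeM22 G D)
    (hC : Config D t) : ev t trans ^ 3 = 1 := by
  have hg := hC.diag h
  set p := ev t theta with hp
  have htr : ev t trans = t 1 * p := by
    rw [hp, show trans = [1] ++ theta from rfl, ev_append]
    simp [ev]
  have hpD : p ∈ D := by
    rw [hp, show theta = thetaV ++ [thetaX] ++ thetaV.reverse by decide, ev_append, ev_append, ev_rev hg,
      show ev t [thetaX] = t thetaX by simp [ev]]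
    exact h.conj _ _ (hC.mem _)
  rw [htr]
  by_cases hne : t 1 = p
  · rw [← hne, h.mul_self (hC.mem 1), one_pow]
  rcases h.set.2 _ (hC.mem 1) _ hpD with r | r
  swap
  · exact r
  exfalso
  have hbp : Commute (t 1) p := (h.commute_iff_sq (hC.mem 1) hpD).2 r
  have hab := hC.ncomm (x := 0) (y := 1) (by decide)
  have hap : Commute (t 0) p := by
    refine Subgroup.mem_centralizer_singleton_iff.1 (ev_mem (g := t) fun x hx => ?_) |> fun e => e.symm
    refine Subgroup.mem_centralizer_singleton_iff.2 ((hC.comm x 0 ?_ (by omega)).2 ?_).eq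
    · exact (by decide : ∀ x ∈ theta, x < 9) x hx
    · exact (by decide : ∀ x ∈ theta, edge x 0 = false) x hx
  have hpa : p ∈ perp D (t 0) := ⟨hpD, fun e => hab (e ▸ hbp).symm, hap⟩
  have hpb : p ∈ perp D (t 1) := ⟨hpD, Ne.symm hne, hbp⟩
  obtain ⟨F, hFf, hFt, hF, C, hch⟩ := exists_charts h hprim h22
  letI := hFf; letI := hFt
  obtain ⟨vec, π, hch⟩ := hch (t 0) (hC.mem 0)
  have hp6 : ∀ k : Fin 6, t (six k) ∈ perp D (t 0) := fun k => (hC.six_perp k).1
  have hcsix : ∀ k l : Fin 6, Commute (t (six k)) (t (six l)) ↔ ¬ (k.1 + 1 = l.1 ∨ l.1 + 1 = k.1) := fun k l => by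
    rw [hC.comm _ _ (six_lt k) (six_lt l), six_edge]; simp
  have hpath := hch.path hp6 hcsix
  have hfive : ∀ k : Fin 6, k ≠ 5 → Commute p (t (six k)) := by
    intro k hk
    fin_cases k <;> simp at hk ⊢
    · exact (theta_comm_i hg).symm
    · exact (theta_comm_h hg).symm
    · exact (theta_comm_d hg).symm
    · exact (theta_comm_e hg).symm
    · exact (theta_comm_f hg).symm
  have hpv : ∀ k : Fin 6, Commute p (t (six k)) ↔ k ≠ 5 := by
    refine fun k => ⟨fun e hk => hch.ne p hpa ?_, hfive k⟩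
    subst hk
    refine hpath.ext fun j => ?_
    rw [show C.form (0 : Fin 6 → F) (vec (t (six j))) = 0 by
      rw [show (0 : Fin 6 → F) = (0 : F) • vec p by rw [zero_smul], C.form_smul_left, zero_mul]]
    refine (hch.comm p hpa _ (hp6 j)).1 ?_
    rcases eq_or_ne j 5 with rfl | hj
    · exact e
    · exact hfive j hj
  refine no_chain h hprim h22 (hC.mem 0) (hC.mem 1) hab (Fin.cons p fun k => t (six k.rev)) ?_ ?_
  · intro k
    refine Fin.cases ?_ (fun k => ?_) k
    · exact ⟨hpa, hpb⟩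
    · exact hC.six_perp k.rev
  · intro k l
    refine Fin.cases ?_ (fun k => ?_) k <;> refine Fin.cases ?_ (fun l => ?_) l <;>
      simp only [Fin.cons_zero, Fin.cons_succ]
    · exact iff_of_true (Commute.refl p) (by decide)
    · rw [hpv]
      exact (by decide : ∀ l : Fin 6, l.rev ≠ 5 ↔ treeAdj chainPar 0 l.succ = false) l
    · rw [Commute.symm_iff, hpv]
      exact (by decide : ∀ k : Fin 6, k.rev ≠ 5 ↔ treeAdj chainPar k.succ 0 = false) k
    · rw [hcsix k.rev l.rev]
      exact (by decide : ∀ k l : Fin 6, ¬ (k.rev.1 + 1 = l.rev.1 ∨ l.rev.1 + 1 = k.rev.1) ↔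
        treeAdj chainPar k.succ l.succ = false) k l

omit [Finite G] in
theorem blk_one {g : ℕ → G} (hg : Diag g) (h3 : ev g trans ^ 3 = 1) (w : List ℕ) (pos : Bool) {k : ℕ}
    (hk : k % 3 = 0) : ev g (blk w k pos) = 1 := by
  obtain ⟨j, rfl⟩ : ∃ j, k = 3 * j := ⟨k / 3, by omega⟩
  rw [blk, ev_append, ev_append, ev_powWord, ev_rev hg, pow_mul]
  cases pos
  · simp [ev_rev hg, inv_pow, h3]
  · simp [h3]

omit [Finite G] in
theorem blk_eq {g : ℕ → G} (hg : Diag g) (w : List ℕ) (k : ℕ) (pos : Bool) :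
    ev g (blk w k pos) = MulAut.conj (ev g w) ((if pos then ev g trans else (ev g trans)⁻¹) ^ k) := by
  rw [blk, ev_append, ev_append, ev_powWord, ev_rev hg, MulAut.conj_apply]
  cases pos <;> simp [ev_rev hg]

/-- The three further relations. -/
theorem relations (h : Hyp D) (hprim : Cfsg.IsPrimitiveUnderConj D) (h22 : Cfsg.IsOfTypeM22 G D)
    (hC : Config D t) : ev t [3, 2, 1, 3, 4, 5, 3, 7, 8] ^ 10 = 1 ∧ ev t [0, 1, 2, 3, 4, 5, 7] ^ 9 = 1 ∧
      ev t [1, 2, 3, 4, 5, 6, 7] ^ 9 = 1 := by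
  have hg := hC.diag h
  have h3 := trans_cube h hprim h22 hC
  refine ⟨?_, ?_, ?_⟩
  · rw [← ev_powWord]
    show ev t spider = 1
    set u := ev t spider with hu
    have hmove : ∀ x, ev t ([x] ++ spider ++ [x] ++ spider.reverse) = 1 → Commute u (t x) := fun x e => by
      rw [ev_append, ev_append, ev_append, ev_rev hg] at e
      rw [show ev t [x] = t x by simp [ev], ← hu] at e
      have e2 : t x * u * t x = u := eq_of_mul_inv_eq_one e
      show u * t x = t x * u
      calc u * t x = t x * u * t x * t x := by rw [e2]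
        _ = t x * u := by rw [mul_assoc (t x * u), hg.sq, mul_one]
    have hu' : ∀ x, x ∈ [1, 2, 3, 4, 5, 8] → Commute u (t x) := by
      intro x hx
      simp at hx
      rcases hx with rfl | rfl | rfl | rfl | rfl | rfl
      · exact hmove 1 ((spider_move_b hg).trans (blk_one hg h3 _ _ (by norm_num)))
      · exact hmove 2 ((spider_move_c hg).trans (blk_one hg h3 _ _ (by norm_num)))
      · exact hmove 3 ((spider_move_d hg).trans (blk_one hg h3 _ _ (by norm_num)))
      · exact (spider_comm_e hg).symm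
      · exact hmove 5 ((spider_move_f hg).trans (blk_one hg h3 _ _ (by norm_num)))
      · exact hmove 8 ((spider_move_i hg).trans (blk_one hg h3 _ _ (by norm_num)))
    have h4 := fourth_power h hprim h22 hC hu'
    have hcube : u ^ 3 = 1 := by
      have e := spider_eq hg
      rw [← hu] at e
      simp only [ev_append] at e
      rw [blk_one hg h3 _ _ (k := 3) (by norm_num), blk_one hg h3 _ _ (k := 3) (by norm_num), one_mul, one_mul] at e
      set T := fun w => MulAut.conj (ev t w) (ev t trans) with hT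
      have hcm : ∀ a b, ev t (blk a 1 true ++ blk b 1 true) = ev t (blk b 1 true ++ blk a 1 true) →
          Commute (T a) (T b) := fun a b e => by
        simpa [ev_append, blk_eq hg, hT, Commute, SemiconjBy] using e
      have hT3 : ∀ w, T w ^ 3 = 1 := fun w => by rw [hT, ← map_pow, h3, map_one]
      simp only [blk_eq hg, pow_one, map_inv, map_pow, Bool.false_eq_true, if_true, if_false] at e
      change u = (T conv_e)⁻¹ * T conv_f * T conv_h * T conv_i ^ 2 at e
      have cef := hcm _ _ (trans_comm_ef hg)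
      have ceh := hcm _ _ (trans_comm_eh hg)
      have cei := hcm _ _ (trans_comm_ei hg)
      have cfh := hcm _ _ (trans_comm_fh hg)
      have cfi := hcm _ _ (trans_comm_fi hg)
      have chi := hcm _ _ (trans_comm_hi hg)
      rw [e, (((cei.inv_left).pow_right 2).mul_left (cfi.pow_right 2) |>.mul_left (chi.pow_right 2)).mul_pow,
        ((ceh.inv_left).mul_left cfh).mul_pow, cef.inv_left.mul_pow, inv_pow, ← pow_mul, mul_comm 2 3, pow_mul,
        hT3, hT3, hT3, hT3]
      simp
    rw [show u = u ^ 4 * (u ^ 3)⁻¹ by group, h4, hcube]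
    simp
  · rw [← ev_powWord]
    refine center_one h hprim h22 hC fun x hx => ?_
    simp at hx
    rcases hx with rfl | rfl | rfl | rfl | rfl | rfl | rfl
    exacts [(zA_comm_a hg).symm, (zA_comm_b hg).symm, (zA_comm_c hg).symm, (zA_comm_d hg).symm,
      (zA_comm_e hg).symm, (zA_comm_f hg).symm, (zA_comm_h hg).symm]
  · rw [← ev_powWord]
    let σ : ℕ → ℕ := fun x => [6, 5, 4, 3, 2, 1, 0, 7, 8].getD x x
    have hC' : Config D (fun x => t (σ x)) := ⟨fun x => hC.mem _, fun x y hx hy => by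
      have key : ∀ x : Fin 9, ∀ y : Fin 9, [6, 5, 4, 3, 2, 1, 0, 7, 8].getD x.1 x.1 < 9 ∧
          edge ([6, 5, 4, 3, 2, 1, 0, 7, 8].getD x.1 x.1) ([6, 5, 4, 3, 2, 1, 0, 7, 8].getD y.1 y.1) =
            edge x.1 y.1 := by decide +kernel
      rw [hC.comm _ _ (key ⟨x, hx⟩ ⟨y, hy⟩).1 (key ⟨y, hy⟩ ⟨x, hx⟩).1, show edge (σ x) (σ y) = edge x y from
        (key ⟨x, hx⟩ ⟨y, hy⟩).2]⟩
    refine center_one h hprim h22 hC' fun x hx => ?_
    simp at hx
    rcases hx with rfl | rfl | rfl | rfl | rfl | rfl | rfl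
    exacts [(zG_comm_g hg).symm, (zG_comm_f hg).symm, (zG_comm_e hg).symm, (zG_comm_d hg).symm,
      (zG_comm_c hg).symm, (zG_comm_b hg).symm, (zG_comm_h hg).symm]

/-- A configuration exists. -/
theorem exists_config (h : Hyp D) (hprim : Cfsg.IsPrimitiveUnderConj D) (h22 : Cfsg.IsOfTypeM22 G D) :
    ∃ t, Config D t := by
  obtain ⟨L, -⟩ := lev22 h hprim h22
  obtain ⟨a, ha, -⟩ := hprim.2.1
  obtain ⟨b, hb, hn⟩ : ∃ b ∈ D, ¬ Commute a b := by
    by_contra hcon
    push Not at hcon
    have hc : a ∈ Subgroup.center G := mem_center_of_gen h.gen fun s hs => (hcon s hs).symm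
    rw [L.center, Subgroup.mem_bot] at hc
    exact h.ne_one ha hc
  obtain ⟨p, hp, hpc⟩ := line_exists h hprim h22 ha hb hn
  obtain ⟨F, hFf, hFt, hF, C, hch⟩ := exists_charts h hprim h22
  letI := hFf; letI := hFt
  obtain ⟨vec, π, hch⟩ := hch a ha
  have hpath := hch.path (fun k => (hp k).1) hpc
  set v : Fin 6 → Fin 6 → F := fun k => vec (p k) with hvdef
  have a54 : C.form (v 5) (v 4) ≠ 0 := hpath.adj 5 4 (by decide)
  set r := v 3 + (C.form (v 3) (v 4) / C.form (v 5) (v 4)) • v 5 with hr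
  have hr0 : C.form r (v 0) = 0 ∧ C.form r (v 1) = 0 ∧ C.form r (v 3) = 0 ∧ C.form r (v 4) = 0 ∧
      C.form r (v 5) = 0 ∧ C.form r (v 2) = C.form (v 3) (v 2) ∧ C.form r r = 0 := by
    refine ⟨?_, ?_, ?_, ?_, ?_, ?_, ?_⟩ <;>
      simp [hr, v, C.form_add_left, C.form_add_right, C.form_smul_left, C.form_smul_right, hpath.far]
    simp only [v] at a54
    field_simp
    linear_combination (C.form (vec (p 3)) (vec (p 4))) * Relations.one_add_one hF
  obtain ⟨f0, f1, f3, f4, f5, f2, frr⟩ := hr0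
  have hrne : r ≠ 0 := fun e => hpath.adj 3 2 (by decide) (by
    rw [← f2, e, show (0 : Fin 6 → F) = (0 : F) • v 0 by rw [zero_smul], C.form_smul_left, zero_mul])
  obtain ⟨c, hc, s, hs, ec⟩ := hch.surj r frr hrne
  have hcv : ∀ k : Fin 6, Commute c (p k) ↔ k ≠ 2 := fun k => by
    rw [hch.comm c hc _ (hp k).1, ec, C.form_smul_left, mul_eq_zero, or_iff_right hs]
    constructor
    · rintro e rfl
      exact hpath.adj 3 2 (by decide) (f2 ▸ e)
    · intro hk
      fin_cases k
      exacts [f0, f1, absurd rfl hk, f3, f4, f5]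
  have hbc : ¬ Commute b c := fun e => by
    refine no_fork h hprim h22 ha hb hn (Fin.snoc p c) (fun k => ?_) (fun k l => ?_)
    · refine Fin.lastCases ?_ (fun k => ?_) k
      · rw [Fin.snoc_last]
        exact ⟨hc, hc.1, fun r => hn (r ▸ hc.2.2), e⟩
      · rw [Fin.snoc_castSucc]; exact hp k
    · refine Fin.lastCases ?_ (fun k => ?_) k <;> refine Fin.lastCases ?_ (fun l => ?_) l <;>
        simp only [Fin.snoc_last, Fin.snoc_castSucc]
      · exact iff_of_true (Commute.refl c) (by decide)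
      · rw [hcv l]
        exact (by decide : ∀ l : Fin 6, l ≠ 2 ↔ treeAdj forkPar (Fin.last 6) l.castSucc = false) l
      · rw [Commute.symm_iff, hcv k]
        exact (by decide : ∀ k : Fin 6, k ≠ 2 ↔ treeAdj forkPar k.castSucc (Fin.last 6) = false) k
      · rw [hpc k l]
        exact (by decide : ∀ k l : Fin 6, ¬ (k.1 + 1 = l.1 ∨ l.1 + 1 = k.1) ↔
          treeAdj forkPar k.castSucc l.castSucc = false) k l
  refine ⟨fun x => [a, b, c, p 2, p 3, p 4, p 5, p 1, p 0].getD x a, fun x => ?_, fun x y hx hy => ?_⟩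
  · by_cases hx : x < 9
    · interval_cases x <;> first | exact ha | exact hb | exact hc.1 | exact (hp _).1.1
    · rw [List.getD_eq_default _ _ (by simp; omega)]; exact ha
  · have pa : ∀ k, Commute a (p k) := fun k => (hp k).1.2.2
    have pb : ∀ k, Commute b (p k) := fun k => (hp k).2.2.2
    have pa' : ∀ k, Commute (p k) a := fun k => (pa k).symm
    have pb' : ∀ k, Commute (p k) b := fun k => (pb k).symm
    have hn' : ¬ Commute b a := fun e => hn e.symm
    have hbc' : ¬ Commute c b := fun e => hbc e.symm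
    have pc : ∀ k, Commute (p k) c ↔ k ≠ 2 := fun k => Commute.symm_iff.trans (hcv k)
    have hac : Commute a c := hc.2.2
    interval_cases x <;> interval_cases y <;>
      simp [edge, pa, pb, pa', pb', hn, hn', hbc, hbc', pc, hcv, hac, hac.symm, hpc]

end CfsgLib.Spor.Tri.Y332
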