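/-
A group of type M(22) is the presented Fischer group.
-/
import Cfsg.Agent.Lib.Spor.Tri.Y332Config
import Cfsg.Agent.Lib.Spor.Fi22.Final

set_option autoImplicit false

namespace CfsgLib.Spor.Tri.Y332

open CfsgLib.Spor.TC CfsgLib.Spor.Tri CfsgLib.Spor.Tri.Level

variable {G : Type*} [Group G] [Finite G] {D : Set G}

/-- The images of the generators of the presented group along a configuration. -/
def genImage (t : ℕ → G) (x : Cfsg.Spor.Fi22.Gen) : G := t (CfsgLib.Spor.Fi22.num x)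

/-- **Type M(22) is the presented Fischer group**, the generators going to members of the class. -/
theorem exists_equiv_fi22 (h : Hyp D) (hprim : Cfsg.IsPrimitiveUnderConj D) (h22 : Cfsg.IsOfTypeM22 G D) :
    ∃ e : Cfsg.Spor.Fi22 ≃* G, ∀ x : Cfsg.Spor.Fi22.Gen, e (PresentedGroup.of x) ∈ D := by
  classical
  obtain ⟨t, hC⟩ := exists_config h hprim h22
  have hg := hC.diag h
  obtain ⟨r1, r2, r3⟩ := relations h hprim h22 hC
  have hlt : ∀ x, CfsgLib.Spor.Fi22.num x < 9 := CfsgLib.Spor.Fi22.coxData.num_lt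
  have hrel : ∀ r ∈ Cfsg.Spor.coxRelators Cfsg.Spor.Fi22.edges ∪ {r | r ∈ Cfsg.Spor.Fi22.extra},
      FreeGroup.lift (genImage t) r = 1 := by
    rintro r (⟨x, -, y, -, rfl⟩ | hr)
    · rw [map_pow, map_mul, FreeGroup.lift_apply_of, FreeGroup.lift_apply_of]
      have key : ∀ x y : Cfsg.Spor.Fi22.Gen, (x = y ∧ Cfsg.Spor.coxLabel Cfsg.Spor.Fi22.edges x y = 1) ∨
          (edge (CfsgLib.Spor.Fi22.num x) (CfsgLib.Spor.Fi22.num y) = false ∧
            Cfsg.Spor.coxLabel Cfsg.Spor.Fi22.edges x y = 2) ∨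
          (edge (CfsgLib.Spor.Fi22.num x) (CfsgLib.Spor.Fi22.num y) = true ∧
            Cfsg.Spor.coxLabel Cfsg.Spor.Fi22.edges x y = 3) := by
        intro x y
        cases x <;> cases y <;> decide
      rcases key x y with ⟨rfl, e⟩ | ⟨e1, e⟩ | ⟨e1, e⟩ <;> rw [e]
      · rw [pow_one, genImage, hg.sq]
      · exact (h.commute_iff_sq (hC.mem _) (hC.mem _)).1 ((hC.comm _ _ (hlt x) (hlt y)).2 e1)
      · exact (h.set.2 _ (hC.mem _) _ (hC.mem _)).resolve_left fun q =>
          hC.ncomm e1 ((h.commute_iff_sq (hC.mem _) (hC.mem _)).2 q)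
    · simp only [Cfsg.Spor.Fi22.extra, Set.mem_setOf_eq, List.mem_cons, List.not_mem_nil, or_false] at hr
      simp only [ev, List.map_cons, List.map_nil, List.prod_cons, List.prod_nil, mul_one] at r1 r2 r3
      rcases hr with rfl | rfl | rfl <;>
        simp only [map_pow, map_mul, FreeGroup.lift_apply_of, genImage, CfsgLib.Spor.Fi22.num, mul_assoc]
      exacts [r1, r2, r3]
  set φ := PresentedGroup.toGroup hrel
  obtain ⟨hsimp, hcard⟩ := CfsgLib.Spor.Fi22.isFi22
  haveI : Finite Cfsg.Spor.Fi22 := Nat.finite_of_card_ne_zero (by rw [hcard]; norm_num)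
  have hinj : Function.Injective φ := by
    rw [← MonoidHom.ker_eq_bot_iff]
    refine (hsimp.eq_bot_or_eq_top_of_normal φ.ker inferInstance).resolve_right fun e => ?_
    have hm : (PresentedGroup.of Cfsg.Spor.Fi22.Gen.a : Cfsg.Spor.Fi22) ∈ φ.ker := e ▸ Subgroup.mem_top _
    rw [MonoidHom.mem_ker] at hm
    have h1 : genImage t Cfsg.Spor.Fi22.Gen.a = 1 := by
      rw [← hm]; exact (PresentedGroup.toGroup.of hrel).symm
    exact h.ne_one (hC.mem _) h1
  have hbij : Function.Bijective φ := (Nat.bijective_iff_injective_and_card φ).2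
    ⟨hinj, by rw [hcard, (card22 h hprim h22).1]⟩
  refine ⟨MulEquiv.ofBijective φ hbij, fun x => ?_⟩
  show φ (PresentedGroup.of x) ∈ D
  rw [PresentedGroup.toGroup.of]
  exact hC.mem _

/-- A type M(22) group with its class is the presented group with the class of its first generator. -/
theorem exists_equiv_fi22_class (h : Hyp D) (hprim : Cfsg.IsPrimitiveUnderConj D) (h22 : Cfsg.IsOfTypeM22 G D) :
    ∃ e : G ≃* Cfsg.Spor.Fi22, e '' D = conjugatesOf (PresentedGroup.of Cfsg.Spor.Fi22.Gen.a : Cfsg.Spor.Fi22) := by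
  obtain ⟨e, he⟩ := exists_equiv_fi22 h hprim h22
  have ha := he Cfsg.Spor.Fi22.Gen.a
  refine ⟨e.symm, Set.ext fun y => ?_⟩
  rw [conjugatesOf, Set.mem_setOf_eq, isConj_iff]
  constructor
  · rintro ⟨x, hx, rfl⟩
    obtain ⟨g, hg⟩ := h.transitive _ ha x hx
    exact ⟨e.symm g, by rw [← hg, map_mul, map_mul, map_inv, e.symm_apply_apply]⟩
  · rintro ⟨c, rfl⟩
    exact ⟨e c * e (PresentedGroup.of Cfsg.Spor.Fi22.Gen.a) * (e c)⁻¹, h.conj _ _ ha, by
      rw [← map_mul, ← map_inv, ← map_mul, e.symm_apply_apply]⟩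

/-- Two groups of type M(22) correspond with their classes. -/
theorem exists_equiv_classes {G' : Type*} [Group G'] [Finite G'] {D' : Set G'} (h : Hyp D)
    (hprim : Cfsg.IsPrimitiveUnderConj D) (h22 : Cfsg.IsOfTypeM22 G D) (h' : Hyp D')
    (hprim' : Cfsg.IsPrimitiveUnderConj D') (h22' : Cfsg.IsOfTypeM22 G' D') : ∃ e : G ≃* G', e '' D = D' := by
  obtain ⟨e₁, he₁⟩ := exists_equiv_fi22 h hprim h22
  obtain ⟨e₂, he₂⟩ := exists_equiv_fi22 h' hprim' h22'
  refine ⟨e₁.symm.trans e₂, ?_⟩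
  have ha := he₁ Cfsg.Spor.Fi22.Gen.a
  have hb := he₂ Cfsg.Spor.Fi22.Gen.a
  have hval : (e₁.symm.trans e₂) (e₁ (PresentedGroup.of Cfsg.Spor.Fi22.Gen.a)) =
      e₂ (PresentedGroup.of Cfsg.Spor.Fi22.Gen.a) := by simp
  ext y
  constructor
  · rintro ⟨x, hx, rfl⟩
    obtain ⟨g, rfl⟩ := h.transitive _ ha x hx
    rw [map_mul, map_mul, map_inv, hval]
    exact h'.conj _ _ hb
  · intro hy
    obtain ⟨g, rfl⟩ := h'.transitive _ hb y hy
    obtain ⟨g', rfl⟩ := (e₁.symm.trans e₂).surjective g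
    exact ⟨g' * e₁ (PresentedGroup.of Cfsg.Spor.Fi22.Gen.a) * g'⁻¹, h.conj _ _ ha, by
      rw [map_mul, map_mul, map_inv, hval]⟩

end CfsgLib.Spor.Tri.Y332
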