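/-
`O⁻(6, 2)` is the automorphism group of `PSU(4, 4)`.
-/
import Cfsg.Agent.Lib.Spor.Tri.PairCentral
import Cfsg.Agent.Lib.Orth.Aut.Card
import Cfsg.Agent.Lib.Classical.ExcIsoUnitary
import Cfsg.Agent.Lib.Perm.Trans.QuadStd

set_option linter.all false

namespace CfsgLib.Spor.Tri.Level

open CfsgLib.Orth
open scoped MatrixGroups

theorem minus_six_aut {F : Type} [Field F] [Fintype F] (hF : Fintype.card F = 4) :
    Nonempty (↥(Cfsg.isometryGroup (ZMod 2) (Cfsg.quadFormMinus 2 (ZMod 2) 1 1)) ≃* MulAut (Cfsg.PSU 4 F 2)) := by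
  classical
  have hab : ∀ z₁ z₂ : ZMod 2, z₁ ^ 2 + 1 * z₁ * z₂ + 1 * z₂ ^ 2 = 0 → z₁ = 0 ∧ z₂ = 0 := by decide
  have hQ := CfsgLib.Perm.Trans.Quad.quadFormMinus_nd (m := 2) (1 : ZMod 2) 1 hab
  have hn : 5 ≤ Fintype.card ((Fin 2 ⊕ Fin 2) ⊕ Fin 2) := by simp
  obtain ⟨e⟩ := CfsgLib.Classical.ExcIsoUnitary.omega_six_minus (F := ZMod 2) (K := F) (q := 2) (by simp)
    (by rw [hF]; norm_num) hab
  let f : ↥(Cfsg.isometryGroup (ZMod 2) (Cfsg.quadFormMinus 2 (ZMod 2) 1 1)) →* MulAut (Cfsg.PSU 4 F 2) :=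
    (MulAut.congr e).toMonoidHom.comp ((simHom _).comp (Subgroup.inclusion fun g hg => iso_sim hg))
  have hcard : Nat.card ↥(Cfsg.isometryGroup (ZMod 2) (Cfsg.quadFormMinus 2 (ZMod 2) 1 1)) = 51840 := by
    rw [CfsgLib.Classical.card_iso_minus hab 2, ZMod.card]
    decide
  have hinj : Function.Injective f := by
    rw [injective_iff_map_eq_one]
    intro g hg
    have h1 : simHom _ ⟨g.1, iso_sim g.2⟩ = 1 := (MulAut.congr e).injective (hg.trans (map_one _).symm)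
    obtain ⟨c, hc⟩ := (simHom_ker hQ hn ⟨g.1, iso_sim g.2⟩).1 h1
    have h01 : ∀ c : ZMod 2, c = 0 ∨ c = 1 := by decide
    rcases h01 c with rfl | rfl
    · exfalso
      have hu := (Matrix.isUnit_iff_isUnit_det _).1 g.1.isUnit
      rw [show ((g.1 : GL ((Fin 2 ⊕ Fin 2) ⊕ Fin 2) (ZMod 2)) : Matrix ((Fin 2 ⊕ Fin 2) ⊕ Fin 2) ((Fin 2 ⊕ Fin 2) ⊕ Fin 2) (ZMod 2)) = (0 : ZMod 2) • 1 from hc, zero_smul, Matrix.det_zero] at hu
      exact not_isUnit_zero hu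
    · exact Subtype.ext (Units.ext (by
        rw [show ((g.1 : GL ((Fin 2 ⊕ Fin 2) ⊕ Fin 2) (ZMod 2)) : Matrix ((Fin 2 ⊕ Fin 2) ⊕ Fin 2) ((Fin 2 ⊕ Fin 2) ⊕ Fin 2) (ZMod 2)) = (1 : ZMod 2) • 1 from hc, one_smul]
        rfl))
  haveI : Finite (MulAut (Cfsg.PSU 4 F 2)) :=
    Finite.of_injective (fun φ : MulAut (Cfsg.PSU 4 F 2) => (φ : Cfsg.PSU 4 F 2 → Cfsg.PSU 4 F 2))
      fun x y r => MulEquiv.ext (congrFun r)
  refine ⟨MulEquiv.ofBijective f ((Nat.bijective_iff_injective_and_card f).2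
    ⟨hinj, le_antisymm (Nat.card_le_card_of_injective _ hinj) ?_⟩)⟩
  rw [hcard]
  exact aut_psu4_le hF

end CfsgLib.Spor.Tri.Level
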