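/-
The 22-base of a Sylow 2-subgroup of a group of type M(22) spans its Thompson subgroup.

An involution permuting the base `B` and outside `⟨B⟩` fixes at most six of `B`, so by counting
fixed points an elementary abelian group permuting `B` has few orbits, and therefore moves more
cosets of its centralizer in `⟨B⟩` than it has elements outside `⟨B⟩`.
-/
import Cfsg.Agent.Lib.Spor.Tri.InvolFixed
import Cfsg.Agent.Lib.Fusion.Thompson
import Mathlib.GroupTheory.GroupAction.Quotient

namespace CfsgLib.Spor.Tri.BaseThompson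

open CfsgLib.Spor.Tri CfsgLib.Spor.Tri.Relations CfsgLib.Spor.Tri.Level CfsgLib.Spor.Tri.InvolFixed

variable {G : Type*} [Group G] [Finite G] {D : Set G}

theorem base_of_sylow (h : Hyp D) (hw : WidthIs D 22) (T : Sylow 2 G) :
    ∃ B : Finset G, Base D B ∧ (↑B : Set G) = {x | x ∈ D ∧ x ∈ (T : Subgroup G)} := by
  classical
  haveI : Fact (Nat.Prime 2) := ⟨Nat.prime_two⟩
  obtain ⟨hle, E, hE, hEc, hEn⟩ := hw
  obtain ⟨P, hP⟩ := (isPGroup_closure_commuting h hE hEc).exists_le_sylow
  obtain ⟨g, hg⟩ := MulAction.exists_smul_eq G P T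
  set S := {x | x ∈ D ∧ x ∈ (T : Subgroup G)} with hS
  have hfin : S.Finite := Set.toFinite _
  have hcomm : ∀ a ∈ S, ∀ b ∈ S, Commute a b := fun a ha b hb =>
    commute_of_mem_two_group h T.isPGroup' ha.1 hb.1 ha.2 hb.2
  have hn : S.ncard = 22 := by
    refine le_antisymm (hle S (fun _ hx => hx.1) hcomm) ?_
    rw [← hEn, ← Set.ncard_image_of_injective E (MulAut.conj g).injective]
    refine Set.ncard_le_ncard ?_ hfin
    rintro _ ⟨x, hx, rfl⟩
    refine ⟨h.conj g x (hE hx), ?_⟩
    rw [← hg, Sylow.smul_def, Sylow.pointwise_smul_def]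
    exact ⟨x, hP (Subgroup.subset_closure hx), rfl⟩
  refine ⟨hfin.toFinset, ⟨fun b hb => (hfin.mem_toFinset.1 hb).1,
    fun b hb c hc => hcomm b (hfin.mem_toFinset.1 hb) c (hfin.mem_toFinset.1 hc),
    by rw [← Set.ncard_eq_toFinset_card S hfin, hn], fun e he hec => ?_⟩, hfin.coe_toFinset⟩
  by_contra hne
  have hne' : e ∉ S := fun r => hne (hfin.mem_toFinset.2 r)
  have := hle (insert e S) (Set.insert_subset he fun _ hx => hx.1) (by
    intro a ha b hb
    rcases ha with ea | ha <;> rcases hb with eb | hb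
    · rw [ea, eb]
    · rw [ea]; exact hec b (hfin.mem_toFinset.2 hb)
    · rw [eb]; exact (hec a (hfin.mem_toFinset.2 ha)).symm
    · exact hcomm a ha b hb)
  rw [Set.ncard_insert_of_notMem hne' hfin, hn] at this
  omega

variable {B : Finset G}

/-- An element fixing seven members of the base lies in its span. -/
theorem mem_span_of_fix (h : Hyp D) (hdec : Decomp 3 D) (hsix : ∀ a ∈ D, SixAt D a) (hB : Base D B)
    {a : G} (ha : a * a = 1) {C : Finset G} (hCB : C ⊆ B) (hC : 7 ≤ C.card) (hac : ∀ b ∈ C, Commute a b) :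
    a ∈ Subgroup.closure (↑B : Set G) := by
  by_cases ha1 : a = 1
  · rw [ha1]; exact one_mem _
  obtain ⟨l, ht, h1, h3, rfl⟩ := hdec a ha ha1
  refine list_prod_mem fun e he => Subgroup.subset_closure ?_
  by_contra heB
  have := le_six h hsix hB (ht.2.1 e he).1 heB hCB fun b hb =>
    (commute_members h (hB.sub b (hCB hb)) ht h3 (hac b hb).symm e he).symm
  omega

omit [Finite G] in
theorem closure_elementary (h : Hyp D) (hB : Base D B) :
    Cfsg.IsElementaryAbelian 2 (Subgroup.closure (↑B : Set G)) := by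
  haveI hM := Subgroup.isMulCommutative_closure (k := (↑B : Set G)) fun a ha b hb => hB.comm a ha b hb
  refine ⟨hM, fun y hy => ?_⟩
  induction hy using Subgroup.closure_induction with
  | mem a ha => rw [pow_two, h.mul_self (hB.sub a ha)]
  | one => simp
  | mul u v hu hv e1 e2 =>
    have huv : Commute u v := congrArg Subtype.val (hM.is_comm.comm ⟨u, hu⟩ ⟨v, hv⟩)
    rw [huv.mul_pow, e1, e2, one_mul]
  | inv u _ e1 => rw [inv_pow, e1, inv_one]

set_option maxHeartbeats 800000 in
/-- An elementary abelian group permuting the base and not inside its span is smaller. -/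
theorem card_lt (h : Hyp D) (hdec : Decomp 3 D) (hN : NoRel 5 D) (hsix : ∀ a ∈ D, SixAt D a) (hB : Base D B)
    {A : Subgroup G} (hA : Cfsg.IsElementaryAbelian 2 A) (hn : ∀ a ∈ A, ∀ b ∈ B, a * b * a⁻¹ ∈ B)
    (hle : ¬ A ≤ Subgroup.closure (↑B : Set G)) : Nat.card ↥A < Nat.card ↥(Subgroup.closure (↑B : Set G)) := by
  classical
  haveI : Fact (Nat.Prime 2) := ⟨Nat.prime_two⟩
  set E := Subgroup.closure (↑B : Set G) with hE
  haveI hM := Subgroup.isMulCommutative_closure (k := (↑B : Set G)) fun a ha b hb => hB.comm a ha b hb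
  have hEc : ∀ x ∈ E, ∀ y ∈ E, Commute x y := fun x hx y hy =>
    congrArg Subtype.val (hM.is_comm.comm ⟨x, hx⟩ ⟨y, hy⟩)
  have hAc : ∀ x ∈ A, ∀ y ∈ A, Commute x y := fun x hx y hy =>
    congrArg Subtype.val (hA.1.is_comm.comm ⟨x, hx⟩ ⟨y, hy⟩)
  have hBE : ∀ {b}, b ∈ B → b ∈ E := fun {b} hb => Subgroup.subset_closure hb
  letI act : MulAction ↥A ↥B :=
    { smul := fun a b => ⟨(a : G) * b.1 * (a : G)⁻¹, hn a a.2 b.1 b.2⟩
      one_smul := fun b => Subtype.ext (by show (1 : G) * b.1 * (1 : G)⁻¹ = b.1; group)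
      mul_smul := fun a a' b => Subtype.ext (by
        show ((a : G) * a') * b.1 * ((a : G) * a')⁻¹ = (a : G) * ((a' : G) * b.1 * (a' : G)⁻¹) * (a : G)⁻¹
        group) }
  have hfix : ∀ (a : ↥A) (b : ↥B), a • b = b ↔ Commute (a : G) b.1 := fun a b =>
    ⟨fun r => mul_inv_eq_iff_eq_mul.1 (show (a : G) * b.1 * (a : G)⁻¹ = b.1 from congrArg Subtype.val r),
      fun r => Subtype.ext (show (a : G) * b.1 * (a : G)⁻¹ = b.1 from mul_inv_eq_iff_eq_mul.2 r.eq)⟩
  set K := E.subgroupOf A with hK
  haveI := Fintype.ofFinite ↥A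
  -- few fixed points outside the span
  have hfew : ∀ a : ↥A, a ∉ K → ∀ S : Finset ↥B, (∀ b ∈ S, a • b = b) → S.card ≤ 6 := by
    intro a ha S hS
    by_contra hbig
    refine ha (Subgroup.mem_subgroupOf.2 (mem_span_of_fix h hdec hsix hB
      (by rw [← pow_two]; exact hA.2 a a.2) (C := S.image Subtype.val) ?_ ?_ ?_))
    · intro x hx
      obtain ⟨b, -, rfl⟩ := Finset.mem_image.1 hx
      exact b.2
    · rw [Finset.card_image_of_injective _ Subtype.val_injective]; omega
    · intro x hx
      obtain ⟨b, hb, rfl⟩ := Finset.mem_image.1 hx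
      exact (hfix a b).1 (hS b hb)
  have hpA : IsPGroup 2 ↥A := fun a => ⟨1, Subtype.ext (by simpa using hA.2 a a.2)⟩
  obtain ⟨n, hn2⟩ := hpA.exists_card_eq
  obtain ⟨r, -, hr⟩ := (Nat.dvd_prime_pow Nat.prime_two).1 (hn2 ▸ Subgroup.index_dvd_card K)
  have hr0 : r ≠ 0 := fun e => hle (by
    rw [e, pow_zero, Subgroup.index_eq_one] at hr
    exact Subgroup.subgroupOf_eq_top.1 hr)
  -- orbits
  let Ω := MulAction.orbitRel.Quotient ↥A ↥B
  haveI : Fintype Ω := Fintype.ofFinite Ω
  let fib : Ω → Finset ↥B := fun ω => Finset.univ.filter fun b => (Quotient.mk'' b : Ω) = ω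
  have hpart : ∑ ω : Ω, (fib ω).card = 22 := by
    rw [← Finset.card_eq_sum_card_fiberwise (fun b _ => Finset.mem_univ _), Finset.card_univ, Fintype.card_coe, hB.card]
  have horb : ∀ (x y : ↥B), y ∈ fib (Quotient.mk'' x) ↔ y ∈ MulAction.orbit ↥A x := fun x y => by
    simp only [fib, Finset.mem_filter, Finset.mem_univ, true_and]
    exact Quotient.eq''
  have hrep : ∀ ω : Ω, ∃ x : ↥B, (Quotient.mk'' x : Ω) = ω := fun ω => Quotient.inductionOn' ω fun x => ⟨x, rfl⟩
  have hcard : ∀ x : ↥B, (MulAction.stabilizer ↥A x).index = (fib (Quotient.mk'' x)).card := by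
    intro x
    rw [MulAction.index_stabilizer, show MulAction.orbit ↥A x = ↑(fib (Quotient.mk'' x)) by
      ext y; exact (horb x y).symm, Set.ncard_coe_finset]
  have hstab : ∀ (x : ↥B) (s : ↥A), s ∈ MulAction.stabilizer ↥A x → ∀ y ∈ fib (Quotient.mk'' x), s • y = y := by
    intro x s hs y hy
    obtain ⟨a, rfl⟩ := (horb x y).1 hy
    show s • a • x = a • x
    rw [← mul_smul, show s * a = a * s from Subtype.ext (hAc s s.2 a a.2).eq, mul_smul, MulAction.mem_stabilizer_iff.1 hs]
  -- Burnside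
  have hburn : Fintype.card Ω * 2 ^ r ≤ 6 * 2 ^ r + 16 := by
    have hsum := MulAction.sum_card_fixedBy_eq_card_orbits_mul_card_group ↥A ↥B
    have hb : ∀ a : ↥A, Fintype.card (MulAction.fixedBy ↥B a) ≤ 6 + if a ∈ K then 16 else 0 := by
      intro a
      split_ifs with ha
      · refine (Fintype.card_subtype_le _).trans ?_
        rw [Fintype.card_coe, hB.card]
      · rw [← Set.toFinset_card, add_zero]
        exact hfew a ha _ fun b hb => MulAction.mem_fixedBy.1 (Set.mem_toFinset.1 hb)
    have hle' : Fintype.card Ω * Fintype.card ↥A ≤ ∑ a : ↥A, (6 + if a ∈ K then 16 else 0) :=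
      hsum ▸ Finset.sum_le_sum fun a _ => hb a
    rw [Finset.sum_add_distrib, Finset.sum_const, Finset.card_univ, smul_eq_mul, ← Finset.sum_filter, Finset.sum_const,
      smul_eq_mul] at hle'
    have hKc : (Finset.univ.filter fun a : ↥A => a ∈ K).card = Nat.card ↥K := by
      rw [Nat.card_eq_fintype_card, Fintype.card_subtype]
    rw [hKc, ← Nat.card_eq_fintype_card (α := ↥A), ← Subgroup.card_mul_index K, hr] at hle'
    refine Nat.le_of_mul_le_mul_left ?_ (Nat.card_pos (α := ↥K))
    calc Nat.card ↥K * (Fintype.card Ω * 2 ^ r) = Fintype.card Ω * (Nat.card ↥K * 2 ^ r) := by ring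
      _ ≤ Nat.card ↥K * 2 ^ r * 6 + Nat.card ↥K * 16 := hle'
      _ = Nat.card ↥K * (6 * 2 ^ r + 16) := by ring
  have hr4 : r ≤ 4 := by
    by_contra hr5
    have hp : 32 ≤ 2 ^ r := le_trans (by norm_num) (Nat.pow_le_pow_right (by norm_num : 0 < 2) (by omega : 5 ≤ r))
    have hΩ : Fintype.card Ω ≤ 6 := by
      by_contra hc
      have : 7 * 2 ^ r ≤ Fintype.card Ω * 2 ^ r := Nat.mul_le_mul_right _ (by omega)
      omega
    have hsz : ∀ x : ↥B, (fib (Quotient.mk'' x)).card ≤ 2 ∨ (fib (Quotient.mk'' x)).card = 4 := by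
      intro x
      have hm6 : (fib (Quotient.mk'' x)).card ≤ 6 := by
        by_contra hc
        have hsK : MulAction.stabilizer ↥A x ≤ K := fun s hs => by
          by_contra hsn
          exact hc (hfew s hsn _ (hstab x s hs))
        have := Nat.le_of_dvd (Nat.pos_of_ne_zero (Subgroup.index_ne_zero_of_finite))
          (Subgroup.index_dvd_of_le hsK)
        rw [hr, hcard] at this
        have := Finset.card_le_univ (fib (Quotient.mk'' x))
        rw [Fintype.card_coe, hB.card] at this
        omega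
      obtain ⟨k, -, hk⟩ := (Nat.dvd_prime_pow Nat.prime_two).1
        (hn2 ▸ Subgroup.index_dvd_card (MulAction.stabilizer ↥A x))
      rw [← hcard, hk] at hm6 ⊢
      have hk3 : k < 3 := by
        by_contra hc
        have := Nat.pow_le_pow_right (by norm_num : 0 < 2) (Nat.le_of_not_lt hc)
        omega
      interval_cases k <;> norm_num
    have honly : ∀ ω ω' : Ω, (fib ω).card = 4 → (fib ω').card = 4 → ω = ω' := by
      intro ω ω' h4 h4'
      by_contra hne
      obtain ⟨x, rfl⟩ := hrep ω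
      obtain ⟨y, rfl⟩ := hrep ω'
      have hsK : MulAction.stabilizer ↥A x ⊓ MulAction.stabilizer ↥A y ≤ K := fun s hs => by
        by_contra hsn
        have hd : Disjoint (fib (Quotient.mk'' x)) (fib (Quotient.mk'' y)) := by
          rw [Finset.disjoint_left]
          intro b hb hb'
          exact hne ((Finset.mem_filter.1 hb).2.symm.trans (Finset.mem_filter.1 hb').2)
        have := hfew s hsn (fib (Quotient.mk'' x) ∪ fib (Quotient.mk'' y)) fun b hb =>
          (Finset.mem_union.1 hb).elim (hstab x s hs.1 b) (hstab y s hs.2 b)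
        rw [Finset.card_union_of_disjoint hd, h4, h4'] at this
        omega
      have h1 := Nat.le_of_dvd (Nat.pos_of_ne_zero (Subgroup.index_ne_zero_of_finite)) (Subgroup.index_dvd_of_le hsK)
      have h2 := Subgroup.index_inf_le (H := MulAction.stabilizer ↥A x) (K := MulAction.stabilizer ↥A y)
      rw [hcard, hcard, h4, h4'] at h2
      rw [hr] at h1
      omega
    have hbound : ∑ ω : Ω, (fib ω).card ≤ ∑ ω : Ω, (2 + if (fib ω).card = 4 then 2 else 0) := by
      refine Finset.sum_le_sum fun ω _ => ?_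
      obtain ⟨x, rfl⟩ := hrep ω
      rcases hsz x with e | e
      · exact e.trans (Nat.le_add_right _ _)
      · rw [if_pos e, e]
    rw [hpart, Finset.sum_add_distrib, Finset.sum_const, Finset.card_univ, smul_eq_mul, ← Finset.sum_filter,
      Finset.sum_const, smul_eq_mul] at hbound
    have h1 : (Finset.univ.filter fun ω : Ω => (fib ω).card = 4).card ≤ 1 := Finset.card_le_one.2 fun a ha b hb =>
      honly a b (Finset.mem_filter.1 ha).2 (Finset.mem_filter.1 hb).2
    omega
  -- cosets of the centralizer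
  set C := (Subgroup.centralizer (A : Set G)).subgroupOf E with hC
  haveI : Fintype (↥E ⧸ C) := Fintype.ofFinite _
  let f : ↥B → ↥E ⧸ C := fun b => QuotientGroup.mk ⟨b.1, hBE b.2⟩
  let one' : ↥E ⧸ C := QuotientGroup.mk 1
  have hf1 : ∀ b : ↥B, f b = one' → ∀ a : ↥A, a • b = b := by
    intro b hb a
    have := QuotientGroup.eq.1 hb.symm
    rw [hC, Subgroup.mem_subgroupOf] at this
    have e := Subgroup.mem_centralizer_iff.1 this a a.2
    exact (hfix a b).2 (by simpa [Commute, SemiconjBy] using e)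
  have hf2 : ∀ b b' : ↥B, b ≠ b' → f b = f b' → ∀ a : ↥A, a • b = b ∨ a • b = b' := by
    intro b b' hne hbb a
    have := QuotientGroup.eq.1 hbb
    rw [hC, Subgroup.mem_subgroupOf] at this
    have e : (a : G) * (b.1 * b'.1) = b.1 * b'.1 * a := by
      have e0 := Subgroup.mem_centralizer_iff.1 this a a.2
      simpa [h.inv_eq (hB.sub b.1 b.2)] using e0
    have hp : [(a • b).1, (a • b').1].prod = [b.1, b'.1].prod := by
      show ((a : G) * b.1 * (a : G)⁻¹) * (((a : G) * b'.1 * (a : G)⁻¹) * 1) = b.1 * (b'.1 * 1)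
      calc ((a : G) * b.1 * (a : G)⁻¹) * (((a : G) * b'.1 * (a : G)⁻¹) * 1)
          = ((a : G) * (b.1 * b'.1)) * (a : G)⁻¹ := by group
        _ = b.1 * (b'.1 * 1) := by rw [e, mul_inv_cancel_right, mul_one]
    have hmem : ∀ x ∈ [(a • b).1, (a • b').1] ++ [b.1, b'.1], x ∈ B := by
      simp [(a • b).2, (a • b').2, b.2, b'.2]
    have hne' : (a • b).1 ≠ (a • b').1 := fun r => hne (MulAction.injective a (Subtype.ext r))
    have hiff := eq_of_prod_eq (pre_of_hyp h) hN [(a • b).1, (a • b').1] [b.1, b'.1] (by simp [hne'])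
      (by simpa using hne)
      (fun x hx => ⟨hB.sub x (hmem x hx), h.ne_one (hB.sub x (hmem x hx))⟩)
      (fun x hx y hy => hB.comm x (hmem x hx) y (hmem y hy)) hp (by
        have a1 := List.length_filter_le (fun c => decide (c ∉ [b.1, b'.1])) [(a • b).1, (a • b').1]
        have a2 := List.length_filter_le (fun c => decide (c ∉ [(a • b).1, (a • b').1])) [b.1, b'.1]
        simp only [List.length_cons, List.length_nil] at a1 a2
        omega)
    have := (hiff (a • b).1).1 (by simp)
    simp only [List.mem_cons, List.not_mem_nil, or_false] at this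
    exact this.imp (fun r => Subtype.ext r) (fun r => Subtype.ext r)
  have hsmall : ∀ b b' : ↥B, b ≠ b' → f b = f b' → (fib (Quotient.mk'' b)).card ≤ 2 := by
    intro b b' hne hbb
    refine le_trans (Finset.card_le_card (t := {b, b'}) fun y hy => ?_) Finset.card_le_two
    obtain ⟨a, rfl⟩ := (horb b y).1 hy
    rcases hf2 b b' hne hbb a with e | e <;> simp [e]
  have hsame : ∀ b b' : ↥B, f b = f b' → f b ≠ one' → (Quotient.mk'' b : Ω) = Quotient.mk'' b' := by
    intro b b' hbb hne1
    by_cases hne : b = b'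
    · rw [hne]
    -- `b` is moved, and only to `b'`
    obtain ⟨a, ha⟩ : ∃ a : ↥A, a • b ≠ b := by
      by_contra hcon
      push Not at hcon
      refine hne1 (QuotientGroup.eq.2 ?_)
      rw [hC, Subgroup.mem_subgroupOf, Subgroup.mem_centralizer_iff]
      intro g hg
      have hgb : Commute g b.1 := (hfix ⟨g, hg⟩ b).1 (hcon ⟨g, hg⟩)
      simpa [h.inv_eq (hB.sub b.1 b.2)] using hgb.eq
    refine (Quotient.eq''.2 ?_).symm
    exact ⟨a, (hf2 b b' hne hbb a).resolve_left ha⟩
  let g : Ω → Finset (↥E ⧸ C) := fun ω => ((fib ω).image f).erase one'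
  have hdisj : (↑(Finset.univ : Finset Ω) : Set Ω).PairwiseDisjoint g := by
    intro ω _ ω' _ hne
    rw [Function.onFun, Finset.disjoint_left]
    intro q hq hq'
    obtain ⟨hq1, hqi⟩ := Finset.mem_erase.1 hq
    obtain ⟨b, hb, rfl⟩ := Finset.mem_image.1 hqi
    obtain ⟨b', hb', e⟩ := Finset.mem_image.1 (Finset.mem_of_mem_erase hq')
    exact hne ((Finset.mem_filter.1 hb).2.symm.trans ((hsame b b' e.symm hq1).trans (Finset.mem_filter.1 hb').2))
  have hg : ∀ ω : Ω, (fib ω).card ≤ (g ω).card + if (fib ω).card ≤ 2 then 1 else 0 := by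
    intro ω
    obtain ⟨x, rfl⟩ := hrep ω
    have hx : x ∈ fib (Quotient.mk'' x) := (horb x x).2 (MulAction.mem_orbit_self x)
    have hne1 : 2 ≤ (fib (Quotient.mk'' x)).card → ∀ y ∈ fib (Quotient.mk'' x), f y ≠ one' := by
      intro h2 y hy e
      obtain ⟨u, hu, hux⟩ : ∃ u ∈ fib (Quotient.mk'' x), u ≠ y := by
        by_contra hcon
        push Not at hcon
        have := Finset.card_le_card (t := {y}) fun u hu => Finset.mem_singleton.2 (hcon u hu)
        rw [Finset.card_singleton] at this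
        omega
      rw [← (Finset.mem_filter.1 hy).2] at hu
      obtain ⟨a, rfl⟩ := (horb y u).1 hu
      exact hux (hf1 y e a)
    split_ifs with hs
    · by_cases h1 : (fib (Quotient.mk'' x)).card ≤ 1
      · exact h1.trans (Nat.le_add_left _ _)
      · have : 1 ≤ (g (Quotient.mk'' x)).card :=
          Finset.card_pos.2 ⟨f x, Finset.mem_erase.2 ⟨hne1 (by omega) x hx, Finset.mem_image_of_mem f hx⟩⟩
        omega
    · rw [add_zero]
      show _ ≤ (((fib (Quotient.mk'' x)).image f).erase one').card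
      rw [Finset.erase_eq_of_notMem (fun r => by
        obtain ⟨y, hy, e⟩ := Finset.mem_image.1 r
        exact hne1 (by omega) y hy e), Finset.card_image_of_injOn]
      intro b hb b' hb' e
      by_contra hne
      refine hs ?_
      rw [← (Finset.mem_filter.1 (Finset.mem_coe.1 hb)).2]
      exact hsmall b b' hne e
  have hindex : 22 + 1 ≤ C.index + (Finset.univ.filter fun ω : Ω => (fib ω).card ≤ 2).card := by
    have h1 : 22 ≤ (Finset.univ.biUnion g).card + (Finset.univ.filter fun ω : Ω => (fib ω).card ≤ 2).card := by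
      rw [Finset.card_biUnion hdisj, ← hpart, Finset.card_filter, ← Finset.sum_add_distrib]
      exact Finset.sum_le_sum fun ω _ => hg ω
    have h2 : (Finset.univ.biUnion g).card + 1 ≤ C.index := by
      rw [Subgroup.index_eq_card, Nat.card_eq_fintype_card, ← Finset.card_univ]
      refine Finset.card_lt_card (Finset.ssubset_iff_subset_ne.2 ⟨Finset.subset_univ _, fun e => ?_⟩)
      obtain ⟨ω, -, hω⟩ := Finset.mem_biUnion.1 (e.symm ▸ Finset.mem_univ one')
      exact Finset.notMem_erase _ _ hω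
    omega
  set s := (Finset.univ.filter fun ω : Ω => (fib ω).card ≤ 2).card with hs
  have hsΩ : s ≤ Fintype.card Ω := (Finset.card_filter_le _ _).trans (le_of_eq Finset.card_univ)
  have hslt : s = Fintype.card Ω → 22 ≤ 2 * Fintype.card Ω := by
    intro e
    have hall : ∀ ω : Ω, (fib ω).card ≤ 2 := fun ω => by
      have hu : (Finset.univ.filter fun ω : Ω => (fib ω).card ≤ 2) = Finset.univ :=
        Finset.eq_of_subset_of_card_le (Finset.filter_subset _ _) (by rw [Finset.card_univ, ← e])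
      exact (Finset.filter_eq_self.1 hu) ω (Finset.mem_univ ω)
    rw [← hpart]
    refine le_trans (Finset.sum_le_card_nsmul _ _ 2 fun ω _ => hall ω) ?_
    rw [Finset.card_univ, smul_eq_mul, mul_comm]
  have hlt : 2 ^ r < C.index := by
    have : r = 1 ∨ r = 2 ∨ r = 3 ∨ r = 4 := by omega
    rcases this with e | e | e | e <;> rw [e] at hburn ⊢ <;> norm_num at hburn ⊢ <;>
      rcases Nat.lt_or_ge s (Fintype.card Ω) with hh | hh <;>
      first
      | omega
      | (have := hslt (le_antisymm hsΩ hh); omega)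
  have hKC : Nat.card ↥K ≤ Nat.card ↥C := by
    refine Nat.card_le_card_of_injective (fun k => ⟨⟨((k : ↥A) : G), Subgroup.mem_subgroupOf.1 k.2⟩, ?_⟩) fun k k' e => ?_
    · rw [hC, Subgroup.mem_subgroupOf, Subgroup.mem_centralizer_iff]
      exact fun x hx => hAc x hx _ (k : ↥A).2
    · have e' := congrArg Subtype.val (congrArg Subtype.val e)
      exact Subtype.ext (Subtype.ext e')
  rw [← Subgroup.card_mul_index K, ← Subgroup.card_mul_index C, hr]
  calc Nat.card ↥K * 2 ^ r < Nat.card ↥K * C.index := Nat.mul_lt_mul_of_pos_left hlt Nat.card_pos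
    _ ≤ Nat.card ↥C * C.index := Nat.mul_le_mul_right _ hKC

/-- The members in a Sylow 2-subgroup generate its Thompson subgroup. -/
theorem span_eq_thompson (h : Hyp D) (hprim : Cfsg.IsPrimitiveUnderConj D) (h22 : Cfsg.IsOfTypeM22 G D)
    (T : Sylow 2 G) :
    Subgroup.closure {x : G | x ∈ D ∧ x ∈ (T : Subgroup G)} = Cfsg.thompsonSubgroupOf 2 (T : Subgroup G) := by
  obtain ⟨-, hw⟩ := card22 h hprim h22
  obtain ⟨d, W⟩ := local22 h hprim h22
  obtain ⟨B, hB, hBT⟩ := base_of_sylow h hw T
  rw [← hBT]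
  set E := Subgroup.closure (↑B : Set G) with hE
  have hET : E ≤ (T : Subgroup G) := (Subgroup.closure_le _).2 fun b hb => (hBT ▸ hb :).2
  have key : ∀ A : Subgroup G, A ≤ (T : Subgroup G) → Cfsg.IsElementaryAbelian 2 A →
      A ≤ E ∨ Nat.card ↥A < Nat.card ↥E := fun A hAT hA => by
    refine or_iff_not_imp_left.2 fun hle => card_lt h (decomp22 h hprim h22) W.norel W.six hB hA
      (fun a ha b hb => ?_) hle
    have hb' : b ∈ {x | x ∈ D ∧ x ∈ (T : Subgroup G)} := hBT ▸ (Finset.mem_coe.2 hb)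
    have hab : a * b * a⁻¹ ∈ {x | x ∈ D ∧ x ∈ (T : Subgroup G)} :=
      ⟨h.conj a b hb'.1, mul_mem (mul_mem (hAT ha) hb'.2) (inv_mem (hAT ha))⟩
    exact Finset.mem_coe.1 (hBT.symm ▸ hab)
  have hmax : CfsgLib.Fusion.IsMaxEA 2 (T : Subgroup G) E := ⟨hET, closure_elementary h hB, fun A hA hAe =>
    (key A hA hAe).elim (fun r => Nat.le_of_dvd Nat.card_pos (Subgroup.card_dvd_of_le r)) le_of_lt⟩
  refine le_antisymm (CfsgLib.Fusion.le_thompsonSubgroupOf hmax) ?_
  rw [CfsgLib.Fusion.thompsonSubgroupOf_eq]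
  exact sSup_le fun A hA => (key A hA.1 hA.2.1).resolve_right (not_lt.2 (hA.2.2 E hET (closure_elementary h hB)))

end CfsgLib.Spor.Tri.BaseThompson
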