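/-
The elementary subgroup spanned by a base of a group of type M(22): its elements are the products of
at most three members of the base, in three classes of sizes 22, 231 and 770.
-/
import Cfsg.Agent.Lib.Spor.Tri.BaseThompson

namespace CfsgLib.Spor.Tri.Base22

open CfsgLib.Spor.Tri CfsgLib.Spor.Tri.Relations CfsgLib.Spor.Tri.Level CfsgLib.Spor.Tri.InvolFixed

variable {G : Type*} [Group G] [Finite G] {D : Set G}

/-- The subgroup spanned by a base. -/
abbrev span (B : Finset G) : Subgroup G := Subgroup.closure (↑B : Set G)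

/-- The products of `k` members of a base. -/
def Tk (B : Finset G) (k : ℕ) : Set G := {x | ∃ l : List G, l.Nodup ∧ l.length = k ∧ (∀ a ∈ l, a ∈ B) ∧ l.prod = x}

omit [Finite G] in
theorem mem_tk {B : Finset G} {l : List G} (hl : l.Nodup) (hm : ∀ a ∈ l, a ∈ B) {k : ℕ} (hk : l.length = k) :
    l.prod ∈ Tk B k := ⟨l, hl, hk, hm, rfl⟩

omit [Finite G] in
theorem tk_one {B : Finset G} : Tk B 1 = ↑B := by
  ext x
  constructor
  · rintro ⟨l, -, hk, hm, rfl⟩
    obtain ⟨a, rfl⟩ := List.length_eq_one_iff.1 hk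
    simpa using hm a (by simp)
  · intro hx
    exact ⟨[x], List.nodup_singleton x, rfl, by simpa using hx, by simp⟩

omit [Finite G] in
theorem pair_mem {B : Finset G} {a b : G} (hn : a ≠ b) (ha : a ∈ B) (hb : b ∈ B) : a * b ∈ Tk B 2 :=
  ⟨[a, b], by simp [hn], rfl, by simp [ha, hb], by simp⟩

omit [Finite G] in
theorem triple_mem {B : Finset G} {a b c : G} (hn : [a, b, c].Nodup) (ha : a ∈ B) (hb : b ∈ B) (hc : c ∈ B) :
    a * b * c ∈ Tk B 3 := ⟨[a, b, c], hn, rfl, by simp [ha, hb, hc], by simp [mul_assoc]⟩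

variable (h : Hyp D) (hprim : Cfsg.IsPrimitiveUnderConj D) (h22 : Cfsg.IsOfTypeM22 G D) {B : Finset G}
  (hB : Base D B)

section
include h hB

omit [Finite G] in
theorem tuple_base {l : List G} (hl : l.Nodup) (hm : ∀ a ∈ l, a ∈ B) : Tuple D l :=
  ⟨hl, fun a ha => ⟨hB.sub a (hm a ha), h.ne_one (hB.sub a (hm a ha))⟩,
    fun a ha b hb => hB.comm a (hm a ha) b (hm b hb)⟩

omit [Finite G] in
theorem span_comm {x y : G} (hx : x ∈ span B) (hy : y ∈ span B) : Commute x y :=
  congrArg Subtype.val ((BaseThompson.closure_elementary h hB).1.is_comm.comm (⟨x, hx⟩ : span B) ⟨y, hy⟩)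

omit [Finite G] in
theorem span_sq {x : G} (hx : x ∈ span B) : x * x = 1 := by
  rw [← pow_two]; exact (BaseThompson.closure_elementary h hB).2 x hx

omit [Finite G] h hB in
theorem list_mem_span {l : List G} (hm : ∀ a ∈ l, a ∈ B) : l.prod ∈ span B :=
  list_prod_mem fun a ha => Subgroup.subset_closure (Finset.mem_coe.2 (hm a ha))

omit [Finite G] in
theorem members_in_base {l : List G} (ht : Tuple D l) (hlen : l.length ≤ 3) (hp : l.prod ∈ span B) :
    ∀ a ∈ l, a ∈ B := fun a ha => hB.max a (ht.2.1 a ha).1 fun b hb =>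
  (commute_members h (hB.sub b hb) ht hlen (span_comm h hB (Subgroup.subset_closure hb) hp) a ha).symm

end

section facts
include h hprim h22

omit hprim in
theorem norel : NoRel 5 D := (good_m22 (pre_of_hyp h) h22).1.norel

theorem classes : (∀ m : ℕ, 1 ≤ m → m ≤ 3 → ∀ x y : G,
      (∃ l : List G, l.Nodup ∧ l.length = m ∧ (∀ a ∈ l, a ∈ D) ∧ (∀ a ∈ l, ∀ b ∈ l, Commute a b) ∧ l.prod = x) →
      (∃ l : List G, l.Nodup ∧ l.length = m ∧ (∀ a ∈ l, a ∈ D) ∧ (∀ a ∈ l, ∀ b ∈ l, Commute a b) ∧ l.prod = y) →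
      IsConj x y) ∧
    ∀ (m m' : ℕ) (x : G), 1 ≤ m → m ≤ 3 → 1 ≤ m' → m' ≤ 3 →
      (∃ l : List G, l.Nodup ∧ l.length = m ∧ (∀ a ∈ l, a ∈ D) ∧ (∀ a ∈ l, ∀ b ∈ l, Commute a b) ∧ l.prod = x) →
      (∃ l : List G, l.Nodup ∧ l.length = m' ∧ (∀ a ∈ l, a ∈ D) ∧ (∀ a ∈ l, ∀ b ∈ l, Commute a b) ∧ l.prod = x) →
      m = m' := by
  obtain ⟨L, -⟩ := lev22 h hprim h22
  obtain ⟨d, W⟩ := local22 h hprim h22
  obtain ⟨t1, t2⟩ := Relations.tuples_m22 (pre_of_hyp h) h22
  obtain ⟨-, h2, h3⟩ := invol_classes h L (by norm_num) (by norm_num) W.norel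
    (decomp22 h hprim h22) t1 t2 (tup_three22 h W (Relations.good_m22 (pre_of_hyp h) h22).1)
  exact ⟨fun m a b x y hx hy => (h2 m a b).2 x y hx hy, h3⟩

include hB

theorem tk_class {k : ℕ} (h1 : 1 ≤ k) (h3 : k ≤ 3) {x y : G} (hx : x ∈ Tk B k) (hy : y ∈ Tk B k) :
    ∃ g, g * x * g⁻¹ = y := by
  obtain ⟨l, a1, a2, a3, a4⟩ := hx
  obtain ⟨l', b1, b2, b3, b4⟩ := hy
  exact isConj_iff.1 ((classes h hprim h22).1 k h1 h3 x y
    ⟨l, a1, a2, fun a ha => hB.sub a (a3 a ha), fun a ha b hb => hB.comm a (a3 a ha) b (a3 b hb), a4⟩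
    ⟨l', b1, b2, fun a ha => hB.sub a (b3 a ha), fun a ha b hb => hB.comm a (b3 a ha) b (b3 b hb), b4⟩)

theorem tk_unique {k k' : ℕ} (h1 : 1 ≤ k) (h3 : k ≤ 3) (h1' : 1 ≤ k') (h3' : k' ≤ 3) {x : G} (hx : x ∈ Tk B k)
    (hy : x ∈ Tk B k') : k = k' := by
  obtain ⟨l, a1, a2, a3, a4⟩ := hx
  obtain ⟨l', b1, b2, b3, b4⟩ := hy
  exact (classes h hprim h22).2 k k' x h1 h3 h1' h3'
    ⟨l, a1, a2, fun a ha => hB.sub a (a3 a ha), fun a ha b hb => hB.comm a (a3 a ha) b (a3 b hb), a4⟩
    ⟨l', b1, b2, fun a ha => hB.sub a (b3 a ha), fun a ha b hb => hB.comm a (b3 a ha) b (b3 b hb), b4⟩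

omit hprim in
theorem tk_sub {k : ℕ} (h1 : 1 ≤ k) (h5 : k ≤ 5) {x : G} (hx : x ∈ Tk B k) : x ∈ span B ∧ x ≠ 1 := by
  obtain ⟨l, a1, a2, a3, rfl⟩ := hx
  exact ⟨list_mem_span a3, norel h h22 l (fun e => by rw [e, List.length_nil] at a2; omega) a1 (by omega)
    (tuple_base h hB a1 a3).2.1 (tuple_base h hB a1 a3).2.2⟩

theorem split {x : G} (hx : x ∈ span B) (hx1 : x ≠ 1) : x ∈ Tk B 1 ∨ x ∈ Tk B 2 ∨ x ∈ Tk B 3 := by
  obtain ⟨l, ht, h1, h3, rfl⟩ := decomp22 h hprim h22 x (span_sq h hB hx) hx1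
  have hm := members_in_base h hB ht h3 hx
  rcases (by omega : l.length = 1 ∨ l.length = 2 ∨ l.length = 3) with e | e | e
  exacts [Or.inl (mem_tk ht.1 hm e), Or.inr (Or.inl (mem_tk ht.1 hm e)), Or.inr (Or.inr (mem_tk ht.1 hm e))]

omit hprim in
theorem eq_or_disjoint {l l' : List G} (hn : l.Nodup) (hn' : l'.Nodup) (hm : ∀ a ∈ l ++ l', a ∈ B)
    (hp : l.prod = l'.prod) (h3 : l.length ≤ 3) (h3' : l'.length ≤ 3) :
    (∀ a, a ∈ l ↔ a ∈ l') ∨ ((∀ a ∈ l, a ∉ l') ∧ l.length = 3 ∧ l'.length = 3) := by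
  classical
  rcases Nat.lt_or_ge 5 ((l.filter fun a => decide (a ∉ l')).length + (l'.filter fun a => decide (a ∉ l)).length)
    with hlt | hge
  · right
    have e1 := List.length_filter_le (fun a => decide (a ∉ l')) l
    have e2 := List.length_filter_le (fun a => decide (a ∉ l)) l'
    refine ⟨fun a ha => ?_, by omega, by omega⟩
    have e := List.length_filter_eq_length_iff.1 (show (l.filter fun a => decide (a ∉ l')).length = l.length by omega) a ha
    simpa using e
  · exact Or.inl (eq_of_prod_eq (pre_of_hyp h) (norel h h22) l l' hn hn'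
      (fun a ha => ⟨hB.sub a (hm a ha), h.ne_one (hB.sub a (hm a ha))⟩)
      (fun a ha b hb => hB.comm a (hm a ha) b (hm b hb)) hp hge)

theorem six {a b c : G} (hn : [a, b, c].Nodup) (ha : a ∈ B) (hb : b ∈ B) (hc : c ∈ B) :
    ∃ x y z, [a, b, c, x, y, z].Nodup ∧ x ∈ B ∧ y ∈ B ∧ z ∈ B ∧ a * b * c = x * y * z := by
  obtain ⟨d, W⟩ := local22 h hprim h22
  have hm : ∀ e ∈ [a, b, c], e ∈ B := by simp [ha, hb, hc]
  obtain ⟨r, hr, hrt, hrp⟩ := six_one h W (tuple_base h hB hn hm)
  obtain ⟨x, y, z, rfl⟩ := List.length_eq_three.1 hr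
  have ht : Tuple D [x, y, z] := ⟨(List.nodup_append.1 hrt.1).2.1, fun e he => hrt.2.1 e (List.mem_append_right _ he),
    fun e he e' he' => hrt.2.2 e (List.mem_append_right _ he) e' (List.mem_append_right _ he')⟩
  have hsq : ([x, y, z] : List G).prod * [x, y, z].prod = 1 :=
    prod_mul_self _ (fun e he => h.mul_self (ht.2.1 e he).1) ht.2.2
  rw [List.prod_append] at hrp
  have hp : [a, b, c].prod = [x, y, z].prod := by
    rw [eq_inv_of_mul_eq_one_left hrp, inv_eq_of_mul_eq_one_right hsq]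
  have hxm := members_in_base h hB ht le_rfl (hp ▸ list_mem_span hm)
  exact ⟨x, y, z, hrt.1, hxm x (by simp), hxm y (by simp), hxm z (by simp), by simpa [mul_assoc] using hp⟩

/-- A triple has only one partner. -/
theorem partner {a b c : G} {t t' : List G} (hn : [a, b, c].Nodup) (hm : ∀ e ∈ [a, b, c], e ∈ B)
    (ht : t.Nodup ∧ t.length = 3 ∧ ∀ e ∈ t, e ∈ B) (ht' : t'.Nodup ∧ t'.length = 3 ∧ ∀ e ∈ t', e ∈ B)
    (hd : ∀ e ∈ [a, b, c], e ∉ t) (hd' : ∀ e ∈ [a, b, c], e ∉ t') (hp : t.prod = [a, b, c].prod)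
    (hp' : t'.prod = [a, b, c].prod) : ∀ e, e ∈ t ↔ e ∈ t' := by
  classical
  obtain ⟨d, W⟩ := local22 h hprim h22
  obtain ⟨hnd, hmem, hcomm⟩ := tuple_base h hB hn hm
  have hn3 := hnd
  simp at hn3
  obtain ⟨l, hlnd, hlen, hiff, -⟩ := W.six a (hmem a (by simp)).1 b (hmem b (by simp)) c (hmem c (by simp))
    hn3.1.1 hn3.1.2 hn3.2 (hcomm a (by simp) b (by simp)) (hcomm a (by simp) c (by simp)) (hcomm b (by simp) c (by simp))
  have hin : ∀ {u : List G}, u.Nodup ∧ u.length = 3 ∧ (∀ e ∈ u, e ∈ B) → u.prod = [a, b, c].prod →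
      ∀ e ∈ u, e ∈ l := by
    intro u hu hup e he
    have hut := tuple_base h hB hu.1 hu.2.2
    refine (hiff e).2 ⟨hut.2.1 e he, fun f hf fa fb fc => ?_⟩
    refine commute_members h hf.1 hut (by omega) ?_ e he
    rw [hup]
    simpa using (fa.mul_right (fb.mul_right fc))
  have hl3 : ∀ x ∈ [a, b, c], x ∈ l := hin ⟨hn, rfl, hm⟩ rfl
  set R := l.toFinset \ [a, b, c].toFinset with hR
  have hRc : R.card = 3 := by
    rw [hR, Finset.card_sdiff_of_subset (fun x hx => List.mem_toFinset.2 (hl3 x (List.mem_toFinset.1 hx))),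
      List.toFinset_card_of_nodup hlnd, List.toFinset_card_of_nodup hn, hlen]
    rfl
  have key : ∀ {u : List G}, u.Nodup ∧ u.length = 3 ∧ (∀ e ∈ u, e ∈ B) → (∀ e ∈ [a, b, c], e ∉ u) →
      u.prod = [a, b, c].prod → u.toFinset = R := by
    intro u hu hud hup
    refine Finset.eq_of_subset_of_card_le (fun e he => ?_) ?_
    · have he' := List.mem_toFinset.1 he
      exact Finset.mem_sdiff.2 ⟨List.mem_toFinset.2 (hin hu hup e he'), fun r => hud e (List.mem_toFinset.1 r) he'⟩
    · rw [hRc, List.toFinset_card_of_nodup hu.1, hu.2.1]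
  intro e
  rw [← List.mem_toFinset, key ht hd hp, ← key ht' hd' hp', List.mem_toFinset]

omit [Finite G] hprim h22 in
theorem toList_prod {l : List G} [DecidableEq G] (hn : l.Nodup) (hm : ∀ a ∈ l, a ∈ B) :
    l.toFinset.toList.prod = l.prod :=
  List.Perm.prod_eq' (List.toFinset_toList hn)
    (List.pairwise_of_forall_mem_list fun a ha b hb =>
      hB.comm a (hm a (List.mem_toFinset.1 (Finset.mem_toList.1 ha))) b (hm b (List.mem_toFinset.1 (Finset.mem_toList.1 hb))))

omit hprim in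
theorem tk_eq_image [DecidableEq G] (k : ℕ) :
    Tk B k = ↑((B.powersetCard k).image fun s => s.toList.prod) := by
  ext x
  simp only [Finset.coe_image, Set.mem_image, Finset.mem_coe, Finset.mem_powersetCard]
  constructor
  · rintro ⟨l, hn, hk, hm, rfl⟩
    exact ⟨l.toFinset, ⟨fun a ha => hm a (List.mem_toFinset.1 ha), (List.toFinset_card_of_nodup hn).trans hk⟩,
      toList_prod h hB hn hm⟩
  · rintro ⟨s, ⟨hs, hk⟩, rfl⟩
    exact ⟨s.toList, s.nodup_toList, (Finset.length_toList s).trans hk, fun a ha => hs (Finset.mem_toList.1 ha), rfl⟩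

theorem card_two : (Tk B 2).ncard = 231 := by
  classical
  rw [tk_eq_image h h22 hB, Set.ncard_coe_finset, Finset.card_image_of_injOn, Finset.card_powersetCard, hB.card]
  · rfl
  intro s hs t ht e
  rw [Finset.mem_coe, Finset.mem_powersetCard] at hs ht
  have ls : s.toList.length = 2 := (Finset.length_toList s).trans hs.2
  have lt : t.toList.length = 2 := (Finset.length_toList t).trans ht.2
  rcases eq_or_disjoint h h22 hB s.nodup_toList t.nodup_toList
    (fun a ha => (List.mem_append.1 ha).elim (fun r => hs.1 (Finset.mem_toList.1 r)) fun r => ht.1 (Finset.mem_toList.1 r))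
    e (by omega) (by omega) with r | ⟨-, r, -⟩
  · ext a; simpa using r a
  · omega

theorem card_three : (Tk B 3).ncard = 770 := by
  classical
  rw [tk_eq_image h h22 hB, Set.ncard_coe_finset]
  have hfib : ∀ x ∈ (B.powersetCard 3).image (fun s => s.toList.prod),
      ((B.powersetCard 3).filter fun s => s.toList.prod = x).card = 2 := by
    intro x hx
    obtain ⟨s, hs, rfl⟩ := Finset.mem_image.1 hx
    rw [Finset.mem_powersetCard] at hs
    obtain ⟨a, b, c, hl⟩ := List.length_eq_three.1 ((Finset.length_toList s).trans hs.2)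
    have hn : [a, b, c].Nodup := hl ▸ s.nodup_toList
    have hm : ∀ e ∈ [a, b, c], e ∈ B := fun e he => hs.1 (Finset.mem_toList.1 (hl.symm ▸ he))
    obtain ⟨p, q, r, hn6, hp, hq, hr, heq⟩ := six h hprim h22 hB hn (hm a (by simp)) (hm b (by simp)) (hm c (by simp))
    have hn6' : ([a, b, c] ++ [p, q, r]).Nodup := hn6
    obtain ⟨-, hn2, hdis⟩ := List.nodup_append.1 hn6'
    have hmt : ∀ e ∈ [p, q, r], e ∈ B := by simp [hp, hq, hr]
    have hpr : [p, q, r].prod = [a, b, c].prod := by simpa [mul_assoc] using heq.symm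
    suffices e : ((B.powersetCard 3).filter fun t => t.toList.prod = s.toList.prod) = {s, [p, q, r].toFinset} by
      rw [e, Finset.card_pair]
      intro r'
      have : p ∈ s := r' ▸ by simp
      exact hdis p (hl ▸ Finset.mem_toList.2 this) p (by simp) rfl
    ext t
    simp only [Finset.mem_filter, Finset.mem_powersetCard, Finset.mem_insert, Finset.mem_singleton]
    constructor
    · rintro ⟨⟨htB, htc⟩, htp⟩
      have htm : ∀ e ∈ t.toList, e ∈ B := fun e he => htB (Finset.mem_toList.1 he)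
      rcases eq_or_disjoint h h22 hB s.nodup_toList t.nodup_toList
        (fun e he => (List.mem_append.1 he).elim (fun r => hs.1 (Finset.mem_toList.1 r)) (htm e)) htp.symm
        (by rw [Finset.length_toList]; omega) (by rw [Finset.length_toList]; omega) with r' | ⟨r', -, -⟩
      · left; ext e; simpa using (r' e).symm
      · right
        ext e
        rw [List.mem_toFinset, ← Finset.mem_toList]
        exact partner h hprim h22 hB hn hm ⟨t.nodup_toList, (Finset.length_toList t).trans htc, htm⟩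
          ⟨hn2, rfl, hmt⟩ (fun u hu => r' u (hl.symm ▸ hu)) (fun u hu hu' => hdis u hu u hu' rfl)
          (htp.trans (congrArg List.prod hl)) hpr e
    · rintro (rfl | rfl)
      · exact ⟨hs, rfl⟩
      · refine ⟨⟨fun e he => hmt e (List.mem_toFinset.1 he), List.toFinset_card_of_nodup hn2⟩, ?_⟩
        rw [toList_prod h hB hn2 hmt, hpr, hl]
  have hsum := Finset.card_eq_sum_card_image (fun s => s.toList.prod) (B.powersetCard 3)
  rw [Finset.sum_congr rfl hfib, Finset.sum_const, smul_eq_mul, Finset.card_powersetCard, hB.card,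
    show (22 : ℕ).choose 3 = 1540 by decide] at hsum
  omega

theorem card_span : Nat.card (span B) = 1024 := by
  classical
  have e : (span B : Set G) = insert 1 (Tk B 1 ∪ Tk B 2 ∪ Tk B 3) := by
    ext x
    simp only [Set.mem_insert_iff, Set.mem_union, SetLike.mem_coe]
    constructor
    · intro hx
      by_cases h1 : x = 1
      · exact Or.inl h1
      · rcases split h hprim h22 hB hx h1 with r | r | r
        exacts [Or.inr (Or.inl (Or.inl r)), Or.inr (Or.inl (Or.inr r)), Or.inr (Or.inr r)]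
    · rintro (rfl | (r | r) | r)
      exacts [one_mem _, (tk_sub h h22 hB le_rfl (by norm_num) r).1, (tk_sub h h22 hB (by norm_num) (by norm_num) r).1,
        (tk_sub h h22 hB (by norm_num) (by norm_num) r).1]
  show Nat.card ↥(span B : Set G) = 1024
  rw [Nat.card_coe_set_eq, e, Set.ncard_insert_of_notMem (by
      rintro ((r | r) | r) <;> exact (tk_sub h h22 hB (by norm_num) (by norm_num) r).2 rfl),
    Set.ncard_union_eq (Set.disjoint_left.2 fun x r r' => r.elim
      (fun q => absurd (tk_unique h hprim h22 hB (by norm_num) (by norm_num) (by norm_num) (by norm_num) q r') (by norm_num))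
      fun q => absurd (tk_unique h hprim h22 hB (by norm_num) (by norm_num) (by norm_num) (by norm_num) q r') (by norm_num)),
    Set.ncard_union_eq (Set.disjoint_left.2 fun x r r' =>
      absurd (tk_unique h hprim h22 hB (by norm_num) (by norm_num) (by norm_num) (by norm_num) r r') (by norm_num)),
    tk_one, Set.ncard_coe_finset, hB.card, card_two h hprim h22 hB, card_three h hprim h22 hB]

/-- Two members lie with two others in a product of two. -/
theorem four_two {a b : G} (hn : a ≠ b) (ha : a ∈ B) (hb : b ∈ B) :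
    ∃ x y, [a, b, x, y].Nodup ∧ x ∈ B ∧ y ∈ B ∧ a * b * (x * y) ∈ Tk B 2 := by
  classical
  obtain ⟨g, hg, hga, hgb⟩ : ∃ g ∈ B, g ≠ a ∧ g ≠ b := by
    by_contra hcon
    push Not at hcon
    have := Finset.card_le_card (s := B) (t := ({a, b} : Finset G)) fun g hg => by
      by_cases e : g = a
      · simp [e]
      · simp [hcon g hg e]
    have := Finset.card_le_two (a := a) (b := b)
    rw [hB.card] at *
    omega
  obtain ⟨x, y, z, hn6, hx, hy, hz, heq⟩ := six h hprim h22 hB
    (by simp [hn, hga.symm, hgb.symm] : [a, b, g].Nodup) ha hb hg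
  simp at hn6
  refine ⟨g, x, by simp [hn, hga.symm, hgb.symm]; tauto, hg, hx, ?_⟩
  have e : a * b * (g * x) = y * z := by
    rw [← mul_assoc (a * b), heq]
    have c : Commute (y * z) x := (hB.comm y hy x hx).mul_left (hB.comm z hz x hx)
    rw [mul_assoc x y z, mul_assoc x, c.eq, ← mul_assoc, h.mul_self (hB.sub x hx), one_mul]
  rw [e]
  exact pair_mem (by tauto) hy hz

/-- Two members lie with two others in a product of three. -/
theorem four_three {a b : G} (hn : a ≠ b) (ha : a ∈ B) (hb : b ∈ B) :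
    ∃ x y, [a, b, x, y].Nodup ∧ x ∈ B ∧ y ∈ B ∧ a * b * (x * y) ∈ Tk B 3 := by
  classical
  obtain ⟨g, hg, hga, hgb⟩ : ∃ g ∈ B, g ≠ a ∧ g ≠ b := by
    obtain ⟨x, y, hn4, hx, -, -⟩ := four_two h hprim h22 hB hn ha hb
    simp at hn4
    exact ⟨x, hx, Ne.symm hn4.1.2.1, Ne.symm hn4.2.1.1⟩
  have hn3 : [a, b, g].Nodup := by simp [hn, hga.symm, hgb.symm]
  obtain ⟨p, q, r, hn6, hp, hq, hr, heq⟩ := six h hprim h22 hB hn3 ha hb hg
  obtain ⟨y, hy, hyn⟩ : ∃ y ∈ B, y ∉ [a, b, g, p, q, r].toFinset := by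
    by_contra hcon
    push Not at hcon
    have := Finset.card_le_card (show B ⊆ [a, b, g, p, q, r].toFinset from hcon)
    have := List.toFinset_card_le [a, b, g, p, q, r]
    simp only [List.length_cons, List.length_nil, hB.card] at *
    omega
  rw [List.mem_toFinset] at hyn
  simp at hyn
  have hn4 : [a, b, g, y].Nodup := by
    simp [hn, hga.symm, hgb.symm, Ne.symm hyn.1, Ne.symm hyn.2.1, Ne.symm hyn.2.2.1]
  refine ⟨g, y, hn4, hg, hy, ?_⟩
  have hm4 : ∀ e ∈ [a, b, g, y], e ∈ B := by simp [ha, hb, hg, hy]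
  have hprod : a * b * (g * y) = [a, b, g, y].prod := by simp [mul_assoc]
  rw [hprod]
  have hT := tuple_base h hB hn4 hm4
  have h4 : [a, b, g, y].prod ∈ Tk B 4 := mem_tk hn4 hm4 rfl
  obtain ⟨hin, hne⟩ := tk_sub h h22 hB (by norm_num) (by norm_num) h4
  rcases split h hprim h22 hB hin hne with r' | r' | r'
  · exfalso
    obtain ⟨l, hl, hlk, hlm, hlp⟩ := r'
    have := eq_of_prod_eq (pre_of_hyp h) (norel h h22) _ l hn4 hl
      (fun e he => (List.mem_append.1 he).elim (fun q => hT.2.1 e q) fun q => (tuple_base h hB hl hlm).2.1 e q)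
      (fun e he e' he' => hB.comm e ((List.mem_append.1 he).elim (hm4 e) (hlm e)) e' ((List.mem_append.1 he').elim (hm4 e') (hlm e')))
      hlp.symm (by
        have e1 := List.length_filter_le (fun u => decide (u ∉ l)) [a, b, g, y]
        have e2 := List.length_filter_le (fun u => decide (u ∉ [a, b, g, y])) l
        simp only [List.length_cons, List.length_nil] at e1
        omega)
    have := ((List.perm_ext_iff_of_nodup hn4 hl).2 this).length_eq
    simp [hlk] at this
  · exfalso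
    obtain ⟨l, hl, hlk, hlm, hlp⟩ := r'
    obtain ⟨u, v, rfl⟩ := List.length_eq_two.1 hlk
    have huv : u ≠ v := by simpa using hl
    have hu := hlm u (by simp)
    have hv := hlm v (by simp)
    by_cases hy' : y = u ∨ y = v
    · -- then `a * b * g` is one member
      obtain ⟨w, hw, hwe⟩ : ∃ w ∈ B, a * b * g = w := by
        have e : a * b * g = u * v * y := by
          have := congrArg (· * y) hlp
          simp [mul_assoc, h.mul_self (hB.sub y hy)] at this
          simpa [mul_assoc] using this.symm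
        rcases hy' with e' | e' <;> rw [e'] at e
        · exact ⟨v, hv, e.trans (by rw [mul_assoc, (hB.comm v hv u hu).eq, ← mul_assoc, h.mul_self (hB.sub u hu), one_mul])⟩
        · exact ⟨u, hu, e.trans (by rw [mul_assoc, h.mul_self (hB.sub v hv), mul_one])⟩
      exact absurd (tk_unique h hprim h22 hB (by norm_num) (by norm_num) (by norm_num) (by norm_num)
        (triple_mem hn3 ha hb hg) (show a * b * g ∈ Tk B 1 by rw [tk_one, hwe]; exact hw)) (by norm_num)
    · push Not at hy'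
      have e : [a, b, g].prod = [u, v, y].prod := by
        have := congrArg (· * y) hlp
        simp [mul_assoc, h.mul_self (hB.sub y hy)] at this ⊢
        exact this.symm
      have hn' : [u, v, y].Nodup := by simp [huv, Ne.symm hy'.1, Ne.symm hy'.2]
      rcases eq_or_disjoint h h22 hB hn3 hn' (by simp [ha, hb, hg, hu, hv, hy]) e (by simp) (by simp)
        with q' | ⟨q', -, -⟩
      · have := (q' y).2 (by simp)
        simp at this
        tauto
      · have hmem := partner h hprim h22 hB hn3 (by simp [ha, hb, hg]) (t := [u, v, y]) (t' := [p, q, r])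
          ⟨hn', rfl, by simp [hu, hv, hy]⟩
          ⟨(List.nodup_append.1 (show ([a, b, g] ++ [p, q, r]).Nodup from hn6)).2.1, rfl, by simp [hp, hq, hr]⟩
          q' (fun e' he he' => (List.nodup_append.1 (show ([a, b, g] ++ [p, q, r]).Nodup from hn6)).2.2 e' he e' he' rfl)
          e.symm (by simpa [mul_assoc] using heq.symm)
        have := (hmem y).1 (by simp)
        simp at this
        tauto
  · exact r'

end facts

section sylow
include h hprim h22

theorem exists_base (T : Sylow 2 G) : ∃ B : Finset G, Base D B ∧ (↑B : Set G) = {x | x ∈ D ∧ x ∈ (T : Subgroup G)} :=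
  BaseThompson.base_of_sylow h (card22 h hprim h22).2 T

variable {T : Sylow 2 G} (hBT : (↑B : Set G) = {x | x ∈ D ∧ x ∈ (T : Subgroup G)})
include hB hBT

omit hprim h22 hB in
theorem conj_base {t b : G} (ht : t ∈ (T : Subgroup G)) (hb : b ∈ B) : t * b * t⁻¹ ∈ B := by
  have hb' : b ∈ {x | x ∈ D ∧ x ∈ (T : Subgroup G)} := hBT ▸ Finset.mem_coe.2 hb
  exact Finset.mem_coe.1 (hBT.symm ▸ ⟨h.conj t b hb'.1, mul_mem (mul_mem ht hb'.2) (inv_mem ht)⟩)

omit hprim h22 hB in
theorem span_le : span B ≤ (T : Subgroup G) :=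
  (Subgroup.closure_le _).2 fun b hb => (hBT ▸ hb :).2

theorem uniq {A : Subgroup G} (hA : A ≤ (T : Subgroup G)) (h2 : ∀ x ∈ A, x * x = 1) (hc : 1024 ≤ Nat.card A) :
    A = span B := by
  have hAe : Cfsg.IsElementaryAbelian 2 A := by
    refine ⟨⟨⟨fun x y => Subtype.ext ?_⟩⟩, fun a ha => (pow_two a).trans (h2 a ha)⟩
    have h1 := inv_eq_of_mul_eq_one_right (h2 _ (mul_mem x.2 y.2))
    rw [mul_inv_rev, inv_eq_of_mul_eq_one_right (h2 _ x.2), inv_eq_of_mul_eq_one_right (h2 _ y.2)] at h1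
    exact h1.symm
  obtain ⟨d, W⟩ := local22 h hprim h22
  have hle : A ≤ span B := by
    by_contra hle
    have := BaseThompson.card_lt h (decomp22 h hprim h22) W.norel W.six hB hAe
      (fun a ha b hb => conj_base h hBT (hA ha) hb) hle
    rw [card_span h hprim h22 hB] at this
    omega
  exact Subgroup.eq_of_le_of_card_ge hle ((card_span h hprim h22 hB).trans_le hc)

/-- Commuting members are moved into the base. -/
theorem move_into {S : Set G} (hS : S ⊆ D) (hc : ∀ a ∈ S, ∀ b ∈ S, Commute a b) :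
    ∃ g, ∀ a ∈ S, g * a * g⁻¹ ∈ B := by
  haveI : Fact (Nat.Prime 2) := ⟨Nat.prime_two⟩
  obtain ⟨P, hP⟩ := (isPGroup_closure_commuting h hS hc).exists_le_sylow
  obtain ⟨g, hg⟩ := MulAction.exists_smul_eq G P T
  refine ⟨g, fun a ha => Finset.mem_coe.1 (hBT.symm ▸ ⟨h.conj g a (hS ha), ?_⟩)⟩
  rw [← hg, Sylow.smul_def, Sylow.pointwise_smul_def]
  exact ⟨a, hP (Subgroup.subset_closure ha), rfl⟩

theorem invol {x : G} (hx : x * x = 1) : ∃ g, g * x * g⁻¹ ∈ span B := by
  by_cases hx1 : x = 1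
  · exact ⟨1, by simp [hx1]⟩
  obtain ⟨l, ht, -, -, rfl⟩ := decomp22 h hprim h22 x hx hx1
  obtain ⟨g, hg⟩ := move_into h hprim h22 hB hBT (S := {a | a ∈ l}) (fun a ha => (ht.2.1 a ha).1) ht.2.2
  refine ⟨g, ?_⟩
  show MulAut.conj g l.prod ∈ span B
  rw [map_list_prod]
  refine list_prod_mem fun y hy => ?_
  obtain ⟨a, ha, rfl⟩ := List.mem_map.1 hy
  exact Subgroup.subset_closure (hg a ha)

omit hprim h22 in
/-- A Sylow subgroup fixes a pair of its base. -/
theorem exists_pair : ∃ c ∈ B, ∃ e ∈ B, c ≠ e ∧ ∀ t ∈ (T : Subgroup G),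
    (t * c * t⁻¹ = c ∧ t * e * t⁻¹ = e) ∨ (t * c * t⁻¹ = e ∧ t * e * t⁻¹ = c) := by
  classical
  haveI : Fact (Nat.Prime 2) := ⟨Nat.prime_two⟩
  let P2 := {s : Finset G // s ⊆ B ∧ s.card = 2}
  have hinj : ∀ t : G, Function.Injective fun x : G => t * x * t⁻¹ := fun t a b e => by simpa using e
  letI : MulAction (T : Subgroup G) P2 :=
    { smul := fun t s => ⟨s.1.image fun x => (t : G) * x * (t : G)⁻¹,
        fun y hy => by
          obtain ⟨x, hx, rfl⟩ := Finset.mem_image.1 hy
          exact conj_base h hBT t.2 (s.2.1 hx),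
        (Finset.card_image_of_injective _ (hinj t)).trans s.2.2⟩
      one_smul := fun s => Subtype.ext (by
        show s.1.image _ = s.1
        simp)
      mul_smul := fun t u s => Subtype.ext (by
        show s.1.image _ = (s.1.image _).image _
        rw [Finset.image_image]
        refine Finset.image_congr fun x _ => ?_
        simp [mul_assoc]) }
  have hcard : Nat.card P2 = 231 := by
    rw [Nat.card_congr (Equiv.subtypeEquivRight (q := fun s => s ∈ B.powersetCard 2) fun s => Finset.mem_powersetCard.symm),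
      Nat.card_eq_fintype_card, Fintype.card_coe, Finset.card_powersetCard, hB.card]
    rfl
  haveI : Finite P2 := Nat.finite_of_card_ne_zero (by rw [hcard]; norm_num)
  obtain ⟨s, hs⟩ : (MulAction.fixedPoints (T : Subgroup G) P2).Nonempty := by
    refine T.isPGroup'.nonempty_fixed_point_of_prime_not_dvd_card P2 ?_
    rw [hcard]
    norm_num
  obtain ⟨c, e, hne, hse⟩ := Finset.card_eq_two.1 s.2.2
  refine ⟨c, s.2.1 (by simp [hse]), e, s.2.1 (by simp [hse]), hne, fun t ht => ?_⟩
  have he : s.1.image (fun x => t * x * t⁻¹) = s.1 := congrArg Subtype.val (hs ⟨t, ht⟩)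
  rw [hse] at he
  have h1 : t * c * t⁻¹ ∈ ({c, e} : Finset G) := he ▸ Finset.mem_image_of_mem _ (by simp)
  have h2 : t * e * t⁻¹ ∈ ({c, e} : Finset G) := he ▸ Finset.mem_image_of_mem _ (by simp)
  simp only [Finset.mem_insert, Finset.mem_singleton] at h1 h2
  rcases h1 with a | a <;> rcases h2 with b | b
  · exact absurd (hinj t (a.trans b.symm)) hne
  · exact Or.inl ⟨a, b⟩
  · exact Or.inr ⟨a, b⟩
  · exact absurd (hinj t (a.trans b.symm)) hne

end sylow

end CfsgLib.Spor.Tri.Base22
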