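/-
A double cover of a group with a distinguished elementary subgroup of order `2 ^ 9` as the
centralizer of an involution: the fusion of the involution inside the preimage.
-/
import Cfsg.Agent.Lib.Fusion.Thompson
import Cfsg.Prelude.Def_CaseTheorems
import Mathlib.GroupTheory.Transfer

namespace CfsgLib.Spor.Tri.CoverBase

/-- What is used about the quotient. -/
structure BaseFacts {X : Type*} [Group X] (E S U2 U1 : Subgroup X) (T1 T2 T3 : Set X) : Prop where
  sq : ∀ x ∈ E, x * x = 1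
  cardE : Nat.card E = 512
  cardS : Nat.card S = 2 ^ 15
  odd : ¬ 2 ^ 16 ∣ Nat.card X
  leE : E ≤ S
  le2 : U2 ≤ S
  le1 : U1 ≤ S
  uniq : ∀ B : Subgroup X, B ≤ S → (∀ x ∈ B, x * x = 1) → 512 ≤ Nat.card B → B = E
  invol : ∀ x : X, x * x = 1 → ∃ g, g * x * g⁻¹ ∈ E
  sub1 : ∀ x ∈ T1, x ∈ E ∧ x ≠ 1
  sub2 : ∀ x ∈ T2, x ∈ E ∧ x ≠ 1
  sub3 : ∀ x ∈ T3, x ∈ E ∧ x ≠ 1
  split : ∀ x ∈ E, x ≠ 1 → x ∈ T1 ∨ x ∈ T2 ∨ x ∈ T3
  disj12 : ∀ x ∈ T1, x ∉ T2
  disj3 : ∀ x ∈ T3, x ∉ T1 ∧ x ∉ T2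
  card1 : T1.ncard = 21
  card2 : T2.ncard = 210
  card3 : T3.ncard = 280
  class1 : ∀ t ∈ T1, ∀ t' ∈ T1, ∃ g, g * t * g⁻¹ = t'
  class2 : ∀ t ∈ T2, ∀ t' ∈ T2, ∃ g, g * t * g⁻¹ = t'
  class3 : ∀ t ∈ T3, ∀ t' ∈ T3, ∃ g, g * t * g⁻¹ = t'
  square : ∀ t, t ∈ T1 ∨ t ∈ T2 → ∃ y, y * y = t
  mix12 : ∃ t ∈ T1, ∃ w ∈ T2, t * w ∈ T3
  mix13 : ∃ t ∈ T1, ∃ h ∈ T3, h * t ∈ T3
  conj2 : ∃ g, ∀ x ∈ U2, g * x * g⁻¹ ∈ E
  conj1 : ∃ g, ∀ x ∈ U1, g * x * g⁻¹ ∈ E
  norm2 : ∀ u ∈ U2, ∀ x ∈ E, u * x * u⁻¹ ∈ E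
  norm1 : ∀ u ∈ U1, ∀ x ∈ E, u * x * u⁻¹ ∈ E
  norm12 : ∀ u ∈ U1, ∀ x ∈ U2, u * x * u⁻¹ ∈ U2
  gen : ∀ x ∈ S, ∃ e ∈ E, ∃ u ∈ U2, ∃ v ∈ U1, x = e * u * v
  meet : ∀ e ∈ E, ∀ u ∈ U2, ∀ v ∈ U1, e * u * v = 1 → e = 1 ∧ u = 1 ∧ v = 1

variable {G : Type*} [Group G] [Finite G] {d : G} {X : Type*} [Group X]

local notation "C(" d ")" => Subgroup.centralizer ({d} : Set _)

/-- The double cover. -/
structure Setting (d : G) (π : ↥(Subgroup.centralizer ({d} : Set G)) →* X) : Prop where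
  ne_one : d ≠ 1
  sq : d * d = 1
  surj : Function.Surjective π
  ker : ∀ k, π k = 1 → k = 1 ∨ (k : G) = d
  apply_self : ∀ k : ↥(Subgroup.centralizer ({d} : Set G)), (k : G) = d → π k = 1
  perfect : commutator ↥(Subgroup.centralizer ({d} : Set G)) = ⊤
  lift : ∀ x : X, x * x = 1 → ∃ y, y * y = 1 ∧ π y = x
  nonsq : ¬ ∃ g : G, g * g = d

variable {π : ↥(Subgroup.centralizer ({d} : Set G)) →* X} {E S U2 U1 : Subgroup X} {T1 T2 T3 : Set X}

/-- `d` as a member of its centralizer. -/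
def zel (d : G) : ↥(Subgroup.centralizer ({d} : Set G)) := ⟨d, Subgroup.mem_centralizer_singleton_iff.2 rfl⟩

theorem zel_comm (g : ↥(Subgroup.centralizer ({d} : Set G))) : Commute g (zel d) :=
  Subtype.ext (Subgroup.mem_centralizer_singleton_iff.1 g.2)

theorem conj_iff (c x : ↥(Subgroup.centralizer ({d} : Set G))) :
    IsConj d ((c * x * c⁻¹ : ↥(Subgroup.centralizer ({d} : Set G))) : G) ↔ IsConj d (x : G) := by
  have h : IsConj (x : G) ((c * x * c⁻¹ : ↥(Subgroup.centralizer ({d} : Set G))) : G) :=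
    isConj_iff.2 ⟨c, rfl⟩
  exact ⟨fun r => r.trans h.symm, fun r => r.trans h⟩

section lifts

variable (hS : Setting d π)
include hS

theorem zel_ne : zel d ≠ 1 := fun e => hS.ne_one (congrArg Subtype.val e)

theorem zel_sq : zel d * zel d = 1 := Subtype.ext hS.sq

theorem map_zel : π (zel d) = 1 := hS.apply_self _ rfl

theorem map_mul_zel (x : ↥(Subgroup.centralizer ({d} : Set G))) : π (x * zel d) = π x := by
  rw [map_mul, map_zel hS, mul_one]

theorem mul_zel_ne (x : ↥(Subgroup.centralizer ({d} : Set G))) : x * zel d ≠ x :=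
  fun e => zel_ne hS (mul_eq_left.1 e)

theorem eq_or {x y : ↥(Subgroup.centralizer ({d} : Set G))} (h : π x = π y) : y = x ∨ y = x * zel d := by
  rcases hS.ker (x⁻¹ * y) (by rw [map_mul, map_inv, h, inv_mul_cancel]) with r | r
  · exact Or.inl (inv_mul_eq_one.1 r).symm
  · exact Or.inr (eq_mul_of_inv_mul_eq (Subtype.ext r))

theorem conj_zel : IsConj d (zel d : G) := IsConj.refl d

theorem not_conj_one : ¬ IsConj d ((1 : ↥(Subgroup.centralizer ({d} : Set G))) : G) :=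
  fun r => hS.ne_one (isConj_one_left.1 r)

theorem sq_of_map {K : Subgroup X} (hK : ∀ x ∈ K, x * x = 1) {x : ↥(Subgroup.centralizer ({d} : Set G))}
    (hx : π x ∈ K) : x * x = 1 := by
  obtain ⟨y, hy, hyx⟩ := hS.lift _ (hK _ hx)
  rcases eq_or hS hyx with r | r <;> rw [r]
  · exact hy
  · rw [(zel_comm y).symm.mul_mul_mul_comm, hy, zel_sq hS, one_mul]

theorem not_both {t : X} {y : X} (hy : y * y = t) {x : ↥(Subgroup.centralizer ({d} : Set G))} (hx : π x = t)
    (h1 : IsConj d (x : G)) : ¬ IsConj d ((x * zel d : ↥(Subgroup.centralizer ({d} : Set G))) : G) := by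
  intro h2
  obtain ⟨u, rfl⟩ := hS.surj y
  have hu : IsConj d ((u * u : ↥(Subgroup.centralizer ({d} : Set G))) : G) := by
    rcases eq_or hS (hx.trans (hy.symm.trans (map_mul π u u).symm)) with r | r <;> rw [r] <;> assumption
  obtain ⟨g, hg⟩ := isConj_iff.1 hu.symm
  refine hS.nonsq ⟨g * u * g⁻¹, Eq.trans ?_ hg⟩
  show g * (u : G) * g⁻¹ * (g * u * g⁻¹) = g * ((u : G) * u) * g⁻¹
  group

theorem card_comap (P : Subgroup X) : Nat.card (P.comap π) = 2 * Nat.card P := by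
  classical
  haveI : Finite X := Finite.of_surjective π hS.surj
  have hker : Nat.card π.ker = 2 := by
    have e : (π.ker : Set ↥(Subgroup.centralizer ({d} : Set G))) = {1, zel d} := by
      ext k
      refine ⟨fun hk => ?_, ?_⟩
      · rcases hS.ker k hk with r | r
        · exact Or.inl r
        · exact Or.inr (Subtype.ext r)
      · rintro (rfl | rfl)
        · exact one_mem _
        · exact map_zel hS
    show Nat.card ↥(π.ker : Set ↥(Subgroup.centralizer ({d} : Set G))) = 2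
    rw [Nat.card_coe_set_eq, e, Set.ncard_pair (zel_ne hS).symm]
  have h1 := Subgroup.card_eq_card_quotient_mul_card_subgroup π.ker
  rw [Nat.card_congr (QuotientGroup.quotientKerEquivOfSurjective π hS.surj).toEquiv, hker,
    ← (P.comap π).card_mul_index, Subgroup.index_comap_of_surjective P hS.surj, ← P.card_mul_index] at h1
  exact Nat.eq_of_mul_eq_mul_right (Nat.pos_of_ne_zero P.index_ne_zero_of_finite) (h1.trans (by ring))

/-- A lift of each involution is conjugate into the preimage of `E`. -/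
theorem invol_move (hB : BaseFacts E S U2 U1 T1 T2 T3) {x : ↥(Subgroup.centralizer ({d} : Set G))}
    (hx : x * x = 1) : ∃ c, π (c * x * c⁻¹) ∈ E := by
  obtain ⟨g, hg⟩ := hB.invol (π x) (by rw [← map_mul, hx, map_one])
  obtain ⟨c, rfl⟩ := hS.surj g
  exact ⟨c, by rwa [map_mul, map_mul, map_inv]⟩

theorem class_mult {T : Set X} (hT : ∀ t ∈ T, ∀ t' ∈ T, ∃ g, g * t * g⁻¹ = t') (hne : T.Nonempty) :
    ((∀ x, π x ∈ T → ¬ IsConj d (x : G)) ∧ {x | π x ∈ T ∧ IsConj d (x : G)}.ncard = 0) ∨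
    ((∀ x, π x ∈ T → (IsConj d (x : G) ↔ ¬ IsConj d ((x * zel d : ↥(Subgroup.centralizer ({d} : Set G))) : G))) ∧
      {x | π x ∈ T ∧ IsConj d (x : G)}.ncard = T.ncard) ∨
    ((∀ x, π x ∈ T → IsConj d (x : G)) ∧ {x | π x ∈ T ∧ IsConj d (x : G)}.ncard = 2 * T.ncard) := by
  classical
  haveI : Finite X := Finite.of_surjective π hS.surj
  let fib : X → Set ↥(Subgroup.centralizer ({d} : Set G)) := fun t => {x | π x = t ∧ IsConj d (x : G)}
  have hconst : ∀ t ∈ T, ∀ t' ∈ T, (fib t).ncard ≤ (fib t').ncard := by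
    intro t ht t' ht'
    obtain ⟨g, hg⟩ := hT t ht t' ht'
    obtain ⟨c, rfl⟩ := hS.surj g
    rw [← Set.ncard_image_of_injective (fib t) (MulAut.conj c).injective]
    refine Set.ncard_le_ncard ?_ (Set.toFinite _)
    rintro _ ⟨x, ⟨hx, hxc⟩, rfl⟩
    exact ⟨by show π (c * x * c⁻¹) = t'; rw [map_mul, map_mul, map_inv, hx, hg], (conj_iff c x).2 hxc⟩
  obtain ⟨t₀, ht₀⟩ := hne
  have hm : ∀ t ∈ T, (fib t).ncard = (fib t₀).ncard := fun t ht =>
    le_antisymm (hconst t ht t₀ ht₀) (hconst t₀ ht₀ t ht)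
  have hle : ∀ x, fib (π x) ⊆ {x, x * zel d} := fun x y hy => by
    rcases eq_or hS hy.1.symm with r | r <;> simp [r]
  have hpair : ∀ x : ↥(Subgroup.centralizer ({d} : Set G)),
      ({x, x * zel d} : Set ↥(Subgroup.centralizer ({d} : Set G))).ncard = 2 :=
    fun x => Set.ncard_pair (mul_zel_ne hS x).symm
  have h2 : (fib t₀).ncard ≤ 2 := by
    obtain ⟨x, rfl⟩ := hS.surj t₀
    exact (Set.ncard_le_ncard (hle x) (Set.toFinite _)).trans (hpair x).le
  have hcount : {x | π x ∈ T ∧ IsConj d (x : G)}.ncard = (fib t₀).ncard * T.ncard := by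
    haveI := Fintype.ofFinite ↥(Subgroup.centralizer ({d} : Set G))
    rw [Set.ncard_eq_toFinset_card' , Set.ncard_eq_toFinset_card T (Set.toFinite _),
      Finset.card_eq_sum_card_fiberwise (f := π) (t := (Set.toFinite T).toFinset) (fun x hx => by
        simp at hx ⊢; exact hx.1)]
    rw [Finset.sum_congr rfl (g := fun _ => (fib t₀).ncard) (fun t ht => ?_), Finset.sum_const, smul_eq_mul, mul_comm]
    simp only [Set.Finite.mem_toFinset] at ht
    rw [← hm t ht, Set.ncard_eq_toFinset_card']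
    congr 1
    ext x
    simp [fib]
    constructor
    · rintro ⟨⟨-, h1⟩, h2⟩; exact ⟨h2, h1⟩
    · rintro ⟨h1, h2⟩; exact ⟨⟨h1 ▸ ht, h2⟩, h1⟩
  obtain h | h | h : (fib t₀).ncard = 0 ∨ (fib t₀).ncard = 1 ∨ (fib t₀).ncard = 2 := by omega
  · refine Or.inl ⟨fun x hx hxc => ?_, by rw [hcount, h, zero_mul]⟩
    have h0 := (Set.ncard_eq_zero (Set.toFinite _)).1 ((hm _ hx).trans h)
    exact Set.eq_empty_iff_forall_notMem.1 h0 x ⟨rfl, hxc⟩
  · refine Or.inr (Or.inl ⟨fun x hx => ?_, by rw [hcount, h, one_mul]⟩)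
    obtain ⟨a, ha⟩ := Set.ncard_eq_one.1 ((hm _ hx).trans h)
    constructor
    · intro h1 h2
      have m1 : x ∈ fib (π x) := ⟨rfl, h1⟩
      have m2 : x * zel d ∈ fib (π x) := ⟨map_mul_zel hS x, h2⟩
      rw [ha, Set.mem_singleton_iff] at m1 m2
      exact mul_zel_ne hS x (m2.trans m1.symm)
    · intro h2
      have hmem : a ∈ fib (π x) := by rw [ha]; exact Set.mem_singleton a
      rcases hle x hmem with r | r
      · exact r ▸ hmem.2
      · exact absurd ((Set.mem_singleton_iff.1 r) ▸ hmem.2) h2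
  · refine Or.inr (Or.inr ⟨fun x hx => ?_, by rw [hcount, h]⟩)
    have e := Set.eq_of_subset_of_ncard_le (hle x) (by rw [hpair, hm _ hx, h]) (Set.toFinite _)
    exact (e.symm ▸ Set.mem_insert x _ : x ∈ fib (π x)).2

end lifts

/-- No prime that is too large divides the size of a fused set. -/
theorem not_prime_dvd {A0 : Subgroup G} (hcard : Nat.card A0 = 2 ^ 10) {O : Set G} (hO : ∀ x ∈ O, x ∈ A0)
    {a : G} (ha : a ∈ O) (htrans : ∀ x ∈ O, ∃ n ∈ Subgroup.normalizer (A0 : Set G), n * a * n⁻¹ = x)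
    (hinv : ∀ n ∈ Subgroup.normalizer (A0 : Set G), ∀ x ∈ O, n * x * n⁻¹ ∈ O)
    {p : ℕ} (hp : p.Prime) (hb : ∀ j < 10, ¬ p ∣ 2 ^ 10 - 2 ^ j) : ¬ p ∣ O.ncard := by
  classical
  intro hdvd
  haveI := Fact.mk hp
  let H := (Subgroup.normalizerMonoidHom A0).range
  have horb : MulAction.orbit H (⟨a, hO a ha⟩ : A0) = {x : A0 | (x : G) ∈ O} := by
    ext x
    constructor
    · rintro ⟨⟨_, n, rfl⟩, rfl⟩
      exact hinv n n.2 a ha
    · intro hx
      obtain ⟨n, hn, hnx⟩ := htrans x hx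
      exact ⟨⟨_, ⟨n, hn⟩, rfl⟩, Subtype.ext hnx⟩
  have hn : O.ncard = (MulAction.orbit H (⟨a, hO a ha⟩ : A0)).ncard := by
    rw [horb, ← Set.ncard_image_of_injective _ Subtype.val_injective]
    congr 1
    ext x
    exact ⟨fun hx => ⟨⟨x, hO x hx⟩, hx, rfl⟩, by rintro ⟨y, hy, rfl⟩; exact hy⟩
  rw [hn, ← MulAction.index_stabilizer] at hdvd
  obtain ⟨σ, hσ⟩ := exists_prime_orderOf_dvd_card' p (hdvd.trans (Subgroup.index_dvd_card _))
  rw [← Subgroup.orderOf_coe] at hσ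
  set Z := Subgroup.zpowers (σ : MulAut A0)
  have hZ : IsPGroup p Z := IsPGroup.of_card (n := 1) (by rw [Nat.card_zpowers, hσ, pow_one])
  have hmod := hZ.card_modEq_card_fixedPoints (α := A0)
  set F : Subgroup A0 := MonoidHom.eqLocus (σ : MulAut A0).toMonoidHom (MonoidHom.id _)
  have hfix : MulAction.fixedPoints Z A0 = (F : Set A0) := by
    ext x
    constructor
    · intro hx
      exact hx ⟨_, Subgroup.mem_zpowers _⟩
    · intro hx z
      have hmem : (z : MulAut A0) ∈ MulAction.stabilizer (MulAut A0) x :=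
        Subgroup.zpowers_le.2 (show (σ : MulAut A0) ∈ MulAction.stabilizer (MulAut A0) x from hx) z.2
      exact hmem
  rw [hfix, hcard, show Nat.card ↥(F : Set A0) = Nat.card F from rfl] at hmod
  obtain ⟨j, hj, hjF⟩ := (Nat.dvd_prime_pow Nat.prime_two).1 (hcard ▸ Subgroup.card_subgroup_dvd_card F)
  rw [hjF] at hmod
  rcases Nat.lt_or_ge j 10 with hj' | hj'
  · exact hb j hj' ((Nat.modEq_iff_dvd' (Nat.pow_le_pow_right two_pos hj)).1 hmod.symm)
  · have hjj : j = 10 := by omega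
    have hF : F = ⊤ := Subgroup.eq_top_of_card_eq F (by rw [hjF, hjj, hcard])
    have h1 : (σ : MulAut A0) = 1 := MulEquiv.ext fun x =>
      show (σ : MulAut A0).toMonoidHom x = x from (hF ▸ Subgroup.mem_top x : x ∈ F)
    rw [h1, orderOf_one] at hσ
    exact hp.ne_one hσ.symm

section main

variable (hS : Setting d π) (hB : BaseFacts E S U2 U1 T1 T2 T3)
include hS hB

/-- The preimage in the group. -/
def up (_hS : Setting d π) (_hB : BaseFacts E S U2 U1 T1 T2 T3) : Subgroup G :=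
  (E.comap π).map (Subgroup.centralizer ({d} : Set G)).subtype

theorem mem_up {x : G} : x ∈ up hS hB ↔ ∃ c : ↥(Subgroup.centralizer ({d} : Set G)), π c ∈ E ∧ (c : G) = x :=
  Iff.rfl

theorem up_card : Nat.card (up hS hB) = 2 ^ 10 := by
  rw [up, Subgroup.card_map_of_injective (Subgroup.subtype_injective _), card_comap hS, hB.cardE]
  norm_num

theorem comap_elem : Cfsg.IsElementaryAbelian 2 (E.comap π) := by
  have h : ∀ x ∈ E.comap π, x * x = 1 := fun x hx => sq_of_map hS hB.sq hx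
  refine ⟨⟨⟨fun a b => Subtype.ext ?_⟩⟩, fun a ha => (pow_two a).trans (h a ha)⟩
  have h1 := inv_eq_of_mul_eq_one_right (h _ (mul_mem a.2 b.2))
  rw [mul_inv_rev, inv_eq_of_mul_eq_one_right (h _ a.2), inv_eq_of_mul_eq_one_right (h _ b.2)] at h1
  exact h1.symm

theorem sylow_comap : ∃ P : Sylow 2 ↥(Subgroup.centralizer ({d} : Set G)), (P : Subgroup _) = S.comap π := by
  haveI := Fact.mk Nat.prime_two
  haveI : Finite X := Finite.of_surjective π hS.surj
  have hc : Nat.card (S.comap π) = 2 ^ 16 := by rw [card_comap hS, hB.cardS]; norm_num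
  have hidx : ¬ 2 ∣ (S.comap π).index := by
    rw [Subgroup.index_comap_of_surjective S hS.surj]
    intro h
    refine hB.odd ?_
    rw [← S.card_mul_index, hB.cardS, pow_succ]
    exact Nat.mul_dvd_mul_left _ h
  exact ⟨(IsPGroup.of_card hc).toSylow hidx, rfl⟩

theorem uniq_comap {B : Subgroup ↥(Subgroup.centralizer ({d} : Set G))} (hle : B ≤ S.comap π)
    (h2 : ∀ x ∈ B, x * x = 1) (hc : 2 ^ 10 ≤ Nat.card B) : B = E.comap π := by
  haveI : Finite X := Finite.of_surjective π hS.surj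
  have hsub : B ≤ (B.map π).comap π := Subgroup.le_comap_map π B
  have hcm : 512 ≤ Nat.card (B.map π) := by
    have := Subgroup.card_le_of_le hsub
    rw [card_comap hS] at this
    omega
  have e := hB.uniq (B.map π) (Subgroup.map_le_iff_le_comap.2 hle) (by
    rintro _ ⟨x, hx, rfl⟩
    rw [← map_mul, h2 x hx, map_one]) hcm
  rw [e] at hsub
  refine Subgroup.eq_of_le_of_card_ge hsub ?_
  rw [card_comap hS, hB.cardE]
  omega

/-- Elementary subgroups of order `2 ^ 10` are conjugate to the preimage. -/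
theorem elem_conj {B : Subgroup ↥(Subgroup.centralizer ({d} : Set G))} (h2 : ∀ x ∈ B, x * x = 1)
    (hc : Nat.card B = 2 ^ 10) : ∃ c, B.map (MulAut.conj c).toMonoidHom = E.comap π := by
  haveI := Fact.mk Nat.prime_two
  obtain ⟨P, hP⟩ := (IsPGroup.of_card hc).exists_le_sylow
  obtain ⟨Q, hQ⟩ := sylow_comap hS hB
  obtain ⟨c, hcQ⟩ := MulAction.exists_smul_eq ↥(Subgroup.centralizer ({d} : Set G)) P Q
  refine ⟨c, uniq_comap hS hB ?_ ?_ ?_⟩
  · rw [← hQ, ← hcQ, Sylow.smul_def, Sylow.pointwise_smul_def]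
    exact Subgroup.map_mono hP
  · rintro _ ⟨x, hx, rfl⟩
    rw [← map_mul, h2 x hx, map_one]
  · rw [Subgroup.card_map_of_injective (MulAut.conj c).injective, hc]

theorem thompson_eq (P : Sylow 2 ↥(Subgroup.centralizer ({d} : Set G))) :
    ∃ c, Cfsg.thompsonSubgroupOf 2 (P : Subgroup ↥(Subgroup.centralizer ({d} : Set G))) =
      (E.comap π).map (MulAut.conj c).toMonoidHom := by
  haveI := Fact.mk Nat.prime_two
  obtain ⟨Q, hQ⟩ := sylow_comap hS hB
  obtain ⟨c, hc⟩ := MulAction.exists_smul_eq ↥(Subgroup.centralizer ({d} : Set G)) Q P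
  refine ⟨c, ?_⟩
  have hP : (P : Subgroup ↥(Subgroup.centralizer ({d} : Set G))) = (S.comap π).map (MulAut.conj c).toMonoidHom := by
    rw [← hc, ← hQ, Sylow.smul_def, Sylow.pointwise_smul_def]; rfl
  have hcard : Nat.card ((E.comap π).map (MulAut.conj c).toMonoidHom) = 2 ^ 10 := by
    rw [Subgroup.card_map_of_injective (MulAut.conj c).injective, card_comap hS, hB.cardE]; norm_num
  have hbig : ∀ B : Subgroup ↥(Subgroup.centralizer ({d} : Set G)), B ≤ P → Cfsg.IsElementaryAbelian 2 B →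
      2 ^ 10 ≤ Nat.card B → B = (E.comap π).map (MulAut.conj c).toMonoidHom := by
    intro B hBP hBe hBc
    have hB' : B = (B.map (MulAut.conj c⁻¹).toMonoidHom).map (MulAut.conj c).toMonoidHom := by
      ext x
      constructor
      · exact fun hx => ⟨c⁻¹ * x * c⁻¹⁻¹, ⟨x, hx, rfl⟩, by simp; group⟩
      · rintro ⟨_, ⟨y, hy, rfl⟩, rfl⟩
        simpa [mul_assoc] using hy
    rw [hB']
    congr 1
    refine uniq_comap hS hB ?_ ?_ ?_
    · rintro _ ⟨x, hx, rfl⟩
      obtain ⟨y, hy, rfl⟩ := (hP ▸ hBP hx : x ∈ (S.comap π).map (MulAut.conj c).toMonoidHom)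
      simpa [mul_assoc] using hy
    · rintro _ ⟨x, hx, rfl⟩
      rw [← map_mul, ← pow_two, hBe.2 x hx, map_one]
    · rwa [Subgroup.card_map_of_injective (MulAut.conj c⁻¹).injective]
  have hmax : CfsgLib.Fusion.IsMaxEA 2 (P : Subgroup ↥(Subgroup.centralizer ({d} : Set G)))
      ((E.comap π).map (MulAut.conj c).toMonoidHom) := by
    refine ⟨hP ▸ Subgroup.map_mono (Subgroup.comap_mono hB.leE),
      CfsgLib.Fusion.isElementaryAbelian_map _ (comap_elem hS hB), fun B hBP hBe => ?_⟩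
    by_contra hlt
    rw [hcard] at hlt
    have := hbig B hBP hBe (le_of_not_ge hlt)
    rw [this, hcard] at hlt
    exact hlt le_rfl
  rw [CfsgLib.Fusion.thompsonSubgroupOf_eq]
  refine le_antisymm (sSup_le fun B hBm => ?_) (le_sSup hmax)
  exact (hbig B hBm.1 hBm.2.1 (hcard ▸ hBm.2.2 _ hmax.1 hmax.2.1)).le

/-- Conjugates of `d` in the preimage are fused in its normalizer. -/
theorem fused {x : G} (hx : x ∈ up hS hB) (hdx : IsConj d x) :
    ∃ n ∈ Subgroup.normalizer (up hS hB : Set G), n * d * n⁻¹ = x := by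
  obtain ⟨g, rfl⟩ := isConj_iff.1 hdx
  obtain ⟨x', hx', hxe⟩ := hx
  have hab : ∀ a : ↥(Subgroup.centralizer ({d} : Set G)), π a ∈ E → g⁻¹ * (a : G) * g ∈ Subgroup.centralizer ({d} : Set G) := by
    intro a ha
    rw [Subgroup.mem_centralizer_singleton_iff]
    have hc : (a : G) * (g * d * g⁻¹) = (g * d * g⁻¹) * a := by
      have e := congrArg Subtype.val ((comap_elem hS hB).1.is_comm.comm
        (⟨a, ha⟩ : E.comap π) ⟨x', hx'⟩)
      have e' := congrArg Subtype.val e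
      simp at e' hxe
      rwa [hxe] at e'
    calc g⁻¹ * a * g * d = g⁻¹ * ((a : G) * (g * d * g⁻¹)) * g := by group
      _ = d * (g⁻¹ * a * g) := by rw [hc]; group
  let B : Subgroup ↥(Subgroup.centralizer ({d} : Set G)) :=
    ((up hS hB).map (MulAut.conj g⁻¹).toMonoidHom).subgroupOf (Subgroup.centralizer ({d} : Set G))
  have hle : (up hS hB).map (MulAut.conj g⁻¹).toMonoidHom ≤ Subgroup.centralizer ({d} : Set G) := by
    rintro _ ⟨_, ⟨a, ha, rfl⟩, rfl⟩
    simpa using hab a ha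
  obtain ⟨c, hc⟩ := elem_conj hS hB (B := B) (fun y hy => by
      obtain ⟨_, ⟨a, ha, rfl⟩, e⟩ := Subgroup.mem_subgroupOf.1 hy
      apply Subtype.ext
      show (y : G) * y = 1
      have := congrArg Subtype.val (sq_of_map hS hB.sq ha)
      rw [← show MulAut.conj g⁻¹ ((a : G)) = y from e, ← map_mul]
      show MulAut.conj g⁻¹ ((a : G) * a) = 1
      rw [show (a : G) * a = 1 from this, map_one])
    (by rw [Nat.card_congr (Subgroup.subgroupOfEquivOfLe hle).toEquiv,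
      Subgroup.card_map_of_injective (MulAut.conj g⁻¹).injective, up_card hS hB])
  refine ⟨g * (c : G)⁻¹, ?_, ?_⟩
  · apply CfsgLib.Fusion.conjBy_eq_iff.1
    refine CfsgLib.Fusion.conjBy_eq_of_le ?_
    rw [CfsgLib.Fusion.conjBy, Subgroup.map_le_iff_le_comap]
    rintro _ ⟨a, ha, rfl⟩
    have ha' : a ∈ B.map (MulAut.conj c).toMonoidHom := by rw [hc]; exact ha
    obtain ⟨b, hb, rfl⟩ := ha'
    obtain ⟨y, hy, hye⟩ := Subgroup.mem_subgroupOf.1 hb
    have hye' : (b : G) = g⁻¹ * y * g⁻¹⁻¹ := hye.symm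
    show (g * (c : G)⁻¹) * ((c : G) * b * (c : G)⁻¹) * (g * (c : G)⁻¹)⁻¹ ∈ up hS hB
    rw [hye']
    have e : g * (c : G)⁻¹ * ((c : G) * (g⁻¹ * y * g⁻¹⁻¹) * (c : G)⁻¹) * (g * (c : G)⁻¹)⁻¹ = y := by group
    rw [e]
    exact hy
  · have := Subgroup.mem_centralizer_singleton_iff.1 c.2
    calc g * (c : G)⁻¹ * d * (g * (c : G)⁻¹)⁻¹ = g * ((c : G)⁻¹ * (d * c)) * g⁻¹ := by group
      _ = g * d * g⁻¹ := by rw [← this]; group

/-- The conjugates of `d` in the preimage. -/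
def fusedSet (_hS : Setting d π) (_hB : BaseFacts E S U2 U1 T1 T2 T3) : Set G :=
  {x | x ∈ up _hS _hB ∧ IsConj d x}

theorem fusedSet_inv {n : G} (hn : n ∈ Subgroup.normalizer (up hS hB : Set G)) {x : G}
    (hx : x ∈ fusedSet hS hB) : n * x * n⁻¹ ∈ fusedSet hS hB :=
  ⟨(Subgroup.mem_normalizer_iff.1 hn x).1 hx.1, hx.2.trans (isConj_iff.2 ⟨n, rfl⟩)⟩

theorem d_mem : d ∈ fusedSet hS hB := ⟨⟨zel d, by rw [Subgroup.coe_comap, Set.mem_preimage, map_zel hS]; exact one_mem E, rfl⟩, IsConj.refl d⟩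

theorem not_prime {p : ℕ} (hp : p.Prime) (hb : ∀ j < 10, ¬ p ∣ 2 ^ 10 - 2 ^ j) :
    ¬ p ∣ (fusedSet hS hB).ncard :=
  not_prime_dvd (up_card hS hB) (fun _ hx => hx.1) (d_mem hS hB) (fun _ hx => fused hS hB hx.1 hx.2)
    (fun _ hn _ hx => fusedSet_inv hS hB hn hx) hp hb

/-- Translating the fusion to the double cover. -/
theorem move_data {x : ↥(Subgroup.centralizer ({d} : Set G))} (hx : π x ∈ E) (hxc : IsConj d (x : G)) :
    ∃ φ : ↥(Subgroup.centralizer ({d} : Set G)) → ↥(Subgroup.centralizer ({d} : Set G)), φ (zel d) = x ∧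
      (∀ a, π a ∈ E → π (φ a) ∈ E ∧ (IsConj d (φ a : G) ↔ IsConj d (a : G))) ∧
      (∀ a b, π a ∈ E → π b ∈ E → φ (a * b) = φ a * φ b) ∧
      (∀ a b, π a ∈ E → π b ∈ E → φ a = φ b → a = b) ∧
      ∀ b, π b ∈ E → ∃ a, π a ∈ E ∧ φ a = b := by
  classical
  obtain ⟨n, hn, hnd⟩ := fused hS hB ⟨x, hx, rfl⟩ hxc
  have hmem : ∀ a : ↥(Subgroup.centralizer ({d} : Set G)), π a ∈ E →
      ∃ b : ↥(Subgroup.centralizer ({d} : Set G)), π b ∈ E ∧ (b : G) = n * a * n⁻¹ := fun a ha =>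
    (Subgroup.mem_normalizer_iff.1 hn a).1 ⟨a, ha, rfl⟩
  choose f hf hfv using hmem
  refine ⟨fun a => if ha : π a ∈ E then f a ha else a, ?_, fun a ha => ?_, fun a b ha hb => ?_, fun a b ha hb e => ?_,
    fun b hb => ?_⟩
  · have hz : π (zel d) ∈ E := by rw [map_zel hS]; exact one_mem E
    simp only [dif_pos hz]
    exact Subtype.ext ((hfv _ hz).trans hnd)
  · simp only [dif_pos ha]
    refine ⟨hf a ha, ?_⟩
    rw [hfv a ha]
    have h : IsConj (a : G) (n * a * n⁻¹) := isConj_iff.2 ⟨n, rfl⟩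
    exact ⟨fun r => r.trans h.symm, fun r => r.trans h⟩
  · have hab : π (a * b) ∈ E := by rw [map_mul]; exact mul_mem ha hb
    simp only [dif_pos ha, dif_pos hb, dif_pos hab]
    refine Subtype.ext ?_
    show (f (a * b) hab : G) = (f a ha : G) * f b hb
    rw [hfv, hfv, hfv]
    show n * ((a : G) * b) * n⁻¹ = _
    group
  · simp only [dif_pos ha, dif_pos hb] at e
    have e' := congrArg Subtype.val e
    rw [hfv, hfv] at e'
    exact Subtype.ext (mul_left_cancel (mul_right_cancel e'))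
  · obtain ⟨a, ha, hae⟩ := (Subgroup.mem_normalizer_iff.1 (inv_mem hn) b).1 ⟨b, hb, rfl⟩
    have ha' : π a ∈ E := ha
    refine ⟨a, ha', ?_⟩
    simp only [dif_pos ha']
    refine Subtype.ext ?_
    rw [hfv]
    change (a : G) = _ at hae
    rw [hae]
    group

omit [Finite G] in
theorem ne_one_of_nonconj {a : ↥(Subgroup.centralizer ({d} : Set G))} (ha1 : a ≠ 1) (hac : ¬ IsConj d (a : G)) :
    π a ≠ 1 := fun e => by
  rcases hS.ker a e with r | r
  · exact ha1 r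
  · exact hac (by rw [r])

/-- Excludes the fused set of size `561`. -/
theorem not_all_three (h1 : ∀ x, π x ∈ T1 → ¬ IsConj d (x : G)) (h2 : ∀ x, π x ∈ T2 → ¬ IsConj d (x : G))
    (h3 : ∀ x, π x ∈ T3 → IsConj d (x : G)) : False := by
  obtain ⟨t, ht, h, hh, hht⟩ := hB.mix13
  obtain ⟨r, rfl⟩ := hS.surj t
  obtain ⟨x, rfl⟩ := hS.surj h
  obtain ⟨φ, hz, hpres, hmul, -, hsurj⟩ := move_data hS hB (hB.sub3 _ hh).1 (h3 x hh)
  obtain ⟨a, ha, rfl⟩ := hsurj r (hB.sub1 _ ht).1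
  have hac : ¬ IsConj d (a : G) := fun q => h1 _ ht ((hpres a ha).2.2 q)
  have hzm : π (zel d) ∈ E := by rw [map_zel hS]; exact one_mem E
  have hne : a ≠ 1 := fun e => by
    subst e
    have := hmul 1 1 ha ha
    rw [one_mul, left_eq_mul] at this
    rw [this, map_one] at ht
    exact (hB.sub1 _ ht).2 rfl
  have hmap : π (zel d * a) = π a := by rw [map_mul, map_zel hS, one_mul]
  have hza : ¬ IsConj d ((zel d * a : ↥(Subgroup.centralizer ({d} : Set G))) : G) := by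
    rcases hB.split _ ha (ne_one_of_nonconj hS hB hne hac) with q | q | q
    · exact h1 _ (hmap.symm ▸ q)
    · exact h2 _ (hmap.symm ▸ q)
    · exact absurd (h3 a q) hac
  have hzaE : π (zel d * a) ∈ E := hmap.symm ▸ ha
  refine hza ((hpres _ hzaE).2.1 ?_)
  rw [hmul _ _ hzm ha, hz]
  exact h3 _ (by rw [map_mul]; exact hht)

/-- Excludes the fused set of size `792`. -/
theorem not_one_one_two (h1 : ∀ x, π x ∈ T1 → (IsConj d (x : G) ↔ ¬ IsConj d ((x * zel d : ↥(Subgroup.centralizer ({d} : Set G))) : G)))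
    (h2 : ∀ x, π x ∈ T2 → (IsConj d (x : G) ↔ ¬ IsConj d ((x * zel d : ↥(Subgroup.centralizer ({d} : Set G))) : G)))
    (h3 : ∀ x, π x ∈ T3 → IsConj d (x : G)) : False := by
  obtain ⟨t, ht, w, hw, htw⟩ := hB.mix12
  have pick : ∀ u, (∀ x, π x = u → (IsConj d (x : G) ↔ ¬ IsConj d ((x * zel d : ↥(Subgroup.centralizer ({d} : Set G))) : G))) →
      ∃ r, π r = u ∧ ¬ IsConj d (r : G) := by
    intro u hu
    obtain ⟨r, hr⟩ := hS.surj u
    by_cases hc : IsConj d (r : G)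
    · exact ⟨r * zel d, by rw [map_mul_zel hS, hr], (hu r hr).1 hc⟩
    · exact ⟨r, hr, hc⟩
  obtain ⟨r1, hr1, hc1⟩ := pick t fun x hx => h1 x (hx.symm ▸ ht)
  obtain ⟨r2, hr2, hc2⟩ := pick w fun x hx => h2 x (hx.symm ▸ hw)
  have e1 : π r1 ∈ E := hr1.symm ▸ (hB.sub1 t ht).1
  have e2 : π r2 ∈ E := hr2.symm ▸ (hB.sub2 w hw).1
  have hx : π (r1 * r2) ∈ T3 := by rw [map_mul, hr1, hr2]; exact htw
  obtain ⟨φ, hz, hpres, hmul, hinj, hsurj⟩ := move_data hS hB (hB.sub3 _ hx).1 (h3 _ hx)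
  obtain ⟨a, ha, rfl⟩ := hsurj r1 e1
  obtain ⟨b, hb, rfl⟩ := hsurj r2 e2
  have hac : ¬ IsConj d (a : G) := fun q => hc1 ((hpres a ha).2.2 q)
  have hbc : ¬ IsConj d (b : G) := fun q => hc2 ((hpres b hb).2.2 q)
  have hab : a * b = zel d := hinj _ _ (by rw [map_mul]; exact mul_mem ha hb) (by rw [map_zel hS]; exact one_mem E)
    (by rw [hmul a b ha hb, hz])
  have hsame : π a = π b := by
    have := congrArg π hab
    rw [map_mul, map_zel hS] at this
    rw [eq_inv_of_mul_eq_one_left this, inv_eq_of_mul_eq_one_right (hB.sq _ hb)]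
  have ha1 : a ≠ 1 := fun e => hbc (by rw [e, one_mul] at hab; rw [hab]; exact IsConj.refl d)
  rcases eq_or hS hsame with r | r
  · refine zel_ne hS ?_
    rw [← hab, r]
    exact sq_of_map hS hB.sq ha
  · rw [r] at hbc
    rcases hB.split _ ha (ne_one_of_nonconj hS hB ha1 hac) with q | q | q
    · exact hac ((h1 a q).2 hbc)
    · exact hac ((h2 a q).2 hbc)
    · exact hac (h3 a q)

omit hB in
theorem exists_nonconj {x : ↥(Subgroup.centralizer ({d} : Set G))}
    (h : IsConj d (x : G) ↔ ¬ IsConj d ((x * zel d : ↥(Subgroup.centralizer ({d} : Set G))) : G)) :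
    ∃ y, π y = π x ∧ ¬ IsConj d (y : G) := by
  by_cases hc : IsConj d (x : G)
  · exact ⟨x * zel d, map_mul_zel hS x, h.1 hc⟩
  · exact ⟨x, rfl, hc⟩

section split

variable (hall : ∀ x, π x ∈ E → (IsConj d (x : G) ↔ ¬ IsConj d ((x * zel d : ↥(Subgroup.centralizer ({d} : Set G))) : G)))
include hall

theorem nonconj_mul {r r' : ↥(Subgroup.centralizer ({d} : Set G))} (hr : π r ∈ E) (hrc : ¬ IsConj d (r : G))
    (hr' : π r' ∈ E) (hrc' : ¬ IsConj d (r' : G)) : ¬ IsConj d ((r * r' : ↥(Subgroup.centralizer ({d} : Set G))) : G) := by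
  intro hc
  obtain ⟨φ, hz, hpres, hmul, -, hsurj⟩ := move_data hS hB (by rw [map_mul]; exact mul_mem hr hr') hc
  obtain ⟨b, hb, rfl⟩ := hsurj r hr
  have hbc : ¬ IsConj d (b : G) := fun q => hrc ((hpres b hb).2.2 q)
  have hzb : π (zel d * b) ∈ E := by rw [map_mul, map_zel hS, one_mul]; exact hb
  have hconj : IsConj d ((zel d * b : ↥(Subgroup.centralizer ({d} : Set G))) : G) := by
    rw [← (zel_comm b).eq]
    by_contra q
    exact hbc ((hall b hb).2 q)
  have := (hpres _ hzb).2.2 hconj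
  have hzm : π (zel d) ∈ E := by rw [map_zel hS]; exact one_mem E
  rw [hmul _ _ hzm hb, hz, mul_assoc, ← mul_assoc (φ b) r', ] at this
  refine hrc' ?_
  convert this using 2
  have hcm := congrArg Subtype.val ((comap_elem hS hB).1.is_comm.comm (⟨φ b, hr⟩ : E.comap π) ⟨r', hr'⟩)
  simp at hcm
  rw [mul_assoc (φ b) r', ← hcm, ← mul_assoc, sq_of_map hS hB.sq hr, one_mul]

theorem lift_conj_in {U : Subgroup X} (hU : ∃ g, ∀ x ∈ U, g * x * g⁻¹ ∈ E) :
    ∃ c, ∀ x, π x ∈ U → π (c * x * c⁻¹) ∈ E := by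
  obtain ⟨g, hg⟩ := hU
  obtain ⟨c, rfl⟩ := hS.surj g
  exact ⟨c, fun x hx => by rw [map_mul, map_mul, map_inv]; exact hg _ hx⟩

theorem u_facts {U : Subgroup X} (hU : ∃ g, ∀ x ∈ U, g * x * g⁻¹ ∈ E) :
    (∀ r r' : ↥(Subgroup.centralizer ({d} : Set G)), π r ∈ U → ¬ IsConj d (r : G) → π r' ∈ U → ¬ IsConj d (r' : G) →
      ¬ IsConj d ((r * r' : ↥(Subgroup.centralizer ({d} : Set G))) : G)) ∧
    (∀ u ∈ U, ∃ r, π r = u ∧ ¬ IsConj d (r : G)) := by
  obtain ⟨c, hc⟩ := lift_conj_in hS hB hall hU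
  refine ⟨fun r r' hr hrc hr' hrc' h => ?_, fun u hu => ?_⟩
  · refine nonconj_mul hS hB hall (hc r hr) (mt (conj_iff c r).1 hrc) (hc r' hr') (mt (conj_iff c r').1 hrc') ?_
    have e : c * r * c⁻¹ * (c * r' * c⁻¹) = c * (r * r') * c⁻¹ := by group
    rw [e]
    exact (conj_iff c _).2 h
  · obtain ⟨x, rfl⟩ := hS.surj u
    obtain ⟨y, hy, hyc⟩ := exists_nonconj hS (hall _ (hc x hu))
    refine ⟨c⁻¹ * y * c, ?_, ?_⟩
    · rw [map_mul, map_mul, hy, map_mul, map_mul, map_inv]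
      group
    · have := conj_iff c (c⁻¹ * y * c)
      rw [show c * (c⁻¹ * y * c) * c⁻¹ = y by group] at this
      exact mt this.2 hyc

/-- The section over the Sylow subgroup. -/
def sect (π : ↥(Subgroup.centralizer ({d} : Set G)) →* X) (E U2 U1 : Subgroup X) :
    Set ↥(Subgroup.centralizer ({d} : Set G)) :=
  {x | ∃ r w v, π r ∈ E ∧ ¬ IsConj d (r : G) ∧ π w ∈ U2 ∧ ¬ IsConj d (w : G) ∧ π v ∈ U1 ∧ ¬ IsConj d (v : G) ∧
    x = r * w * v}

theorem sect_mul {x y : ↥(Subgroup.centralizer ({d} : Set G))} (hx : x ∈ sect π E U2 U1) (hy : y ∈ sect π E U2 U1) :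
    x * y ∈ sect π E U2 U1 := by
  obtain ⟨r, w, v, hr, hrc, hw, hwc, hv, hvc, rfl⟩ := hx
  obtain ⟨r', w', v', hr', hrc', hw', hwc', hv', hvc', rfl⟩ := hy
  have hr'v : π (v * r' * v⁻¹) ∈ E := by rw [map_mul, map_mul, map_inv]; exact hB.norm1 _ hv _ hr'
  have hr'vw : π (w * (v * r' * v⁻¹) * w⁻¹) ∈ E := by
    rw [map_mul π (w * _), map_mul π w, map_inv]; exact hB.norm2 _ hw _ hr'v
  have hw'v : π (v * w' * v⁻¹) ∈ U2 := by rw [map_mul, map_mul, map_inv]; exact hB.norm12 _ hv _ hw'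
  refine ⟨r * (w * (v * r' * v⁻¹) * w⁻¹), w * (v * w' * v⁻¹), v * v', ?_, ?_, ?_, ?_, ?_, ?_, by group⟩
  · rw [map_mul]; exact mul_mem hr hr'vw
  · exact nonconj_mul hS hB hall hr hrc hr'vw (mt ((conj_iff w _).1) (mt ((conj_iff v r').1) hrc'))
  · rw [map_mul]; exact mul_mem hw hw'v
  · exact (u_facts hS hB hall hB.conj2).1 _ _ hw hwc hw'v (mt ((conj_iff v w').1) hwc')
  · rw [map_mul]; exact mul_mem hv hv'
  · exact (u_facts hS hB hall hB.conj1).1 _ _ hv hvc hv' hvc'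

/-- Excludes the fused set of size `512`. -/
theorem not_split : False := by
  classical
  haveI : Finite X := Finite.of_surjective π hS.surj
  have hone : ∀ {U : Subgroup X} {r : ↥(Subgroup.centralizer ({d} : Set G))}, π r ∈ U → π r = 1 → ¬ IsConj d (r : G) → r = 1 := by
    intro U r _ h1 hc
    by_contra hne
    exact ne_one_of_nonconj hS hB hne hc h1
  have h1mem : (1 : ↥(Subgroup.centralizer ({d} : Set G))) ∈ sect π E U2 U1 :=
    ⟨1, 1, 1, by simp [one_mem], not_conj_one hS, by simp [one_mem], not_conj_one hS, by simp [one_mem],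
      not_conj_one hS, by simp⟩
  let M : Subgroup ↥(Subgroup.centralizer ({d} : Set G)) :=
    { carrier := sect π E U2 U1
      one_mem' := h1mem
      mul_mem' := fun hx hy => sect_mul hS hB hall hx hy
      inv_mem' := fun {x} hx => by
        have hp : ∀ n : ℕ, x ^ n ∈ sect π E U2 U1 := fun n => by
          induction n with
          | zero => rwa [pow_zero]
          | succ n ih => rw [pow_succ]; exact sect_mul hS hB hall ih hx
        rw [inv_eq_of_mul_eq_one_right (show x * x ^ (orderOf x - 1) = 1 by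
          rw [← pow_succ', Nat.sub_add_cancel (orderOf_pos x), pow_orderOf_eq_one])]
        exact hp _ }
  have hzM : zel d ∉ M := by
    rintro ⟨r, w, v, hr, hrc, hw, hwc, hv, hvc, e⟩
    have e1 := congrArg π e
    rw [map_zel hS, map_mul, map_mul] at e1
    obtain ⟨a, b, c⟩ := hB.meet _ hr _ hw _ hv e1.symm
    rw [hone hr a hrc, hone hw b hwc, hone hv c hvc, one_mul, one_mul] at e
    exact zel_ne hS e
  have hcov : ∀ s ∈ S.comap π, s ∈ M ∨ s * zel d ∈ M := by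
    intro s hs
    obtain ⟨a, ha, b, hb, c, hc, e⟩ := hB.gen _ hs
    obtain ⟨r, hr, hrc⟩ := (u_facts hS hB hall ⟨1, fun x hx => by simpa using hx⟩).2 a ha
    obtain ⟨w, hw, hwc⟩ := (u_facts hS hB hall hB.conj2).2 b hb
    obtain ⟨v, hv, hvc⟩ := (u_facts hS hB hall hB.conj1).2 c hc
    have hm : r * w * v ∈ M := ⟨r, w, v, hr ▸ ha, hrc, hw ▸ hb, hwc, hv ▸ hc, hvc, rfl⟩
    have hp : π s = π (r * w * v) := by rw [e, map_mul, map_mul, hr, hw, hv]
    rcases eq_or hS hp with q | q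
    · exact Or.inl (q ▸ hm)
    · exact Or.inr (q ▸ hm)
  let P := S.comap π
  have hzP : zel d ∈ P := by show π (zel d) ∈ S; rw [map_zel hS]; exact one_mem S
  let R : Subgroup P := M.subgroupOf P
  have hidx : R.index = 2 := by
    rw [Subgroup.index_eq_two_iff]
    refine ⟨⟨zel d, hzP⟩, fun b => ?_⟩
    simp only [R, Subgroup.mem_subgroupOf, Subgroup.coe_mul]
    rcases hcov b b.2 with q | q
    · exact Or.inr ⟨q, fun q' => hzM ((Subgroup.mul_mem_cancel_left M q).1 q')⟩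
    · exact Or.inl ⟨q, fun q' => hzM ((Subgroup.mul_mem_cancel_left M q').1 q)⟩
  haveI : R.Normal := Subgroup.normal_of_index_eq_two hidx
  haveI := Fact.mk Nat.prime_two
  haveI : IsCyclic (P ⧸ R) := isCyclic_of_prime_card (p := 2) (by rw [← hidx, Subgroup.index])
  letI : CommGroup (P ⧸ R) := IsCyclic.commGroup
  let χ : P →* P ⧸ R := QuotientGroup.mk' R
  have hodd : ¬ 2 ∣ P.index := by
    obtain ⟨Q, hQ⟩ := sylow_comap hS hB
    have := Q.not_dvd_index
    rwa [hQ] at this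
  have key : ∀ (k : ℕ) (g₀ : ↥(Subgroup.centralizer ({d} : Set G))), g₀⁻¹ * zel d ^ k * g₀ ∈ P →
      g₀⁻¹ * zel d ^ k * g₀ = zel d ^ k := fun k g₀ _ => by
    rw [mul_assoc, ← ((zel_comm g₀).pow_right k).eq, inv_mul_cancel_left]
  have ht := MonoidHom.transfer_eq_pow (H := P) χ (zel d) key
  have htriv : MonoidHom.transfer χ (zel d) = 1 := by
    have h := Abelianization.commutator_subset_ker (MonoidHom.transfer χ)
    rw [hS.perfect] at h
    exact h (Subgroup.mem_top _)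
  rw [htriv] at ht
  have hmem := (QuotientGroup.eq_one_iff _).1 ht.symm
  have hz : zel d ^ P.index = zel d := by
    obtain ⟨m, hm⟩ := Nat.not_even_iff_odd.1 fun h => hodd (even_iff_two_dvd.1 h)
    rw [hm, pow_succ, pow_mul, pow_two, zel_sq hS, one_pow, one_mul]
  exact hzM (hz ▸ (Subgroup.mem_subgroupOf.1 hmem))

end split

theorem hall_of (h1 : ∀ x, π x ∈ T1 → (IsConj d (x : G) ↔ ¬ IsConj d ((x * zel d : ↥(Subgroup.centralizer ({d} : Set G))) : G)))
    (h2 : ∀ x, π x ∈ T2 → (IsConj d (x : G) ↔ ¬ IsConj d ((x * zel d : ↥(Subgroup.centralizer ({d} : Set G))) : G)))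
    (h3 : ∀ x, π x ∈ T3 → (IsConj d (x : G) ↔ ¬ IsConj d ((x * zel d : ↥(Subgroup.centralizer ({d} : Set G))) : G)))
    (x : ↥(Subgroup.centralizer ({d} : Set G))) (hx : π x ∈ E) :
    IsConj d (x : G) ↔ ¬ IsConj d ((x * zel d : ↥(Subgroup.centralizer ({d} : Set G))) : G) := by
  by_cases h : π x = 1
  · rcases hS.ker x h with r | r
    · subst r
      rw [one_mul]
      exact ⟨fun q => absurd q (not_conj_one hS), fun q => absurd (IsConj.refl d) q⟩
    · have e : x * zel d = 1 := Subtype.ext (by show (x : G) * d = 1; rw [r, hS.sq])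
      rw [e, r]
      exact ⟨fun _ => not_conj_one hS, fun _ => IsConj.refl d⟩
  · rcases hB.split _ hx h with q | q | q
    exacts [h1 x q, h2 x q, h3 x q]

theorem fusedSet_card (hnwc : ∃ g : G, g * d * g⁻¹ ∈ Subgroup.centralizer ({d} : Set G) ∧ g * d * g⁻¹ ≠ d) :
    (fusedSet hS hB).ncard = 22 := by
  classical
  haveI : Finite X := Finite.of_surjective π hS.surj
  let L : Set X → Set ↥(Subgroup.centralizer ({d} : Set G)) := fun T => {x | π x ∈ T ∧ IsConj d (x : G)}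
  have himg : fusedSet hS hB = Subtype.val '' L (E : Set X) := by
    ext x
    constructor
    · rintro ⟨⟨c, hc, rfl⟩, h⟩; exact ⟨c, ⟨hc, h⟩, rfl⟩
    · rintro ⟨c, ⟨hc, h⟩, rfl⟩; exact ⟨⟨c, hc, rfl⟩, h⟩
  have hL : L (E : Set X) = insert (zel d) (L T1 ∪ L T2 ∪ L T3) := by
    ext x
    constructor
    · rintro ⟨hx, hc⟩
      by_cases h : π x = 1
      · rcases hS.ker x h with r | r
        · exact absurd (r ▸ hc) (not_conj_one hS)
        · exact Or.inl (Subtype.ext r)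
      · rcases hB.split _ hx h with q | q | q
        exacts [Or.inr (Or.inl (Or.inl ⟨q, hc⟩)), Or.inr (Or.inl (Or.inr ⟨q, hc⟩)), Or.inr (Or.inr ⟨q, hc⟩)]
    · rintro (rfl | (⟨h, hc⟩ | ⟨h, hc⟩) | ⟨h, hc⟩)
      exacts [⟨by rw [map_zel hS]; exact one_mem E, IsConj.refl d⟩, ⟨(hB.sub1 _ h).1, hc⟩, ⟨(hB.sub2 _ h).1, hc⟩,
        ⟨(hB.sub3 _ h).1, hc⟩]
  have hnot : zel d ∉ L T1 ∪ L T2 ∪ L T3 := by
    rintro ((⟨h, -⟩ | ⟨h, -⟩) | ⟨h, -⟩) <;> rw [map_zel hS] at h
    exacts [(hB.sub1 _ h).2 rfl, (hB.sub2 _ h).2 rfl, (hB.sub3 _ h).2 rfl]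
  have htot : (fusedSet hS hB).ncard = 1 + ((L T1).ncard + (L T2).ncard + (L T3).ncard) := by
    rw [himg, Set.ncard_image_of_injective _ Subtype.val_injective, hL, Set.ncard_insert_of_notMem hnot,
      Set.ncard_union_eq (Set.disjoint_left.2 fun x h h' => h.elim (fun q => (hB.disj3 _ h'.1).1 q.1)
        fun q => (hB.disj3 _ h'.1).2 q.1),
      Set.ncard_union_eq (Set.disjoint_left.2 fun x h h' => hB.disj12 _ h.1 h'.1)]
    omega
  have htwo : 2 ≤ (fusedSet hS hB).ncard := by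
    obtain ⟨g, hgC, hgd⟩ := hnwc
    set x : ↥(Subgroup.centralizer ({d} : Set G)) := ⟨g * d * g⁻¹, hgC⟩
    obtain ⟨c, hc⟩ := invol_move hS hB (x := x) (Subtype.ext (by
      show g * d * g⁻¹ * (g * d * g⁻¹) = 1
      rw [conj_mul, hS.sq, mul_one, mul_inv_cancel]))
    have hy : ((c * x * c⁻¹ : ↥(Subgroup.centralizer ({d} : Set G))) : G) ∈ fusedSet hS hB :=
      ⟨⟨_, hc, rfl⟩, (conj_iff c x).2 (isConj_iff.2 ⟨g, rfl⟩)⟩
    have hne : ((c * x * c⁻¹ : ↥(Subgroup.centralizer ({d} : Set G))) : G) ≠ d := fun e => hgd (by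
      have e' : c * x * c⁻¹ = zel d := Subtype.ext e
      have : x = zel d := by
        calc x = c⁻¹ * (c * x * c⁻¹) * c := by group
          _ = c⁻¹ * (zel d * c) := by rw [e']; group
          _ = zel d := by rw [← (zel_comm c).eq, inv_mul_cancel_left]
      exact congrArg Subtype.val this)
    exact (Set.one_lt_ncard (Set.toFinite _)).2 ⟨_, hy, d, d_mem hS hB, hne⟩
  have ne1 : T1.Nonempty := Set.nonempty_of_ncard_ne_zero (by rw [hB.card1]; norm_num)
  have ne2 : T2.Nonempty := Set.nonempty_of_ncard_ne_zero (by rw [hB.card2]; norm_num)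
  have ne3 : T3.Nonempty := Set.nonempty_of_ncard_ne_zero (by rw [hB.card3]; norm_num)
  have noboth : ∀ T : Set X, (∀ t ∈ T, ∃ y, y * y = t) → T.Nonempty → ¬ ∀ x, π x ∈ T → IsConj d (x : G) := by
    rintro T hsq ⟨t, ht⟩ h
    obtain ⟨x, rfl⟩ := hS.surj t
    obtain ⟨y, hy⟩ := hsq _ ht
    exact not_both hS hy rfl (h x ht) (h _ (by rwa [map_mul_zel hS]))
  have bad : ∀ p : ℕ, p.Prime → (∀ j < 10, ¬ p ∣ 2 ^ 10 - 2 ^ j) → (fusedSet hS hB).ncard % p ≠ 0 :=
    fun p hp hb e => not_prime hS hB hp hb (Nat.dvd_of_mod_eq_zero e)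
  rcases class_mult hS hB.class1 ne1 with ⟨p1, c1⟩ | ⟨p1, c1⟩ | ⟨p1, -⟩
  rotate_left 2
  · exact absurd p1 (noboth T1 (fun t ht => hB.square t (Or.inl ht)) ne1)
  all_goals
    rcases class_mult hS hB.class2 ne2 with ⟨p2, c2⟩ | ⟨p2, c2⟩ | ⟨p2, -⟩
  rotate_left 2
  · exact absurd p2 (noboth T2 (fun t ht => hB.square t (Or.inr ht)) ne2)
  rotate_left 2
  · exact absurd p2 (noboth T2 (fun t ht => hB.square t (Or.inr ht)) ne2)
  all_goals
    rcases class_mult hS hB.class3 ne3 with ⟨p3, c3⟩ | ⟨p3, c3⟩ | ⟨p3, c3⟩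
    all_goals
      simp only [L, c1, c2, c3, hB.card1, hB.card2, hB.card3] at htot
      first
        | omega
        | exact (not_all_three hS hB p1 p2 p3).elim
        | exact (not_one_one_two hS hB p1 p2 p3).elim
        | exact (not_split hS hB (hall_of hS hB p1 p2 p3)).elim
        | exact absurd (show (fusedSet hS hB).ncard % 211 = 0 by omega) (bad 211 (by norm_num) (by decide))
        | exact absurd (show (fusedSet hS hB).ncard % 29 = 0 by omega) (bad 29 (by norm_num) (by decide))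
        | exact absurd (show (fusedSet hS hB).ncard % 281 = 0 by omega) (bad 281 (by norm_num) (by decide))
        | exact absurd (show (fusedSet hS hB).ncard % 151 = 0 by omega) (bad 151 (by norm_num) (by decide))
        | exact absurd (show (fusedSet hS hB).ncard % 491 = 0 by omega) (bad 491 (by norm_num) (by decide))
        | exact absurd (show (fusedSet hS hB).ncard % 97 = 0 by omega) (bad 97 (by norm_num) (by decide))
        | exact absurd (show (fusedSet hS hB).ncard % 257 = 0 by omega) (bad 257 (by norm_num) (by decide))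

/-- The Thompson subgroup of a Sylow subgroup of the centralizer. -/
theorem main (hnwc : ∃ g : G, g * d * g⁻¹ ∈ Subgroup.centralizer ({d} : Set G) ∧ g * d * g⁻¹ ≠ d)
    (P : Sylow 2 ↥(Subgroup.centralizer ({d} : Set G))) (A : Subgroup G)
    (hA : A = (Cfsg.thompsonSubgroupOf 2 (P : Subgroup ↥(Subgroup.centralizer ({d} : Set G)))).map
      (Subgroup.centralizer ({d} : Set G)).subtype) :
    Cfsg.IsElementaryAbelian 2 A ∧ Nat.card A = 2 ^ 10 ∧ Set.ncard {x : G | x ∈ A ∧ IsConj d x} = 22 ∧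
      ∀ x ∈ A, ∀ y ∈ A, IsConj d x → IsConj d y → ∃ n ∈ Subgroup.normalizer (A : Set G), n * x * n⁻¹ = y := by
  obtain ⟨c, hc⟩ := thompson_eq hS hB P
  have hA' : A = (up hS hB).map (MulAut.conj (c : G)).toMonoidHom := by
    rw [hA, hc, up, Subgroup.map_map, Subgroup.map_map]
    rfl
  subst hA'
  have hcj : ∀ x : G, IsConj d (MulAut.conj (c : G) x) ↔ IsConj d x := fun x => by
    have h : IsConj x (MulAut.conj (c : G) x) := isConj_iff.2 ⟨c, rfl⟩
    exact ⟨fun r => r.trans h.symm, fun r => r.trans h⟩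
  have hcd : (c : G) * d * (c : G)⁻¹ = d := by
    rw [Subgroup.mem_centralizer_singleton_iff.1 c.2, mul_inv_cancel_right]
  refine ⟨CfsgLib.Fusion.isElementaryAbelian_map _ (CfsgLib.Fusion.isElementaryAbelian_map _ (comap_elem hS hB)), ?_, ?_, ?_⟩
  · rw [Subgroup.card_map_of_injective (MulAut.conj (c : G)).injective, up_card hS hB]
  · rw [show {x : G | x ∈ (up hS hB).map (MulAut.conj (c : G)).toMonoidHom ∧ IsConj d x} =
      MulAut.conj (c : G) '' fusedSet hS hB from ?_, Set.ncard_image_of_injective _ (MulAut.conj (c : G)).injective,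
      fusedSet_card hS hB hnwc]
    ext x
    constructor
    · rintro ⟨⟨y, hy, rfl⟩, h⟩; exact ⟨y, ⟨hy, (hcj y).1 h⟩, rfl⟩
    · rintro ⟨y, ⟨hy, h⟩, rfl⟩; exact ⟨⟨y, hy, rfl⟩, (hcj y).2 h⟩
  · rintro _ ⟨x, hx, rfl⟩ _ ⟨y, hy, rfl⟩ hxc hyc
    obtain ⟨m, hm, hmd⟩ := fused hS hB hx ((hcj x).1 hxc)
    obtain ⟨k, hk, hkd⟩ := fused hS hB hy ((hcj y).1 hyc)
    refine ⟨(c : G) * (k * m⁻¹) * (c : G)⁻¹, ?_, ?_⟩
    · have hkm := mul_mem hk (inv_mem hm)
      rw [Subgroup.mem_normalizer_iff]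
      intro z
      have e := Subgroup.mem_normalizer_iff.1 hkm ((MulAut.conj (c : G)).symm z)
      simp only [SetLike.mem_coe, Subgroup.mem_map_equiv, MulAut.conj_symm_apply] at e ⊢
      rw [e]
      constructor <;> intro h <;> convert h using 1 <;> group
    · rw [← hmd, ← hkd]
      show (c : G) * (k * m⁻¹) * (c : G)⁻¹ * ((c : G) * (m * d * m⁻¹) * (c : G)⁻¹) *
        ((c : G) * (k * m⁻¹) * (c : G)⁻¹)⁻¹ = (c : G) * (k * d * k⁻¹) * (c : G)⁻¹
      group

end main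

end CfsgLib.Spor.Tri.CoverBase
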