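/-
Double covers of `PSU(6, 4)` and of groups of type M(22): involutions lift to involutions.

Commuting members lift to commuting elements because of an even relation, members lift to
involutions because of an odd relation, and every involution is a product of commuting members.
For type M(22) primitivity comes from perfectness: a disconnected commuting graph would give a
non-trivial quotient with a class of pairwise non-commuting 3-transpositions, which is solvable.
-/
import Cfsg.Agent.Lib.Spor.Tri.InvolFixed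
import Cfsg.Agent.S1631

namespace CfsgLib.Spor.Tri.DoubleCover

open CfsgLib.Spor.Tri CfsgLib.Spor.Tri.Relations CfsgLib.Spor.Tri.Level

section connected

variable {X : Type*} [Group X] [Finite X] {D : Set X}

/-- A perfect group with a generating 3-transposition class has a connected commuting graph. -/
theorem connected_of_perfect (h : Hyp D) (hperf : commutator X = ⊤) :
    ∀ a ∈ D, ∀ b ∈ D, Relation.ReflTransGen (CAdj D) a b := by
  classical
  let R := fun a b : X => Relation.ReflTransGen (CAdj D) a b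
  have hsymm : ∀ {a b}, R a b → R b a := fun {a b} r =>
    haveI : Std.Symm (CAdj D) := ⟨fun _ _ => CAdj.symm⟩
    Relation.ReflTransGen.symmetric.symm _ _ r
  let N : Subgroup X :=
    { carrier := {g | ∀ a ∈ D, R (g * a * g⁻¹) a}
      one_mem' := fun a _ => by simpa using Relation.ReflTransGen.refl
      mul_mem' := fun {g k} hg hk a ha => by
        have e : g * k * a * (g * k)⁻¹ = g * (k * a * k⁻¹) * g⁻¹ := by group
        show R (g * k * a * (g * k)⁻¹) a
        rw [e]
        exact (hg _ (h.conj k a ha)).trans (hk a ha)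
      inv_mem' := fun {g} hg a ha => hsymm (by
        have := hg _ (h.conj g⁻¹ a ha)
        rwa [show g * (g⁻¹ * a * g⁻¹⁻¹) * g⁻¹ = a by group] at this) }
  haveI hN : N.Normal := ⟨fun n hn g a ha => by
    have := CAdj.conj h g (hn _ (h.conj g⁻¹ a ha))
    rw [show g * n * g⁻¹ * a * (g * n * g⁻¹)⁻¹ = g * (n * (g⁻¹ * a * g⁻¹⁻¹) * n⁻¹) * g⁻¹ by group]
    simpa [mul_assoc] using this⟩
  by_contra hcon
  push Not at hcon
  obtain ⟨a₀, ha₀, b₀, hb₀, hab₀⟩ := hcon
  have hfar : ∀ e ∈ D, ∃ m ∈ D, ¬ R e m := fun e _ => by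
    by_cases r : R e a₀
    · exact ⟨b₀, hb₀, fun r' => hab₀ ((hsymm r).trans r')⟩
    · exact ⟨a₀, ha₀, r⟩
  have hconjR : ∀ {g a b : X}, R a b → R (g * a * g⁻¹) (g * b * g⁻¹) := fun r => CAdj.conj h _ r
  have hnot : ∀ e ∈ D, e ∉ N := by
    intro e he hen
    obtain ⟨m, hm, hem⟩ := hfar e he
    have hn : ¬ Commute e m := fun c => hem (Relation.ReflTransGen.single ⟨he, hm, c⟩)
    have h1 := hconjR (g := m) (hen m hm)
    rw [h.inv_eq hm, h.inv_eq he, h.braid he hm hn, h.conj_conj hm, h.conj_fix hm (Commute.refl m)] at h1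
    exact hem h1
  have hadj : ∀ e ∈ D, ∀ f ∈ D, Commute e f → e * f ∈ N := by
    intro e he f hf hef a ha
    have e1 : e * f * a * (e * f)⁻¹ = e * (f * a * f) * e := by
      rw [mul_inv_rev, h.inv_eq he, h.inv_eq hf]; group
    rw [e1]
    suffices hs : R (f * a * f) (e * a * e) by
      have := hconjR (g := e) hs
      rwa [h.inv_eq he, h.conj_conj he] at this
    have hRef : R e f := Relation.ReflTransGen.single ⟨he, hf, hef⟩
    by_cases r : R e a
    · have h1 := hconjR (g := f) ((hsymm hRef).trans r)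
      have h2 := hconjR (g := e) r
      rw [h.inv_eq hf, h.conj_fix hf (Commute.refl f)] at h1
      rw [h.inv_eq he, h.conj_fix he (Commute.refl e)] at h2
      exact ((hsymm h1).trans (hsymm hRef)).trans h2
    · have rf : ¬ R f a := fun r' => r (hRef.trans r')
      have ne : ¬ Commute e a := fun c => r (Relation.ReflTransGen.single ⟨he, ha, c⟩)
      have nf : ¬ Commute f a := fun c => rf (Relation.ReflTransGen.single ⟨hf, ha, c⟩)
      rw [h.braid he ha ne, h.braid hf ha nf]
      have := hconjR (g := a) (hsymm hRef)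
      rwa [h.inv_eq ha] at this
  let π := QuotientGroup.mk' N
  have hπ1 : ∀ {x}, π x = 1 ↔ x ∈ N := fun {x} => QuotientGroup.eq_one_iff x
  have hsame : ∀ e ∈ D, ∀ f ∈ D, Commute (π e) (π f) → π e = π f := by
    intro e he f hf hc
    have hef : π (e * f) = 1 := by
      by_cases hcom : Commute e f
      · exact hπ1.2 (hadj e he f hf hcom)
      · have h2 : π (e * f) * π (e * f) = 1 := by
          rw [map_mul]
          calc π e * π f * (π e * π f) = π e * (π f * π e) * π f := by group
            _ = (π e * π e) * (π f * π f) := by rw [← hc.eq]; group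
            _ = 1 := by rw [← map_mul, ← map_mul, h.mul_self he, h.mul_self hf, map_one, one_mul]
        have h3 : π (e * f) ^ 3 = 1 := by rw [← map_pow, h.cube he hf hcom, map_one]
        rwa [pow_succ, pow_two, h2, one_mul] at h3
    rw [map_mul] at hef
    rw [eq_inv_of_mul_eq_one_left hef, ← map_inv, h.inv_eq hf]
  let E := π '' D
  have hE : Cfsg.IsThreeTranspositionGroup E := by
    refine ⟨⟨?_, ?_⟩, ?_, ?_⟩
    · rintro _ ⟨e, he, rfl⟩
      exact orderOf_eq_prime (by rw [pow_two, ← map_mul, h.mul_self he, map_one]) fun r => hnot e he (hπ1.1 r)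
    · rintro _ ⟨e, he, rfl⟩ _ ⟨f, hf, rfl⟩
      exact (h.set.2 e he f hf).imp (fun r => by rw [← map_mul, ← map_pow, r, map_one])
        (fun r => by rw [← map_mul, ← map_pow, r, map_one])
    · rintro g _ ⟨e, he, rfl⟩
      obtain ⟨g, rfl⟩ := QuotientGroup.mk'_surjective N g
      exact ⟨g * e * g⁻¹, h.conj g e he, by simp [π]⟩
    · show Subgroup.closure (π '' D) = ⊤
      rw [← MonoidHom.map_closure, h.gen, Subgroup.map_top_of_surjective _ (QuotientGroup.mk'_surjective N)]
  have hp : π a₀ ∈ E := ⟨a₀, ha₀, rfl⟩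
  have hw : Cfsg.commutingWidth E = 1 := by
    refine le_antisymm (csSup_le' ?_) (le_csSup ⟨Nat.card (X ⧸ N), ?_⟩ ⟨{π a₀}, by simpa using hp, Set.toFinite _,
      by simp, Set.ncard_singleton _⟩)
    · rintro n ⟨S, hS, hfin, hc, rfl⟩
      rw [Set.ncard_le_one hfin]
      intro a ha b hb
      obtain ⟨e, he, rfl⟩ := hS ha
      obtain ⟨f, hf, rfl⟩ := hS hb
      exact hsame e he f hf (hc _ ha _ hb)
    · rintro n ⟨S, -, -, -, rfl⟩
      exact Set.ncard_univ (X ⧸ N) ▸ Set.ncard_le_ncard (Set.subset_univ S)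
  have htop := (Cfsg.Agent.S5346.result hE (d := π a₀) hp).1 hw
  haveI h3n := CfsgLib.Coprime.pCore_normal' (G := X ⧸ N) 3
  haveI h3s : Group.IsSolvable ↥(Cfsg.pCore 3 (X ⧸ N)) := by
    haveI := Fact.mk Nat.prime_three
    haveI := (CfsgLib.Coprime.pCore_isPGroup (G := X ⧸ N) 3).isNilpotent
    infer_instance
  have hs : Group.IsSolvable ↥(Subgroup.zpowers (π a₀) ⊔ Cfsg.pCore 3 (X ⧸ N)) :=
    sup_isSolvable_of_normal h3n inferInstance h3s
  rw [htop] at hs
  haveI := hs
  haveI : Group.IsSolvable (X ⧸ N) :=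
    Group.isSolvable_of_surjective (f := (Subgroup.topEquiv : (⊤ : Subgroup (X ⧸ N)) ≃* (X ⧸ N)).toMonoidHom)
      (MulEquiv.surjective _)
  haveI : Nontrivial (X ⧸ N) := ⟨π a₀, 1, fun r => hnot a₀ ha₀ (hπ1.1 r)⟩
  refine (Group.IsSolvable.commutator_lt_top_of_nontrivial (X ⧸ N)).ne ?_
  rw [commutator_def, ← Subgroup.map_top_of_surjective π (QuotientGroup.mk'_surjective N), ← Subgroup.map_commutator,
    ← commutator_def, hperf]

/-- A perfect group of type M(22) is primitive on its class. -/
theorem prim22 (h : Hyp D) (hperf : commutator X = ⊤) (h22 : Cfsg.IsOfTypeM22 X D) :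
    Cfsg.IsPrimitiveUnderConj D := by
  obtain ⟨hT, hw⟩ := notwin22 h h22
  have hg := (good_m22 (pre_of_hyp h) h22).1
  obtain ⟨q, hq, -⟩ := id hw
  exact prim_of_connected h hg.center hg.core (core_three_of_notwin h hg.center hT hq) hw
    (connected_of_perfect h hperf)

end connected

section lifting

variable {C : Type*} [Group C] {X : Type*} [Group X] {D : Set X}

theorem swap_prod {A t : C} (ht : ∀ g : C, Commute g t) : ∀ L : List C, (∀ B ∈ L, A * B = B * A * t) →
    A * L.prod = L.prod * A * t ^ L.length := by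
  intro L
  induction L with
  | nil => simp
  | cons B L ih =>
    intro hL
    have hi := ih fun B' hB' => hL B' (List.mem_cons_of_mem B hB')
    rw [List.prod_cons, List.length_cons, pow_succ', ← mul_assoc, hL B List.mem_cons_self]
    calc B * A * t * L.prod = B * A * (L.prod * t) := by rw [(ht L.prod).eq]; group
      _ = B * (A * L.prod) * t := by group
      _ = B * (L.prod * A * t ^ L.length) * t := by rw [hi]
      _ = B * L.prod * A * (t * t ^ L.length) := by rw [← pow_succ', pow_succ]; group

theorem sq_prod {t : C} (ht : ∀ g : C, Commute g t) : ∀ L : List C, (∀ B ∈ L, B * B = t) →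
    (∀ B ∈ L, ∀ B' ∈ L, Commute B B') → L.prod * L.prod = t ^ L.length := by
  intro L
  induction L with
  | nil => simp
  | cons B L ih =>
    intro hs hc
    have hi := ih (fun B' hB' => hs B' (List.mem_cons_of_mem B hB'))
      fun B' hB' B'' hB'' => hc B' (List.mem_cons_of_mem B hB') B'' (List.mem_cons_of_mem B hB'')
    have hBL : Commute B L.prod :=
      Commute.list_prod_right _ _ fun B' hB' => hc B List.mem_cons_self B' (List.mem_cons_of_mem B hB')
    rw [List.prod_cons, List.length_cons, pow_succ']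
    calc B * L.prod * (B * L.prod) = B * (L.prod * B) * L.prod := by group
      _ = (B * B) * (L.prod * L.prod) := by rw [← hBL.eq]; group
      _ = t * t ^ L.length := by rw [hs B List.mem_cons_self, hi]

/-- In a double cover involutions lift to involutions. -/
theorem lift_involution (h : Hyp D) (π : C →* X) (hsurj : Function.Surjective π) {z : C}
    (hz : z * z = 1) (hzc : ∀ g : C, Commute g z) (hker : ∀ k, π k = 1 → k = 1 ∨ k = z)
    (h2 : TupTrans 2 D) (hdec : Decomp 3 D)
    {le : List X} (hle : Tuple D le) (hlen : Even le.length) (hlne : le ≠ []) (hlp : le.prod = 1)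
    {lo : List X} (hlo : Tuple D lo) (holen : Odd lo.length) (hop : lo.prod = 1)
    {x : X} (hx : orderOf x = 2) : ∃ y : C, orderOf y = 2 ∧ π y = x := by
  classical
  choose lift hlift using hsurj
  have hcc : ∀ {k}, π k = 1 → ∀ g : C, Commute g k := fun {k} hk g => by
    rcases hker k hk with r | r <;> rw [r]
    exacts [Commute.one_right g, hzc g]
  have hmaplist : ∀ l : List X, π ((l.map lift).prod) = l.prod := fun l => by
    rw [map_list_prod, List.map_map]
    congr 1
    conv_rhs => rw [← List.map_id l]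
    exact List.map_congr_left fun a _ => hlift a
  -- independence of the choice of lifts
  have hcomm_of : ∀ {A B A' B' : C}, π A = π A' → π B = π B' → Commute A B → Commute A' B' := by
    intro A B A' B' eA eB hAB
    have hA : ∀ g, Commute g (A⁻¹ * A') := hcc (by rw [map_mul, map_inv, eA, inv_mul_cancel])
    have hB : ∀ g, Commute g (B⁻¹ * B') := hcc (by rw [map_mul, map_inv, eB, inv_mul_cancel])
    have e1 : A' = A * (A⁻¹ * A') := by group
    have e2 : B' = B * (B⁻¹ * B') := by group
    rw [e1, e2]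
    exact (hAB.mul_right (hB A)).mul_left ((hA _).symm)
  -- commuting members lift to commuting elements
  have hpair : ∀ a b : X, Tuple D [a, b] → Commute (lift a) (lift b) := by
    intro a b hab
    by_contra hn
    have hall : ∀ a' b' : X, Tuple D [a', b'] → ¬ Commute (lift a') (lift b') := by
      intro a' b' hab' hc
      obtain ⟨g, hg⟩ := h2 [a, b] [a', b'] rfl rfl hab hab'
      simp at hg
      obtain ⟨g', hg'⟩ : ∃ g', π g' = g := ⟨lift g, hlift g⟩
      have hc' : Commute (g' * lift a * g'⁻¹) (g' * lift b * g'⁻¹) :=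
        hcomm_of (by simp [hlift, hg', hg.1]) (by simp [hlift, hg', hg.2]) hc
      exact hn ((Commute.conj_iff g').1 hc')
    obtain ⟨c, rest, rfl⟩ := List.exists_cons_of_ne_nil hlne
    have hrest : ∀ B ∈ rest.map lift, lift c * B = B * lift c * z := by
      intro B hB
      obtain ⟨b', hb', rfl⟩ := List.mem_map.1 hB
      have hne : c ≠ b' := fun e => (List.nodup_cons.1 hle.1).1 (e ▸ hb')
      have ht : Tuple D [c, b'] := ⟨by simp [hne], fun y hy => hle.2.1 y (by simp at hy; rcases hy with rfl | rfl <;> simp [hb']),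
        fun y hy y' hy' => hle.2.2 y (by simp at hy; rcases hy with rfl | rfl <;> simp [hb']) y'
          (by simp at hy'; rcases hy' with rfl | rfl <;> simp [hb'])⟩
      have hcb : Commute c b' := hle.2.2 c List.mem_cons_self b' (List.mem_cons_of_mem c hb')
      have hk : π ((lift b' * lift c)⁻¹ * (lift c * lift b')) = 1 := by
        simp only [map_mul, map_inv, hlift]
        rw [hcb.eq, inv_mul_cancel]
      rcases hker _ hk with r | r
      · exact absurd (show lift c * lift b' = lift b' * lift c from (inv_mul_eq_one.1 r).symm) (hall c b' ht)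
      · exact eq_mul_of_inv_mul_eq r
    have hs := swap_prod hzc (rest.map lift) hrest
    have hk : π (lift c * (rest.map lift).prod) = 1 := by
      rw [map_mul, hmaplist, hlift, ← List.prod_cons, hlp]
    have hc1 : Commute (lift c) (rest.map lift).prod := by
      have hr := hcc hk (lift c)
      have := ((Commute.refl (lift c)).inv_right).mul_right hr
      rwa [inv_mul_cancel_left] at this
    have hodd : Odd rest.length := by
      have := hlen
      rw [List.length_cons, Nat.even_add_one, Nat.not_even_iff_odd] at this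
      exact this
    rw [List.length_map] at hs
    obtain ⟨m, hm⟩ := hodd
    rw [hc1.eq, hm, pow_succ, pow_mul, pow_two, hz, one_pow, one_mul] at hs
    have hz1 : z = 1 := mul_left_cancel (hs.symm.trans (mul_one _).symm)
    refine hn ?_
    have hk2 : π ((lift b * lift a)⁻¹ * (lift a * lift b)) = 1 := by
      simp only [map_mul, map_inv, hlift]
      rw [(hab.2.2 a (by simp) b (by simp)).eq, inv_mul_cancel]
    have r : (lift b * lift a)⁻¹ * (lift a * lift b) = 1 := by
      rcases hker _ hk2 with r | r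
      · exact r
      · rw [r, hz1]
    exact (inv_mul_eq_one.1 r).symm
  have hlistc : ∀ l : List X, Tuple D l → ∀ B ∈ l.map lift, ∀ B' ∈ l.map lift, Commute B B' := by
    intro l hl B hB B' hB'
    obtain ⟨b, hb, rfl⟩ := List.mem_map.1 hB
    obtain ⟨b', hb', rfl⟩ := List.mem_map.1 hB'
    rcases eq_or_ne b b' with rfl | hne
    · exact Commute.refl _
    · exact hpair b b' ⟨by simp [hne], fun y hy => hl.2.1 y (by simp at hy; rcases hy with rfl | rfl <;> assumption),
        fun y hy y' hy' => hl.2.2 y (by simp at hy; rcases hy with rfl | rfl <;> assumption) y'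
          (by simp at hy'; rcases hy' with rfl | rfl <;> assumption)⟩
  -- members lift to involutions
  have hsq : ∀ a ∈ D, lift a * lift a = 1 := by
    intro a ha
    have hk : π (lift a * lift a) = 1 := by rw [map_mul, hlift, h.mul_self ha]
    by_contra hn
    have haz : lift a * lift a = z := (hker _ hk).resolve_left hn
    have hall : ∀ b ∈ D, lift b * lift b = z := by
      intro b hb
      obtain ⟨g, rfl⟩ := h.transitive a ha b hb
      set k := (lift g * lift a * (lift g)⁻¹)⁻¹ * lift (g * a * g⁻¹) with hkdef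
      have hk1 : π k = 1 := by
        simp only [hkdef, map_mul, map_inv, hlift]
        group
      have hkk : k * k = 1 := by rcases hker k hk1 with r | r <;> rw [r]; exacts [one_mul _, hz]
      have e : lift (g * a * g⁻¹) = lift g * lift a * (lift g)⁻¹ * k := by rw [hkdef]; group
      rw [e]
      calc lift g * lift a * (lift g)⁻¹ * k * (lift g * lift a * (lift g)⁻¹ * k)
          = lift g * lift a * (lift g)⁻¹ * (k * (lift g * lift a * (lift g)⁻¹)) * k := by group
        _ = (lift g * (lift a * lift a) * (lift g)⁻¹) * (k * k) := by rw [← (hcc hk1 _).eq]; group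
        _ = z := by rw [haz, (hzc (lift g)).eq, mul_inv_cancel_right, hkk, mul_one]
    have hs := sq_prod hzc (lo.map lift) (fun B hB => by
      obtain ⟨b, hb, rfl⟩ := List.mem_map.1 hB
      exact hall b (hlo.2.1 b hb).1) (hlistc lo hlo)
    have hk2 : π (lo.map lift).prod = 1 := by rw [hmaplist, hop]
    obtain ⟨m, hm⟩ := holen
    rw [List.length_map, hm, pow_succ, pow_mul, pow_two, hz, one_pow, one_mul] at hs
    have h1 : (lo.map lift).prod * (lo.map lift).prod = 1 := by
      rcases hker _ hk2 with r | r <;> rw [r]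
      exacts [one_mul _, hz]
    exact hn (haz.trans (hs.symm.trans h1))
  have hxx : x * x = 1 := by rw [← pow_two, ← hx]; exact pow_orderOf_eq_one x
  have hx1 : x ≠ 1 := fun e => by rw [e, orderOf_one] at hx; norm_num at hx
  obtain ⟨l, hl, -, -, hlx⟩ := hdec x hxx hx1
  refine ⟨(l.map lift).prod, orderOf_eq_prime ?_ fun e => hx1 ?_, by rw [hmaplist, hlx]⟩
  · rw [pow_two, sq_prod (t := (1 : C)) (fun g => Commute.one_right g) _ (fun B hB => by
      obtain ⟨b, hb, rfl⟩ := List.mem_map.1 hB
      exact hsq b (hl.2.1 b hb).1) (hlistc l hl), one_pow]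
  · rw [← hlx, ← hmaplist, e, map_one]

end lifting

section models

/-- The transvection class in a copy of `PSU(6, 4)`. -/
theorem exists_pre {F : Type} [Field F] [Fintype F] (hF : Fintype.card F = 4) {X : Type*} [Group X]
    (e : X ≃* Cfsg.PSU 6 F 2) : ∃ D : Set X, Pre D := by
  classical
  set T := {g : ↥(Cfsg.SU 6 F 2) |
    (((g : Matrix.SpecialLinearGroup (Fin 6) F) : Matrix (Fin 6) (Fin 6) F) - 1).rank = 1}
  have hT : Cfsg.IsThreeTranspositionClass T := Cfsg.Agent.S1631.result F hF 6 (by norm_num)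
  have hH := hyp_of_class hT
  let f : ↥(Cfsg.SU 6 F 2) →* X := e.symm.toMonoidHom.comp (QuotientGroup.mk' _)
  have hf : Function.Surjective f := e.symm.surjective.comp (QuotientGroup.mk'_surjective _)
  refine ⟨f '' T, ?_, ?_, ?_, ?_⟩
  · rintro _ ⟨a, ha, rfl⟩; rw [← map_mul, hH.mul_self ha, map_one]
  · rintro _ ⟨a, ha, rfl⟩ _ ⟨b, hb, rfl⟩
    exact (hH.set.2 a ha b hb).imp (fun r => by rw [← map_mul, ← map_pow, r, map_one])
      (fun r => by rw [← map_mul, ← map_pow, r, map_one])
  · rintro g _ ⟨a, ha, rfl⟩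
    obtain ⟨g, rfl⟩ := hf g
    exact ⟨g * a * g⁻¹, hH.conj g a ha, by simp⟩
  · rw [← MonoidHom.map_closure, hH.gen, Subgroup.map_top_of_surjective _ hf]

variable {C : Type*} [Group C] {X : Type*} [Group X] [Finite X]

/-- Double covers of `PSU(6, 4)`. -/
theorem lift_u6 {F : Type} [Field F] [Fintype F] (hF : Fintype.card F = 4) (e : X ≃* Cfsg.PSU 6 F 2)
    (π : C →* X) (hsurj : Function.Surjective π) {z : C} (hz : z * z = 1) (hzc : ∀ g : C, Commute g z)
    (hker : ∀ k, π k = 1 → k = 1 ∨ k = z) {x : X} (hx : orderOf x = 2) : ∃ y : C, orderOf y = 2 ∧ π y = x := by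
  obtain ⟨D, hP⟩ := exists_pre hF e
  obtain ⟨-, hdec, hhex, -⟩ := u6_facts hF e hP
  obtain ⟨L, q, hqt, hqlen, hqp⟩ := lev_u6 hF e hP
  have hlines := hasLines_of_equiv hF e hP
  obtain ⟨a, ha, -⟩ := L.prim.2.1
  obtain ⟨b, hb⟩ : (perp (nz D) a).Nonempty := (Set.ncard_pos (Set.toFinite _)).1 (by rw [L.deg a ha]; norm_num)
  obtain ⟨l, -, hlen, -, -, -, hiff⟩ := hlines a ha b hb.1 hb.2.1.symm hb.2.2
  obtain ⟨c, hc, hcl⟩ : ∃ c ∈ perp (nz D) a ∩ perp (nz D) b, c ∉ l := by
    by_contra hcon
    push Not at hcon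
    classical
    have e1 := Set.ncard_le_ncard (t := {x | x ∈ l}) hcon (Set.toFinite _)
    rw [L.lam a ha b hb, show {x | x ∈ l} = ↑l.toFinset by ext; simp, Set.ncard_coe_finset] at e1
    have := List.toFinset_card_le l
    omega
  obtain ⟨f, hf, fa, fb, fc⟩ : ∃ f ∈ nz D, Commute f a ∧ Commute f b ∧ ¬ Commute f c := by
    by_contra hcon
    push Not at hcon
    exact hcl ((hiff c hc.1.1).2 hcon)
  have hnz : ∀ {u}, u ∈ nz D → u ∈ nz (nz D) := fun {u} hu => ⟨hu, hu.2⟩
  have ht : Tuple (nz D) [a, b, c] := ⟨by simp [hb.2.1.symm, hc.1.2.1.symm, hc.2.2.1.symm],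
    by simp [hnz ha, hnz hb.1, hnz hc.1.1],
    by simp [hb.2.2, hc.1.2.2, hc.2.2.2, hb.2.2.symm, hc.1.2.2.symm, hc.2.2.2.symm]⟩
  obtain ⟨p, -, hp, -, tp, -, pp, -, -⟩ := hhex a b c ht ⟨f, hnz hf, fa, fb, fc⟩
  exact lift_involution L.hyp π hsurj hz hzc hker (tup_two_of_lev L (by norm_num)) hdec tp
    ⟨3, by simp [hp]⟩ (by simp) pp hqt ⟨2, by rw [hqlen]; rfl⟩ hqp hx

/-- Double covers of groups of type M(22). -/
theorem lift_m22 {D : Set X} (hD : Cfsg.IsThreeTranspositionClass D) (hperf : commutator X = ⊤)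
    (h22 : Cfsg.IsOfTypeM22 X D)
    (π : C →* X) (hsurj : Function.Surjective π) {z : C} (hz : z * z = 1) (hzc : ∀ g : C, Commute g z)
    (hker : ∀ k, π k = 1 → k = 1 ∨ k = z) {x : X} (hx : orderOf x = 2) : ∃ y : C, orderOf y = 2 ∧ π y = x := by
  have h := hyp_of_class hD
  have hprim := prim22 h hperf h22
  obtain ⟨d, W⟩ := local22 h hprim h22
  obtain ⟨a, b, c, ha, hb, hc, ht, hf⟩ := exists_indep h W
  obtain ⟨r, hr, hrt, hrp⟩ := six_one h W ht
  obtain ⟨u, v, w, ht6, hp, hprod⟩ := hexad_lift h W.nc W.zl W.hexads W.six ha hb hc ht hf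
  have ht7 : Tuple D [d, a, b, c, u, v, w] := by
    refine ⟨List.nodup_cons.2 ⟨fun q => (hp d q).2.1 rfl, ht6.1⟩, ?_, ?_⟩
    · intro e he
      rcases List.mem_cons.1 he with rfl | he
      · exact ⟨W.mem, h.ne_one W.mem⟩
      · exact ht6.2.1 e he
    · intro e he e' he'
      rcases List.mem_cons.1 he with q | he <;> rcases List.mem_cons.1 he' with q' | he'
      · rw [q, q']
      · rw [q]; exact (hp e' he').2.2
      · rw [q']; exact (hp e he).2.2.symm
      · exact ht6.2.2 e he e' he'
  have hp7 : [d, a, b, c, u, v, w].prod = 1 := by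
    simp only [List.prod_cons, List.prod_nil, mul_one]
    rw [show a * (b * (c * (u * (v * w)))) = a * b * c * (u * v * w) by group, hprod]
    exact h.mul_self W.mem
  exact lift_involution h π hsurj hz hzc hker (Relations.tuples_m22 (pre_of_hyp h) h22).2
    (decomp22 h hprim h22) hrt ⟨3, by simp [hr]⟩ (by simp) hrp ht7 ⟨3, by simp⟩ hp7 hx

end models

/-- The common conclusion for a quasisimple centralizer. -/
theorem conclude {G : Type*} [Group G] {d : G} (hd : orderOf d = 2)
    [((Subgroup.zpowers d).subgroupOf (Subgroup.centralizer ({d} : Set G))).Normal]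
    (hlift : ∀ {z : ↥(Subgroup.centralizer ({d} : Set G))}, z * z = 1 → (∀ g, Commute g z) →
      (∀ k, QuotientGroup.mk' ((Subgroup.zpowers d).subgroupOf (Subgroup.centralizer ({d} : Set G))) k = 1 →
        k = 1 ∨ k = z) →
      ∀ x : ↥(Subgroup.centralizer ({d} : Set G)) ⧸ (Subgroup.zpowers d).subgroupOf (Subgroup.centralizer ({d} : Set G)),
        orderOf x = 2 → ∃ y : ↥(Subgroup.centralizer ({d} : Set G)), orderOf y = 2 ∧
          QuotientGroup.mk' ((Subgroup.zpowers d).subgroupOf (Subgroup.centralizer ({d} : Set G))) y = x) :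
    (∀ x : ↥(Subgroup.centralizer ({d} : Set G)) ⧸ (Subgroup.zpowers d).subgroupOf (Subgroup.centralizer ({d} : Set G)),
      orderOf x = 2 → ∃ y : ↥(Subgroup.centralizer ({d} : Set G)), orderOf y = 2 ∧
        (QuotientGroup.mk y : ↥(Subgroup.centralizer ({d} : Set G)) ⧸
          (Subgroup.zpowers d).subgroupOf (Subgroup.centralizer ({d} : Set G))) = x) ∧ ¬ ∃ g : G, g ^ 2 = d := by
  classical
  have hdd : d * d = 1 := by rw [← pow_two, ← hd]; exact pow_orderOf_eq_one d
  set z : ↥(Subgroup.centralizer ({d} : Set G)) := ⟨d, Subgroup.mem_centralizer_singleton_iff.2 rfl⟩ with hzdef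
  have hzz : z * z = 1 := Subtype.ext hdd
  have hzc : ∀ g, Commute g z := fun g => Subtype.ext (Subgroup.mem_centralizer_singleton_iff.1 g.2)
  have hker : ∀ k, QuotientGroup.mk' ((Subgroup.zpowers d).subgroupOf (Subgroup.centralizer ({d} : Set G))) k = 1 →
      k = 1 ∨ k = z := by
    intro k hk
    have := Subgroup.mem_subgroupOf.1 ((QuotientGroup.eq_one_iff k).1 hk)
    obtain ⟨n, hn⟩ := Subgroup.mem_zpowers_iff.1 this
    rcases Int.even_or_odd' n with ⟨m, rfl | rfl⟩
    · left; exact Subtype.ext (by rw [← hn, zpow_mul, zpow_two, hdd, one_zpow]; rfl)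
    · right; exact Subtype.ext (by rw [← hn, zpow_add, zpow_mul, zpow_two, hdd, one_zpow, one_mul, zpow_one])
  have H := hlift hzz hzc hker
  refine ⟨H, ?_⟩
  rintro ⟨g, hg⟩
  have hgd : g ∈ Subgroup.centralizer ({d} : Set G) := Subgroup.mem_centralizer_singleton_iff.2 (by
    rw [← hg, pow_two]; group)
  set k : ↥(Subgroup.centralizer ({d} : Set G)) := ⟨g, hgd⟩
  have hk2 : k * k = z := Subtype.ext (show g * g = d by rw [← pow_two, hg])
  set q := QuotientGroup.mk' ((Subgroup.zpowers d).subgroupOf (Subgroup.centralizer ({d} : Set G))) with hq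
  have hzne : z ≠ 1 := fun e => by
    have e' : d = 1 := congrArg Subtype.val e
    rw [e', orderOf_one] at hd
    norm_num at hd
  have hfin : ∀ y, q k = q y → y * y = 1 → False := by
    intro y hy hyy
    have hyk : q (y⁻¹ * k) = 1 := by rw [map_mul, map_inv, hy, inv_mul_cancel]
    apply hzne
    rcases hker _ hyk with r | r
    · rw [← hk2, ← inv_mul_eq_one.1 r, hyy]
    · rw [← hk2, inv_mul_eq_iff_eq_mul.1 r]
      calc y * z * (y * z) = y * (z * y) * z := by group
        _ = (y * y) * (z * z) := by rw [← (hzc y).eq]; group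
        _ = 1 := by rw [hyy, hzz, one_mul]
  by_cases h1 : q k = 1
  · exact hfin 1 (h1.trans (map_one _).symm) (one_mul _)
  · have hqq : q k ^ 2 = 1 := by
      rw [pow_two, ← map_mul, hk2]
      exact (QuotientGroup.eq_one_iff z).2 (Subgroup.mem_subgroupOf.2 (Subgroup.mem_zpowers d))
    obtain ⟨y, hy2, hy⟩ := H (q k) (orderOf_eq_prime hqq h1)
    exact hfin y hy.symm (by rw [← pow_two, ← hy2]; exact pow_orderOf_eq_one y)

end CfsgLib.Spor.Tri.DoubleCover
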