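/-
Hyperbolic coordinates for the Hermitian space of dimension six over four elements, and the
block isometries fixing the maximal totally isotropic subspace spanned by the first halves.
-/
import Cfsg.Agent.Lib.Spor.Tri.RelationsU6

namespace CfsgLib.Spor.Tri.U6Base

open Matrix CfsgLib.SU CfsgLib.Spor.Tri.Relations

/-- A conjugation of a field with four elements and a cube root of unity. -/
structure Frame (F : Type) [Field F] [Fintype F] where
  C : UCtx F 2
  hF : Fintype.card F = 4
  w : F
  hw : w * w + w + 1 = 0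

variable {F : Type} [Field F] [Fintype F]

theorem exists_frame (hF : Fintype.card F = 4) : Nonempty (Frame F) := by
  classical
  obtain ⟨C⟩ := CfsgLib.Classical.uctx_exists (F := F) (q := 2) (by rw [hF]; norm_num)
  obtain ⟨y, hy⟩ := C.exists_not_fixed
  have h0 : y ≠ 0 := fun e => hy (by rw [e, map_zero])
  have h1 : y ≠ 1 := fun e => hy (by rw [e, map_one])
  have h3 := FiniteField.pow_card_sub_one_eq_one y h0
  rw [hF] at h3
  refine ⟨⟨C, hF, y, mul_left_cancel₀ (sub_ne_zero.2 h1) ?_⟩⟩
  linear_combination h3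

namespace Frame

variable (K : Frame F)

local notation "V" => (Fin 6 → F)
local notation "M3" => Matrix (Fin 3) (Fin 3) F
local notation "σ" => K.C.bar

include K in
theorem two : (2 : F) = 0 := by linear_combination one_add_one K.hF

include K in
theorem add_self (a : F) : a + a = 0 := by linear_combination a * K.two

theorem bar_w : σ K.w = K.w + 1 := by
  rw [K.C.bar_eq]
  linear_combination K.hw - (K.w + 1) * K.two

/-- The conjugate transpose. -/
def ct (M : M3) : M3 := M.transpose.map σ

theorem ct_apply (M : M3) (i j : Fin 3) : K.ct M i j = σ (M j i) := rfl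

theorem ct_ct (M : M3) : K.ct (K.ct M) = M := by ext i j; simp [ct_apply, K.C.bar_bar]

theorem ct_mul (M N : M3) : K.ct (M * N) = K.ct N * K.ct M := by
  simp [ct, Matrix.transpose_mul, Matrix.map_mul]

theorem ct_add (M N : M3) : K.ct (M + N) = K.ct M + K.ct N := by ext i j; simp [ct_apply]

theorem ct_one : K.ct (1 : M3) = 1 := by simp [ct]

theorem ct_zero : K.ct (0 : M3) = 0 := by ext i j; simp [ct_apply]

include K in
theorem madd_self (M : M3) : M + M = 0 := by ext i j; simp [K.add_self]

/-- The first halves. -/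
def al (x : V) : Fin 3 → F :=
  ![(K.w + 1) * x 0 + K.w * x 1, (K.w + 1) * x 2 + K.w * x 3, (K.w + 1) * x 4 + K.w * x 5]

/-- The second halves. -/
def be (_K : Frame F) (x : V) : Fin 3 → F := ![x 0 + x 1, x 2 + x 3, x 4 + x 5]

/-- The vector with given halves. -/
def comb (a b : Fin 3 → F) : V :=
  ![a 0 + K.w * b 0, a 0 + (K.w + 1) * b 0, a 1 + K.w * b 1, a 1 + (K.w + 1) * b 1,
    a 2 + K.w * b 2, a 2 + (K.w + 1) * b 2]

theorem al_comb (a b : Fin 3 → F) : K.al (K.comb a b) = a := by
  funext i
  fin_cases i <;> simp [al, comb] <;>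
    first
      | linear_combination (a 0 * K.w + b 0 * (K.w * K.w + K.w)) * K.two
      | linear_combination (a 1 * K.w + b 1 * (K.w * K.w + K.w)) * K.two
      | linear_combination (a 2 * K.w + b 2 * (K.w * K.w + K.w)) * K.two

theorem be_comb (a b : Fin 3 → F) : K.be (K.comb a b) = b := by
  funext i
  fin_cases i <;> simp [be, comb] <;>
    first
      | linear_combination (a 0 + K.w * b 0) * K.two
      | linear_combination (a 1 + K.w * b 1) * K.two
      | linear_combination (a 2 + K.w * b 2) * K.two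

theorem comb_al_be (x : V) : K.comb (K.al x) (K.be x) = x := by
  funext i
  fin_cases i <;> simp [al, be, comb] <;>
    first
      | linear_combination (K.w * x 0 + K.w * x 1) * K.two
      | linear_combination ((K.w + 1) * x 0 + K.w * x 1) * K.two
      | linear_combination (K.w * x 2 + K.w * x 3) * K.two
      | linear_combination ((K.w + 1) * x 2 + K.w * x 3) * K.two
      | linear_combination (K.w * x 4 + K.w * x 5) * K.two
      | linear_combination ((K.w + 1) * x 4 + K.w * x 5) * K.two

theorem al_add (x y : V) : K.al (x + y) = K.al x + K.al y := by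
  funext i; fin_cases i <;> simp [al] <;> ring

theorem be_add (x y : V) : K.be (x + y) = K.be x + K.be y := by
  funext i; fin_cases i <;> simp [be] <;> ring

theorem al_smul (a : F) (x : V) : K.al (a • x) = a • K.al x := by
  funext i; fin_cases i <;> simp [al] <;> ring

theorem be_smul (a : F) (x : V) : K.be (a • x) = a • K.be x := by
  funext i; fin_cases i <;> simp [be] <;> ring

theorem comb_add (a b a' b' : Fin 3 → F) : K.comb (a + a') (b + b') = K.comb a b + K.comb a' b' := by
  funext i; fin_cases i <;> simp [comb] <;> ring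

theorem comb_smul (c : F) (a b : Fin 3 → F) : K.comb (c • a) (c • b) = c • K.comb a b := by
  funext i; fin_cases i <;> simp [comb] <;> ring

theorem ext_ab {x y : V} (h1 : K.al x = K.al y) (h2 : K.be x = K.be y) : x = y := by
  rw [← K.comb_al_be x, ← K.comb_al_be y, h1, h2]

/-- The conjugate of a vector. -/
def cv (v : Fin 3 → F) : Fin 3 → F := fun i => σ (v i)

theorem cv_add (u v : Fin 3 → F) : K.cv (u + v) = K.cv u + K.cv v := by funext i; simp [cv]

theorem form_frame (x y : V) :
    K.C.form x y = K.al x ⬝ᵥ K.cv (K.be y) + K.be x ⬝ᵥ K.cv (K.al y) := by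
  simp [UCtx.form, al, be, cv, dotProduct, Fin.sum_univ_succ, K.bar_w]
  linear_combination -((K.w + 1) * (x 0 * σ (y 0) + x 0 * σ (y 1) + x 2 * σ (y 2) + x 2 * σ (y 3) + x 4 * σ (y 4)
    + x 4 * σ (y 5) + x 1 * σ (y 0) + x 3 * σ (y 2) + x 5 * σ (y 4)) + K.w * (x 1 * σ (y 1) + x 3 * σ (y 3)
    + x 5 * σ (y 5))) * K.two

theorem dot_mulVec (A B : M3) (v u : Fin 3 → F) :
    (A *ᵥ v) ⬝ᵥ K.cv (B *ᵥ u) = v ⬝ᵥ K.cv ((K.ct A * B) *ᵥ u) := by
  simp [Matrix.mulVec, dotProduct, cv, Matrix.mul_apply, Fin.sum_univ_three, ct_apply, K.C.bar_bar]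
  ring

/-- The block data of an element fixing the first halves. -/
def Is (g : ↥(Cfsg.SU 6 F 2)) (M M' Y : M3) : Prop :=
  ∀ x, g.1.1 *ᵥ x = K.comb (M *ᵥ K.al x + Y *ᵥ K.be x) (M' *ᵥ K.be x)

theorem is_one : K.Is 1 1 1 0 := fun x => by
  rw [su_one_mulVec, Matrix.one_mulVec, Matrix.one_mulVec, Matrix.zero_mulVec, add_zero, K.comb_al_be]

variable {K}

theorem Is.mul {g h : ↥(Cfsg.SU 6 F 2)} {M M' Y N N' Z : M3} (hg : K.Is g M M' Y) (hh : K.Is h N N' Z) :
    K.Is (g * h) (M * N) (M' * N') (M * Z + Y * N') := fun x => by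
  rw [suMat_mulVec_mul, hh x, hg, K.al_comb, K.be_comb]
  simp only [Matrix.mulVec_add, Matrix.add_mulVec, Matrix.mulVec_mulVec]
  rw [add_assoc]

theorem Is.eq {g h : ↥(Cfsg.SU 6 F 2)} {M M' Y : M3} (hg : K.Is g M M' Y) (hh : K.Is h M M' Y) : g = h :=
  su_ext fun x => (hg x).trans (hh x).symm

theorem Is.data {g : ↥(Cfsg.SU 6 F 2)} {M M' Y N N' Z : M3} (hg : K.Is g M M' Y) (hh : K.Is g N N' Z) :
    M = N ∧ M' = N' ∧ Y = Z := by
  refine ⟨Matrix.ext_iff_mulVec.2 fun v => ?_, Matrix.ext_iff_mulVec.2 fun v => ?_, Matrix.ext_iff_mulVec.2 fun v => ?_⟩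
  · have e := congrArg K.al ((hg (K.comb v 0)).symm.trans (hh _))
    simpa [K.al_comb, K.be_comb] using e
  · have e := congrArg K.be ((hg (K.comb 0 v)).symm.trans (hh _))
    simpa [K.al_comb, K.be_comb] using e
  · have e := congrArg K.al ((hg (K.comb 0 v)).symm.trans (hh _))
    simpa [K.al_comb, K.be_comb] using e

variable (K)

include K in
theorem det_eq_one_of_invol {M : Matrix (Fin 6) (Fin 6) F} (h : ∀ x, M *ᵥ (M *ᵥ x) = x) : M.det = 1 := by
  have e : M * M = 1 := Matrix.ext_iff_mulVec.2 fun x => by rw [← Matrix.mulVec_mulVec, h, Matrix.one_mulVec]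
  have e2 := congrArg Matrix.det e
  rw [Matrix.det_mul, Matrix.det_one] at e2
  have h0 : (M.det - 1) * (M.det - 1) = 0 := by linear_combination e2 + (1 - M.det) * K.two
  exact sub_eq_zero.1 (mul_self_eq_zero.1 h0)

/-- An isometric involution of the space as an element of the group. -/
theorem exists_su_invol (f : V →ₗ[F] V) (hf : ∀ x, f (f x) = x) (hiso : ∀ x y, K.C.form (f x) (f y) = K.C.form x y) :
    ∃ g : ↥(Cfsg.SU 6 F 2), g * g = 1 ∧ ∀ x, g.1.1 *ᵥ x = f x := by
  have hm : ∀ x, LinearMap.toMatrix' f *ᵥ x = f x := fun x => LinearMap.toMatrix'_mulVec f x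
  refine ⟨K.C.mkSU (LinearMap.toMatrix' f) (K.det_eq_one_of_invol fun x => by rw [hm, hm, hf])
    (fun u v => by rw [hm, hm, hiso]), su_ext fun x => ?_, hm⟩
  rw [suMat_mulVec_mul, su_one_mulVec, UCtx.mkSU_val, hm, hm, hf]

theorem exists_is_invol {M M' Y : M3} (h1 : K.ct M' * M = 1) (h2 : K.ct (K.ct M' * Y) = K.ct M' * Y)
    (hM : M * M = 1) (hM' : M' * M' = 1) (hY : M * Y + Y * M' = 0) :
    ∃ g, g * g = 1 ∧ K.Is g M M' Y := by
  let f : V →ₗ[F] V :=
    { toFun := fun x => K.comb (M *ᵥ K.al x + Y *ᵥ K.be x) (M' *ᵥ K.be x)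
      map_add' := fun x y => by
        simp only [K.al_add, K.be_add, Matrix.mulVec_add]
        rw [← K.comb_add]
        congr 1
        abel
      map_smul' := fun a x => by
        simp only [K.al_smul, K.be_smul, Matrix.mulVec_smul, ← smul_add, RingHom.id_apply, K.comb_smul] }
  refine K.exists_su_invol f (fun x => ?_) fun x y => ?_
  · show K.comb _ _ = _
    simp only [f, LinearMap.coe_mk, AddHom.coe_mk, K.al_comb, K.be_comb, Matrix.mulVec_add, Matrix.mulVec_mulVec]
    rw [add_assoc, ← Matrix.add_mulVec, hM, hM', hY, Matrix.one_mulVec, Matrix.one_mulVec, Matrix.zero_mulVec,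
      add_zero, K.comb_al_be]
  · have h1' : K.ct M * M' = 1 := by rw [← K.ct_ct M', ← K.ct_mul, h1, K.ct_one]
    have h2' : K.ct Y * M' = K.ct M' * Y := by rw [← h2, K.ct_mul, K.ct_ct]
    show K.C.form (K.comb _ _) (K.comb _ _) = _
    simp only [K.form_frame, K.al_comb, K.be_comb, K.cv_add, add_dotProduct, dotProduct_add, K.dot_mulVec,
      h1, h1', h2', Matrix.one_mulVec]
    linear_combination (K.be x ⬝ᵥ K.cv ((K.ct M' * Y) *ᵥ K.be y)) * K.two

/-- The involution exchanging the halves of the chosen pairs. -/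
theorem exists_swap (s : Fin 3 → Bool) : ∃ g : ↥(Cfsg.SU 6 F 2), g * g = 1 ∧ ∀ x, g.1.1 *ᵥ x =
    K.comb (fun i => if s i then K.be x i else K.al x i) (fun i => if s i then K.al x i else K.be x i) := by
  let f : V →ₗ[F] V :=
    { toFun := fun x => K.comb (fun i => if s i then K.be x i else K.al x i)
        (fun i => if s i then K.al x i else K.be x i)
      map_add' := fun x y => by
        simp only [K.al_add, K.be_add, Pi.add_apply]
        rw [← K.comb_add]
        congr 1 <;> funext i <;> simp only [Pi.add_apply] <;> split <;> rfl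
      map_smul' := fun a x => by
        simp only [K.al_smul, K.be_smul, Pi.smul_apply, RingHom.id_apply, ← K.comb_smul]
        congr 1 <;> funext i <;> simp only [Pi.smul_apply] <;> split <;> rfl }
  refine K.exists_su_invol f (fun x => ?_) fun x y => ?_
  · refine K.ext_ab ?_ ?_ <;>
      (simp only [f, LinearMap.coe_mk, AddHom.coe_mk, K.al_comb, K.be_comb]; funext i; split <;> rfl)
  · simp only [f, LinearMap.coe_mk, AddHom.coe_mk, K.form_frame, K.al_comb, K.be_comb, cv, dotProduct,
      ← Finset.sum_add_distrib]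
    refine Finset.sum_congr rfl fun i _ => ?_
    split
    · ring
    · rfl

/-- The outer square of a vector. -/
def outer (v : Fin 3 → F) : M3 := Matrix.of fun i j => v i * σ (v j)

theorem ct_outer (v : Fin 3 → F) : K.ct (K.outer v) = K.outer v := by
  ext i j; simp [ct_apply, outer, K.C.bar_bar, mul_comm]

theorem iso_comb (v : Fin 3 → F) : K.C.form (K.comb v 0) (K.comb v 0) = 0 := by
  simp [K.form_frame, K.al_comb, K.be_comb, cv, dotProduct]

theorem comb_ne {v : Fin 3 → F} (hv : v ≠ 0) : K.comb v 0 ≠ 0 := fun e => hv (by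
  have := congrArg K.al e
  rw [K.al_comb] at this
  rw [this]
  funext i; fin_cases i <;> simp [al])

theorem is_tr1 (v : Fin 3 → F) : K.Is (tr1 K.C K.hF (K.comb v 0) (K.iso_comb v)) 1 1 (K.outer v) := fun x => by
  rw [tr1_mulVec]
  refine K.ext_ab ?_ ?_
  · rw [K.al_add, K.al_smul, K.al_comb, K.al_comb, Matrix.one_mulVec, K.form_frame, K.al_comb, K.be_comb]
    congr 1
    funext i
    simp [cv, dotProduct, outer, Matrix.mulVec, Fin.sum_univ_three]
    ring
  · rw [K.be_add, K.be_smul, K.be_comb, K.be_comb, Matrix.one_mulVec, smul_zero, add_zero]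

end Frame

end CfsgLib.Spor.Tri.U6Base
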