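/-
The group of order `2 ^ 15` of block elements of `PSU(6, 4)` and the uniqueness of its elementary
abelian subgroup of order `2 ^ 9`.
-/
import Cfsg.Agent.Lib.Spor.Tri.U6Frame

namespace CfsgLib.Spor.Tri.U6Base

open Matrix CfsgLib.SU CfsgLib.Spor.Tri.Relations

/-- A subgroup of a finite group from a multiplicatively closed set. -/
def ofMul {X : Type*} [Group X] [Finite X] (P : Set X) (h1 : (1 : X) ∈ P)
    (hm : ∀ x ∈ P, ∀ y ∈ P, x * y ∈ P) : Subgroup X where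
  carrier := P
  one_mem' := h1
  mul_mem' hx hy := hm _ hx _ hy
  inv_mem' {x} hx := by
    have hp : ∀ n : ℕ, x ^ n ∈ P := fun n => by
      induction n with
      | zero => rwa [pow_zero]
      | succ n ih => rw [pow_succ]; exact hm _ ih _ hx
    have e : x⁻¹ = x ^ (orderOf x - 1) := inv_eq_of_mul_eq_one_right (by
      rw [← pow_succ', Nat.sub_add_cancel (orderOf_pos x), pow_orderOf_eq_one])
    rw [e]
    exact hp _

theorem mem_ofMul {X : Type*} [Group X] [Finite X] {P : Set X} {h1 : (1 : X) ∈ P}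
    {hm : ∀ x ∈ P, ∀ y ∈ P, x * y ∈ P} {x : X} : x ∈ ofMul P h1 hm ↔ x ∈ P := Iff.rfl

namespace Frame

variable {F : Type} [Field F] [Fintype F] (K : Frame F)

local notation "X6" => Cfsg.PSU 6 F 2
local notation "M3" => Matrix (Fin 3) (Fin 3) F
local notation "σ" => K.C.bar

/-- Unitriangular matrices. -/
def Mu (a c b : F) : M3 := !![1, a, c; 0, 1, b; 0, 0, 1]

/-- Their inverse conjugate transposes. -/
def Mv (a c b : F) : M3 := K.ct (Mu a (c + a * b) b)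

omit [Fintype F] in
theorem Mu_mul (a c b a' c' b' : F) : Mu a c b * Mu a' c' b' = Mu (a + a') (c + c' + a * b') (b + b') := by
  ext i j; fin_cases i <;> fin_cases j <;> simp [Mu, Matrix.mul_apply, Fin.sum_univ_three] <;> ring

omit [Fintype F] in
theorem Mu_zero : Mu (0 : F) 0 0 = 1 := by
  ext i j; fin_cases i <;> fin_cases j <;> simp [Mu]

omit [Fintype F] in
theorem Mu_data {a c b a' c' b' : F} (e : Mu a c b = Mu a' c' b') : a = a' ∧ c = c' ∧ b = b' :=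
  ⟨by simpa [Mu] using congrFun (congrFun e 0) 1, by simpa [Mu] using congrFun (congrFun e 0) 2,
    by simpa [Mu] using congrFun (congrFun e 1) 2⟩

include K in
theorem Mu_inv (a c b : F) : Mu a c b * Mu a (c + a * b) b = 1 ∧ Mu a (c + a * b) b * Mu a c b = 1 := by
  rw [Mu_mul, Mu_mul, K.add_self, K.add_self, ← Mu_zero]
  constructor <;> congr 1 <;> linear_combination (c + a * b) * K.two

theorem Mv_mul (a c b a' c' b' : F) :
    K.Mv a c b * K.Mv a' c' b' = K.Mv (a + a') (c + c' + a * b') (b + b') := by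
  rw [Mv, Mv, Mv, ← K.ct_mul, Mu_mul, add_comm a' a, add_comm b' b]
  congr 2
  linear_combination -(a * b') * K.two

theorem Mv_zero : K.Mv 0 0 0 = 1 := by rw [Mv, mul_zero, add_zero, Mu_zero, K.ct_one]

theorem ct_Mv_mul (a c b : F) : K.ct (K.Mv a c b) * Mu a c b = 1 := by
  rw [Mv, K.ct_ct, (K.Mu_inv a c b).2]

theorem ct_Mu_Mv (a c b : F) : K.ct (Mu a c b) * K.Mv a c b = 1 := by
  rw [Mv, ← K.ct_mul, (K.Mu_inv a c b).2, K.ct_one]

theorem Mv_ct_Mu (a c b : F) : K.Mv a c b * K.ct (Mu a c b) = 1 := by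
  rw [Mv, ← K.ct_mul, (K.Mu_inv a c b).1, K.ct_one]

theorem exists_eps {Y : M3} (hY : K.ct Y = Y) : ∃ g, g * g = 1 ∧ K.Is g 1 1 Y :=
  K.exists_is_invol (by rw [K.ct_one, one_mul]) (by rw [K.ct_one, one_mul, hY]) (one_mul _) (one_mul _)
    (by rw [one_mul, mul_one, K.madd_self])

theorem exists_nu (a c b : F) : ∃ g, K.Is g (Mu a c b) (K.Mv a c b) 0 := by
  have key : ∀ a c b : F, a * b = 0 → ∃ g, g * g = 1 ∧ K.Is g (Mu a c b) (K.Mv a c b) 0 := fun a c b h =>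
    K.exists_is_invol (K.ct_Mv_mul a c b) (by rw [mul_zero, K.ct_zero])
      (by rw [Mu_mul, K.add_self, K.add_self, K.add_self, h, add_zero, Mu_zero])
      (by rw [K.Mv_mul, K.add_self, K.add_self, K.add_self, h, add_zero, K.Mv_zero]) (by simp)
  obtain ⟨g, -, hg⟩ := key a (c + a * b) 0 (mul_zero a)
  obtain ⟨g', -, hg'⟩ := key 0 0 b (zero_mul b)
  refine ⟨g * g', ?_⟩
  have := hg.mul hg'
  rw [Mu_mul, K.Mv_mul, mul_zero, zero_mul, add_zero, add_zero, zero_add, add_zero] at this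
  rwa [show c + a * b + a * b = c by linear_combination (a * b) * K.two] at this

/-- An element of `PSU` with block data. -/
def El (x : X6) (Y : M3) (a c b : F) : Prop :=
  ∃ g, pr g = x ∧ K.Is g (Mu a c b) (K.Mv a c b) (Y * K.Mv a c b) ∧ K.ct Y = Y

theorem exists_el {Y : M3} (hY : K.ct Y = Y) (a c b : F) : ∃ x, K.El x Y a c b := by
  obtain ⟨g, -, hg⟩ := K.exists_eps hY
  obtain ⟨g', hg'⟩ := K.exists_nu a c b
  have := hg.mul hg'
  rw [one_mul, one_mul, mul_zero, zero_add] at this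
  exact ⟨_, g * g', rfl, this, hY⟩

theorem el_one : K.El 1 0 0 0 0 :=
  ⟨1, map_one _, by rw [Mu_zero, K.Mv_zero, zero_mul]; exact K.is_one, K.ct_zero⟩

theorem el_of_is {g : ↥(Cfsg.SU 6 F 2)} {Y : M3} (hg : K.Is g 1 1 Y) (hY : K.ct Y = Y) : K.El (pr g) Y 0 0 0 :=
  ⟨g, rfl, by rw [Mu_zero, K.Mv_zero, mul_one]; exact hg, hY⟩

variable {K}

theorem El.mul {x x' : X6} {Y Y' : M3} {a c b a' c' b' : F} (h : K.El x Y a c b) (h' : K.El x' Y' a' c' b') :
    K.El (x * x') (Y + Mu a c b * Y' * K.ct (Mu a c b)) (a + a') (c + c' + a * b') (b + b') := by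
  obtain ⟨g, rfl, hg, hY⟩ := h
  obtain ⟨g', rfl, hg', hY'⟩ := h'
  refine ⟨g * g', map_mul _ _ _, ?_, ?_⟩
  · have := hg.mul hg'
    rw [Mu_mul, K.Mv_mul] at this
    rw [← K.Mv_mul a c b a' c' b']
    convert this using 1
    · exact K.Mv_mul a c b a' c' b'
    · rw [add_mul, mul_assoc _ (K.ct (Mu a c b)), ← mul_assoc (K.ct (Mu a c b)), K.ct_Mu_Mv, one_mul]
      simp only [mul_assoc]
      exact add_comm _ _
  · simp only [K.ct_add, K.ct_mul, K.ct_ct, hY, hY', mul_assoc]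

theorem El.data {x : X6} {Y Y' : M3} {a c b a' c' b' : F} (h : K.El x Y a c b) (h' : K.El x Y' a' c' b') :
    Y = Y' ∧ a = a' ∧ c = c' ∧ b = b' := by
  obtain ⟨g, rfl, hg, -⟩ := h
  obtain ⟨g', e, hg', -⟩ := h'
  have hfix : ∀ {g : ↥(Cfsg.SU 6 F 2)} {a c b : F} {M' Z : M3}, K.Is g (Mu a c b) M' Z →
      g.1.1 *ᵥ K.comb (Pi.single 0 1) 0 = K.comb (Pi.single 0 1) 0 := fun hg => by
    rw [hg, K.al_comb, K.be_comb, Matrix.mulVec_zero, Matrix.mulVec_zero, add_zero]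
    congr 1
    funext i; fin_cases i <;> simp [Mu, Matrix.mulVec, dotProduct, Fin.sum_univ_three]
  obtain rfl : g' = g := K.C.pr_eq_fix (by norm_num) e
    (K.comb_ne fun e0 => one_ne_zero (α := F) (by simpa using congrFun e0 0)) (hfix hg') (hfix hg)
  obtain ⟨e1, -, e3⟩ := hg.data hg'
  obtain ⟨rfl, rfl, rfl⟩ := Mu_data e1
  exact ⟨by simpa [mul_assoc, K.Mv_ct_Mu] using congrArg (· * K.ct (Mu a c b)) e3, rfl, rfl, rfl⟩

theorem El.eq {x x' : X6} {Y : M3} {a c b : F} (h : K.El x Y a c b) (h' : K.El x' Y a c b) : x = x' := by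
  obtain ⟨g, rfl, hg, -⟩ := h
  obtain ⟨g', rfl, hg', -⟩ := h'
  rw [hg.eq hg']

theorem El.herm {x : X6} {Y : M3} {a c b : F} (h : K.El x Y a c b) : K.ct Y = Y := h.choose_spec.2.2

theorem El.mul0 {x x' : X6} {Y Y' : M3} (h : K.El x Y 0 0 0) (h' : K.El x' Y' 0 0 0) :
    K.El (x * x') (Y + Y') 0 0 0 := by
  have := h.mul h'
  simpa [Mu_zero, K.ct_one] using this

variable (K)

/-- The Sylow subgroup. -/
def syl : Subgroup X6 :=
  ofMul {x | ∃ Y a c b, K.El x Y a c b} ⟨_, _, _, _, K.el_one⟩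
    fun _ ⟨_, _, _, _, h⟩ _ ⟨_, _, _, _, h'⟩ => ⟨_, _, _, _, h.mul h'⟩

/-- The elementary subgroup of order `2 ^ 9`. -/
def base : Subgroup X6 :=
  ofMul {x | ∃ Y, K.El x Y 0 0 0} ⟨_, K.el_one⟩ fun _ ⟨_, h⟩ _ ⟨_, h'⟩ => ⟨_, h.mul0 h'⟩

/-- The first small subgroup. -/
def uTwo : Subgroup X6 :=
  ofMul {x | ∃ a c, K.El x 0 a c 0} ⟨_, _, K.el_one⟩ fun _ ⟨a, c, h⟩ _ ⟨a', c', h'⟩ =>
    ⟨a + a', c + c', by simpa using h.mul h'⟩

/-- The second small subgroup. -/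
def uOne : Subgroup X6 :=
  ofMul {x | ∃ b, K.El x 0 0 0 b} ⟨_, K.el_one⟩ fun _ ⟨b, h⟩ _ ⟨b', h'⟩ => ⟨b + b', by simpa using h.mul h'⟩

theorem mem_syl {x : X6} : x ∈ K.syl ↔ ∃ Y a c b, K.El x Y a c b := Iff.rfl
theorem mem_base {x : X6} : x ∈ K.base ↔ ∃ Y, K.El x Y 0 0 0 := Iff.rfl
theorem mem_uTwo {x : X6} : x ∈ K.uTwo ↔ ∃ a c, K.El x 0 a c 0 := Iff.rfl
theorem mem_uOne {x : X6} : x ∈ K.uOne ↔ ∃ b, K.El x 0 0 0 b := Iff.rfl

theorem base_le : K.base ≤ K.syl := fun _ ⟨Y, h⟩ => ⟨Y, 0, 0, 0, h⟩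
theorem uTwo_le : K.uTwo ≤ K.syl := fun _ ⟨a, c, h⟩ => ⟨0, a, c, 0, h⟩
theorem uOne_le : K.uOne ≤ K.syl := fun _ ⟨b, h⟩ => ⟨0, 0, 0, b, h⟩

theorem base_sq {x : X6} (hx : x ∈ K.base) : x * x = 1 := by
  obtain ⟨Y, h⟩ := hx
  have := h.mul0 h
  rw [K.madd_self] at this
  exact this.eq K.el_one

theorem syl_decomp {x : X6} (hx : x ∈ K.syl) :
    ∃ e ∈ K.base, ∃ u ∈ K.uTwo, ∃ v ∈ K.uOne, x = e * u * v := by
  obtain ⟨Y, a, c, b, h⟩ := hx
  obtain ⟨e, he⟩ := K.exists_el h.herm 0 0 0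
  obtain ⟨u, hu⟩ := K.exists_el K.ct_zero a (c + a * b) 0
  obtain ⟨v, hv⟩ := K.exists_el K.ct_zero 0 0 b
  refine ⟨e, ⟨Y, he⟩, u, ⟨_, _, hu⟩, v, ⟨_, hv⟩, h.eq ?_⟩
  have := (he.mul hu).mul hv
  simp only [mul_zero, zero_mul, add_zero, zero_add] at this
  rwa [show c + a * b + a * b = c by linear_combination (a * b) * K.two] at this

theorem syl_meet {e u v : X6} (he : e ∈ K.base) (hu : u ∈ K.uTwo) (hv : v ∈ K.uOne) (h1 : e * u * v = 1) :
    e = 1 ∧ u = 1 ∧ v = 1 := by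
  obtain ⟨Y, he⟩ := he
  obtain ⟨a, c, hu⟩ := hu
  obtain ⟨b, hv⟩ := hv
  have h := (he.mul hu).mul hv
  rw [h1] at h
  obtain ⟨e1, e2, e3, e4⟩ := h.data K.el_one
  simp only [mul_zero, zero_mul, add_zero, zero_add] at e1 e2 e3 e4
  subst e1 e2 e4
  rw [mul_zero, add_zero] at e3
  subst e3
  exact ⟨he.eq K.el_one, hu.eq K.el_one, hv.eq K.el_one⟩

theorem conj_data {g x : X6} {Yg : M3} {a c b : F} (hg : K.El g Yg a c b) (hgg : g * g = 1) {Y : M3}
    (hx : K.El x Y 0 0 0) : g * x * g⁻¹ ∈ K.base := by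
  rw [inv_eq_of_mul_eq_one_right hgg]
  have h := (hg.mul hx).mul hg
  have h2 := hg.mul hg
  rw [hgg] at h2
  obtain ⟨-, e1, e2, e3⟩ := h2.data K.el_one
  refine ⟨_, by
    simp only [add_zero, mul_zero] at h
    rwa [e1, e3, e2] at h⟩

theorem uTwo_sq {x : X6} (hx : x ∈ K.uTwo) : x * x = 1 := by
  obtain ⟨a, c, h⟩ := hx
  have h2 := h.mul h
  simp only [mul_zero, zero_mul, add_zero, K.add_self] at h2
  exact h2.eq K.el_one

theorem uOne_sq {x : X6} (hx : x ∈ K.uOne) : x * x = 1 := by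
  obtain ⟨b, h⟩ := hx
  have h2 := h.mul h
  simp only [mul_zero, zero_mul, add_zero, K.add_self] at h2
  exact h2.eq K.el_one

theorem uTwo_norm {u x : X6} (hu : u ∈ K.uTwo) (hx : x ∈ K.base) : u * x * u⁻¹ ∈ K.base := by
  obtain ⟨Y, hx⟩ := hx
  have hu2 := K.uTwo_sq hu
  obtain ⟨a, c, hu⟩ := hu
  exact K.conj_data hu hu2 hx

theorem uOne_norm {u x : X6} (hu : u ∈ K.uOne) (hx : x ∈ K.base) : u * x * u⁻¹ ∈ K.base := by
  obtain ⟨Y, hx⟩ := hx
  have hu2 := K.uOne_sq hu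
  obtain ⟨b, hu⟩ := hu
  exact K.conj_data hu hu2 hx

theorem uOne_norm_uTwo {u x : X6} (hu : u ∈ K.uOne) (hx : x ∈ K.uTwo) : u * x * u⁻¹ ∈ K.uTwo := by
  rw [inv_eq_of_mul_eq_one_right (K.uOne_sq hu)]
  obtain ⟨b, hu⟩ := hu
  obtain ⟨a, c, hx⟩ := hx
  have h := (hu.mul hx).mul hu
  simp only [mul_zero, zero_mul, add_zero, zero_add, K.add_self] at h
  exact ⟨_, _, h⟩

/-- The value of a bit. -/
def bit (_K : Frame F) (x : Bool) : F := if x then 1 else 0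

/-- Parameters of Hermitian matrices. -/
abbrev HP (F : Type) := (Bool × Bool × Bool) × (F × F × F)

/-- The Hermitian matrix with given parameters. -/
def hm (z : HP F) : M3 :=
  !![K.bit z.1.1, z.2.1, z.2.2.1; σ z.2.1, K.bit z.1.2.1, z.2.2.2; σ z.2.2.1, σ z.2.2.2, K.bit z.1.2.2]

theorem bit_inj {x y : Bool} (h : K.bit x = K.bit y) : x = y := by
  cases x <;> cases y <;> simp [bit] at h ⊢

theorem ct_hm (z : HP F) : K.ct (K.hm z) = K.hm z := by
  have hb : ∀ x, σ (K.bit x) = K.bit x := fun x => by cases x <;> simp [bit]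
  ext i j; fin_cases i <;> fin_cases j <;> simp [hm, ct_apply, hb, K.C.bar_bar]

theorem hm_injective : Function.Injective K.hm := fun z z' e => by
  have f := fun i j => congrFun (congrFun e i) j
  obtain ⟨⟨x1, x2, x3⟩, p, q, r⟩ := z
  obtain ⟨⟨y1, y2, y3⟩, p', q', r'⟩ := z'
  have e1 := f 0 0; have e2 := f 1 1; have e3 := f 2 2
  have e4 := f 0 1; have e5 := f 0 2; have e6 := f 1 2
  simp [hm] at e1 e2 e3 e4 e5 e6
  rw [K.bit_inj e1, K.bit_inj e2, K.bit_inj e3, e4, e5, e6]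

theorem exists_hm {Y : M3} (hY : K.ct Y = Y) : ∃ z, K.hm z = Y := by
  have f : ∀ i j, σ (Y j i) = Y i j := fun i j => congrFun (congrFun hY i) j
  have d : ∀ i, ∃ x, K.bit x = Y i i := fun i => by
    rcases fixed_cases K.C K.hF (f i i) with e | e
    · exact ⟨false, by simp [bit, e]⟩
    · exact ⟨true, by simp [bit, e]⟩
  obtain ⟨x1, h1⟩ := d 0
  obtain ⟨x2, h2⟩ := d 1
  obtain ⟨x3, h3⟩ := d 2
  refine ⟨((x1, x2, x3), (Y 0 1, Y 0 2, Y 1 2)), ?_⟩
  ext i j; fin_cases i <;> fin_cases j <;> simp [hm, h1, h2, h3, f]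

include K in
theorem card_HP : Nat.card (HP F) = 512 := by
  simp [Nat.card_prod, Nat.card_eq_fintype_card (α := F), K.hF]

theorem card_syl : Nat.card K.syl = 2 ^ 15 := by
  choose f hf using fun p : HP F × (F × F × F) => K.exists_el (K.ct_hm p.1) p.2.1 p.2.2.1 p.2.2.2
  have hb : Function.Bijective fun p => (⟨f p, _, _, _, _, hf p⟩ : K.syl) := by
    refine ⟨fun p p' e => ?_, ?_⟩
    · have e' : f p = f p' := congrArg Subtype.val e
      have h := hf p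
      rw [e'] at h
      obtain ⟨e1, e2, e3, e4⟩ := h.data (hf p')
      exact Prod.ext (K.hm_injective e1) (Prod.ext e2 (Prod.ext e3 e4))
    · rintro ⟨x, Y, a, c, b, h⟩
      obtain ⟨z, rfl⟩ := K.exists_hm h.herm
      exact ⟨(z, a, c, b), Subtype.ext ((hf _).eq h)⟩
  rw [← Nat.card_congr (Equiv.ofBijective _ hb), Nat.card_prod, K.card_HP]
  simp [Nat.card_prod, Nat.card_eq_fintype_card (α := F), K.hF]

theorem card_base : Nat.card K.base = 512 := by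
  choose f hf using fun p : HP F => K.exists_el (K.ct_hm p) 0 0 0
  have hb : Function.Bijective fun p => (⟨f p, _, hf p⟩ : K.base) := by
    refine ⟨fun p p' e => ?_, ?_⟩
    · have e' : f p = f p' := congrArg Subtype.val e
      have h := hf p
      rw [e'] at h
      exact K.hm_injective (h.data (hf p')).1
    · rintro ⟨x, Y, h⟩
      obtain ⟨z, rfl⟩ := K.exists_hm h.herm
      exact ⟨z, Subtype.ext ((hf _).eq h)⟩
  rw [← Nat.card_congr (Equiv.ofBijective _ hb), K.card_HP]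

end Frame

end CfsgLib.Spor.Tri.U6Base
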