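/-
The elementary abelian subgroup of order `2 ^ 9` of the block group is unique.
-/
import Cfsg.Agent.Lib.Spor.Tri.U6BaseEl

namespace CfsgLib.Spor.Tri.U6Base.Frame

open Matrix CfsgLib.SU CfsgLib.Spor.Tri.Relations

variable {F : Type} [Field F] [Fintype F] (K : Frame F)

local notation "X6" => Cfsg.PSU 6 F 2
local notation "σ" => K.C.bar

theorem eqs_two {a c : F} {z : HP F} (h : Mu a c 0 * K.hm z * K.ct (Mu a c 0) = K.hm z) :
    a * K.bit z.1.2.1 + c * σ z.2.2.2 = 0 ∧ a * z.2.2.2 + c * K.bit z.1.2.2 = 0 ∧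
      a * σ z.2.1 + σ a * z.2.1 + c * σ z.2.2.1 + σ c * z.2.2.1 = 0 := by
  have e1 := congrFun (congrFun h 0) 1
  have e2 := congrFun (congrFun h 0) 2
  have e3 := congrFun (congrFun h 0) 0
  simp [Mu, hm, Matrix.mul_apply, Fin.sum_univ_three, ct_apply] at e1 e2 e3
  have h1 : a * K.bit z.1.2.1 + c * σ z.2.2.2 = 0 := by linear_combination e1
  have h2 : a * z.2.2.2 + c * K.bit z.1.2.2 = 0 := by linear_combination e2
  exact ⟨h1, h2, by linear_combination e3 - σ a * h1 - σ c * h2⟩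

theorem eqs_one {c b : F} {z : HP F} (h : Mu 0 c b * K.hm z * K.ct (Mu 0 c b) = K.hm z) :
    c * K.bit z.1.2.2 = 0 ∧ b * K.bit z.1.2.2 = 0 ∧
      c * σ z.2.2.2 + σ b * z.2.2.1 + c * K.bit z.1.2.2 * σ b = 0 := by
  have e1 := congrFun (congrFun h 0) 2
  have e2 := congrFun (congrFun h 1) 2
  have e3 := congrFun (congrFun h 0) 1
  simp [Mu, hm, Matrix.mul_apply, Fin.sum_univ_three, ct_apply] at e1 e2 e3
  refine ⟨?_, ?_, by linear_combination e3⟩
  · first | exact mul_eq_zero.2 e1 | linear_combination e1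
  · first | exact mul_eq_zero.2 e2 | linear_combination e2

theorem card_le_of_injOn {Z : Finset (HP F)} {T : Type} [Fintype T] (f : HP F → T) {n : ℕ}
    (hn : Fintype.card T = n) (hf : Set.InjOn f Z) : Z.card ≤ n := by
  classical
  rw [← hn, ← Finset.card_univ]
  exact Finset.card_le_card_of_injOn f (fun _ _ => Finset.mem_univ _) hf

variable {Z : Finset (HP F)} {W : Finset (F × F)}

theorem bound_two (hW : W.Nonempty) (hnz : ∃ v ∈ W, v ≠ 0)
    (h : ∀ z ∈ Z, ∀ v ∈ W, Mu v.1 v.2 0 * K.hm z * K.ct (Mu v.1 v.2 0) = K.hm z) : Z.card * W.card < 512 := by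
  classical
  have e := fun z hz v hv => K.eqs_two (h z hz v hv)
  have hF := K.hF
  by_cases hW4 : W.card ≤ 4
  · obtain ⟨⟨a, c⟩, hv, hne⟩ := hnz
    suffices hZ : Z.card ≤ 64 by
      calc Z.card * W.card ≤ 64 * 4 := Nat.mul_le_mul hZ hW4
        _ < 512 := by norm_num
    rcases eq_or_ne a 0 with rfl | ha
    · have hc : c ≠ 0 := fun e => hne (by rw [e]; rfl)
      refine card_le_of_injOn (fun z => (z.1.1, z.1.2.1, z.2.1, z.2.2.1)) (by simp [hF]) ?_
      rintro ⟨⟨x1, x2, x3⟩, p, q, r⟩ hz ⟨⟨y1, y2, y3⟩, p', q', r'⟩ hz' e'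
      obtain ⟨u1, u2, -⟩ := e _ (Finset.mem_coe.1 hz) _ hv
      obtain ⟨w1, w2, -⟩ := e _ (Finset.mem_coe.1 hz') _ hv
      simp only [zero_mul, zero_add, mul_eq_zero, hc, false_or, map_eq_zero_iff _ K.C.bar.injective] at u1 u2 w1 w2
      obtain rfl : x3 = y3 := K.bit_inj (u2.trans w2.symm)
      simp only [Prod.mk.injEq] at e' ⊢
      obtain ⟨rfl, rfl, rfl, rfl⟩ := e'
      simp [u1, w1]
    · refine card_le_of_injOn (fun z => (z.1.1, z.1.2.2, z.2.1, z.2.2.1)) (by simp [hF]) ?_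
      rintro ⟨⟨x1, x2, x3⟩, p, q, r⟩ hz ⟨⟨y1, y2, y3⟩, p', q', r'⟩ hz' e'
      obtain ⟨u1, u2, -⟩ := e _ (Finset.mem_coe.1 hz) _ hv
      obtain ⟨w1, w2, -⟩ := e _ (Finset.mem_coe.1 hz') _ hv
      simp only [Prod.mk.injEq] at e' ⊢
      obtain ⟨rfl, rfl, rfl, rfl⟩ := e'
      obtain rfl : r = r' := mul_left_cancel₀ ha (by linear_combination u2 - w2)
      obtain rfl : x2 = y2 := K.bit_inj (mul_left_cancel₀ ha (by linear_combination u1 - w1))
      simp
  · obtain ⟨⟨a, c⟩, hv, ha⟩ : ∃ v ∈ W, v.1 ≠ 0 := by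
      by_contra hcon
      push Not at hcon
      refine hW4 (le_trans (Finset.card_le_card (t := Finset.univ.image fun c : F => ((0 : F), c)) fun v hv => ?_)
        (Finset.card_image_le.trans (by rw [Finset.card_univ, hF])))
      exact Finset.mem_image.2 ⟨v.2, Finset.mem_univ _, Prod.ext (hcon v hv).symm rfl⟩
    dsimp only at ha
    obtain ⟨⟨a', c'⟩, hv', hne'⟩ : ∃ v ∈ W, a * v.2 - v.1 * c ≠ 0 := by
      by_contra hcon
      push Not at hcon
      refine hW4 (le_trans (Finset.card_le_card (t := Finset.univ.image fun a' : F => (a', a' * c / a)) fun v hv => ?_)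
        (Finset.card_image_le.trans (by rw [Finset.card_univ, hF])))
      exact Finset.mem_image.2 ⟨v.1, Finset.mem_univ _, Prod.ext rfl (by
        field_simp; linear_combination -(hcon v hv))⟩
    dsimp only at hne'
    have hfix : ∀ z ∈ Z, z.1.2.1 = false ∧ z.1.2.2 = false ∧ z.2.2.2 = 0 := by
      intro z hz
      obtain ⟨u1, u2, -⟩ := e z hz _ hv
      obtain ⟨-, w2, -⟩ := e z hz _ hv'
      dsimp only at u1 u2 w2
      have h3 : K.bit z.1.2.2 = 0 := mul_left_cancel₀ hne' (by linear_combination a * w2 - a' * u2)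
      rw [h3, mul_zero, add_zero, mul_eq_zero, or_iff_right ha] at u2
      rw [u2, map_zero, mul_zero, add_zero, mul_eq_zero, or_iff_right ha] at u1
      exact ⟨K.bit_inj (u1.trans (by simp [bit])), K.bit_inj (h3.trans (by simp [bit])), u2⟩
    by_cases hW16 : W.card ≤ 15
    · have hZ : Z.card ≤ 32 := by
        refine card_le_of_injOn (fun z => (z.1.1, z.2.1, z.2.2.1)) (by simp [hF]) ?_
        rintro ⟨⟨x1, x2, x3⟩, p, q, r⟩ hz ⟨⟨y1, y2, y3⟩, p', q', r'⟩ hz' e'
        obtain ⟨u1, u2, u3⟩ := hfix _ (Finset.mem_coe.1 hz)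
        obtain ⟨w1, w2, w3⟩ := hfix _ (Finset.mem_coe.1 hz')
        simp_all
      calc Z.card * W.card ≤ 32 * 15 := Nat.mul_le_mul hZ hW16
        _ < 512 := by norm_num
    · have hcard : W.card ≤ 16 := by
        refine (Finset.card_le_univ W).trans ?_
        simp [hF]
      have hall : ∀ v : F × F, v ∈ W := fun v => by
        rw [Finset.eq_univ_of_card W (by simp [hF]; omega)]
        exact Finset.mem_univ _
      have hZ : Z.card ≤ 8 := by
        refine card_le_of_injOn (fun z => (z.1.1, z.2.1)) (by simp [hF]) ?_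
        have hq : ∀ z ∈ Z, z.2.2.1 = 0 := fun z hz => by
          obtain ⟨-, -, u⟩ := e z hz _ (hall (0, 1))
          obtain ⟨-, -, w⟩ := e z hz _ (hall (0, K.w))
          simp only [zero_mul, map_zero, map_one, one_mul, zero_add, K.bar_w] at u w
          linear_combination w - K.w * u
        rintro ⟨⟨x1, x2, x3⟩, p, q, r⟩ hz ⟨⟨y1, y2, y3⟩, p', q', r'⟩ hz' e'
        obtain ⟨u1, u2, u3⟩ := hfix _ (Finset.mem_coe.1 hz)
        obtain ⟨w1, w2, w3⟩ := hfix _ (Finset.mem_coe.1 hz')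
        have := hq _ (Finset.mem_coe.1 hz)
        have := hq _ (Finset.mem_coe.1 hz')
        simp_all
      calc Z.card * W.card ≤ 8 * 16 := Nat.mul_le_mul hZ hcard
        _ < 512 := by norm_num

theorem bound_one (hnz : ∃ v ∈ W, v ≠ 0)
    (h : ∀ z ∈ Z, ∀ v ∈ W, Mu 0 v.1 v.2 * K.hm z * K.ct (Mu 0 v.1 v.2) = K.hm z) : Z.card * W.card < 512 := by
  classical
  have hF := K.hF
  have e : ∀ z ∈ Z, z.1.2.2 = false ∧ ∀ v ∈ W, v.1 * σ z.2.2.2 + σ v.2 * z.2.2.1 = 0 := by
    intro z hz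
    obtain ⟨⟨c, b⟩, hv, hne⟩ := hnz
    have h3 : K.bit z.1.2.2 = 0 := by
      obtain ⟨u1, u2, -⟩ := K.eqs_one (h z hz _ hv)
      by_contra h0
      exact hne (Prod.ext ((mul_eq_zero.1 u1).resolve_right h0) ((mul_eq_zero.1 u2).resolve_right h0))
    refine ⟨K.bit_inj (h3.trans (by simp [bit])), fun v hv => ?_⟩
    obtain ⟨-, -, u⟩ := K.eqs_one (h z hz v hv)
    rwa [h3, mul_zero, zero_mul, add_zero] at u
  by_cases hW4 : W.card ≤ 4
  · obtain ⟨⟨c, b⟩, hv, hne⟩ := hnz
    suffices hZ : Z.card ≤ 64 by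
      calc Z.card * W.card ≤ 64 * 4 := Nat.mul_le_mul hZ hW4
        _ < 512 := by norm_num
    rcases eq_or_ne c 0 with rfl | hc
    · have hb : b ≠ 0 := fun e => hne (by rw [e]; rfl)
      refine card_le_of_injOn (fun z => (z.1.1, z.1.2.1, z.2.1, z.2.2.2)) (by simp [hF]) ?_
      rintro ⟨⟨x1, x2, x3⟩, p, q, r⟩ hz ⟨⟨y1, y2, y3⟩, p', q', r'⟩ hz' e'
      obtain ⟨u1, u2⟩ := e _ (Finset.mem_coe.1 hz)
      obtain ⟨w1, w2⟩ := e _ (Finset.mem_coe.1 hz')
      have hb' : σ b ≠ 0 := fun e0 => hb (K.C.bar.injective (by rw [e0, map_zero]))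
      have u := u2 _ hv
      have w := w2 _ hv
      simp only [zero_mul, zero_add, mul_eq_zero, hb', false_or] at u w
      simp_all
    · refine card_le_of_injOn (fun z => (z.1.1, z.1.2.1, z.2.1, z.2.2.1)) (by simp [hF]) ?_
      rintro ⟨⟨x1, x2, x3⟩, p, q, r⟩ hz ⟨⟨y1, y2, y3⟩, p', q', r'⟩ hz' e'
      obtain ⟨u1, u2⟩ := e _ (Finset.mem_coe.1 hz)
      obtain ⟨w1, w2⟩ := e _ (Finset.mem_coe.1 hz')
      have u := u2 _ hv
      have w := w2 _ hv
      simp only [Prod.mk.injEq] at e' u1 w1 ⊢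
      obtain ⟨rfl, rfl, rfl, rfl⟩ := e'
      dsimp only at u w
      exact ⟨⟨rfl, rfl, u1.trans w1.symm⟩, rfl, rfl, K.C.bar.injective (mul_left_cancel₀ hc (by linear_combination u - w))⟩
  · obtain ⟨⟨c, b⟩, hv, hc⟩ : ∃ v ∈ W, v.1 ≠ 0 := by
      by_contra hcon
      push Not at hcon
      refine hW4 (le_trans (Finset.card_le_card (t := Finset.univ.image fun b : F => ((0 : F), b)) fun v hv => ?_)
        (Finset.card_image_le.trans (by rw [Finset.card_univ, hF])))
      exact Finset.mem_image.2 ⟨v.2, Finset.mem_univ _, Prod.ext (hcon v hv).symm rfl⟩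
    dsimp only at hc
    obtain ⟨⟨c', b'⟩, hv', hne'⟩ : ∃ v ∈ W, c * σ v.2 - v.1 * σ b ≠ 0 := by
      by_contra hcon
      push Not at hcon
      refine hW4 (le_trans (Finset.card_le_card
        (t := Finset.univ.image fun c' : F => (c', σ (c' * σ b / c))) fun v hv => ?_)
        (Finset.card_image_le.trans (by rw [Finset.card_univ, hF])))
      refine Finset.mem_image.2 ⟨v.1, Finset.mem_univ _, Prod.ext rfl (K.C.bar.injective ?_)⟩
      dsimp only
      rw [K.C.bar_bar]
      field_simp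
      linear_combination -(hcon v hv)
    dsimp only at hne'
    have hZ : Z.card ≤ 16 := by
      have hq : ∀ z ∈ Z, z.2.2.1 = 0 ∧ z.2.2.2 = 0 := fun z hz => by
        obtain ⟨-, u⟩ := e z hz
        have u1 := u _ hv
        have w1 := u _ hv'
        dsimp only at u1 w1
        have hq : z.2.2.1 = 0 := mul_left_cancel₀ hne' (by linear_combination c * w1 - c' * u1)
        rw [hq, mul_zero, add_zero, mul_eq_zero, or_iff_right hc] at u1
        exact ⟨hq, K.C.bar.injective (by rw [u1, map_zero])⟩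
      refine card_le_of_injOn (fun z => (z.1.1, z.1.2.1, z.2.1)) (by simp [hF]) ?_
      rintro ⟨⟨x1, x2, x3⟩, p, q, r⟩ hz ⟨⟨y1, y2, y3⟩, p', q', r'⟩ hz' e'
      obtain ⟨u1, -⟩ := e _ (Finset.mem_coe.1 hz)
      obtain ⟨w1, -⟩ := e _ (Finset.mem_coe.1 hz')
      obtain ⟨u2, u3⟩ := hq _ (Finset.mem_coe.1 hz)
      obtain ⟨w2, w3⟩ := hq _ (Finset.mem_coe.1 hz')
      simp_all
    have hcard : W.card ≤ 16 := (Finset.card_le_univ W).trans (by simp [hF])
    calc Z.card * W.card ≤ 16 * 16 := Nat.mul_le_mul hZ hcard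
      _ < 512 := by norm_num

set_option maxHeartbeats 800000 in
/-- The elementary subgroup of order `2 ^ 9` is unique. -/
theorem base_unique {B : Subgroup X6} (hB : B ≤ K.syl) (h2 : ∀ x ∈ B, x * x = 1) (hc : 512 ≤ Nat.card B) :
    B = K.base := by
  classical
  haveI : Fintype B := Fintype.ofFinite _
  have hcomm : ∀ x ∈ B, ∀ y ∈ B, x * y = y * x := fun x hx y hy => by
    have h1 := inv_eq_of_mul_eq_one_right (h2 _ (mul_mem hx hy))
    rw [_root_.mul_inv_rev, inv_eq_of_mul_eq_one_right (h2 x hx), inv_eq_of_mul_eq_one_right (h2 y hy)] at h1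
    exact h1.symm
  choose Y a c b hd using fun x : B => K.mem_syl.1 (hB x.2)
  have hab : ∀ x, a x * b x = 0 := fun x => by
    have h := (hd x).mul (hd x)
    rw [h2 _ x.2] at h
    obtain ⟨-, -, e, -⟩ := h.data K.el_one
    rwa [K.add_self, zero_add] at e
  have hsym : ∀ x y, a x * b y = a y * b x := fun x y => by
    have h := (hd x).mul (hd y)
    rw [hcomm _ x.2 _ y.2] at h
    obtain ⟨-, -, e, -⟩ := h.data ((hd y).mul (hd x))
    linear_combination e
  set v : B → F × F × F := fun x => (a x, c x, b x) with hv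
  set Z : Finset (HP F) := Finset.univ.filter fun z => ∃ y ∈ B, K.El y (K.hm z) 0 0 0 with hZ
  have hfix : ∀ z ∈ Z, ∀ x, Mu (a x) (c x) (b x) * K.hm z * K.ct (Mu (a x) (c x) (b x)) = K.hm z := by
    intro z hz x
    obtain ⟨y, hy, hyd⟩ := (Finset.mem_filter.1 hz).2
    have h := (hd x).mul hyd
    rw [hcomm _ x.2 _ hy] at h
    obtain ⟨e, -⟩ := h.data (hyd.mul (hd x))
    rw [Mu_zero, K.ct_one, one_mul, mul_one, add_comm (K.hm z)] at e
    exact add_left_cancel e
  have hfib : ∀ t ∈ Finset.univ.image v, (Finset.univ.filter fun x => v x = t).card ≤ Z.card := by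
    intro t ht
    obtain ⟨x0, -, rfl⟩ := Finset.mem_image.1 ht
    have hex : ∀ x : B, v x = v x0 → ∃ z, K.El ((x : X6) * x0) (K.hm z) 0 0 0 := by
      intro x hx
      simp only [hv, Prod.mk.injEq] at hx
      have h := (hd x).mul (hd x0)
      obtain ⟨h1, h2', h3⟩ := hx
      rw [h1, h2', h3, K.add_self, K.add_self, K.add_self, zero_add, hab] at h
      obtain ⟨z, hz⟩ := K.exists_hm h.herm
      exact ⟨z, hz ▸ h⟩
    choose g hg using hex
    refine Finset.card_le_card_of_injOn (fun x => if h : v x = v x0 then g x h else ((false, false, false), 0, 0, 0))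
      (fun x hx => ?_) fun x hx x' hx' e => ?_
    · simp only [Finset.mem_coe, Finset.mem_filter, Finset.mem_univ, true_and] at hx
      simp only [Finset.mem_coe, hZ, Finset.mem_filter, Finset.mem_univ, true_and, dif_pos hx]
      exact ⟨_, mul_mem x.2 x0.2, hg x hx⟩
    · simp only [Finset.mem_coe, Finset.mem_filter, Finset.mem_univ, true_and] at hx hx'
      simp only [dif_pos hx, dif_pos hx'] at e
      have h := hg x hx
      rw [e] at h
      exact Subtype.ext (mul_right_cancel (h.eq (hg x' hx')))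
  have hle := Finset.card_le_mul_card_image Finset.univ Z.card hfib
  rw [Finset.card_univ, ← Nat.card_eq_fintype_card] at hle
  have hbase : ∀ x, a x = 0 → c x = 0 → b x = 0 → (x : X6) ∈ K.base := fun x e1 e2 e3 =>
    ⟨Y x, by simpa only [e1, e2, e3] using hd x⟩
  by_cases hall : ∀ x, v x = 0
  · refine Subgroup.eq_of_le_of_card_ge (fun x hx => ?_) (K.card_base.trans_le hc)
    have := hall ⟨x, hx⟩
    simp only [hv, Prod.mk_eq_zero] at this
    exact hbase ⟨x, hx⟩ this.1 this.2.1 this.2.2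
  exfalso
  push Not at hall
  obtain ⟨x1, hx1⟩ := hall
  rcases Classical.em (∀ x, b x = 0) with hb0 | hb0
  · set W := Finset.univ.image fun x => (a x, c x)
    have himg : (Finset.univ.image v).card ≤ W.card := by
      refine le_trans (Finset.card_le_card (t := W.image fun p => (p.1, p.2, (0 : F))) fun t ht => ?_) Finset.card_image_le
      obtain ⟨x, -, rfl⟩ := Finset.mem_image.1 ht
      exact Finset.mem_image.2 ⟨(a x, c x), Finset.mem_image_of_mem _ (Finset.mem_univ x), by simp [hv, hb0]⟩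
    have hb := K.bound_two (Z := Z) (W := W) ⟨_, Finset.mem_image_of_mem _ (Finset.mem_univ x1)⟩
      ⟨_, Finset.mem_image_of_mem _ (Finset.mem_univ x1), fun e => hx1 (by
        simp only [Prod.mk_eq_zero] at e; simp [hv, e.1, e.2, hb0])⟩ (by
      intro z hz t ht
      obtain ⟨x, -, rfl⟩ := Finset.mem_image.1 ht
      have := hfix z hz x
      rwa [hb0 x] at this)
    have := Nat.mul_le_mul_left Z.card himg
    omega
  · push Not at hb0
    obtain ⟨x2, hx2⟩ := hb0
    have ha0 : ∀ x, a x = 0 := fun x => by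
      have h2a : a x2 = 0 := (mul_eq_zero.1 (hab x2)).resolve_right hx2
      have := hsym x x2
      rw [h2a, zero_mul, mul_eq_zero] at this
      exact this.resolve_right hx2
    set W := Finset.univ.image fun x => (c x, b x)
    have himg : (Finset.univ.image v).card ≤ W.card := by
      refine le_trans (Finset.card_le_card (t := W.image fun p => ((0 : F), p.1, p.2)) fun t ht => ?_) Finset.card_image_le
      obtain ⟨x, -, rfl⟩ := Finset.mem_image.1 ht
      exact Finset.mem_image.2 ⟨(c x, b x), Finset.mem_image_of_mem _ (Finset.mem_univ x), by simp [hv, ha0]⟩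
    have hb := K.bound_one (Z := Z) (W := W)
      ⟨_, Finset.mem_image_of_mem _ (Finset.mem_univ x2), fun e => hx2 (by
        simp only [Prod.mk_eq_zero] at e; exact e.2)⟩ (by
      intro z hz t ht
      obtain ⟨x, -, rfl⟩ := Finset.mem_image.1 ht
      have := hfix z hz x
      rwa [ha0 x] at this)
    have := Nat.mul_le_mul_left Z.card himg
    omega

end CfsgLib.Spor.Tri.U6Base.Frame
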