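/-
The three classes of involutions of the elementary subgroup of order `2 ^ 9` of `PSU(6, 4)`.
-/
import Cfsg.Agent.Lib.Spor.Tri.U6BaseUnique
import Cfsg.Agent.Lib.Spor.Tri.DoubleCover
import Cfsg.Agent.Lib.Classical.HermFrames

namespace CfsgLib.Spor.Tri.U6Base.Frame

open Matrix CfsgLib.SU CfsgLib.Spor.Tri CfsgLib.Spor.Tri.Relations CfsgLib.Spor.Tri.Level

variable {F : Type} [Field F] [Fintype F] (K : Frame F)

local notation "X6" => Cfsg.PSU 6 F 2
local notation "V" => (Fin 6 → F)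
local notation "e(" i ")" => (Pi.single (i : Fin 3) (1 : F) : Fin 3 → F)

/-- The point of a vector of the first halves. -/
def point (v : Fin 3 → F) : X6 := U6.pt K.C K.hF (K.comb v 0) (K.iso_comb v)

theorem el_point (v : Fin 3 → F) : K.El (K.point v) (K.outer v) 0 0 0 :=
  K.el_of_is (K.is_tr1 v) (K.ct_outer v)

theorem point_mem (v : Fin 3 → F) : K.point v ∈ K.base := ⟨_, K.el_point v⟩

theorem orth_comb (v w : Fin 3 → F) : K.C.form (K.comb v 0) (K.comb w 0) = 0 := by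
  simp [K.form_frame, K.al_comb, K.be_comb, cv, dotProduct]

theorem comb_li {k : ℕ} {v : Fin k → Fin 3 → F} (hv : LinearIndependent F v) :
    LinearIndependent F fun i => K.comb (v i) 0 := by
  let f : (Fin 3 → F) →ₗ[F] V :=
    { toFun := fun v => K.comb v 0
      map_add' := fun v w => by rw [← K.comb_add, add_zero]
      map_smul' := fun a v => by rw [RingHom.id_apply, ← K.comb_smul, smul_zero] }
  exact hv.map' f (LinearMap.ker_eq_bot.2 fun v w e => by
    have := congrArg K.al (show K.comb v 0 = K.comb w 0 from e)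
    rwa [K.al_comb, K.al_comb] at this)

omit [Fintype F] in
theorem li_single {k : ℕ} (hk : k ≤ 3) : LinearIndependent F fun i : Fin k => e(Fin.castLE hk i) := by
  have h := (Pi.linearIndependent_single_one (Fin 3) F).comp (Fin.castLE hk) (Fin.castLE_injective hk)
  exact h

/-- Independent orthogonal isotropic tuples of length at most three are moved onto the standard one. -/
theorem move {k : ℕ} (hk : k ≤ 3) (u : Fin k → V) (hu : ∀ i, K.C.form (u i) (u i) = 0)
    (hli : LinearIndependent F u) (ho : ∀ i j, K.C.form (u i) (u j) = 0) :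
    ∃ g : X6, ∀ i, g * U6.pt K.C K.hF (u i) (hu i) * g⁻¹ = K.point e(Fin.castLE hk i) := by
  classical
  obtain ⟨A, hA⟩ := CfsgLib.Classical.HermFrames.exists_move_tuple K.C hli (K.comb_li (li_single hk))
    fun i j => by rw [ho, K.orth_comb]
  set l := A.1.1.det with hl
  have hl1 : l * K.C.bar l = 1 := by
    have h := K.C.mem_unitOne.1 (K.C.detHom A).2
    rwa [K.C.detHom_val] at h
  let d : Fin 6 → F := ![l, l, 1, 1, 1, 1]
  have hdd : ∀ i, d i * K.C.bar (d i) = 1 := fun i => by fin_cases i <;> simp [d, hl1]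
  have hform : ∀ x y, K.C.form ((Matrix.diagonal d * A.1.1) *ᵥ x) ((Matrix.diagonal d * A.1.1) *ᵥ y) =
      K.C.form x y := by
    intro x y
    rw [← (CfsgLib.Classical.gu_mem_iff K.C).1 A.2 x y]
    simp only [UCtx.form, ← Matrix.mulVec_mulVec, Matrix.mulVec_diagonal, map_mul]
    refine Finset.sum_congr rfl fun i _ => ?_
    linear_combination ((A.1.1 *ᵥ x) i * K.C.bar ((A.1.1 *ᵥ y) i)) * hdd i
  have hdet : (Matrix.diagonal d * A.1.1).det = 1 := by
    rw [Matrix.det_mul, Matrix.det_diagonal, ← hl]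
    simp [d, Fin.prod_univ_succ]
    rw [K.C.bar_eq] at hl1
    linear_combination hl1
  set B := K.C.mkSU (Matrix.diagonal d * A.1.1) hdet hform with hB
  refine ⟨pr B, fun i => ?_⟩
  rw [U6.pr_conj_pt]
  refine U6.pt_smul K.C K.hF (a := if Fin.castLE hk i = 0 then l else 1) ?_ ?_
  · split
    · exact left_ne_zero_of_mul_eq_one hl1
    · exact one_ne_zero
  · rw [hB, UCtx.mkSU_val, ← Matrix.mulVec_mulVec, hA]
    funext j
    generalize Fin.castLE hk i = m
    rw [Matrix.mulVec_diagonal]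
    fin_cases m <;> fin_cases j <;> simp [d, comb]

/-- A product of at most three standard points lies in the base. -/
theorem prod_conj_mem {k : ℕ} (hk : k ≤ 3) (p : Fin k → X6) {g : X6}
    (hg : ∀ i, g * p i * g⁻¹ = K.point e(Fin.castLE hk i)) : g * (List.ofFn p).prod * g⁻¹ ∈ K.base := by
  show MulAut.conj g (List.ofFn p).prod ∈ K.base
  rw [map_list_prod, List.map_ofFn]
  refine list_prod_mem fun y hy => ?_
  obtain ⟨i, rfl⟩ := List.mem_ofFn.1 hy
  show g * p i * g⁻¹ ∈ K.base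
  rw [hg i]
  exact K.point_mem _

theorem decomp_pts {B : ↥(Cfsg.SU 6 F 2)} (hBB : B * B = 1) :
    ∃ (k : ℕ) (u : Fin k → V) (hu : ∀ i, K.C.form (u i) (u i) = 0), k ≤ 3 ∧ LinearIndependent F u ∧
      (∀ i j, K.C.form (u i) (u j) = 0) ∧ (∀ i, ∃ y, u i = B.1.1 *ᵥ y + y) ∧
      pr B = (List.ofFn fun i => U6.pt K.C K.hF (u i) (hu i)).prod := by
  obtain ⟨k, u, hu, hind, him, hprod⟩ := U6.decomp_su K.C K.hF _ B hBB le_rfl
  have hN2 : ∀ y, B.1.1 *ᵥ (B.1.1 *ᵥ y) = y := fun y => by rw [← suMat_mulVec_mul, hBB, su_one_mulVec]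
  have horth : ∀ i j, K.C.form (u i) (u j) = 0 := fun i j => by
    obtain ⟨y, hy⟩ := him i
    obtain ⟨y', hy'⟩ := him j
    rw [hy, hy', K.C.form_add_left, K.C.form_add_right, K.C.form_add_right, K.C.form_su]
    have e := K.C.form_su B y (B.1.1 *ᵥ y')
    rw [hN2] at e
    linear_combination e + (K.C.form y y' + K.C.form y (B.1.1 *ᵥ y')) * K.two
  refine ⟨k, u, hu, U6.orth_indep_le K.C u hind horth, hind, horth, him, ?_⟩
  rw [hprod, map_list_prod, List.map_ofFn]
  rfl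

include K in
/-- Every involution is conjugate into the base. -/
theorem invol_conj {x : X6} (hx : x * x = 1) : ∃ g : X6, g * x * g⁻¹ ∈ K.base := by
  classical
  obtain ⟨A, rfl⟩ := QuotientGroup.mk'_surjective (Subgroup.center ↥(Cfsg.SU 6 F 2)) x
  have hz : A * A ∈ Subgroup.center ↥(Cfsg.SU 6 F 2) := by
    rw [← QuotientGroup.eq_one_iff]
    simpa using hx
  set z := A * A with hzd
  have hz3 : z ^ 3 = 1 := by
    have hc := K.C.card_center_su (n := 6) (by rw [K.hF]; norm_num) (by norm_num)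
    have h3 : (⟨z, hz⟩ : Subgroup.center ↥(Cfsg.SU 6 F 2)) ^ 3 = 1 := by
      have := pow_card_eq_one' (x := (⟨z, hz⟩ : Subgroup.center ↥(Cfsg.SU 6 F 2)))
      rwa [hc] at this
    exact congrArg Subtype.val h3
  have hBB : A * z * (A * z) = 1 := by
    calc A * z * (A * z) = A * (z * A) * z := by group
      _ = z ^ 3 := by rw [← Subgroup.mem_center_iff.1 hz A, pow_three, hzd]; group
      _ = 1 := hz3
  have hz1 : pr z = (1 : X6) := (QuotientGroup.eq_one_iff z).2 hz
  obtain ⟨k, u, hu, hk, hli, ho, -, hprod⟩ := K.decomp_pts hBB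
  obtain ⟨g, hg⟩ := K.move hk u hu hli ho
  rw [map_mul, hz1, mul_one] at hprod
  exact ⟨g, by rw [hprod]; exact K.prod_conj_mem hk _ hg⟩

/-- The transvections in the base. -/
def clOne : Set X6 := {x | ∃ v, v ≠ 0 ∧ x = K.point v}

/-- The products of two transvections in the base. -/
def clTwo : Set X6 := {x | ∃ a ∈ K.clOne, ∃ b ∈ K.clOne, a ≠ b ∧ x = a * b}

/-- The other involutions of the base. -/
def clThree : Set X6 := {x | x ∈ K.base ∧ x ≠ 1 ∧ x ∉ K.clOne ∧ x ∉ K.clTwo}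

theorem clOne_sub {x : X6} (hx : x ∈ K.clOne) : x ∈ K.base ∧ x ≠ 1 := by
  obtain ⟨v, hv, rfl⟩ := hx
  exact ⟨K.point_mem v, K.C.pT_ne_one (by norm_num) (K.comb_ne hv) one_ne_zero⟩

theorem clOne_li {a b : X6} (hab : a ≠ b) {v w : Fin 3 → F} (hv : v ≠ 0) (ha : a = K.point v) (hb : b = K.point w)
    (hw : w ≠ 0) : LinearIndependent F ![v, w] := by
  rw [linearIndependent_fin2]
  refine ⟨by simpa using hw, fun c hc => hab ?_⟩
  simp only [Matrix.cons_val_one, Matrix.cons_val_zero] at hc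
  rw [ha, hb]
  rcases eq_or_ne c 0 with rfl | hc0
  · exact absurd (hc.symm.trans (zero_smul F w)) hv
  · exact U6.pt_smul K.C K.hF hc0 (by rw [← hc, ← K.comb_smul, smul_zero])

theorem clOne_conj {t t' : X6} (ht : t ∈ K.clOne) (ht' : t' ∈ K.clOne) : ∃ g : X6, g * t * g⁻¹ = t' := by
  obtain ⟨v, hv, rfl⟩ := ht
  obtain ⟨v', hv', rfl⟩ := ht'
  have key : ∀ v : Fin 3 → F, v ≠ 0 → ∃ g : X6, g * K.point v * g⁻¹ = K.point e(0) := fun v hv => by
    obtain ⟨g, hg⟩ := K.move (k := 1) (by norm_num) (fun _ => K.comb v 0) (fun _ => K.iso_comb v)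
      (LinearIndependent.of_subsingleton 0 (K.comb_ne hv)) fun _ _ => K.orth_comb v v
    exact ⟨g, hg 0⟩
  obtain ⟨g, hg⟩ := key v hv
  obtain ⟨g', hg'⟩ := key v' hv'
  refine ⟨g'⁻¹ * g, ?_⟩
  calc g'⁻¹ * g * K.point v * (g'⁻¹ * g)⁻¹ = g'⁻¹ * (g * K.point v * g⁻¹) * g' := by group
    _ = g'⁻¹ * (g' * K.point v' * g'⁻¹) * g' := by rw [hg, hg']
    _ = K.point v' := by group

theorem clTwo_std {t : X6} (ht : t ∈ K.clTwo) : ∃ g : X6, g * t * g⁻¹ = K.point e(0) * K.point e(1) := by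
  obtain ⟨a, ⟨v, hv, ha⟩, b, ⟨w, hw, hb⟩, hab, rfl⟩ := ht
  obtain ⟨g, hg⟩ := K.move (k := 2) (by norm_num) (fun i => K.comb (![v, w] i) 0) (fun i => K.iso_comb _)
    (K.comb_li (K.clOne_li hab hv ha hb hw)) fun _ _ => K.orth_comb _ _
  refine ⟨g, ?_⟩
  have e1 : g * K.point v * g⁻¹ = K.point e(0) := hg 0
  have e2 : g * K.point w * g⁻¹ = K.point e(1) := hg 1
  rw [ha, hb, ← e1, ← e2]
  group

theorem clTwo_conj {t t' : X6} (ht : t ∈ K.clTwo) (ht' : t' ∈ K.clTwo) : ∃ g : X6, g * t * g⁻¹ = t' := by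
  obtain ⟨g, hg⟩ := K.clTwo_std ht
  obtain ⟨g', hg'⟩ := K.clTwo_std ht'
  refine ⟨g'⁻¹ * g, ?_⟩
  calc g'⁻¹ * g * t * (g'⁻¹ * g)⁻¹ = g'⁻¹ * (g * t * g⁻¹) * g' := by group
    _ = g'⁻¹ * (g' * t' * g'⁻¹) * g' := by rw [hg, hg']
    _ = t' := by group

theorem base_shape {x : X6} (hx : x ∈ K.base) (hx1 : x ≠ 1) : x ∈ K.clOne ∨ x ∈ K.clTwo ∨
    ∃ g : X6, g * x * g⁻¹ = K.point e(0) * K.point e(1) * K.point e(2) := by
  obtain ⟨Y, g, rfl, hg, -⟩ := hx
  rw [Mu_zero, K.Mv_zero, mul_one] at hg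
  have hgg : g * g = 1 := by
    have := hg.mul hg
    rw [one_mul, one_mul, mul_one, K.madd_self] at this
    exact this.eq K.is_one
  obtain ⟨k, u, hu, hk, hli, ho, him, hprod⟩ := K.decomp_pts hgg
  have hform : ∀ i, ∃ v, v ≠ 0 ∧ u i = K.comb v 0 := fun i => by
    obtain ⟨y, hy⟩ := him i
    have hbe : K.be (u i) = 0 := by
      rw [hy, K.be_add, hg, K.be_comb, Matrix.one_mulVec]
      funext j
      exact K.add_self _
    have e : u i = K.comb (K.al (u i)) 0 := by rw [← hbe, K.comb_al_be]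
    refine ⟨_, fun e0 => hli.ne_zero i ?_, e⟩
    rw [e, e0]
    funext j
    fin_cases j <;> simp [comb]
  choose v hv0 hv using hform
  have hpt : ∀ i, U6.pt K.C K.hF (u i) (hu i) = K.point (v i) := fun i => U6.pt_congr K.C K.hF (hv i)
  have hlist : pr g = (List.ofFn fun i => K.point (v i)).prod := by simp only [hprod, hpt]
  rcases k with _ | _ | _ | _ | n
  · exact absurd (by simpa using hlist) hx1
  · exact Or.inl ⟨v 0, hv0 0, by simpa using hlist⟩
  · refine Or.inr (Or.inl ⟨K.point (v 0), ⟨_, hv0 0, rfl⟩, K.point (v 1), ⟨_, hv0 1, rfl⟩, fun e => ?_,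
      by simpa [List.ofFn_succ] using hlist⟩)
    rw [← hpt, ← hpt] at e
    obtain ⟨a, -, ea⟩ := (U6.pt_eq_iff K.C K.hF (hli.ne_zero 0)).1 e
    have := Fintype.linearIndependent_iff.1 hli ![1, -a] (by simp [Fin.sum_univ_two, ea]) 0
    simp at this
  · obtain ⟨h, hh⟩ := K.move hk u hu hli ho
    have e0 : h * K.point (v 0) * h⁻¹ = K.point e(0) := by rw [← hpt]; exact hh 0
    have e1 : h * K.point (v 1) * h⁻¹ = K.point e(1) := by rw [← hpt]; exact hh 1
    have e2 : h * K.point (v 2) * h⁻¹ = K.point e(2) := by rw [← hpt]; exact hh 2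
    refine Or.inr (Or.inr ⟨h, ?_⟩)
    rw [hlist, ← e0, ← e1, ← e2]
    simp [List.ofFn_succ]
    group
  · omega

theorem clThree_conj {t t' : X6} (ht : t ∈ K.clThree) (ht' : t' ∈ K.clThree) : ∃ g : X6, g * t * g⁻¹ = t' := by
  obtain ⟨g, hg⟩ := ((K.base_shape ht.1 ht.2.1).resolve_left ht.2.2.1).resolve_left ht.2.2.2
  obtain ⟨g', hg'⟩ := ((K.base_shape ht'.1 ht'.2.1).resolve_left ht'.2.2.1).resolve_left ht'.2.2.2
  refine ⟨g'⁻¹ * g, ?_⟩
  calc g'⁻¹ * g * t * (g'⁻¹ * g)⁻¹ = g'⁻¹ * (g * t * g⁻¹) * g' := by group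
    _ = g'⁻¹ * (g' * t' * g'⁻¹) * g' := by rw [hg, hg']
    _ = t' := by group

theorem mem_clThree_of_det {x : X6} {Y : Matrix (Fin 3) (Fin 3) F} (hx : K.El x Y 0 0 0) (hd : Y.det ≠ 0) :
    x ∈ K.clThree := by
  have key : ∀ v w : Fin 3 → F, (K.outer v + K.outer w).det = 0 := fun v w => by
    simp [Matrix.det_fin_three, outer]
    ring
  have hz : K.outer (0 : Fin 3 → F) = 0 := by ext i j; simp [outer]
  refine ⟨⟨Y, hx⟩, fun e => hd ?_, fun h => hd ?_, fun h => hd ?_⟩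
  · rw [e] at hx
    rw [(hx.data K.el_one).1, Matrix.det_zero]
  · obtain ⟨v, -, rfl⟩ := h
    rw [(hx.data (K.el_point v)).1, ← key v 0, hz, add_zero]
  · obtain ⟨a, ⟨v, -, rfl⟩, b, ⟨w, -, rfl⟩, -, rfl⟩ := h
    rw [(hx.data ((K.el_point v).mul0 (K.el_point w))).1, key]

include K in
theorem exists_norel : ∃ D : Set X6, NoRel 4 D ∧ ∀ v : Fin 3 → F, v ≠ 0 → K.point v ∈ nz D := by
  obtain ⟨D, hP⟩ := DoubleCover.exists_pre K.hF (MulEquiv.refl X6)
  have hne := (good_psu K.hF (MulEquiv.refl X6) hP).1.nonempty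
  exact ⟨D, norel_u6 K.C K.hF hP, fun v hv => U6.pt_mem K.C K.hF hP hne _ (K.iso_comb v) (K.comb_ne hv)⟩

theorem card_clOne : K.clOne.ncard = 21 := by
  classical
  obtain ⟨D, hP⟩ := DoubleCover.exists_pre K.hF (MulEquiv.refl X6)
  have hne := (good_psu K.hF (MulEquiv.refl X6) hP).1.nonempty
  have h := U6.ncard_mul_three K.C K.hF hP hne (S := K.clOne)
    (fun x ⟨v, hv, e⟩ => e ▸ U6.pt_mem K.C K.hF hP hne _ (K.iso_comb v) (K.comb_ne hv))
    (fun u => K.be u = 0) fun u hu hu0 => ⟨?_, ?_⟩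
  · rw [U6.card_erase_zero _ ⟨K.C.form_zero_left _, by funext i; fin_cases i <;> simp [be]⟩] at h
    have e : Nat.card {u : V // K.C.form u u = 0 ∧ K.be u = 0} = Nat.card (Fin 3 → F) := Nat.card_congr
      { toFun := fun u => K.al u.1
        invFun := fun v => ⟨K.comb v 0, K.iso_comb v, K.be_comb v 0⟩
        left_inv := fun u => Subtype.ext (K.ext_ab (K.al_comb _ _) ((K.be_comb _ _).trans u.2.2.symm))
        right_inv := fun v => K.al_comb v 0 }
    rw [e, Nat.card_fun, Nat.card_eq_fintype_card (α := F), K.hF, Nat.card_fin] at h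
    omega
  · rintro ⟨v, -, e⟩
    obtain ⟨a, -, rfl⟩ := (U6.pt_eq_iff K.C K.hF hu0).1 e
    rw [K.be_smul, K.be_comb, smul_zero]
  · intro hb
    have e : u = K.comb (K.al u) 0 := by rw [← hb, K.comb_al_be]
    exact ⟨K.al u, fun e0 => hu0 (by rw [e, e0]; funext j; fin_cases j <;> simp [comb]), U6.pt_congr K.C K.hF e⟩

theorem base_comm {x y : X6} (hx : x ∈ K.base) (hy : y ∈ K.base) : Commute x y := by
  have h1 := inv_eq_of_mul_eq_one_right (K.base_sq (mul_mem hx hy))
  rw [_root_.mul_inv_rev, inv_eq_of_mul_eq_one_right (K.base_sq hx), inv_eq_of_mul_eq_one_right (K.base_sq hy)] at h1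
  exact h1.symm

theorem clTwo_sub {x : X6} (hx : x ∈ K.clTwo) : x ∈ K.base ∧ x ≠ 1 := by
  obtain ⟨a, ha, b, hb, hab, rfl⟩ := hx
  refine ⟨mul_mem (K.clOne_sub ha).1 (K.clOne_sub hb).1, fun e => hab ?_⟩
  rw [eq_inv_of_mul_eq_one_left e, inv_eq_of_mul_eq_one_right (K.base_sq (K.clOne_sub hb).1)]

theorem clOne_disj {x : X6} (hx : x ∈ K.clOne) : x ∉ K.clTwo := by
  rintro ⟨a, ha, b, hb, hab, rfl⟩
  obtain ⟨D, hN, hD⟩ := K.exists_norel
  have hmem : ∀ y ∈ [a * b, a, b], y ∈ D ∧ y ≠ 1 := fun y hy => by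
    have hy' : y ∈ K.clOne := by simp at hy; rcases hy with rfl | rfl | rfl <;> assumption
    obtain ⟨v, hv, rfl⟩ := hy'
    exact ⟨(hD v hv).1, (hD v hv).2⟩
  have ha1 := (K.clOne_sub ha).2
  have hb1 := (K.clOne_sub hb).2
  refine hN [a * b, a, b] (by simp) ?_ (by simp) hmem (fun y hy z hz => ?_) ?_
  · simp [hab, hb1, ha1]
  · refine K.base_comm ?_ ?_
    · simp at hy
      rcases hy with rfl | rfl | rfl
      exacts [(K.clOne_sub hx).1, (K.clOne_sub ha).1, (K.clOne_sub hb).1]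
    · simp at hz
      rcases hz with rfl | rfl | rfl
      exacts [(K.clOne_sub hx).1, (K.clOne_sub ha).1, (K.clOne_sub hb).1]
  · rw [List.prod_cons, List.prod_cons, List.prod_cons, List.prod_nil, mul_one]
    exact K.base_sq (K.clOne_sub hx).1

theorem card_clTwo : K.clTwo.ncard = 210 := by
  classical
  obtain ⟨D, hN, hD⟩ := K.exists_norel
  set T := (Set.toFinite K.clOne).toFinset with hT
  have hmem : ∀ {x}, x ∈ T ↔ x ∈ K.clOne := fun {x} => Set.Finite.mem_toFinset _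
  have hTc : T.card = 21 := by rw [hT, ← Set.ncard_eq_toFinset_card _, K.card_clOne]
  have himg : K.clTwo = ↑(T.offDiag.image fun p => p.1 * p.2) := by
    ext x
    simp only [Finset.coe_image, Set.mem_image, Finset.mem_coe, Finset.mem_offDiag, hmem, Prod.exists]
    constructor
    · rintro ⟨a, ha, b, hb, hab, rfl⟩; exact ⟨a, b, ⟨ha, hb, hab⟩, rfl⟩
    · rintro ⟨a, b, ⟨ha, hb, hab⟩, rfl⟩; exact ⟨a, ha, b, hb, hab, rfl⟩
  have hfib : ∀ x ∈ T.offDiag.image (fun p => p.1 * p.2),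
      (T.offDiag.filter fun p => p.1 * p.2 = x).card = 2 := by
    intro x hx
    obtain ⟨⟨a, b⟩, hab, rfl⟩ := Finset.mem_image.1 hx
    simp only [Finset.mem_offDiag, hmem] at hab
    obtain ⟨ha, hb, hne⟩ := hab
    suffices e : (T.offDiag.filter fun p => p.1 * p.2 = a * b) = {(a, b), (b, a)} by
      rw [e, Finset.card_pair (fun r => hne (Prod.mk.inj r).1)]
    have hcc : ∀ {p q}, p ∈ K.clOne → q ∈ K.clOne → Commute p q := fun hp hq =>
      K.base_comm (K.clOne_sub hp).1 (K.clOne_sub hq).1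
    ext ⟨c, d⟩
    simp only [Finset.mem_filter, Finset.mem_offDiag, hmem, Finset.mem_insert, Finset.mem_singleton, Prod.mk.injEq]
    constructor
    · rintro ⟨⟨hc, hd, hcd⟩, e⟩
      by_cases h1 : c = a
      · subst h1; exact Or.inl ⟨rfl, mul_left_cancel e⟩
      by_cases h2 : c = b
      · subst h2; exact Or.inr ⟨rfl, mul_left_cancel (e.trans (hcc ha hb).eq)⟩
      exfalso
      by_cases h3 : d = a
      · subst h3; exact h2 (mul_left_cancel (((hcc hd hc).eq.trans e)))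
      by_cases h4 : d = b
      · subst h4; exact h1 (mul_right_cancel e)
      refine hN [c, d, a, b] (by simp) (by simp [hcd, h1, h2, h3, h4, hne]) (by simp) (fun y hy => ?_)
        (fun y hy z hz => ?_) ?_
      · have hy' : y ∈ K.clOne := by simp at hy; rcases hy with rfl | rfl | rfl | rfl <;> assumption
        obtain ⟨v, hv, rfl⟩ := hy'
        exact ⟨(hD v hv).1, (hD v hv).2⟩
      · have hy' : y ∈ K.clOne := by simp at hy; rcases hy with rfl | rfl | rfl | rfl <;> assumption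
        have hz' : z ∈ K.clOne := by simp at hz; rcases hz with rfl | rfl | rfl | rfl <;> assumption
        exact hcc hy' hz'
      · simp only [List.prod_cons, List.prod_nil, mul_one]
        rw [← mul_assoc, e]
        exact K.base_sq (mul_mem (K.clOne_sub ha).1 (K.clOne_sub hb).1)
    · rintro (⟨rfl, rfl⟩ | ⟨rfl, rfl⟩)
      · exact ⟨⟨ha, hb, hne⟩, rfl⟩
      · exact ⟨⟨hb, ha, Ne.symm hne⟩, (hcc hb ha).eq⟩
  have hsum := Finset.card_eq_sum_card_image (fun p => p.1 * p.2) T.offDiag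
  rw [Finset.sum_congr rfl hfib, Finset.sum_const, smul_eq_mul, Finset.offDiag_card, hTc] at hsum
  rw [himg, Set.ncard_coe_finset]
  omega

theorem card_clThree : K.clThree.ncard = 280 := by
  classical
  have e : (K.base : Set X6) = insert 1 (K.clOne ∪ K.clTwo ∪ K.clThree) := by
    ext x
    simp only [Set.mem_insert_iff, Set.mem_union, SetLike.mem_coe]
    constructor
    · intro hx
      by_cases h1 : x = 1
      · exact Or.inl h1
      by_cases h2 : x ∈ K.clOne
      · exact Or.inr (Or.inl (Or.inl h2))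
      by_cases h3 : x ∈ K.clTwo
      · exact Or.inr (Or.inl (Or.inr h3))
      exact Or.inr (Or.inr ⟨hx, h1, h2, h3⟩)
    · rintro (rfl | (h | h) | h)
      exacts [one_mem _, (K.clOne_sub h).1, (K.clTwo_sub h).1, h.1]
  have h := congrArg Set.ncard e
  rw [← Nat.card_coe_set_eq, show Nat.card (↑(K.base : Set X6)) = Nat.card K.base from rfl, K.card_base,
    Set.ncard_insert_of_notMem (by
      rintro ((h | h) | h)
      exacts [(K.clOne_sub h).2 rfl, (K.clTwo_sub h).2 rfl, h.2.1 rfl]),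
    Set.ncard_union_eq (Set.disjoint_left.2 fun x h h3 => h.elim h3.2.2.1 h3.2.2.2),
    Set.ncard_union_eq (Set.disjoint_left.2 fun x h => K.clOne_disj h), K.card_clOne, K.card_clTwo] at h
  omega

theorem outer_std : K.outer e(0) + K.outer e(1) + K.outer e(2) = 1 := by
  ext i j; fin_cases i <;> fin_cases j <;> simp [outer, Pi.single_apply]

theorem point_single_mem (i : Fin 3) : K.point e(i) ∈ K.clOne := ⟨_, by simp, rfl⟩

theorem witness : (∃ t ∈ K.clOne, ∃ w ∈ K.clTwo, t * w ∈ K.clThree) ∧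
    ∃ t ∈ K.clOne, ∃ h ∈ K.clThree, h * t ∈ K.clThree := by
  have hI : K.El (K.point e(0) * K.point e(1) * K.point e(2)) 1 0 0 0 := by
    have := ((K.el_point e(0)).mul0 (K.el_point e(1))).mul0 (K.el_point e(2))
    rwa [K.outer_std] at this
  have h3 : K.point e(0) * K.point e(1) * K.point e(2) ∈ K.clThree :=
    K.mem_clThree_of_det hI (by rw [Matrix.det_one]; exact one_ne_zero)
  have hne : K.point e(1) ≠ K.point e(2) := fun e => by
    have := congrFun (congrFun ((K.el_point e(1)).data (e ▸ K.el_point e(2))).1 1) 1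
    simp [outer, Pi.single_apply] at this
  refine ⟨⟨_, K.point_single_mem 0, K.point e(1) * K.point e(2),
    ⟨_, K.point_single_mem 1, _, K.point_single_mem 2, hne, rfl⟩, by rwa [← mul_assoc]⟩, ?_⟩
  refine ⟨K.point ![1, 1, 0], ⟨_, by simp, rfl⟩, _, h3, K.mem_clThree_of_det (hI.mul0 (K.el_point _)) ?_⟩
  have e : (1 + K.outer ![1, 1, 0]).det = 1 := by
    simp [Matrix.det_fin_three, outer]
    linear_combination K.two
  rw [e]
  exact one_ne_zero

theorem sq_mem {t : X6} (ht : t ∈ K.clOne ∨ t ∈ K.clTwo) : ∃ y : X6, y * y = t := by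
  have hsq : ∀ z : HP F, ∃ (y : X6) (Z : Matrix (Fin 3) (Fin 3) F), K.El (y * y) Z 0 0 0 ∧
      Z = K.hm z + Mu 1 0 0 * K.hm z * K.ct (Mu 1 0 0) := fun z => by
    obtain ⟨y, hy⟩ := K.exists_el (K.ct_hm z) 1 0 0
    refine ⟨y, _, ?_, rfl⟩
    have := hy.mul hy
    rwa [K.add_self, K.add_self, mul_zero, add_zero] at this
  rcases ht with ht | ht
  · obtain ⟨y, Z, hy, hZ⟩ := hsq ((false, false, false), (K.w, 0, 0))
    have e : y * y = K.point e(0) := by
      refine hy.eq ?_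
      convert K.el_point e(0) using 1
      rw [hZ]
      ext i j
      fin_cases i <;> fin_cases j <;>
        simp [hm, bit, Mu, ct_apply, outer, Matrix.mul_apply, Matrix.vecMul, dotProduct, Fin.sum_univ_three, K.bar_w, Pi.single_apply] <;>
        first | linear_combination K.w * K.two | linear_combination K.two | linear_combination (K.w + 1) * K.two
    obtain ⟨g, hg⟩ := K.clOne_conj ⟨_, by simp, e⟩ ht
    exact ⟨g * y * g⁻¹, by rw [← hg]; group⟩
  · obtain ⟨y, Z, hy, hZ⟩ := hsq ((false, true, false), (0, 0, 0))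
    have e : y * y = K.point ![1, 1, 0] * K.point e(1) := by
      refine hy.eq ?_
      convert (K.el_point ![1, 1, 0]).mul0 (K.el_point e(1)) using 1
      rw [hZ]
      ext i j
      fin_cases i <;> fin_cases j <;>
        simp [hm, bit, Mu, ct_apply, outer, Matrix.mul_apply, Matrix.vecMul, dotProduct, Fin.sum_univ_three, Pi.single_apply] <;>
        linear_combination K.two
    have hne : K.point ![1, 1, 0] ≠ K.point e(1) := fun e => by
      have := congrFun (congrFun ((K.el_point ![1, 1, 0]).data (e ▸ K.el_point e(1))).1 0) 0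
      simp [outer, Pi.single_apply] at this
    obtain ⟨g, hg⟩ := K.clTwo_conj ⟨_, ⟨_, by simp, rfl⟩, _, K.point_single_mem 1, hne, e⟩ ht
    exact ⟨g * y * g⁻¹, by rw [← hg]; group⟩

theorem conj_of_is {g h : ↥(Cfsg.SU 6 F 2)} (hgg : g * g = 1) {Y : Matrix (Fin 3) (Fin 3) F} (hY : K.ct Y = Y)
    (h1 : K.Is (g * h * g) 1 1 Y) : pr g * pr h * (pr g)⁻¹ ∈ K.base := by
  rw [inv_eq_of_mul_eq_one_right (show pr g * pr g = (1 : X6) by rw [← map_mul, hgg, map_one]), ← map_mul, ← map_mul]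
  exact ⟨Y, K.el_of_is h1 hY⟩

theorem uTwo_conj : ∃ g : X6, ∀ x ∈ K.uTwo, g * x * g⁻¹ ∈ K.base := by
  obtain ⟨g, hgg, hg⟩ := K.exists_swap ![false, true, true]
  refine ⟨pr g, ?_⟩
  rintro x ⟨a, c, h, rfl, hh, -⟩
  refine K.conj_of_is hgg (K.ct_hm ((false, false, false), (a, c, 0))) fun x => ?_
  rw [suMat_mulVec_mul, suMat_mulVec_mul, hg x, hh, hg]
  congr 1 <;> funext i <;> fin_cases i <;>
    simp [K.al_comb, K.be_comb, Mu, Mv, Matrix.one_apply, hm, bit, ct_apply, Matrix.mulVec, dotProduct, Fin.sum_univ_three] <;> ring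

theorem uOne_conj : ∃ g : X6, ∀ x ∈ K.uOne, g * x * g⁻¹ ∈ K.base := by
  obtain ⟨g, hgg, hg⟩ := K.exists_swap ![false, false, true]
  refine ⟨pr g, ?_⟩
  rintro x ⟨b, h, rfl, hh, -⟩
  refine K.conj_of_is hgg (K.ct_hm ((false, false, false), (0, 0, b))) fun x => ?_
  rw [suMat_mulVec_mul, suMat_mulVec_mul, hg x, hh, hg]
  congr 1 <;> funext i <;> fin_cases i <;>
    simp [K.al_comb, K.be_comb, Mu, Mv, Matrix.one_apply, hm, bit, ct_apply, Matrix.mulVec, dotProduct, Fin.sum_univ_three] <;> ring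

end CfsgLib.Spor.Tri.U6Base.Frame
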