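/-
The distinguished elementary subgroup of `PSU(6, 4)` gives the fusion data for double covers.
-/
import Cfsg.Agent.Lib.Spor.Tri.U6BaseClasses
import Cfsg.Agent.Lib.Spor.Tri.CoverBase

namespace CfsgLib.Spor.Tri.U6Base

open CfsgLib.Spor.Tri

variable {F : Type} [Field F] [Fintype F] (K : Frame F)

theorem Frame.facts : CoverBase.BaseFacts K.base K.syl K.uTwo K.uOne K.clOne K.clTwo K.clThree where
  sq _ hx := K.base_sq hx
  cardE := K.card_base
  cardS := K.card_syl
  odd := by rw [Level.card_psu_six K.hF]; decide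
  leE := K.base_le
  le2 := K.uTwo_le
  le1 := K.uOne_le
  uniq _ h1 h2 h3 := K.base_unique h1 h2 h3
  invol _ hx := K.invol_conj hx
  sub1 _ hx := K.clOne_sub hx
  sub2 _ hx := K.clTwo_sub hx
  sub3 _ hx := ⟨hx.1, hx.2.1⟩
  split x hx h1 := by
    by_cases a : x ∈ K.clOne
    · exact Or.inl a
    by_cases b : x ∈ K.clTwo
    · exact Or.inr (Or.inl b)
    exact Or.inr (Or.inr ⟨hx, h1, a, b⟩)
  disj12 _ hx := K.clOne_disj hx
  disj3 _ hx := hx.2.2
  card1 := K.card_clOne
  card2 := K.card_clTwo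
  card3 := K.card_clThree
  class1 _ h _ h' := K.clOne_conj h h'
  class2 _ h _ h' := K.clTwo_conj h h'
  class3 _ h _ h' := K.clThree_conj h h'
  square _ h := K.sq_mem h
  mix12 := K.witness.1
  mix13 := K.witness.2
  conj2 := K.uTwo_conj
  conj1 := K.uOne_conj
  norm2 _ hu _ hx := K.uTwo_norm hu hx
  norm1 _ hu _ hx := K.uOne_norm hu hx
  norm12 _ hu _ hx := K.uOne_norm_uTwo hu hx
  gen _ hx := K.syl_decomp hx
  meet _ he _ hu _ hv h := K.syl_meet he hu hv h

variable {G : Type*} [Group G] [Finite G] {d : G}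
  [((Subgroup.zpowers d).subgroupOf (Subgroup.centralizer ({d} : Set G))).Normal]

/-- The projection of the centralizer. -/
theorem setting (hd : orderOf d = 2) (hperf : commutator ↥(Subgroup.centralizer ({d} : Set G)) = ⊤)
    (hF : Fintype.card F = 4)
    (e : ↥(Subgroup.centralizer ({d} : Set G)) ⧸ (Subgroup.zpowers d).subgroupOf (Subgroup.centralizer ({d} : Set G)) ≃*
      Cfsg.PSU 6 F 2) :
    CoverBase.Setting d (e.toMonoidHom.comp
      (QuotientGroup.mk' ((Subgroup.zpowers d).subgroupOf (Subgroup.centralizer ({d} : Set G))))) := by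
  set N := (Subgroup.zpowers d).subgroupOf (Subgroup.centralizer ({d} : Set G)) with hN
  have hdd : d * d = 1 := by rw [← pow_two, ← hd]; exact pow_orderOf_eq_one d
  have hd1 : d ≠ 1 := fun e => by rw [e, orderOf_one] at hd; norm_num at hd
  haveI : Finite (↥(Subgroup.centralizer ({d} : Set G)) ⧸ N) := Quotient.finite _
  obtain ⟨-, hns⟩ := DoubleCover.conclude hd fun hz hzc hker x hx =>
    DoubleCover.lift_u6 hF e _ (QuotientGroup.mk'_surjective _) hz hzc hker hx
  have hker : ∀ k : ↥(Subgroup.centralizer ({d} : Set G)), QuotientGroup.mk' N k = 1 → k = 1 ∨ (k : G) = d := by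
    intro k hk
    obtain ⟨n, hn⟩ := Subgroup.mem_zpowers_iff.1 (Subgroup.mem_subgroupOf.1 ((QuotientGroup.eq_one_iff k).1 hk))
    rcases Int.even_or_odd' n with ⟨m, rfl | rfl⟩
    · left; exact Subtype.ext (by rw [← hn, zpow_mul, zpow_two, hdd, one_zpow]; rfl)
    · right; rw [← hn, zpow_add, zpow_mul, zpow_two, hdd, one_zpow, one_mul, zpow_one]
  refine ⟨hd1, hdd, e.surjective.comp (QuotientGroup.mk'_surjective _),
    fun k hk => hker k (e.injective (hk.trans (map_one e).symm)), fun k hk => ?_, hperf, fun x hx => ?_,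
    fun ⟨g, hg⟩ => hns ⟨g, (pow_two g).trans hg⟩⟩
  · show e (QuotientGroup.mk' N k) = 1
    have hkN : k ∈ N := Subgroup.mem_subgroupOf.2 (by rw [hk]; exact Subgroup.mem_zpowers d)
    rw [show QuotientGroup.mk' N k = 1 from (QuotientGroup.eq_one_iff k).2 hkN, map_one]
  · rcases eq_or_ne x 1 with rfl | hx1
    · exact ⟨1, one_mul _, map_one _⟩
    have hx' : orderOf (e.symm x) = 2 :=
      orderOf_eq_prime (by rw [pow_two, ← map_mul, hx, map_one]) fun h => hx1 (e.symm.injective (h.trans (map_one e.symm).symm))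
    let z : ↥(Subgroup.centralizer ({d} : Set G)) := CoverBase.zel d
    obtain ⟨y, hy, hyx⟩ := DoubleCover.lift_u6 hF e (QuotientGroup.mk' N) (QuotientGroup.mk'_surjective _) (z := z)
      (Subtype.ext hdd) (fun g => CoverBase.zel_comm g) (fun k hk => (hker k hk).imp id fun r => Subtype.ext r) hx'
    exact ⟨y, by rw [← pow_two, ← hy]; exact pow_orderOf_eq_one y,
      (congrArg e hyx).trans (e.apply_symm_apply x)⟩

end CfsgLib.Spor.Tri.U6Base
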