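/-
Local facts at a member and at a commuting pair in type M(22): squares, the generation of the
centralizers, and the map onto `PSU(6, 4)`.
-/
import Cfsg.Agent.Lib.Spor.Tri.Base22
import Cfsg.Agent.Lib.Spor.Tri.U6Cover

namespace CfsgLib.Spor.Tri.Base22

open CfsgLib.Spor.Tri CfsgLib.Spor.Tri.Relations CfsgLib.Spor.Tri.Level CfsgLib.Spor.Tri.InvolFixed

variable {G : Type*} [Group G] [Finite G] {D : Set G}
variable (h : Hyp D) (hprim : Cfsg.IsPrimitiveUnderConj D) (h22 : Cfsg.IsOfTypeM22 G D)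

section
include h hprim h22

theorem cent_eq {d : G} (hd : d ∈ D) {x : G} : x ∈ loc D d ↔ Commute d x := by
  obtain ⟨L, -⟩ := lev22 h hprim h22
  exact ⟨commute_loc, fun hx => L.cent d hd (Subgroup.mem_centralizer_singleton_iff.2 hx.symm.eq)⟩

theorem cent_le {c : G} (hc : c ∈ D) {x : G} (hx : Commute c x) :
    x ∈ Subgroup.closure {y | y ∈ D ∧ y ≠ c ∧ Commute c y} := (cent_eq h hprim h22 hc).2 hx

theorem surj_img {d : G} (hd : d ∈ D) :
    ∃ f : ↥(Subgroup.centralizer ({d} : Set G)) →* ↥(loc D d) ⧸ Subgroup.center ↥(loc D d),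
      Function.Surjective f ∧ ∀ (x : ↥(Subgroup.centralizer ({d} : Set G))) (hx : (x : G) ∈ loc D d),
        f x = QuotientGroup.mk ⟨x, hx⟩ := by
  have hle : ∀ x : ↥(Subgroup.centralizer ({d} : Set G)), (x : G) ∈ loc D d := fun x =>
    (cent_eq h hprim h22 hd).2
      (show Commute d (x : G) from (Subgroup.mem_centralizer_singleton_iff.1 x.2).symm)
  let i : ↥(Subgroup.centralizer ({d} : Set G)) →* ↥(loc D d) :=
    { toFun := fun x => ⟨x, hle x⟩, map_one' := rfl, map_mul' := fun _ _ => rfl }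
  refine ⟨(QuotientGroup.mk' _).comp i, (QuotientGroup.mk'_surjective _).comp fun y =>
    ⟨⟨y, Subgroup.mem_centralizer_singleton_iff.2 (commute_loc y.2).symm.eq⟩, rfl⟩, fun x hx => rfl⟩

omit hprim h22 in
theorem lift_bar_unique {d a b : G} (W : Loc22 D d) (ha : a ∈ perp D d) (hb : b ∈ perp D d) {q : ↥(loc D d)}
    (e : (QuotientGroup.mk q : ↥(loc D d) ⧸ Subgroup.center ↥(loc D d)) * bar ha * (QuotientGroup.mk q)⁻¹ = bar hb) :
    (q : G) * a * (q : G)⁻¹ = b := by
  have hq : Commute d (q : G) := commute_loc q.2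
  have hqd : (q : G) * d * (q : G)⁻¹ = d := by rw [← hq.eq, mul_inv_cancel_right]
  have hmem : (q : G) * a * (q : G)⁻¹ ∈ perp D d := by
    refine ⟨h.conj _ a ha.1, fun r => ha.2.1 ?_, ?_⟩
    · have r' : (q : G) * a * (q : G)⁻¹ = q * d * (q : G)⁻¹ := r.trans hqd.symm
      simpa using r'
    · have := (Commute.conj_iff (q : G)).2 ha.2.2
      rwa [hqd] at this
  refine (bar_inj h W.nc hmem hb).1 ?_
  rw [← e]
  unfold bar
  rw [← QuotientGroup.mk_inv, ← QuotientGroup.mk_mul, ← QuotientGroup.mk_mul]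
  rfl

/-- Members commuting with `d` are conjugate under its centralizer. -/
theorem perp_trans {d a b : G} (hd : d ∈ D) (ha : a ∈ perp D d) (hb : b ∈ perp D d) :
    ∃ q, Commute d q ∧ q * a * q⁻¹ = b := by
  obtain ⟨d0, W⟩ := local22 h hprim h22
  obtain ⟨g, rfl⟩ := h.transitive d0 W.mem d hd
  have hmv : ∀ {y}, y ∈ perp D (g * d0 * g⁻¹) → g⁻¹ * y * g⁻¹⁻¹ ∈ perp D d0 := fun {y} hy => by
    have e : g⁻¹ * (g * d0 * g⁻¹) * g⁻¹⁻¹ = d0 := by group
    have := (perp_conj h g⁻¹ (g * d0 * g⁻¹))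
    rw [e] at this
    rw [this]
    exact ⟨y, hy, rfl⟩
  obtain ⟨q, hq⟩ := W.lev.hyp.transitive _ (bar_mem (hmv ha)) _ (bar_mem (hmv hb))
  obtain ⟨q, rfl⟩ := QuotientGroup.mk'_surjective _ q
  have e := lift_bar_unique h W (hmv ha) (hmv hb) hq
  refine ⟨g * q * g⁻¹, ?_, ?_⟩
  · exact (Commute.conj_iff g).2 (commute_loc q.2)
  · calc g * (q : G) * g⁻¹ * a * (g * (q : G) * g⁻¹)⁻¹ = g * ((q : G) * (g⁻¹ * a * g⁻¹⁻¹) * (q : G)⁻¹) * g⁻¹ := by group
      _ = b := by rw [e]; group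

/-- Six members around each member with product it. -/
theorem six_around {d : G} (hd : d ∈ D) :
    ∃ l : List G, l.length = 6 ∧ Tuple D (d :: l) ∧ l.prod = d := by
  obtain ⟨d0, W⟩ := local22 h hprim h22
  obtain ⟨a, b, c, ha, hb, hc, ht, hf⟩ := exists_indep h W
  obtain ⟨x, y, z, ht6, hp, hprod⟩ := hexad_lift h W.nc W.zl W.hexads W.six ha hb hc ht hf
  obtain ⟨g, rfl⟩ := h.transitive d0 W.mem d hd
  have h7 : Tuple D (d0 :: [a, b, c, x, y, z]) := by
    refine ⟨List.nodup_cons.2 ⟨fun q => (hp d0 q).2.1 rfl, ht6.1⟩, fun e he => ?_, fun e he e' he' => ?_⟩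
    · rcases List.mem_cons.1 he with rfl | he
      · exact ⟨W.mem, h.ne_one W.mem⟩
      · exact ht6.2.1 e he
    · rcases List.mem_cons.1 he with q | he <;> rcases List.mem_cons.1 he' with q' | he'
      · rw [q, q']
      · rw [q]; exact (hp e' he').2.2
      · rw [q']; exact (hp e he).2.2.symm
      · exact ht6.2.2 e he e' he'
  refine ⟨[a, b, c, x, y, z].map fun e => g * e * g⁻¹, rfl, tuple_map (pre_of_hyp h) g h7, ?_⟩
  rw [show ([a, b, c, x, y, z].map fun e => g * e * g⁻¹).prod = g * [a, b, c, x, y, z].prod * g⁻¹ from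
    (map_list_prod (MulAut.conj g).toMonoidHom _).symm, ← hprod]
  simp [mul_assoc]

/-- Five members around each member with product it. -/
theorem five_around {d : G} (hd : d ∈ D) :
    ∃ l : List G, l.length = 5 ∧ Tuple D (d :: l) ∧ l.prod = d := by
  obtain ⟨d0, W⟩ := local22 h hprim h22
  obtain ⟨l6, hlen, ht, -⟩ := six_around h hprim h22 hd
  obtain ⟨a, b, r, rfl⟩ : ∃ a b r, l6 = a :: b :: r := by
    match l6, hlen with
    | a :: b :: r, _ => exact ⟨a, b, r, rfl⟩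
  have ht3 : Tuple D [d, a, b] := ⟨ht.1.sublist ((List.Sublist.cons_cons d) ((List.Sublist.cons_cons a) ((List.Sublist.cons_cons b) (List.nil_sublist r)))),
    fun e he => ht.2.1 e (by simp at he ⊢; tauto), fun e he e' he' => ht.2.2 e (by simp at he ⊢; tauto) e' (by simp at he' ⊢; tauto)⟩
  obtain ⟨r', hr, hrt, hrp⟩ := six_one h W ht3
  obtain ⟨x, y, z, rfl⟩ := List.length_eq_three.1 hr
  refine ⟨[a, b, x, y, z], rfl, hrt, ?_⟩
  have e : d * [a, b, x, y, z].prod = 1 := by rw [← List.prod_cons]; exact hrp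
  rw [eq_inv_of_mul_eq_one_right e, h.inv_eq hd]

/-- The centralizer of a commuting pair. -/
theorem pair_gen {c e : G} (hc : c ∈ D) (he : e ∈ perp D c) {x : G} (hxc : Commute c x) (hxe : Commute e x) :
    x ∈ Subgroup.closure {y | y ∈ D ∧ Commute c y ∧ Commute e y} := by
  obtain ⟨d, W⟩ := local22 h hprim h22
  suffices key : ∀ {e : G}, e ∈ perp D d → ∀ {x : G}, Commute d x → Commute e x →
      x ∈ Subgroup.closure {y | y ∈ D ∧ Commute d y ∧ Commute e y} by
    obtain ⟨g, hg⟩ := h.transitive c hc d W.mem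
    have he' : g * e * g⁻¹ ∈ perp D d := by
      rw [← hg, perp_conj h]
      exact ⟨e, he, rfl⟩
    have := key he' (x := g * x * g⁻¹) (by rw [← hg]; exact (Commute.conj_iff g).2 hxc) ((Commute.conj_iff g).2 hxe)
    have hle : Subgroup.closure {y | y ∈ D ∧ Commute d y ∧ Commute (g * e * g⁻¹) y} ≤
        (Subgroup.closure {y | y ∈ D ∧ Commute c y ∧ Commute e y}).map (MulAut.conj g).toMonoidHom := by
      rw [Subgroup.closure_le]
      rintro y ⟨hy, h1, h2⟩
      refine ⟨g⁻¹ * y * g⁻¹⁻¹, Subgroup.subset_closure ⟨h.conj _ y hy, ?_, ?_⟩, by simp; group⟩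
      · have e1 : c = g⁻¹ * d * g⁻¹⁻¹ := by rw [← hg]; group
        rw [e1]; exact (Commute.conj_iff g⁻¹).2 h1
      · have e1 : e = g⁻¹ * (g * e * g⁻¹) * g⁻¹⁻¹ := by group
        rw [e1]; exact (Commute.conj_iff g⁻¹).2 h2
    obtain ⟨z, hz, hzx⟩ := hle this
    have : z = x := (MulAut.conj g).injective hzx
    exact this ▸ hz
  intro e he x hxd hxe
  have hxl : x ∈ loc D d := (cent_eq h hprim h22 W.mem).2 hxd
  set H := Subgroup.closure {y | y ∈ D ∧ Commute d y ∧ Commute e y}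
  have hq : (QuotientGroup.mk ⟨x, hxl⟩ : ↥(loc D d) ⧸ Subgroup.center ↥(loc D d)) ∈ loc (img D d) (bar he) :=
    W.lev.cent _ (bar_mem he) (Subgroup.mem_centralizer_singleton_iff.2 (by
      unfold bar
      rw [← QuotientGroup.mk_mul, ← QuotientGroup.mk_mul]
      exact congrArg _ (Subtype.ext hxe.symm.eq)))
  have hle : loc (img D d) (bar he) ≤ (H.subgroupOf (loc D d)).map (QuotientGroup.mk' (Subgroup.center ↥(loc D d))) := by
    rw [Subgroup.closure_le]
    rintro q ⟨hqi, -, hqc⟩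
    obtain ⟨y, hy, rfl⟩ := exists_bar hqi
    exact ⟨⟨y, perp_loc hy⟩, Subgroup.subset_closure ⟨hy.1, hy.2.2, (bar_commute h he hy).1 hqc⟩, rfl⟩
  obtain ⟨y, hy, hyx⟩ := hle hq
  have hyH : (y : G) ∈ H := hy
  rcases W.zl _ (QuotientGroup.eq.1 hyx) with r | r
  · have e' : (y : G) = x := inv_mul_eq_one.1 r
    exact e' ▸ hyH
  · have e' : x = (y : G) * d := eq_mul_of_inv_mul_eq r
    rw [e']
    exact mul_mem hyH (Subgroup.subset_closure ⟨W.mem, Commute.refl d, he.2.2.symm⟩)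

/-- Members are not squares, products of two commuting members are. -/
theorem square_facts : (∀ d ∈ D, ¬ ∃ g : G, g * g = d) ∧
    ∃ a ∈ D, ∃ b ∈ perp D a, ∃ y : G, y * y = a * b := by
  classical
  obtain ⟨d, W⟩ := local22 h hprim h22
  obtain ⟨F, hFf, hFt, hF, ⟨e⟩⟩ := W.psu
  letI := hFf
  letI := hFt
  have hdz : (⟨d, (cent_eq h hprim h22 W.mem).2 (Commute.refl d)⟩ : ↥(loc D d)) ∈ Subgroup.center ↥(loc D d) :=
    Subgroup.mem_center_iff.2 fun g => Subtype.ext (commute_loc g.2).symm.eq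
  set z : ↥(loc D d) := ⟨d, (cent_eq h hprim h22 W.mem).2 (Commute.refl d)⟩ with hz
  have hker : ∀ k : ↥(loc D d), QuotientGroup.mk' (Subgroup.center ↥(loc D d)) k = 1 → k = 1 ∨ k = z :=
    fun k hk => (W.zl k ((QuotientGroup.eq_one_iff k).1 hk)).imp (fun r => Subtype.ext r) (fun r => Subtype.ext r)
  have hzz : z * z = 1 := Subtype.ext (h.mul_self W.mem)
  have hzc : ∀ g, Commute g z := fun g => Subtype.ext (commute_loc g.2).symm.eq
  have hns : ∀ g : ↥(loc D d), g * g ≠ z := by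
    intro g hg
    have hne : z ≠ 1 := fun r => h.ne_one W.mem (congrArg Subtype.val r)
    by_cases h1 : QuotientGroup.mk' (Subgroup.center ↥(loc D d)) g = 1
    · rcases hker g h1 with r | r <;> rw [r] at hg
      · rw [one_mul] at hg; exact hne hg.symm
      · rw [hzz] at hg; exact hne hg.symm
    · have hqq : QuotientGroup.mk' (Subgroup.center ↥(loc D d)) g * QuotientGroup.mk' (Subgroup.center ↥(loc D d)) g = 1 := by
        rw [← map_mul, hg]
        exact (QuotientGroup.eq_one_iff z).2 hdz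
      obtain ⟨y, hy2, hy⟩ := DoubleCover.lift_u6 hF e _ (QuotientGroup.mk'_surjective _) hzz hzc hker
        (orderOf_eq_prime (by rw [pow_two, hqq]) h1)
      have hyy : y * y = 1 := by rw [← pow_two, ← hy2]; exact pow_orderOf_eq_one y
      have hk : QuotientGroup.mk' (Subgroup.center ↥(loc D d)) (y⁻¹ * g) = 1 := by
        rw [map_mul, map_inv, hy, inv_mul_cancel]
      apply hne
      rcases hker _ hk with r | r
      · rw [← hg, ← inv_mul_eq_one.1 r, hyy]
      · rw [← hg, eq_mul_of_inv_mul_eq r, (hzc y).symm.mul_mul_mul_comm, hyy, one_mul, hzz]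
  refine ⟨fun a ha ⟨g, hg⟩ => ?_, ?_⟩
  · obtain ⟨u, hu⟩ := h.transitive a ha d W.mem
    have hg' : u * g * u⁻¹ * (u * g * u⁻¹) = d :=
      (show _ = u * (g * g) * u⁻¹ by group).trans ((congrArg (fun t => u * t * u⁻¹) hg).trans hu)
    have hgl : u * g * u⁻¹ ∈ loc D d := (cent_eq h hprim h22 W.mem).2 (by
      show d * (u * g * u⁻¹) = u * g * u⁻¹ * d
      calc d * (u * g * u⁻¹) = u * g * u⁻¹ * (u * g * u⁻¹) * (u * g * u⁻¹) := congrArg (· * _) hg'.symm
        _ = u * g * u⁻¹ * (u * g * u⁻¹ * (u * g * u⁻¹)) := mul_assoc _ _ _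
        _ = u * g * u⁻¹ * d := congrArg (_ * ·) hg')
    exact hns ⟨_, hgl⟩ (Subtype.ext hg')
  obtain ⟨K⟩ := U6Base.exists_frame hF
  obtain ⟨A, hA, -⟩ := W.lev.prim.2.1
  obtain ⟨b, hb, rfl⟩ := exists_bar hA
  have hP : Pre (e '' img D d) := by
    have hp := pre_img (pre_of_hyp h) d
    refine ⟨?_, ?_, ?_, ?_⟩
    · rintro _ ⟨a, ha, rfl⟩; rw [← map_mul, hp.invol a ha, map_one]
    · rintro _ ⟨a, ha, rfl⟩ _ ⟨c, hc, rfl⟩
      rcases hp.pair a ha c hc with r | r
      · exact Or.inl (by rw [← map_mul, ← map_pow, r, map_one])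
      · exact Or.inr (by rw [← map_mul, ← map_pow, r, map_one])
    · rintro g _ ⟨a, ha, rfl⟩
      obtain ⟨u, rfl⟩ := e.surjective g
      exact ⟨u * a * u⁻¹, hp.conj u a ha, by simp⟩
    · have := congrArg (Subgroup.map e.toMonoidHom) hp.gen
      rw [MonoidHom.map_closure, Subgroup.map_top_of_surjective _ e.surjective] at this
      exact this
  obtain ⟨u, hu, hu0, hbu⟩ := U6.exists_pt K.C K.hF hP (x := e (bar hb))
    ⟨⟨_, bar_mem hb, rfl⟩, fun r => bar_ne_one h W.nc hb (e.injective (r.trans (map_one e).symm))⟩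
  obtain ⟨q, hq⟩ := K.move (k := 1) (by norm_num) (fun _ => u) (fun _ => hu)
    (LinearIndependent.of_subsingleton 0 hu0) fun _ _ => hu
  obtain ⟨y, hy⟩ := K.sq_mem (Or.inl (K.point_single_mem 0))
  have hq0 : q * e (bar hb) * q⁻¹ = y * y := by
    rw [hbu, hy]; exact hq 0
  obtain ⟨v, hv⟩ := (e.surjective.comp (QuotientGroup.mk'_surjective _)) (q⁻¹ * y * q)
  have hvv : QuotientGroup.mk' (Subgroup.center ↥(loc D d)) (v * v) = bar hb := by
    apply e.injective
    rw [map_mul, map_mul]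
    simp only [Function.comp] at hv
    rw [hv, show q⁻¹ * y * q * (q⁻¹ * y * q) = q⁻¹ * (y * y) * q by group, ← hq0]
    group
  have hk : QuotientGroup.mk' (Subgroup.center ↥(loc D d)) ((⟨b, perp_loc hb⟩ : ↥(loc D d))⁻¹ * (v * v)) = 1 := by
    rw [map_mul, hvv, map_inv]
    exact inv_mul_cancel _
  rcases hker _ hk with r | r
  · exfalso
    obtain ⟨u', hu'⟩ := h.transitive b hb.1 d W.mem
    have hb2 : (v : G) * v = b := (congrArg Subtype.val (inv_mul_eq_one.1 r)).symm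
    have hg' : u' * (v : G) * u'⁻¹ * (u' * v * u'⁻¹) = d :=
      (show _ = u' * ((v : G) * v) * u'⁻¹ by group).trans ((congrArg (fun t => u' * t * u'⁻¹) hb2).trans hu')
    have hgl : u' * (v : G) * u'⁻¹ ∈ loc D d := (cent_eq h hprim h22 W.mem).2 (by
      show d * (u' * (v : G) * u'⁻¹) = u' * (v : G) * u'⁻¹ * d
      calc d * (u' * (v : G) * u'⁻¹) = u' * (v : G) * u'⁻¹ * (u' * v * u'⁻¹) * (u' * v * u'⁻¹) := congrArg (· * _) hg'.symm
        _ = u' * (v : G) * u'⁻¹ * (u' * v * u'⁻¹ * (u' * v * u'⁻¹)) := mul_assoc _ _ _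
        _ = u' * (v : G) * u'⁻¹ * d := congrArg (_ * ·) hg')
    exact hns ⟨_, hgl⟩ (Subtype.ext hg')
  · refine ⟨b, hb.1, d, ⟨W.mem, hb.2.1.symm, hb.2.2.symm⟩, (v : G), ?_⟩
    exact congrArg Subtype.val (eq_mul_of_inv_mul_eq r)

theorem two_square {B : Finset G} (hB : Base D B) {T : Sylow 2 G}
    (hBT : (↑B : Set G) = {x | x ∈ D ∧ x ∈ (T : Subgroup G)}) {t : G} (ht : t ∈ Tk B 2) : ∃ y : G, y * y = t := by
  obtain ⟨-, a, ha, b, hb, y, hy⟩ := square_facts h hprim h22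
  obtain ⟨g, hg⟩ := move_into h hprim h22 hB hBT (S := {a, b})
    (by intro x hx; rcases hx with rfl | rfl <;> [exact ha; exact hb.1])
    (by
      intro p hp q hq
      rcases hp with rfl | rfl <;> rcases hq with rfl | rfl
      exacts [Commute.refl _, hb.2.2, hb.2.2.symm, Commute.refl _])
  have hmem : g * (a * b) * g⁻¹ ∈ Tk B 2 := by
    rw [show g * (a * b) * g⁻¹ = (g * a * g⁻¹) * (g * b * g⁻¹) by group]
    exact pair_mem (fun r => hb.2.1 (by simpa using r.symm)) (hg a (by simp)) (hg b (by simp))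
  obtain ⟨u, hu⟩ := tk_class h hprim h22 hB (by norm_num) (by norm_num) hmem ht
  exact ⟨u * (g * y * g⁻¹) * u⁻¹, by rw [← hu, ← hy]; group⟩

end

end CfsgLib.Spor.Tri.Base22
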