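/-
Two uniqueness statements for isotropic vectors over the field with four elements.
-/
import Cfsg.Agent.Lib.Spor.Tri.Y332Chart

set_option autoImplicit false
set_option linter.all false

namespace CfsgLib.Spor.Tri.Y342

open Matrix CfsgLib.SU CfsgLib.Spor.Tri CfsgLib.Spor.Tri.Relations CfsgLib.Spor.Tri.Y332

variable {F : Type} [Field F] [Fintype F] {C : UCtx F 2}

/-- Five in a path and a sixth at the middle one. -/
def forkAdj (k l : Fin 6) : Bool :=
  decide ((k.1 + 1 = l.1 ∧ l.1 < 5) ∨ (l.1 + 1 = k.1 ∧ k.1 < 5) ∨ (k.1 = 2 ∧ l.1 = 5) ∨ (l.1 = 2 ∧ k.1 = 5))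

/-- A vector orthogonal to all six is zero. -/
theorem fork_ext {v : Fin 6 → Fin 6 → F} (hadj : ∀ k l, forkAdj k l = true → C.form (v k) (v l) ≠ 0)
    (hfar : ∀ k l, forkAdj k l = false → C.form (v k) (v l) = 0) {x : Fin 6 → F}
    (hx : ∀ j, C.form x (v j) = 0) : x = 0 := by
  have key : ∀ c : Fin 6 → F, (∀ j, C.form (∑ k, c k • v k) (v j) = 0) → c = 0 := by
    intro c hc
    have e : ∀ j, c 0 * C.form (v 0) (v j) + c 1 * C.form (v 1) (v j) + c 2 * C.form (v 2) (v j) +
        c 3 * C.form (v 3) (v j) + c 4 * C.form (v 4) (v j) + c 5 * C.form (v 5) (v j) = 0 := fun j => by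
      rw [← hc j]; simp [Fin.sum_univ_six, C.form_add_left, C.form_smul_left]
    have e0 := e 0; have e4 := e 4; have e5 := e 5; have e1 := e 1; have e3 := e 3; have e2 := e 2
    simp [hfar _ _ (show forkAdj 0 0 = false by decide), hfar _ _ (show forkAdj 2 0 = false by decide),
      hfar _ _ (show forkAdj 3 0 = false by decide), hfar _ _ (show forkAdj 4 0 = false by decide),
      hfar _ _ (show forkAdj 5 0 = false by decide)] at e0
    have c1 : c 1 = 0 := e0.resolve_right (hadj 1 0 (by decide))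
    simp [c1, hfar _ _ (show forkAdj 0 4 = false by decide), hfar _ _ (show forkAdj 2 4 = false by decide),
      hfar _ _ (show forkAdj 4 4 = false by decide), hfar _ _ (show forkAdj 5 4 = false by decide)] at e4
    have c3 : c 3 = 0 := e4.resolve_right (hadj 3 4 (by decide))
    simp [c1, c3, hfar _ _ (show forkAdj 0 5 = false by decide), hfar _ _ (show forkAdj 4 5 = false by decide),
      hfar _ _ (show forkAdj 5 5 = false by decide)] at e5
    have c2 : c 2 = 0 := e5.resolve_right (hadj 2 5 (by decide))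
    simp [c1, c2, c3, hfar _ _ (show forkAdj 4 1 = false by decide), hfar _ _ (show forkAdj 5 1 = false by decide)] at e1
    have c0 : c 0 = 0 := e1.resolve_right (hadj 0 1 (by decide))
    simp [c0, c1, c2, c3, hfar _ _ (show forkAdj 5 3 = false by decide)] at e3
    have c4 : c 4 = 0 := e3.resolve_right (hadj 4 3 (by decide))
    simp [c0, c1, c2, c3, c4] at e2
    have c5 : c 5 = 0 := e2.resolve_right (hadj 5 2 (by decide))
    funext k
    fin_cases k <;> assumption
  have hli : LinearIndependent F v := Fintype.linearIndependent_iff.2 fun c hc => congrFun (key c fun j => by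
    rw [hc, show (0 : Fin 6 → F) = (0 : F) • v 0 by rw [zero_smul], C.form_smul_left, zero_mul])
  have hs : Submodule.span F (Set.range v) = ⊤ := hli.span_eq_top_of_card_eq_finrank (by simp)
  obtain ⟨c, rfl⟩ := (Submodule.mem_span_range_iff_exists_fun F).1 (hs ▸ Submodule.mem_top : x ∈ Submodule.span F (Set.range v))
  rw [key c hx]
  simp

/-- The isotropic vectors over the third and the last of a path. -/
theorem path_ratio (hF : Fintype.card F = 4) {v : Fin 6 → Fin 6 → F} (hp : Path C v) {x : Fin 6 → F}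
    (hiso : C.form x x = 0) (h0 : C.form x (v 0) = 0) (h1 : C.form x (v 1) = 0) (h3 : C.form x (v 3) = 0)
    (h4 : C.form x (v 4) = 0) (h2 : C.form x (v 2) ≠ 0) (h5 : C.form x (v 5) ≠ 0) :
    C.form x (v 5) * (C.form (v 4) (v 3) * C.form (v 3) (v 2)) = C.form x (v 2) * C.form (v 4) (v 5) := by
  obtain ⟨c, hc⟩ := hp.exists_coef x
  obtain ⟨s0, s1, s2, s3, s4, s5⟩ := hp.form_sum c
  rw [← hc] at s0 s1 s2 s3 s4 s5
  have c1 : c 1 = 0 := (mul_eq_zero.1 (s0.symm.trans h0)).resolve_right (hp.adj 1 0 (by decide))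
  rw [c1, zero_mul, zero_add] at s2
  rw [h3] at s3
  rw [h4] at s4
  -- the norm
  have hxx : C.form x x = c 2 * C.bar (C.form x (v 2)) + c 5 * C.bar (C.form x (v 5)) := by
    have e : C.form x x = ∑ k, c k * C.form (v k) x := by
      have := congrArg (fun w => C.form w x) hc
      simpa [Fin.sum_univ_six, C.form_add_left, C.form_smul_left] using this
    rw [e, C.bar_form, C.bar_form]
    simp [Fin.sum_univ_six, c1, C.form_swap_zero h0, C.form_swap_zero h3, C.form_swap_zero h4]
  rw [hiso, s2, s5, map_mul, map_mul, C.bar_form, C.bar_form] at hxx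
  set T := c 4 * C.bar (c 3) * C.form (v 4) (v 3) with hT
  have hsum : T + C.bar T = 0 := by
    have hbT : C.bar T = C.bar (c 4) * c 3 * C.form (v 3) (v 4) := by
      rw [hT, map_mul, map_mul, C.bar_bar, C.bar_form]
    rw [hbT, hT]
    linear_combination hxx + C.bar (c 3) * s3 + C.bar (c 4) * s4 +
      (c 4 * C.bar (c 3) * C.form (v 4) (v 3) + C.bar (c 3) * c 2 * C.form (v 2) (v 3) +
        C.bar (c 4) * c 3 * C.form (v 3) (v 4) + C.bar (c 4) * c 5 * C.form (v 5) (v 4)) * Relations.one_add_one hF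
  have hfix : C.bar T = T := by linear_combination hsum - T * Relations.one_add_one hF
  have hc3 : c 3 ≠ 0 := fun r => h2 (by rw [s2, r, zero_mul])
  have hc4 : c 4 ≠ 0 := fun r => h5 (by rw [s5, r, zero_mul])
  have hb3 : C.bar (c 3) ≠ 0 := fun r => by
    have := Relations.norm_one C hF hc3
    rw [r, mul_zero] at this
    exact zero_ne_one this
  rcases Relations.fixed_cases C hF hfix with r | r
  · exact absurd r (mul_ne_zero (mul_ne_zero hc4 hb3) (hp.adj 4 3 (by decide)))
  · have e : c 4 * C.form (v 4) (v 3) = c 3 := by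
      have hn := Relations.norm_one C hF hc3
      linear_combination c 3 * r - c 4 * C.form (v 4) (v 3) * hn
    rw [s2, s5]
    linear_combination C.form (v 4) (v 5) * C.form (v 3) (v 2) * e

/-- A vector is determined up to a scalar. -/
theorem path_prop (hF : Fintype.card F = 4) {v : Fin 6 → Fin 6 → F} (hp : Path C v) {x y : Fin 6 → F}
    (hx : C.form x x = 0) (hy : C.form y y = 0)
    (x0 : ∀ k : Fin 6, k ≠ 2 → k ≠ 5 → C.form x (v k) = 0) (y0 : ∀ k : Fin 6, k ≠ 2 → k ≠ 5 → C.form y (v k) = 0)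
    (x2 : C.form x (v 2) ≠ 0) (x5 : C.form x (v 5) ≠ 0) (y2 : C.form y (v 2) ≠ 0) (y5 : C.form y (v 5) ≠ 0) :
    ∃ s : F, x = s • y := by
  have rx := path_ratio hF hp hx (x0 0 (by decide) (by decide)) (x0 1 (by decide) (by decide))
    (x0 3 (by decide) (by decide)) (x0 4 (by decide) (by decide)) x2 x5
  have ry := path_ratio hF hp hy (y0 0 (by decide) (by decide)) (y0 1 (by decide) (by decide))
    (y0 3 (by decide) (by decide)) (y0 4 (by decide) (by decide)) y2 y5
  set K := C.form (v 4) (v 3) * C.form (v 3) (v 2)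
  have hK : K ≠ 0 := mul_ne_zero (hp.adj 4 3 (by decide)) (hp.adj 3 2 (by decide))
  refine ⟨C.form x (v 2) / C.form y (v 2), hp.ext fun j => ?_⟩
  rw [C.form_smul_left]
  by_cases j2 : j = 2
  · subst j2; rw [div_mul_cancel₀ _ y2]
  by_cases j5 : j = 5
  · subst j5
    refine mul_right_cancel₀ hK ?_
    rw [rx, mul_assoc, ry, ← mul_assoc, div_mul_cancel₀ _ y2]
  · rw [x0 j j2 j5, y0 j j2 j5, mul_zero]

end CfsgLib.Spor.Tri.Y342
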