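/-
Coordinates for the common neighbours of a non-commuting pair in type M(22), based on four of them in a path,
and their transport to the members commuting with a member in type M(23).
-/
import Cfsg.Agent.Lib.Spor.Tri.Y332Line

set_option autoImplicit false
set_option linter.all false

namespace CfsgLib.Spor.Tri.Y342

open Matrix CfsgLib.Spor.Tri CfsgLib.Spor.Tri.Relations CfsgLib.Spor.Tri.Level CfsgLib.Spor

/-- The products in the coordinates. -/
def dot (x y : Fin 6 → ZMod 3) : ZMod 3 :=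
  2 * (x 0 * y 0 + x 1 * y 1 + x 2 * y 2 + x 3 * y 3 + x 4 * y 4) + x 5 * y 5 +
    (x 0 * y 1 + x 1 * y 0 + x 1 * y 2 + x 2 * y 1 + x 2 * y 3 + x 3 * y 2)

/-- The basis vector with one number. -/
def e (k : Fin 6) : Fin 6 → ZMod 3 := Pi.single k 1

theorem dot_e : ∀ k l : Fin 4, k ≠ l →
    (dot (e (k.castLE (by decide))) (e (l.castLE (by decide))) = 0 ↔ ¬ (k.1 + 1 = l.1 ∨ l.1 + 1 = k.1)) := by
  decide +kernel

/-- Equal up to sign. -/
def Pm (v w : Fin 6 → ZMod 3) : Prop := v = w ∨ v = -w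

section chart

variable {G : Type*} [Group G]

/-- Coordinates of a set of members. -/
structure Coords (S : Set G) (co : G → Fin 6 → ZMod 3) : Prop where
  norm : ∀ x ∈ S, dot (co x) (co x) = 2
  comm : ∀ x ∈ S, ∀ y ∈ S, x ≠ y → (Commute x y ↔ dot (co x) (co y) = 0)
  surj : ∀ w, dot w w = 2 → ∃ x ∈ S, Pm (co x) w

theorem dot_neg_left (x y : Fin 6 → ZMod 3) : dot (-x) y = -dot x y := by
  simp only [dot, Pi.neg_apply]; ring

theorem dot_neg_right (x y : Fin 6 → ZMod 3) : dot x (-y) = -dot x y := by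
  simp only [dot, Pi.neg_apply]; ring

theorem dot_comm (x y : Fin 6 → ZMod 3) : dot x y = dot y x := by
  simp only [dot]; ring

theorem dot_pm {x y v w : Fin 6 → ZMod 3} (hx : Pm x v) (hy : Pm y w) : dot x y = 0 ↔ dot v w = 0 := by
  rcases hx with rfl | rfl <;> rcases hy with rfl | rfl <;> simp [dot_neg_left, dot_neg_right]

variable {S : Set G} {co : G → Fin 6 → ZMod 3}

theorem Coords.self (hC : Coords S co) {x : G} (hx : x ∈ S) {v : Fin 6 → ZMod 3} (hv : Pm (co x) v) : dot v v = 2 := by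
  have := hC.norm x hx
  rcases hv with e | e <;> simpa [e, dot_neg_left, dot_neg_right] using this

/-- Members with given vectors. -/
theorem Coords.rel (hC : Coords S co) {x y : G} (hx : x ∈ S) (hy : y ∈ S) {v w : Fin 6 → ZMod 3}
    (hv : Pm (co x) v) (hw : Pm (co y) w) (h1 : v ≠ w) (h2 : v ≠ -w) :
    x ≠ y ∧ (Commute x y ↔ dot v w = 0) := by
  have hne : x ≠ y := by
    rintro rfl
    rcases hv with e | e <;> rcases hw with e' | e'
    · exact h1 (e.symm.trans e')
    · exact h2 (e.symm.trans e')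
    · exact h2 (by rw [← e', e, neg_neg])
    · exact h1 (neg_injective (e.symm.trans e'))
  exact ⟨hne, (hC.comm x hx y hy hne).trans (dot_pm hv hw)⟩

end chart

theorem binary : ∀ p q r c : ZMod 3, c ≠ 0 →
    (∀ s t : ZMod 3, 2 * p * s + q * t = 0 → q * s + 2 * r * t = 0 → s = 0 ∧ t = 0) →
    ∃ s t : ZMod 3, p * s * s + q * s * t + r * t * t = c := by decide +kernel

/-- The Gram matrix with an unknown last entry. -/
def gram (q : ZMod 3) : Matrix (Fin 6) (Fin 6) (ZMod 3) :=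
  !![2, 1, 0, 0, 0, 0; 1, 2, 1, 0, 0, 0; 0, 1, 2, 1, 0, 0; 0, 0, 1, 2, 0, 0; 0, 0, 0, 0, 2, 0; 0, 0, 0, 0, 0, q]

theorem gram_det : ∀ q c : ZMod 3, c ≠ 0 → (c • gram q).det = q := by decide +kernel

theorem gram_dot (c : ZMod 3) (x y : Fin 6 → ZMod 3) : x ⬝ᵥ (c • gram 1) *ᵥ y = c * dot x y := by
  simp [gram, dot, dotProduct, Matrix.mulVec, Fin.sum_univ_six]
  ring

theorem key_four : ∀ c a b d f : ZMod 3, c ≠ 0 → a * (c * 2) + b * c = 0 → a * c + b * (c * 2) + d * c = 0 →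
    b * c + d * (c * 2) + f * c = 0 → d * c + f * (c * 2) = 0 → a = 0 ∧ b = 0 ∧ d = 0 ∧ f = 0 := by
  decide +kernel

theorem sq_one : ∀ c : ZMod 3, c ≠ 0 → c * c = 1 := by decide

theorem square_one : ∀ d q : ZMod 3, q ≠ 0 → d * d = q → q = 1 := by decide

theorem two_ne : (2 : ZMod 3) ≠ 0 := by decide

/-- Four vectors in a path are completed. -/
theorem exists_basis {Q : QuadraticForm (ZMod 3) (Fin 6 → ZMod 3)} {c : ZMod 3}
    (hQ : (QuadraticMap.polarBilin Q).Nondegenerate) (hμ : Cfsg.polarGramDet (⇑Q) = 1) (hc : c ≠ 0)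
    (u : Fin 4 → Fin 6 → ZMod 3)
    (hu : ∀ k l : Fin 4, QuadraticMap.polar (⇑Q) (u k) (u l) =
      c * gram 1 (k.castLE (by decide)) (l.castLE (by decide))) :
    ∃ P : Matrix (Fin 6) (Fin 6) (ZMod 3), IsUnit P ∧ (∀ k : Fin 4, P *ᵥ e (k.castLE (by decide)) = u k) ∧
      ∀ x y, QuadraticMap.polar (⇑Q) (P *ᵥ x) (P *ᵥ y) = c * dot x y := by
  classical
  haveI : Fact (Nat.Prime 3) := ⟨Nat.prime_three⟩
  set B := QuadraticMap.polarBilin Q with hB
  have hBa : ∀ x y, B x y = QuadraticMap.polar (⇑Q) x y := fun _ _ => rfl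
  let L : (Fin 6 → ZMod 3) →ₗ[ZMod 3] (Fin 4 → ZMod 3) := LinearMap.pi fun k => B (u k)
  have hL : ∀ x, x ∈ LinearMap.ker L ↔ ∀ k, QuadraticMap.polar (⇑Q) (u k) x = 0 := fun x => by
    rw [LinearMap.mem_ker]
    exact ⟨fun r k => congrFun r k, fun r => funext r⟩
  have hker : 1 < Module.finrank (ZMod 3) (LinearMap.ker L) := by
    have h1 := L.finrank_range_add_finrank_ker
    have h2 := Submodule.finrank_le (LinearMap.range L)
    simp at h1 h2
    omega
  obtain ⟨y1, hy1⟩ : ∃ y1 : LinearMap.ker L, y1 ≠ 0 := by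
    haveI : Nontrivial (LinearMap.ker L) := Module.nontrivial_of_finrank_pos (R := ZMod 3) (by omega)
    exact exists_ne 0
  obtain ⟨y2, hy2⟩ := exists_linearIndependent_pair_of_one_lt_finrank hker hy1
  set Y1 : Fin 6 → ZMod 3 := (y1 : Fin 6 → ZMod 3)
  set Y2 : Fin 6 → ZMod 3 := (y2 : Fin 6 → ZMod 3)
  have k1 := (hL Y1).1 y1.2
  have k2 := (hL Y2).1 y2.2
  have hzero : ∀ {w : Fin 6 → ZMod 3}, (∀ k, QuadraticMap.polar (⇑Q) (u k) w = 0) →
      QuadraticMap.polar (⇑Q) Y1 w = 0 → QuadraticMap.polar (⇑Q) Y2 w = 0 → w = 0 := by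
    intro w h0 h1 h2
    set f : Fin 6 → Fin 6 → ZMod 3 := ![u 0, u 1, u 2, u 3, Y1, Y2] with hf
    have hli : LinearIndependent (ZMod 3) f := by
      refine Fintype.linearIndependent_iff.2 fun g hg => ?_
      have e : ∀ k : Fin 4, QuadraticMap.polar (⇑Q) (u k) (∑ i, g i • f i) = 0 := fun k => by
        rw [hg, ← hBa, map_zero]
      simp only [Fin.sum_univ_six, hf] at e hg
      simp [← hBa, Matrix.cons_val] at e
      simp [hBa, hu, k1, k2, gram, Fin.forall_fin_succ] at e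
      simp [Matrix.cons_val] at hg
      have h4 : g 0 = 0 ∧ g 1 = 0 ∧ g 2 = 0 ∧ g 3 = 0 := by
        obtain ⟨e0, e1, e2, e3⟩ := e
        exact key_four c _ _ _ _ hc e0 e1 e2 e3
      obtain ⟨g0, g1, g2, g3⟩ := h4
      simp [g0, g1, g2, g3] at hg
      have h56 := LinearIndependent.pair_iff.1 hy2 (g 4) (g 5) (Subtype.ext (by simpa using hg))
      intro i
      fin_cases i
      exacts [g0, g1, g2, g3, h56.1, h56.2]
    have hs : Submodule.span (ZMod 3) (Set.range f) = ⊤ := hli.span_eq_top_of_card_eq_finrank (by simp)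
    refine hQ.1 w fun z => ?_
    have hle : Submodule.span (ZMod 3) (Set.range f) ≤ LinearMap.ker (B w) := by
      rw [Submodule.span_le]
      rintro _ ⟨i, rfl⟩
      show B w (f i) = 0
      rw [hBa, QuadraticMap.polar_comm]
      fin_cases i <;> simp [hf, h0, h1, h2]
    exact hle (hs ▸ Submodule.mem_top (x := z))
  -- a fifth of the given norm
  have hQlin : ∀ s t : ZMod 3, Q (s • Y1 + t • Y2) =
      Q Y1 * s * s + QuadraticMap.polar (⇑Q) Y1 Y2 * s * t + Q Y2 * t * t := fun s t => by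
    have e0 : ∀ x y, Q (x + y) = Q x + Q y + QuadraticMap.polar (⇑Q) x y := fun x y => by simp [QuadraticMap.polar]
    rw [e0, QuadraticMap.map_smul, QuadraticMap.map_smul, QuadraticMap.polar_smul_left,
      QuadraticMap.polar_smul_right]
    simp [smul_eq_mul]; ring
  obtain ⟨s, t, hst⟩ := binary (Q Y1) (QuadraticMap.polar (⇑Q) Y1 Y2) (Q Y2) c hc (by
    intro s t e1 e2
    have hw : s • Y1 + t • Y2 = 0 := hzero (fun k => by
        rw [QuadraticMap.polar_add_right, QuadraticMap.polar_smul_right, QuadraticMap.polar_smul_right, k1, k2]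
        simp) (by
        rw [QuadraticMap.polar_add_right, QuadraticMap.polar_smul_right, QuadraticMap.polar_smul_right,
          CfsgLib.Classical.polar_self_two, smul_eq_mul, smul_eq_mul]
        linear_combination e1) (by
        rw [QuadraticMap.polar_add_right, QuadraticMap.polar_smul_right, QuadraticMap.polar_smul_right,
          CfsgLib.Classical.polar_self_two, QuadraticMap.polar_comm _ Y2 Y1, smul_eq_mul, smul_eq_mul]
        linear_combination e2)
    exact LinearIndependent.pair_iff.1 hy2 s t (Subtype.ext hw))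
  rw [← hQlin] at hst
  set m := s • Y1 + t • Y2 with hm
  have hmu : ∀ k, QuadraticMap.polar (⇑Q) (u k) m = 0 := fun k => by
    rw [hm, QuadraticMap.polar_add_right, QuadraticMap.polar_smul_right, QuadraticMap.polar_smul_right, k1, k2]
    simp
  let L5 : (Fin 6 → ZMod 3) →ₗ[ZMod 3] (Fin 5 → ZMod 3) :=
    LinearMap.pi fun k => B (![u 0, u 1, u 2, u 3, m] k)
  obtain ⟨n, hn⟩ : ∃ n : LinearMap.ker L5, n ≠ 0 := by
    have h1 := L5.finrank_range_add_finrank_ker
    have h2 := Submodule.finrank_le (LinearMap.range L5)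
    simp at h1 h2
    haveI : Nontrivial (LinearMap.ker L5) := Module.nontrivial_of_finrank_pos (R := ZMod 3) (by omega)
    exact exists_ne 0
  set N : Fin 6 → ZMod 3 := (n : Fin 6 → ZMod 3)
  have hN : ∀ k : Fin 5, QuadraticMap.polar (⇑Q) (![u 0, u 1, u 2, u 3, m] k) N = 0 := fun k =>
    congrFun (LinearMap.mem_ker.1 n.2) k
  have hNu : ∀ k, QuadraticMap.polar (⇑Q) (u k) N = 0 := fun k => by
    have := hN (k.castLE (by decide))
    fin_cases k <;> simpa using this
  have hNm : QuadraticMap.polar (⇑Q) m N = 0 := by simpa using hN 4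
  set P : Matrix (Fin 6) (Fin 6) (ZMod 3) := (Matrix.of ![u 0, u 1, u 2, u 3, m, N])ᵀ with hP
  set q := c * QuadraticMap.polar (⇑Q) N N with hq
  have hcc : c * c = 1 := sq_one c hc
  have hPe : ∀ j, P *ᵥ e j = ![u 0, u 1, u 2, u 3, m, N] j := fun j => by
    funext i; simp [hP, e, Matrix.mulVec_single]
  have hentry : Pᵀ * CfsgLib.Classical.polarGram Q * P = c • gram q := by
    ext i j
    have e1 : (Pᵀ * CfsgLib.Classical.polarGram Q * P) i j =
        QuadraticMap.polar (⇑Q) (P *ᵥ e i) (P *ᵥ e j) := by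
      rw [← CfsgLib.Classical.dotProduct_polarGram_mulVec, Matrix.mulVec_mulVec, Matrix.dotProduct_mulVec,
        ← Matrix.vecMul_transpose, Matrix.vecMul_vecMul, ← Matrix.dotProduct_mulVec, e, e, Matrix.mulVec_single,
        single_dotProduct, Matrix.mul_assoc]
      simp
    have hmm : QuadraticMap.polar (⇑Q) m m = c * 2 := by
      rw [CfsgLib.Classical.polar_self_two, hst, mul_comm]
    have hNN : QuadraticMap.polar (⇑Q) N N = c * q := by rw [hq, ← mul_assoc, hcc, one_mul]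
    have hmu' : ∀ k, QuadraticMap.polar (⇑Q) m (u k) = 0 := fun k => by rw [QuadraticMap.polar_comm]; exact hmu k
    have hNu' : ∀ k, QuadraticMap.polar (⇑Q) N (u k) = 0 := fun k => by rw [QuadraticMap.polar_comm]; exact hNu k
    have hNm' : QuadraticMap.polar (⇑Q) N m = 0 := by rw [QuadraticMap.polar_comm]; exact hNm
    rw [e1, hPe, hPe, Matrix.smul_apply, smul_eq_mul]
    fin_cases i <;> fin_cases j <;> simp [gram, hu, hmu, hmu', hNu, hNu', hNm, hNm', hmm, hNN]
  have hdet : P.det * P.det = q := by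
    have := congrArg Matrix.det hentry
    rw [Matrix.det_mul, Matrix.det_mul, Matrix.det_transpose, gram_det q c hc,
      show (CfsgLib.Classical.polarGram Q).det = 1 from hμ, mul_one] at this
    exact this
  have hq0 : q ≠ 0 := by
    intro e0
    have hNN0 : QuadraticMap.polar (⇑Q) N N = 0 := (mul_eq_zero.1 e0).resolve_left hc
    -- then the last vector is orthogonal to everything
    refine hn (Subtype.ext ?_)
    refine hQ.1 N fun z => ?_
    have hli : LinearIndependent (ZMod 3) ![u 0, u 1, u 2, u 3, m, N] := by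
      refine Fintype.linearIndependent_iff.2 fun g hg => ?_
      have e' : ∀ k : Fin 6, QuadraticMap.polar (⇑Q) (![u 0, u 1, u 2, u 3, m, N] k)
          (∑ i, g i • ![u 0, u 1, u 2, u 3, m, N] i) = 0 := fun k => by
        rw [hg, ← hBa, map_zero]
      simp only [Fin.sum_univ_six] at e' hg
      simp [← hBa, Matrix.cons_val, Fin.forall_fin_succ] at e'
      simp [hBa, hu, hmu, hNu, hNm, QuadraticMap.polar_comm _ m, QuadraticMap.polar_comm _ N, gram,
        CfsgLib.Classical.polar_self_two, hst] at e'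
      obtain ⟨g0, g1, g2, g3⟩ := key_four c (g 0) (g 1) (g 2) (g 3) hc e'.1 e'.2.1 e'.2.2.1 e'.2.2.2.1
      have g4 : g 4 = 0 := e'.2.2.2.2.1.resolve_right (by
        rintro (r | r)
        · exact two_ne r
        · exact hc r)
      simp [Matrix.cons_val, g0, g1, g2, g3, g4] at hg
      have g5 : g 5 = 0 := hg.resolve_right fun r => hn (Subtype.ext r)
      intro i
      fin_cases i
      exacts [g0, g1, g2, g3, g4, g5]
    have hs : Submodule.span (ZMod 3) (Set.range ![u 0, u 1, u 2, u 3, m, N]) = ⊤ :=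
      hli.span_eq_top_of_card_eq_finrank (by simp)
    have hle : Submodule.span (ZMod 3) (Set.range ![u 0, u 1, u 2, u 3, m, N]) ≤ LinearMap.ker (B N) := by
      rw [Submodule.span_le]
      rintro _ ⟨i, rfl⟩
      show B N _ = 0
      rw [hBa]
      fin_cases i <;> simp [QuadraticMap.polar_comm _ N, hNu, hNm, hNN0]
    exact hle (hs ▸ Submodule.mem_top (x := z))
  have hq1 : q = 1 := by
    exact square_one _ _ hq0 hdet
  refine ⟨P, (Matrix.isUnit_iff_isUnit_det P).2 (isUnit_iff_ne_zero.2 fun r => hq0 (by rw [← hdet, r, mul_zero])),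
    fun k => by rw [hPe]; fin_cases k <;> simp, fun x y => ?_⟩
  rw [← CfsgLib.Classical.dotProduct_polarGram_mulVec, Matrix.mulVec_mulVec, Matrix.dotProduct_mulVec,
    ← Matrix.vecMul_transpose, Matrix.vecMul_vecMul, ← Matrix.dotProduct_mulVec, ← Matrix.mul_assoc, hentry, hq1,
    gram_dot]

variable {G : Type*} [Group G] [Finite G] {D : Set G}

/-- Coordinates in type M(22). -/
theorem coords22 (h : Hyp D) (hprim : Cfsg.IsPrimitiveUnderConj D) (h22 : Cfsg.IsOfTypeM22 G D) {a b : G}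
    (ha : a ∈ D) (hb : b ∈ D) (hn : ¬ Commute a b) (p : Fin 4 → G) (hp : ∀ k, p k ∈ perp D a ∩ perp D b)
    (hpc : ∀ k l : Fin 4, Commute (p k) (p l) ↔ ¬ (k.1 + 1 = l.1 ∨ l.1 + 1 = k.1)) :
    ∃ co, Coords (perp D a ∩ perp D b) co ∧ ∀ k : Fin 4, Pm (co (p k)) (e (k.castLE (by decide))) := by
  classical
  obtain ⟨Q, c, vec, hc, hQ, hμ, hnorm, hcom, hsurj⟩ := Y332.line_vectors h hprim h22 ha hb hn
  have hne : ∀ k l : Fin 4, k ≠ l → p k ≠ p l := fun k l hkl r => by
    have key : ∀ k l : Fin 4, k ≠ l → ∃ j : Fin 4,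
        decide (k.1 + 1 = j.1 ∨ j.1 + 1 = k.1) ≠ decide (l.1 + 1 = j.1 ∨ j.1 + 1 = l.1) := by decide
    obtain ⟨j, hj⟩ := key k l hkl
    refine hj (decide_eq_decide.2 (not_iff_not.1 ?_))
    rw [← hpc k j, r, hpc l j]
  have hneq : ∀ k l : Fin 4, k.1 + 1 = l.1 → QuadraticMap.polar (⇑Q) (vec (p k)) (vec (p l)) ≠ 0 := by
    intro k l hkl r
    have hkl' : k ≠ l := fun q => by rw [q] at hkl; omega
    exact (hpc l k).1 ((hcom _ (hp l) _ (hp k) (hne l k hkl'.symm)).2 r) (Or.inr hkl)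
  have hfar : ∀ k l : Fin 4, k ≠ l → ¬ (k.1 + 1 = l.1 ∨ l.1 + 1 = k.1) →
      QuadraticMap.polar (⇑Q) (vec (p k)) (vec (p l)) = 0 := fun k l hkl r =>
    (hcom _ (hp l) _ (hp k) (hne l k hkl.symm)).1 ((hpc l k).2 fun q => r q.symm)
  -- signs
  set p01 := QuadraticMap.polar (⇑Q) (vec (p 0)) (vec (p 1))
  set p12 := QuadraticMap.polar (⇑Q) (vec (p 1)) (vec (p 2))
  set p23 := QuadraticMap.polar (⇑Q) (vec (p 2)) (vec (p 3))
  set σ : Fin 4 → ZMod 3 := ![1, c * p01, p01 * p12, c * p01 * p12 * p23] with hσ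
  have hσ' : ∀ k, σ k = 1 ∨ σ k = -1 := by
    have key : ∀ c x y z : ZMod 3, c ≠ 0 → x ≠ 0 → y ≠ 0 → z ≠ 0 →
        (c * x = 1 ∨ c * x = -1) ∧ (x * y = 1 ∨ x * y = -1) ∧ (c * x * y * z = 1 ∨ c * x * y * z = -1) := by
      decide +kernel
    obtain ⟨r1, r2, r3⟩ := key c p01 p12 p23 hc (hneq 0 1 rfl) (hneq 1 2 rfl) (hneq 2 3 rfl)
    intro k
    fin_cases k
    exacts [Or.inl rfl, r1, r2, r3]
  set u : Fin 4 → Fin 6 → ZMod 3 := fun k => σ k • vec (p k) with hu
  have hupm : ∀ k, u k = vec (p k) ∨ u k = -vec (p k) := fun k =>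
    (hσ' k).imp (fun r => by simp [hu, r]) fun r => by simp [hu, r]
  obtain ⟨P, hPu, hPe, hpol⟩ := exists_basis hQ hμ hc u fun k l => by
    rw [hu, QuadraticMap.polar_smul_left, QuadraticMap.polar_smul_right, smul_eq_mul, smul_eq_mul]
    have hs := CfsgLib.Classical.polar_self_two Q (vec (p k))
    rw [hnorm _ (hp k)] at hs
    have key : ∀ c x y z : ZMod 3, c ≠ 0 → x ≠ 0 → y ≠ 0 → z ≠ 0 →
        c * x * (c * x) = 1 ∧ x * y * (x * y) = 1 ∧
        c * x * y * z * (c * x * y * z) = 1 ∧ 1 * (c * x * x) = c * 1 ∧ c * x * (x * y * y) = c * 1 ∧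
        x * y * (c * x * y * z * z) = c * 1 := by decide +kernel
    obtain ⟨q1, q2, q3, r1, r2, r3⟩ := key c p01 p12 p23 hc (hneq 0 1 rfl) (hneq 1 2 rfl) (hneq 2 3 rfl)
    rcases eq_or_ne k l with rfl | hkl
    · rw [hs]
      fin_cases k <;> simp [hσ, gram] <;> first
        | ring1
        | linear_combination (2 * c) * q1
        | linear_combination (2 * c) * q2
        | linear_combination (2 * c) * q3
    · fin_cases k <;> fin_cases l <;> simp [hσ, gram, hfar] at hkl ⊢ <;> first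
        | linear_combination r1
        | linear_combination r2
        | linear_combination r3
        | (rw [QuadraticMap.polar_comm]; linear_combination r1)
        | (rw [QuadraticMap.polar_comm]; linear_combination r2)
        | (rw [QuadraticMap.polar_comm]; linear_combination r3)
  have hdet : IsUnit P.det := (Matrix.isUnit_iff_isUnit_det P).1 hPu
  set co : G → Fin 6 → ZMod 3 := fun x => P⁻¹ *ᵥ vec x with hco
  have hback : ∀ x, P *ᵥ co x = vec x := fun x => by
    rw [hco, Matrix.mulVec_mulVec, Matrix.mul_nonsing_inv _ hdet, Matrix.one_mulVec]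
  have hfwd : ∀ w, P⁻¹ *ᵥ (P *ᵥ w) = w := fun w => by
    rw [Matrix.mulVec_mulVec, Matrix.nonsing_inv_mul _ hdet, Matrix.one_mulVec]
  refine ⟨co, ⟨fun x hx => ?_, fun x hx y hy hxy => ?_, fun w hw => ?_⟩, fun k => ?_⟩
  · have r := hpol (co x) (co x)
    rw [hback, CfsgLib.Classical.polar_self_two, hnorm x hx] at r
    exact mul_left_cancel₀ hc (by linear_combination -r)
  · rw [hcom x hx y hy hxy, ← hback x, ← hback y, hpol, mul_eq_zero, or_iff_right hc, dot_comm]
  · have hQw : Q (P *ᵥ w) = c := by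
      have r := hpol w w
      rw [CfsgLib.Classical.polar_self_two, hw, mul_comm c] at r
      exact mul_left_cancel₀ (show (2 : ZMod 3) ≠ 0 by decide) r
    obtain ⟨x, hx, e'⟩ := hsurj _ hQw
    refine ⟨x, hx, e'.imp (fun r => ?_) fun r => ?_⟩
    · rw [hco]; dsimp only; rw [r, hfwd]
    · rw [hco]; dsimp only; rw [r, Matrix.mulVec_neg, hfwd]
  · rcases hupm k with r | r <;> rw [← hPe k] at r
    · left; rw [hco]; dsimp only; rw [← r, hfwd]
    · right; rw [hco]; dsimp only; rw [← neg_eq_iff_eq_neg.2 r, Matrix.mulVec_neg, hfwd]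

/-- Everything at a member is seen at a witness. -/
theorem to_witness (h : Hyp D) {d y : G} (W : Loc23 D d) (hy : y ∈ D) :
    ∃ f : G → ↥(loc D d) ⧸ Subgroup.center ↥(loc D d), (∀ x ∈ perp D y, f x ∈ img D d) ∧
      (∀ x ∈ perp D y, ∀ x' ∈ perp D y, (f x = f x' ↔ x = x') ∧ (Commute (f x) (f x') ↔ Commute x x') ∧
        (f x ∈ perp (img D d) (f x') ↔ x ∈ perp D x')) ∧
      ∀ q ∈ img D d, ∃ x ∈ perp D y, f x = q := by
  classical
  obtain ⟨g, hg⟩ := h.transitive y hy d W.mem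
  have hmv : ∀ {x : G}, x ∈ perp D y → g * x * g⁻¹ ∈ perp D d := fun {x} hx => by
    rw [← hg, Level.perp_conj h]; exact ⟨x, hx, rfl⟩
  have hinj : ∀ {x x' : G}, g * x * g⁻¹ = g * x' * g⁻¹ ↔ x = x' := fun {x x'} =>
    ⟨fun r => mul_left_cancel (mul_right_cancel r), fun r => by rw [r]⟩
  let f : G → ↥(loc D d) ⧸ Subgroup.center ↥(loc D d) := fun x => if hx : x ∈ perp D y then bar (hmv hx) else 1
  have hf : ∀ {x} (hx : x ∈ perp D y), f x = bar (hmv hx) := fun {x} hx => dif_pos hx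
  refine ⟨f, fun x hx => by rw [hf hx]; exact bar_mem _, fun x hx x' hx' => ?_, fun q hq => ?_⟩
  · rw [hf hx, hf hx', bar_inj h W.nc, bar_commute h, bar_perp h W.nc, hinj, Commute.conj_iff]
    refine ⟨Iff.rfl, Iff.rfl, fun r => ⟨hx.1, fun e => r.2.1 (by rw [e]), (Commute.conj_iff g).1 r.2.2⟩, fun r => ?_⟩
    exact ⟨h.conj _ _ hx.1, fun e => r.2.1 (hinj.1 e), (Commute.conj_iff g).2 r.2.2⟩
  · obtain ⟨z, hz, rfl⟩ := exists_bar hq
    rw [← hg, Level.perp_conj h] at hz
    obtain ⟨x, hx, rfl⟩ := hz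
    exact ⟨x, hx, hf hx⟩

/-- Coordinates in type M(23), among the members commuting with one member. -/
theorem coords23 (h : Hyp D) {d y z j : G} (W : Loc23 D d) (hy : y ∈ D) (hz : z ∈ perp D y) (hj : j ∈ perp D y)
    (hn : ¬ Commute z j) (p : Fin 4 → G) (hp : ∀ k, p k ∈ perp D y ∩ (perp D z ∩ perp D j))
    (hpc : ∀ k l : Fin 4, Commute (p k) (p l) ↔ ¬ (k.1 + 1 = l.1 ∨ l.1 + 1 = k.1)) :
    ∃ co, Coords (perp D y ∩ (perp D z ∩ perp D j)) co ∧
      ∀ k : Fin 4, Pm (co (p k)) (e (k.castLE (by decide))) := by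
  obtain ⟨f, hf1, hf2, hf3⟩ := to_witness h W hy
  obtain ⟨co, hC, hco⟩ := coords22 W.ihyp W.iprim W.type (hf1 z hz) (hf1 j hj)
    (fun r => hn ((hf2 z hz j hj).2.1.1 r)) (fun k => f (p k))
    (fun k => ⟨(hf2 _ (hp k).1 z hz).2.2.2 (hp k).2.1, (hf2 _ (hp k).1 j hj).2.2.2 (hp k).2.2⟩)
    (fun k l => (hf2 _ (hp k).1 _ (hp l).1).2.1.trans (hpc k l))
  have hm : ∀ x ∈ perp D y ∩ (perp D z ∩ perp D j), f x ∈ perp (img D d) (f z) ∩ perp (img D d) (f j) :=
    fun x hx => ⟨(hf2 x hx.1 z hz).2.2.2 hx.2.1, (hf2 x hx.1 j hj).2.2.2 hx.2.2⟩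
  refine ⟨fun x => co (f x), ⟨fun x hx => hC.norm _ (hm x hx), fun x hx x' hx' hne => ?_, fun w hw => ?_⟩, hco⟩
  · rw [← (hf2 x hx.1 x' hx'.1).2.1]
    exact hC.comm _ (hm x hx) _ (hm x' hx') fun r => hne ((hf2 x hx.1 x' hx'.1).1.1 r)
  · obtain ⟨q, hq, hqw⟩ := hC.surj w hw
    obtain ⟨x, hx, rfl⟩ := hf3 q hq.1.1
    exact ⟨x, ⟨hx, (hf2 x hx z hz).2.2.1 hq.1, (hf2 x hx j hj).2.2.1 hq.2⟩, hqw⟩

/-- A path of four among the common neighbours inside the members commuting with one member. -/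
theorem exists_four_path (h : Hyp D) {d y z j : G} (W : Loc23 D d) (hy : y ∈ D) (hz : z ∈ perp D y)
    (hj : j ∈ perp D y) (hn : ¬ Commute z j) :
    ∃ p : Fin 4 → G, (∀ k, p k ∈ perp D y ∩ (perp D z ∩ perp D j)) ∧
      ∀ k l : Fin 4, Commute (p k) (p l) ↔ ¬ (k.1 + 1 = l.1 ∨ l.1 + 1 = k.1) := by
  obtain ⟨f, hf1, hf2, hf3⟩ := to_witness h W hy
  obtain ⟨q, hq, hqc⟩ := Y332.line_exists W.ihyp W.iprim W.type (hf1 z hz) (hf1 j hj)
    (fun r => hn ((hf2 z hz j hj).2.1.1 r))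
  choose x hx hxq using fun k : Fin 6 => hf3 (q k) (hq k).1.1
  refine ⟨fun k => x (k.castLE (by decide)), fun k => ⟨hx _, ?_, ?_⟩, fun k l => ?_⟩
  · exact (hf2 _ (hx _) z hz).2.2.1 (by rw [hxq]; exact (hq _).1)
  · exact (hf2 _ (hx _) j hj).2.2.1 (by rw [hxq]; exact (hq _).2)
  · rw [← (hf2 _ (hx _) _ (hx _)).2.1, hxq, hxq, hqc]
    rfl

end CfsgLib.Spor.Tri.Y342
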