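/-
Configurations of transpositions along the diagram Y342 in type M(23), with the further relations.
-/
import Cfsg.Agent.Lib.Spor.Tri.Y342Line
import Cfsg.Agent.Lib.Spor.Tri.Y342Chart
import Cfsg.Agent.Lib.Spor.Tri.Y332Config

set_option autoImplicit false
set_option linter.all false

namespace CfsgLib.Spor.Tri.Y342

open Matrix CfsgLib.SU CfsgLib.Spor.TC CfsgLib.Spor.Tri CfsgLib.Spor.Tri.Relations CfsgLib.Spor.Tri.Level

instance (v w : Fin 6 → ZMod 3) : Decidable (Pm v w) := inferInstanceAs (Decidable (_ ∨ _))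

/-- A vector. -/
def vF : Fin 6 → ZMod 3 := ![1, 1, 0, 2, 0, 0]
/-- A vector. -/
def vC : Fin 6 → ZMod 3 := ![1, 1, 0, 0, 1, 0]
/-- A vector. -/
def vC' : Fin 6 → ZMod 3 := ![1, 1, 0, 0, 2, 0]
/-- A vector. -/
def vB : Fin 6 → ZMod 3 := ![1, 0, 2, 2, 1, 1]
/-- A vector. -/
def vB' : Fin 6 → ZMod 3 := ![1, 0, 2, 2, 1, 2]
/-- A vector. -/
def wB : Fin 6 → ZMod 3 := ![1, 2, 1, 1, 1, 0]
/-- A vector. -/
def wB' : Fin 6 → ZMod 3 := ![1, 2, 1, 1, 2, 0]

theorem only_e4 : ∀ x, dot x x = 2 → dot x (e 0) = 0 → dot x (e 1) = 0 → dot x (e 2) = 0 → dot x (e 3) = 0 →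
    Pm x (e 4) ∧ dot x vF = 0 := by decide +kernel

theorem b_adj : ∀ y, dot y y = 2 → dot y (e 4) = 0 → dot y (e 2) = 0 → dot y (e 3) = 0 → dot y (e 0) ≠ 0 →
    dot y vB ≠ 0 ∧ dot y vB' ≠ 0 := by decide +kernel

theorem b_bad : ∀ x, dot x x = 2 → dot x (e 4) ≠ 0 → dot x (e 0) ≠ 0 → dot x (e 1) = 0 → dot x (e 3) = 0 →
    dot x (e 2) ≠ 0 → Pm x wB ∨ Pm x wB' := by decide +kernel

theorem vals : dot vF vF = 2 ∧ dot vC vC = 2 ∧ dot vC' vC' = 2 ∧ dot (e 4) (e 4) = 2 ∧ dot vB vB = 2 ∧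
    dot vB' vB' = 2 ∧ dot wB wB = 2 ∧ dot wB' wB' = 2 ∧ dot wB wB' ≠ 0 ∧ dot wB' wB ≠ 0 := by decide +kernel

/-- The edges: the branch point is 3, the arms are 3-2-1-0, 3-4-5-6-7, 3-8-9. -/
def edge23 (x y : ℕ) : Bool :=
  match x, y with
  | 0, 1 | 1, 0 | 1, 2 | 2, 1 | 2, 3 | 3, 2 | 3, 4 | 4, 3 | 4, 5 | 5, 4 | 5, 6 | 6, 5 | 6, 7 | 7, 6 | 3, 8 | 8, 3
  | 8, 9 | 9, 8 => true
  | _, _ => false

variable {G : Type*} [Group G] [Finite G] {D : Set G}

omit [Finite G] in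
theorem cases_table (T : ℕ → G) (hT : ∀ x y, x < y → y < 10 → (Commute (T x) (T y) ↔ edge23 x y = false))
    (x y : ℕ) (hx : x < 10) (hy : y < 10) : Commute (T x) (T y) ↔ edge23 x y = false := by
  rcases lt_trichotomy x y with r | rfl | r
  · exact hT x y r hy
  · exact iff_of_true (Commute.refl _) ((by decide : ∀ x : Fin 10, edge23 x.1 x.1 = false) ⟨x, hx⟩)
  · rw [Commute.symm_iff, hT y x r hx,
      (by decide : ∀ x y : Fin 10, edge23 x.1 y.1 = edge23 y.1 x.1) ⟨x, hx⟩ ⟨y, hy⟩]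

/-- The ten members. -/
structure Config23 (D : Set G) (T : ℕ → G) : Prop where
  mem : ∀ x, T x ∈ D
  comm : ∀ x y, x < 10 → y < 10 → (Commute (T x) (T y) ↔ edge23 x y = false)
  rel : ev T [3, 2, 1, 3, 4, 5, 3, 8, 9] ^ 10 = 1 ∧ ev T [0, 1, 2, 3, 4, 5, 8] ^ 9 = 1

omit [Finite G] in
theorem mk_perp {a x : G} (hx : x ∈ D) (hne : x ≠ a) (hc : Commute a x) : x ∈ perp D a := ⟨hx, hne, hc⟩

omit [Finite G] in
theorem ne_witness {a b x : G} (hax : Commute a x) (hab : ¬ Commute a b) : b ≠ x := fun r => hab (r ▸ hax)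

/-- A configuration exists. -/
theorem exists_config (h : Hyp D) (hprim : Cfsg.IsPrimitiveUnderConj D) (h23 : Cfsg.IsOfTypeM23 G D) :
    ∃ T, Config23 D T := by
  classical
  obtain ⟨L, -⟩ := lev23 h hprim h23
  obtain ⟨z, W⟩ := local23 h hprim h23
  -- a non-commuting pair and a common neighbour
  obtain ⟨j, hjD, hzj⟩ : ∃ j ∈ D, ¬ Commute z j := by
    by_contra hcon
    push Not at hcon
    have hc : z ∈ Subgroup.center G := mem_center_of_gen h.gen fun s hs => (hcon s hs).symm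
    rw [L.center, Subgroup.mem_bot] at hc
    exact h.ne_one W.mem hc
  obtain ⟨a, haz, haj⟩ : (perp D z ∩ perp D j).Nonempty :=
    (Set.ncard_pos (Set.toFinite _)).1 (by rw [L.mu z W.mem j hjD hzj]; norm_num)
  have haD := haz.1
  have hza : z ∈ perp D a := perp_symm W.mem haz
  have hja : j ∈ perp D a := perp_symm hjD haj
  obtain ⟨p, hp, hpc⟩ := exists_four_path h W haD hza hja hzj
  obtain ⟨co, hC, hp'⟩ := coords23 h W haD hza hja hzj p hp hpc
  obtain ⟨vF1, vC1, vC1', v41, vB1, vB1', -, -, hww, hww'⟩ := vals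
  obtain ⟨f, hf, ef⟩ := hC.surj vF vF1
  obtain ⟨c₁, hc₁, ec⟩ := hC.surj vC vC1
  obtain ⟨c₂, hc₂, ec'⟩ := hC.surj vC' vC1'
  obtain ⟨θ, hθ, eθ⟩ := hC.surj (e 4) v41
  set i := p 0
  set hh := p 1
  set d := p 2
  set ee := p 3
  have ei : Pm (co i) (e 0) := hp' 0
  have eh : Pm (co hh) (e 1) := hp' 1
  have ed : Pm (co d) (e 2) := hp' 2
  have eee : Pm (co ee) (e 3) := hp' 3
  have mi : i ∈ perp D a ∩ (perp D z ∩ perp D j) := hp 0
  have mh : hh ∈ perp D a ∩ (perp D z ∩ perp D j) := hp 1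
  have md : d ∈ perp D a ∩ (perp D z ∩ perp D j) := hp 2
  have me : ee ∈ perp D a ∩ (perp D z ∩ perp D j) := hp 3
  -- relations in the first chart
  have nih : ¬ Commute i hh := fun r => (hpc 0 1).1 r (by decide)
  have nhd : ¬ Commute hh d := fun r => (hpc 1 2).1 r (by decide)
  have nde : ¬ Commute d ee := fun r => (hpc 2 3).1 r (by decide)
  have kid : Commute i d := (hpc 0 2).2 (by decide)
  have kie : Commute i ee := (hpc 0 3).2 (by decide)
  have khe : Commute hh ee := (hpc 1 3).2 (by decide)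
  have rel := fun {x y : G} (hx : x ∈ perp D a ∩ (perp D z ∩ perp D j)) (hy : y ∈ perp D a ∩ (perp D z ∩ perp D j))
      {v w : Fin 6 → ZMod 3} (hv : Pm (co x) v) (hw : Pm (co y) w) (h1 : v ≠ w) (h2 : v ≠ -w) =>
    hC.rel hx hy hv hw h1 h2
  have rfi := rel hf mi ef ei (by decide) (by decide)
  have rfh := rel hf mh ef eh (by decide) (by decide)
  have rfd := rel hf md ef ed (by decide) (by decide)
  have rfe := rel hf me ef eee (by decide) (by decide)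
  have kfi : Commute f i := rfi.2.2 (by decide)
  have kfh : Commute f hh := rfh.2.2 (by decide)
  have kfd : Commute f d := rfd.2.2 (by decide)
  have nfe : ¬ Commute f ee := fun r => (by decide : dot vF (e 3) ≠ 0) (rfe.2.1 r)
  have rθi := rel hθ mi eθ ei (by decide) (by decide)
  have rθh := rel hθ mh eθ eh (by decide) (by decide)
  have rθd := rel hθ md eθ ed (by decide) (by decide)
  have rθe := rel hθ me eθ eee (by decide) (by decide)
  have rθf := rel hθ hf eθ ef (by decide) (by decide)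
  have kθi : Commute θ i := rθi.2.2 (by decide)
  have kθh : Commute θ hh := rθh.2.2 (by decide)
  have kθd : Commute θ d := rθd.2.2 (by decide)
  have kθe : Commute θ ee := rθe.2.2 (by decide)
  have kθf : Commute θ f := rθf.2.2 (by decide)
  have hcfacts : ∀ c v, c ∈ perp D a ∩ (perp D z ∩ perp D j) → Pm (co c) v → (v = vC ∨ v = vC') →
      (c ≠ i ∧ Commute c i) ∧ (c ≠ hh ∧ Commute c hh) ∧ (c ≠ ee ∧ Commute c ee) ∧ (c ≠ f ∧ Commute c f) ∧
        ¬ Commute c d ∧ ¬ Commute θ c := by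
    rintro c v hc ev' (rfl | rfl)
    all_goals
      have r1 := rel hc mi ev' ei (by decide) (by decide)
      have r2 := rel hc mh ev' eh (by decide) (by decide)
      have r3 := rel hc me ev' eee (by decide) (by decide)
      have r4 := rel hc hf ev' ef (by decide) (by decide)
      have r5 := rel hc md ev' ed (by decide) (by decide)
      have r6 := rel hθ hc eθ ev' (by decide) (by decide)
      refine ⟨⟨r1.1, r1.2.2 (by decide)⟩, ⟨r2.1, r2.2.2 (by decide)⟩, ⟨r3.1, r3.2.2 (by decide)⟩,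
        ⟨r4.1, r4.2.2 (by decide)⟩, fun r => ?_, fun r => ?_⟩
    · exact (by decide : dot vC (e 2) ≠ 0) (r5.2.1 r)
    · exact (by decide : dot (e 4) vC ≠ 0) (r6.2.1 r)
    · exact (by decide : dot vC' (e 2) ≠ 0) (r5.2.1 r)
    · exact (by decide : dot (e 4) vC' ≠ 0) (r6.2.1 r)
  have n12 : ¬ Commute c₁ c₂ := fun r =>
    (by decide : dot vC vC' ≠ 0) ((rel hc₁ hc₂ ec ec' (by decide) (by decide)).2.1 r)
  obtain ⟨⟨ni₁, kc₁i⟩, ⟨nh₁, kc₁h⟩, ⟨ne₁, kc₁e⟩, ⟨nf₁, kc₁f⟩, nc₁d, nθ₁⟩ := hcfacts c₁ vC hc₁ ec (Or.inl rfl)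
  obtain ⟨⟨ni₂, kc₂i⟩, ⟨nh₂, kc₂h⟩, ⟨ne₂, kc₂e⟩, ⟨nf₂, kc₂f⟩, nc₂d, nθ₂⟩ := hcfacts c₂ vC' hc₂ ec' (Or.inr rfl)
  -- the second member of the long arm: seen from i
  have hiD := mi.1.1
  have hzi : z ∈ perp D i := perp_symm W.mem mi.2.1
  have hji : j ∈ perp D i := perp_symm hjD mi.2.2
  have inI : ∀ {x}, x ∈ perp D a ∩ (perp D z ∩ perp D j) → x ≠ i → Commute x i →
      x ∈ perp D i ∩ (perp D z ∩ perp D j) := fun {x} hx hne hk => ⟨mk_perp hx.1.1 hne hk.symm, hx.2⟩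
  have maI : a ∈ perp D i ∩ (perp D z ∩ perp D j) := ⟨perp_symm haD mi.1, haz, haj⟩
  have ka : ∀ {x}, x ∈ perp D a ∩ (perp D z ∩ perp D j) → Commute a x := fun {x} hx => hx.1.2.2
  have hned : d ≠ i := fun r => by rw [r] at nde; exact nde kie
  have hne_ei : ee ≠ i := fun r => by rw [r] at nde; exact nde kid.symm
  have hpI : ∀ k, (![c₁, d, ee, f] : Fin 4 → G) k ∈ perp D i ∩ (perp D z ∩ perp D j) := by
    intro k
    fin_cases k
    exacts [inI hc₁ ni₁ kc₁i, inI md hned kid.symm, inI me hne_ei kie.symm, inI hf rfi.1 kfi]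
  obtain ⟨coI, hI, hI'⟩ := coords23 h W hiD hzi hji hzj ![c₁, d, ee, f] hpI (by
    intro k l
    fin_cases k <;> fin_cases l <;>
      simp [nc₁d, kc₁e, kc₁f, nde, nfe, kfd, kfd.symm, kc₁e.symm, kc₁f.symm, mt Commute.symm nc₁d,
        mt Commute.symm nde, mt Commute.symm nfe])
  have I0 : Pm (coI c₁) (e 0) := hI' 0
  have I1 : Pm (coI d) (e 1) := hI' 1
  have I2 : Pm (coI ee) (e 2) := hI' 2
  have I3 : Pm (coI f) (e 3) := hI' 3
  have m0 : c₁ ∈ perp D i ∩ (perp D z ∩ perp D j) := hpI 0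
  have m1 : d ∈ perp D i ∩ (perp D z ∩ perp D j) := hpI 1
  have m2 : ee ∈ perp D i ∩ (perp D z ∩ perp D j) := hpI 2
  have m3 : f ∈ perp D i ∩ (perp D z ∩ perp D j) := hpI 3
  have Ia : Pm (coI a) (e 4) := by
    have k : ∀ {x v}, x ∈ perp D i ∩ (perp D z ∩ perp D j) → Pm (coI x) v → a ≠ x → Commute a x →
        dot (coI a) v = 0 := fun {x v} hx hv hne hk =>
      (dot_pm (Or.inl rfl) hv).1 ((hI.comm a maI x hx hne).1 hk)
    exact (only_e4 _ (hI.norm a maI) (k m0 I0 hc₁.1.2.1.symm (ka hc₁)) (k m1 I1 md.1.2.1.symm (ka md))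
      (k m2 I2 me.1.2.1.symm (ka me)) (k m3 I3 hf.1.2.1.symm (ka hf))).1
  have bfacts : ∀ b v, b ∈ perp D i ∩ (perp D z ∩ perp D j) → Pm (coI b) v → (v = vB ∨ v = vB') →
      ¬ Commute a b ∧ ¬ Commute c₁ b ∧ Commute d b ∧ Commute ee b ∧ Commute f b ∧ ¬ Commute c₂ b ∧ ¬ Commute θ b := by
    intro b v hb evb hv
    have hdec : dot (e 4) v ≠ 0 ∧ dot (e 0) v ≠ 0 ∧ dot (e 1) v = 0 ∧ dot (e 2) v = 0 ∧ dot (e 3) v = 0 ∧
        e 4 ≠ v ∧ e 4 ≠ -v ∧ e 0 ≠ v ∧ e 0 ≠ -v ∧ e 1 ≠ v ∧ e 1 ≠ -v ∧ e 2 ≠ v ∧ e 2 ≠ -v ∧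
        e 3 ≠ v ∧ e 3 ≠ -v := by
      rcases hv with rfl | rfl <;> decide
    obtain ⟨q4, q0, q1, q2, q3, d4, d4', d0, d0', d1, d1', d2, d2', d3, d3'⟩ := hdec
    have ra := hI.rel maI hb Ia evb d4 d4'
    have nab : ¬ Commute a b := fun r => q4 (ra.2.1 r)
    have gen : ∀ y, y ∈ perp D a ∩ (perp D z ∩ perp D j) → y ≠ i → Commute y i → Commute y ee → Commute y f →
        y ≠ ee → y ≠ f → ¬ Commute y c₁ → ¬ Commute y b := by
      intro y hy hyi kyi kye kyf yne ynf nyc r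
      have hyI := inI hy hyi kyi
      have k : ∀ {x w}, x ∈ perp D i ∩ (perp D z ∩ perp D j) → Pm (coI x) w → y ≠ x →
          (Commute y x ↔ dot (coI y) w = 0) := fun {x w} hx hw hne =>
        (hI.comm y hyI x hx hne).trans (dot_pm (Or.inl rfl) hw)
      obtain ⟨a1, a2⟩ := b_adj _ (hI.norm y hyI) ((k maI Ia hy.1.2.1).1 (ka hy).symm)
        ((k m2 I2 yne).1 kye) ((k m3 I3 ynf).1 kyf)
        (fun q => nyc ((k m0 I0 fun e' => by rw [e'] at nyc; exact nyc (Commute.refl _)).2 q))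
      have e' := (k hb evb (fun e' => nab (e' ▸ ka hy))).1 r
      rcases hv with rfl | rfl
      · exact a1 e'
      · exact a2 e'
    exact ⟨nab, fun r => q0 ((hI.rel m0 hb I0 evb d0 d0').2.1 r), (hI.rel m1 hb I1 evb d1 d1').2.2 q1,
      (hI.rel m2 hb I2 evb d2 d2').2.2 q2, (hI.rel m3 hb I3 evb d3 d3').2.2 q3,
      gen c₂ hc₂ ni₂ kc₂i kc₂e kc₂f ne₂ nf₂ (fun r => n12 r.symm),
      gen θ hθ rθi.1 kθi kθe kθf rθe.1 rθf.1 nθ₁⟩
  obtain ⟨b₁, hb₁, eb₁⟩ := hI.surj vB vB1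
  obtain ⟨b₂, hb₂, eb₂⟩ := hI.surj vB' vB1'
  have k12 := hI.rel hb₁ hb₂ eb₁ eb₂ (by decide) (by decide)
  -- seen from f, one of the two commutes with hh
  obtain ⟨b, v, hb, evb, hv, kbh⟩ : ∃ b v, b ∈ perp D i ∩ (perp D z ∩ perp D j) ∧ Pm (coI b) v ∧
      (v = vB ∨ v = vB') ∧ Commute hh b := by
    by_contra hcon
    push Not at hcon
    have hfD := hf.1.1
    have inF : ∀ {x}, x ∈ perp D a ∩ (perp D z ∩ perp D j) → x ≠ f → Commute x f →
        x ∈ perp D f ∩ (perp D z ∩ perp D j) := fun {x} hx hne hk => ⟨mk_perp hx.1.1 hne hk.symm, hx.2⟩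
    have hpF : ∀ k, (![c₁, d, hh, i] : Fin 4 → G) k ∈ perp D f ∩ (perp D z ∩ perp D j) := by
      intro k
      fin_cases k
      exacts [inF hc₁ nf₁ kc₁f, inF md rfd.1.symm kfd.symm, inF mh rfh.1.symm kfh.symm, inF mi rfi.1.symm kfi.symm]
    obtain ⟨coF, hF, hF'⟩ := coords23 h W hfD (perp_symm W.mem hf.2.1) (perp_symm hjD hf.2.2) hzj
      ![c₁, d, hh, i] hpF (by
        intro k l
        fin_cases k <;> fin_cases l <;>
          simp [nc₁d, kc₁h, kc₁i, nhd, nih, kid, kid.symm, kc₁h.symm, kc₁i.symm, mt Commute.symm nc₁d,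
            mt Commute.symm nhd, mt Commute.symm nih])
    have maF : a ∈ perp D f ∩ (perp D z ∩ perp D j) := ⟨perp_symm haD hf.1, haz, haj⟩
    have Fa : Pm (coF a) (e 4) := by
      have k : ∀ {x v}, x ∈ perp D f ∩ (perp D z ∩ perp D j) → Pm (coF x) v → a ≠ x → Commute a x →
          dot (coF a) v = 0 := fun {x v} hx hv hne hk =>
        (dot_pm (Or.inl rfl) hv).1 ((hF.comm a maF x hx hne).1 hk)
      exact (only_e4 _ (hF.norm a maF) (k (hpF 0) (hF' 0) hc₁.1.2.1.symm (ka hc₁)) (k (hpF 1) (hF' 1) md.1.2.1.symm (ka md))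
        (k (hpF 2) (hF' 2) mh.1.2.1.symm (ka mh)) (k (hpF 3) (hF' 3) mi.1.2.1.symm (ka mi))).1
    have bad : ∀ b v, b ∈ perp D i ∩ (perp D z ∩ perp D j) → Pm (coI b) v → (v = vB ∨ v = vB') →
        b ∈ perp D f ∩ (perp D z ∩ perp D j) ∧ (Pm (coF b) wB ∨ Pm (coF b) wB') := by
      intro b v hb evb hv
      obtain ⟨nab, ncb, kdb, keb, kfb, -, -⟩ := bfacts b v hb evb hv
      have nhb := hcon b v hb evb hv
      have hbF : b ∈ perp D f ∩ (perp D z ∩ perp D j) := ⟨mk_perp hb.1.1 (fun r => nab (r ▸ ka hf)) kfb, hb.2⟩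
      have k : ∀ {x w}, x ∈ perp D f ∩ (perp D z ∩ perp D j) → Pm (coF x) w → b ≠ x →
          (Commute b x ↔ dot (coF b) w = 0) := fun {x w} hx hw hne =>
        (hF.comm b hbF x hx hne).trans (dot_pm (Or.inl rfl) hw)
      refine ⟨hbF, b_bad _ (hF.norm b hbF) (fun q => nab ((k maF Fa (fun r => nab (r ▸ Commute.refl a))).2 q).symm)
        (fun q => ncb ((k (hpF 0) (hF' 0) (fun r => nab (r ▸ ka hc₁))).2 q).symm)
        ((k (hpF 1) (hF' 1) (fun r => nab (r ▸ ka md))).1 kdb.symm)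
        ((k (hpF 3) (hF' 3) (fun r => nab (r ▸ ka mi))).1 hb.1.2.2.symm)
        (fun q => nhb ((k (hpF 2) (hF' 2) (fun r => nab (r ▸ ka mh))).2 q).symm)⟩
    obtain ⟨q₁, p₁⟩ := bad b₁ vB hb₁ eb₁ (Or.inl rfl)
    obtain ⟨q₂, p₂⟩ := bad b₂ vB' hb₂ eb₂ (Or.inr rfl)
    have h0 := (hF.comm b₁ q₁ b₂ q₂ k12.1).1 (k12.2.2 (by decide))
    have wne : dot wB wB ≠ 0 ∧ dot wB' wB' ≠ 0 := by decide
    rcases p₁ with r | r <;> rcases p₂ with r' | r' <;> rw [dot_pm r r'] at h0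
    exacts [wne.1 h0, hww h0, hww' h0, wne.2 h0]
  obtain ⟨nab, nc₁b, kdb, keb, kfb, nc₂b, nθb⟩ := bfacts b v hb evb hv
  have hbD := hb.1.1
  have hbz : b ∈ perp D z := hb.2.1
  -- the end of the long arm: seen from z
  have nb : ∀ {x}, x ∈ perp D a ∩ (perp D z ∩ perp D j) → b ≠ x := fun {x} hx => ne_witness (ka hx) nab
  have inZ : ∀ {x}, x ∈ perp D a ∩ (perp D z ∩ perp D j) → Commute b x →
      x ∈ perp D z ∩ (perp D a ∩ perp D b) := fun {x} hx hk =>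
    ⟨hx.2.1, hx.1, mk_perp hx.1.1 (nb hx).symm hk⟩
  have hpZ : ∀ k, (![i, hh, d, ee] : Fin 4 → G) k ∈ perp D z ∩ (perp D a ∩ perp D b) := by
    intro k
    fin_cases k
    exacts [inZ mi hb.1.2.2.symm, inZ mh kbh.symm, inZ md kdb.symm, inZ me keb.symm]
  obtain ⟨coZ, hZ, hZ'⟩ := coords23 h W W.mem haz hbz nab ![i, hh, d, ee] hpZ (by
    intro k l
    fin_cases k <;> fin_cases l <;>
      simp [nih, nhd, nde, kid, kie, khe, kid.symm, kie.symm, khe.symm, mt Commute.symm nih,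
        mt Commute.symm nhd, mt Commute.symm nde])
  obtain ⟨g, hg, eg⟩ := hZ.surj (e 4) v41
  have rgi := hZ.rel hg (hpZ 0) eg (hZ' 0) (by decide) (by decide)
  have rgh := hZ.rel hg (hpZ 1) eg (hZ' 1) (by decide) (by decide)
  have rgd := hZ.rel hg (hpZ 2) eg (hZ' 2) (by decide) (by decide)
  have rge := hZ.rel hg (hpZ 3) eg (hZ' 3) (by decide) (by decide)
  have kgi : Commute g i := rgi.2.2 (by decide)
  have kgh : Commute g hh := rgh.2.2 (by decide)
  have kgd : Commute g d := rgd.2.2 (by decide)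
  have kge : Commute g ee := rge.2.2 (by decide)
  have hgD := hg.1.1
  have kga : Commute a g := hg.2.1.2.2
  have kgb : Commute b g := hg.2.2.2.2
  -- the chart at the image of a
  obtain ⟨F, hFf, hFt, hF4, C, hch⟩ := Y332.exists_charts W.ihyp W.iprim W.type
  letI := hFf; letI := hFt
  obtain ⟨vec, π, hch⟩ := hch (bar haz) (bar_mem haz)
  have hbar : ∀ {x} (hx : x ∈ perp D z), x ∈ perp D a → bar hx ∈ perp (img D z) (bar haz) := fun {x} hx r =>
    (bar_perp h W.nc hx haz).2 r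
  have hcv : ∀ {x y} (hx : x ∈ perp D z) (hy : y ∈ perp D z), x ∈ perp D a → y ∈ perp D a →
      (Commute x y ↔ C.form (vec (bar hx)) (vec (bar hy)) = 0) := fun {x y} hx hy r r' =>
    (bar_commute h hx hy).symm.trans (hch.comm _ (hbar hx r) _ (hbar hy r'))
  have hveq : ∀ {x y} (hx : x ∈ perp D z) (hy : y ∈ perp D z), x ∈ perp D a → y ∈ perp D a → ∀ s : F,
      vec (bar hx) = s • vec (bar hy) → x = y := fun {x y} hx hy r r' s es =>
    (bar_inj h W.nc hx hy).1 (hch.inj _ (hbar hx r) _ (hbar hy r') s es)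
  have ngf : ¬ Commute g f := by
    intro kgf
    set w : Fin 6 → Fin 6 → F := ![vec (bar mi.2.1), vec (bar mh.2.1), vec (bar md.2.1), vec (bar me.2.1),
      vec (bar hf.2.1), vec (bar hc₁.2.1)] with hw
    set x6 : Fin 6 → G := ![i, hh, d, ee, f, c₁] with hx6
    have hx6z : ∀ k, x6 k ∈ perp D a ∩ (perp D z ∩ perp D j) := by
      intro k; fin_cases k
      exacts [mi, mh, md, me, hf, hc₁]
    have hwk : ∀ k, w k = vec (bar (hx6z k).2.1) := by intro k; fin_cases k <;> rfl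
    have hform : ∀ k l, Commute (x6 k) (x6 l) ↔ C.form (w k) (w l) = 0 := fun k l => by
      rw [hwk, hwk]; exact hcv _ _ (hx6z k).1 (hx6z l).1
    have hpat : ∀ k l, Commute (x6 k) (x6 l) ↔ forkAdj k l = false := by
      intro k l
      fin_cases k <;> fin_cases l <;>
        simp [hx6, forkAdj, nih, nhd, nde, kid, kie, khe, kfi, kfh, kfd, nfe, kc₁i, kc₁h, kc₁e, kc₁f, nc₁d,
          kid.symm, kie.symm, khe.symm, kfi.symm, kfh.symm, kfd.symm, kc₁i.symm, kc₁h.symm, kc₁e.symm, kc₁f.symm,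
          mt Commute.symm nih, mt Commute.symm nhd, mt Commute.symm nde,
          mt Commute.symm nfe, mt Commute.symm nc₁d]
    have ext6 : ∀ {x : Fin 6 → F}, (∀ k, C.form x (w k) = 0) → x = 0 := fun {x} hx =>
      fork_ext (fun k l r q => by rw [← hform, hpat, r] at q; exact Bool.noConfusion q)
        (fun k l r => (hform k l).1 ((hpat k l).2 r)) hx
    set Z0 := vec (bar hθ.2.1) with hZ0
    set G0 := vec (bar hg.1) with hG0
    have five : ∀ {x} (hx : x ∈ perp D z), x ∈ perp D a → Commute x i → Commute x hh → Commute x d → Commute x ee →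
        Commute x f → ∀ k : Fin 6, k ≠ 5 → C.form (vec (bar hx)) (w k) = 0 := by
      intro x hx hxa a0 a1 a2 a3 a4 k hk
      rw [hwk]
      refine (hcv hx _ hxa (hx6z k).1).1 ?_
      fin_cases k <;> simp [hx6] at hk ⊢ <;> assumption
    have five_ne : ∀ {x} (hx : x ∈ perp D z), x ∈ perp D a → Commute x i → Commute x hh → Commute x d → Commute x ee →
        Commute x f → C.form (vec (bar hx)) (w 5) ≠ 0 := by
      intro x hx hxa a0 a1 a2 a3 a4 r
      refine hch.ne _ (hbar hx hxa) (ext6 fun k => ?_)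
      by_cases hk : k = 5
      · exact hk ▸ r
      · exact five hx hxa a0 a1 a2 a3 a4 k hk
    have nzθ := five_ne hθ.2.1 hθ.1 kθi kθh kθd kθe kθf
    set s := C.form G0 (w 5) / C.form Z0 (w 5) with hs
    have hG : G0 + (-s) • Z0 = 0 := ext6 fun k => by
      rw [C.form_add_left, C.form_smul_left]
      by_cases hk : k = 5
      · subst hk; rw [hs, neg_mul, div_mul_cancel₀ _ nzθ, add_neg_cancel]
      · rw [five hg.1 hg.2.1 kgi kgh kgd kge kgf k hk, five hθ.2.1 hθ.1 kθi kθh kθd kθe kθf k hk]; ring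
    have e' : g = θ := hveq hg.1 hθ.2.1 hg.2.1 hθ.1 s (by
      rw [← hG0, ← hZ0]
      rw [neg_smul, add_neg_eq_zero] at hG
      exact hG)
    exact nθb (e' ▸ kgb.symm)
  -- the third member of the short side
  obtain ⟨c, hc, nc0, ni, kci, nh, kch, ne', kce, nf, kcf, ncd, ncb, kcg⟩ :
      ∃ c, c ∈ perp D a ∩ (perp D z ∩ perp D j) ∧ True ∧ c ≠ i ∧ Commute c i ∧ c ≠ hh ∧ Commute c hh ∧ c ≠ ee ∧
        Commute c ee ∧ c ≠ f ∧ Commute c f ∧ ¬ Commute c d ∧ ¬ Commute c b ∧ Commute c g := by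
    by_cases r₁ : Commute c₁ g
    · exact ⟨c₁, hc₁, trivial, ni₁, kc₁i, nh₁, kc₁h, ne₁, kc₁e, nf₁, kc₁f, nc₁d, nc₁b, r₁⟩
    by_cases r₂ : Commute c₂ g
    · exact ⟨c₂, hc₂, trivial, ni₂, kc₂i, nh₂, kc₂h, ne₂, kc₂e, nf₂, kc₂f, nc₂d, nc₂b, r₂⟩
    exfalso
    set x6 : Fin 6 → G := ![i, hh, d, ee, f, g] with hx6
    have hx6z : ∀ k, x6 k ∈ perp D z ∧ x6 k ∈ perp D a := by
      intro k; fin_cases k
      exacts [⟨mi.2.1, mi.1⟩, ⟨mh.2.1, mh.1⟩, ⟨md.2.1, md.1⟩, ⟨me.2.1, me.1⟩, ⟨hf.2.1, hf.1⟩, ⟨hg.1, hg.2.1⟩]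
    set q : Fin 6 → ↥(loc D z) ⧸ Subgroup.center ↥(loc D z) := fun k => bar (hx6z k).1 with hq
    have hpath := hch.path (p := q) (fun k => hbar _ (hx6z k).2) fun k l => by
      rw [hq, bar_commute h]
      fin_cases k <;> fin_cases l <;>
        simp [hx6, nih, nhd, nde, kid, kie, khe, kfi, kfh, kfd, nfe, kgi, kgh, kgd, kge, ngf,
          kid.symm, kie.symm, khe.symm, kfi.symm, kfh.symm, kfd.symm, kgi.symm, kgh.symm, kgd.symm, kge.symm,
          mt Commute.symm nih, mt Commute.symm nhd, mt Commute.symm nde,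
          mt Commute.symm nfe, mt Commute.symm ngf]
    have facts : ∀ {x} (hx : x ∈ perp D a ∩ (perp D z ∩ perp D j)), Commute x i → Commute x hh → Commute x ee →
        Commute x f → ¬ Commute x d → ¬ Commute x g →
        (∀ k : Fin 6, k ≠ 2 → k ≠ 5 → C.form (vec (bar hx.2.1)) (vec (q k)) = 0) ∧
          C.form (vec (bar hx.2.1)) (vec (q 2)) ≠ 0 ∧ C.form (vec (bar hx.2.1)) (vec (q 5)) ≠ 0 := by
      intro x hx a0 a1 a3 a4 a2 a5
      refine ⟨fun k k2 k5 => (hcv hx.2.1 _ hx.1 (hx6z k).2).1 ?_, fun r => a2 ?_, fun r => a5 ?_⟩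
      · fin_cases k <;> simp [hx6] at k2 k5 ⊢ <;> assumption
      · exact (hcv hx.2.1 (hx6z 2).1 hx.1 (hx6z 2).2).2 r
      · exact (hcv hx.2.1 (hx6z 5).1 hx.1 (hx6z 5).2).2 r
    obtain ⟨x0, x2, x5⟩ := facts hc₁ kc₁i kc₁h kc₁e kc₁f nc₁d r₁
    obtain ⟨y0, y2, y5⟩ := facts hc₂ kc₂i kc₂h kc₂e kc₂f nc₂d r₂
    obtain ⟨s, hs⟩ := path_prop hF4 hpath (hch.iso _ (hbar hc₁.2.1 hc₁.1)) (hch.iso _ (hbar hc₂.2.1 hc₂.1))
      x0 y0 x2 x5 y2 y5
    exact n12 (hveq hc₁.2.1 hc₂.2.1 hc₁.1 hc₂.1 s hs ▸ Commute.refl c₁)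
  -- the last node meets only the end
  have ngj : ¬ Commute g j := by
    intro r
    have hgj : g ∈ perp D j := mk_perp hgD (fun e' => hzj (e' ▸ hg.1.2.2)) r.symm
    have hm : g ∈ perp D a ∩ (perp D z ∩ perp D j) := ⟨hg.2.1, hg.1, hgj⟩
    have k : ∀ {x w}, x ∈ perp D a ∩ (perp D z ∩ perp D j) → Pm (co x) w → g ≠ x →
        (Commute g x ↔ dot (co g) w = 0) := fun {x w} hx hw hne =>
      (hC.comm g hm x hx hne).trans (dot_pm (Or.inl rfl) hw)
    have h0 := (only_e4 _ (hC.norm g hm) ((k mi ei rgi.1).1 kgi) ((k mh eh rgh.1).1 kgh) ((k md ed rgd.1).1 kgd)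
      ((k me eee rge.1).1 kge)).2
    exact ngf ((k hf ef (fun e' => nfe (e' ▸ kge))).2 h0)
  -- assembly
  refine ⟨fun x => [a, b, c, d, ee, f, g, j, hh, i].getD x a, fun x => ?_, ?_, ?_⟩
  · by_cases hx : x < 10
    · interval_cases x
      exacts [haD, hbD, hc.1.1, md.1.1, me.1.1, hf.1.1, hgD, hjD, mh.1.1, mi.1.1]
    · rw [List.getD_eq_default _ _ (by simp; omega)]; exact haD
  · refine cases_table _ fun x y hxy hy => ?_
    interval_cases y <;> interval_cases x <;>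
      simp [edge23, nab, ka hc, ka md, ka me, ka hf, kga, ka mh, ka mi, haj.2.2.symm, mt Commute.symm ncb,
        kdb.symm, keb.symm, kfb.symm, kgb, hb.2.2.2.2.symm, kbh.symm, hb.1.2.2.symm, ncd, kce, kcf, kcg,
        hc.2.2.2.2.symm, kch, kci, nde, kfd.symm, kgd.symm, md.2.2.2.2.symm, mt Commute.symm nhd,
        kid.symm, mt Commute.symm nfe, kge.symm, me.2.2.2.2.symm, khe.symm, kie.symm,
        mt Commute.symm ngf, hf.2.2.2.2.symm, kfh, kfi, ngj, kgh, kgi, mh.2.2.2.2, mi.2.2.2.2,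
        mt Commute.symm nih]
  · -- the relations
    set T : ℕ → G := fun x => [a, b, c, d, ee, f, g, j, hh, i].getD x a with hT
    set u : ℕ → G := fun x => [a, b, c, d, ee, f, g, hh, i].getD x a with hu
    have huz : ∀ x, u x ∈ perp D z := fun x => by
      by_cases hx : x < 9
      · interval_cases x
        exacts [haz, hbz, hc.2.1, md.2.1, me.2.1, hf.2.1, hg.1, mh.2.1, mi.2.1]
      · rw [hu]; dsimp only; rw [List.getD_eq_default _ _ (by simp; omega)]; exact haz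
    have hcfg : Y332.Config (img D z) fun x => bar (huz x) := by
      refine ⟨fun x => bar_mem _, fun x y hx hy => ?_⟩
      show Commute (bar _) (bar _) ↔ _
      rw [bar_commute h]
      interval_cases x <;> interval_cases y <;>
        simp [hu, Y332.edge, Commute.refl, nab, ka hc, ka md, ka me, ka hf, kga, ka mh, ka mi, mt Commute.symm ncb,
          kdb.symm, keb.symm, kfb.symm, kgb, kbh.symm, hb.1.2.2.symm, ncd, kce, kcf, kcg, kch, kci, nde, kfd.symm,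
          kgd.symm, mt Commute.symm nhd, kid.symm, mt Commute.symm nfe, kge.symm,
          khe.symm, kie.symm, mt Commute.symm ngf, kfh, kfi, kgh, kgi, mt Commute.symm nih,
          mt Commute.symm nab, (ka hc).symm, (ka md).symm, (ka me).symm, (ka hf).symm, kga.symm,
          (ka mh).symm, (ka mi).symm, ncb, kdb, keb, kfb, kgb.symm, kbh, hb.1.2.2, mt Commute.symm ncd,
          kce.symm, kcf.symm, kcg.symm, kch.symm, kci.symm, mt Commute.symm nde, kfd, kgd, nhd, kid,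
          nfe, kge, khe, kie, ngf, kfh.symm, kfi.symm, kgh.symm, kgi.symm, nih]
    obtain ⟨r1, r2, -⟩ := Y332.relations W.ihyp W.iprim W.type hcfg
    have key : ∀ (w : List ℕ) (n : ℕ), ev (fun x => bar (huz x)) w ^ n = 1 → (∀ x ∈ w, Commute j (u x)) →
        ev u w ^ n = 1 := by
      intro w n e1 hj
      set ul : ℕ → ↥(loc D z) := fun x => ⟨u x, perp_loc (huz x)⟩ with hul
      have e2 : ((ev ul w ^ n : ↥(loc D z)) : G) = ev u w ^ n := by
        rw [SubmonoidClass.coe_pow, ← Subgroup.coe_subtype, map_ev]; rfl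
      have e3 : QuotientGroup.mk' (Subgroup.center ↥(loc D z)) (ev ul w ^ n) = 1 := by
        rw [map_pow, map_ev]; exact e1
      have hj' : Commute j (ev u w ^ n) := Commute.pow_right (Commute.list_prod_right _ _ fun y hy => by
        obtain ⟨x, hx, rfl⟩ := List.mem_map.1 hy
        exact hj x hx) n
      rcases W.zl _ (mk_eq_one.1 e3) with r | r
      · exact e2.symm.trans r
      · rw [e2] at r
        exact absurd (r ▸ hj').symm hzj
    have hju : ∀ x, x ∈ [0, 1, 2, 3, 4, 5, 7, 8] → Commute j (u x) := by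
      intro x hx
      simp at hx
      rcases hx with rfl | rfl | rfl | rfl | rfl | rfl | rfl | rfl
      exacts [haj.2.2, hb.2.2.2.2, hc.2.2.2.2, md.2.2.2.2, me.2.2.2.2, hf.2.2.2.2, mh.2.2.2.2, mi.2.2.2.2]
    exact ⟨key [3, 2, 1, 3, 4, 5, 3, 7, 8] 10 r1 fun x hx => hju x ((by decide : ∀ x ∈ [3, 2, 1, 3, 4, 5, 3, 7, 8],
        x ∈ [0, 1, 2, 3, 4, 5, 7, 8]) x hx),
      key [0, 1, 2, 3, 4, 5, 7] 9 r2 fun x hx => hju x ((by decide : ∀ x ∈ [0, 1, 2, 3, 4, 5, 7],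
        x ∈ [0, 1, 2, 3, 4, 5, 7, 8]) x hx)⟩

end CfsgLib.Spor.Tri.Y342
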