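/-
A group of type M(23) is the presented Fischer group.
-/
import Cfsg.Agent.Lib.Spor.Tri.Y342Config
import Cfsg.Agent.Lib.Spor.Fi23.Final

set_option autoImplicit false

namespace CfsgLib.Spor.Tri.Y342

open CfsgLib.Spor.TC CfsgLib.Spor.Tri CfsgLib.Spor.Tri.Level

variable {G : Type*} [Group G] [Finite G] {D : Set G}

theorem edge_key : ∀ x y : Cfsg.Spor.Fi23.Gen, (x = y ∧ Cfsg.Spor.coxLabel Cfsg.Spor.Fi23.edges x y = 1) ∨
    (edge23 (CfsgLib.Spor.Fi23.num x) (CfsgLib.Spor.Fi23.num y) = false ∧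
      Cfsg.Spor.coxLabel Cfsg.Spor.Fi23.edges x y = 2) ∨
    (edge23 (CfsgLib.Spor.Fi23.num x) (CfsgLib.Spor.Fi23.num y) = true ∧
      Cfsg.Spor.coxLabel Cfsg.Spor.Fi23.edges x y = 3) := by
  intro x y
  cases x <;> cases y <;> decide

/-- **Type M(23) is the presented Fischer group**, the generators going to members of the class. -/
theorem exists_equiv_fi23 (h : Hyp D) (hprim : Cfsg.IsPrimitiveUnderConj D) (h23 : Cfsg.IsOfTypeM23 G D) :
    ∃ e : Cfsg.Spor.Fi23 ≃* G, ∀ x : Cfsg.Spor.Fi23.Gen, e (PresentedGroup.of x) ∈ D := by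
  classical
  obtain ⟨T, hC⟩ := exists_config h hprim h23
  obtain ⟨r1, r2⟩ := hC.rel
  have hlt : ∀ x, CfsgLib.Spor.Fi23.num x < 10 := CfsgLib.Spor.Fi23.coxData.num_lt
  let img : Cfsg.Spor.Fi23.Gen → G := fun x => T (CfsgLib.Spor.Fi23.num x)
  have hrel : ∀ r ∈ Cfsg.Spor.coxRelators Cfsg.Spor.Fi23.edges ∪ {r | r ∈ Cfsg.Spor.Fi23.extra},
      FreeGroup.lift img r = 1 := by
    rintro r (⟨x, -, y, -, rfl⟩ | hr)
    · rw [map_pow, map_mul, FreeGroup.lift_apply_of, FreeGroup.lift_apply_of]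
      rcases edge_key x y with ⟨rfl, e⟩ | ⟨e1, e⟩ | ⟨e1, e⟩ <;> rw [e]
      · rw [pow_one]; exact h.mul_self (hC.mem _)
      · exact (h.commute_iff_sq (hC.mem _) (hC.mem _)).1 ((hC.comm _ _ (hlt x) (hlt y)).2 e1)
      · exact (h.set.2 _ (hC.mem _) _ (hC.mem _)).resolve_left fun q => by
          have := (hC.comm _ _ (hlt x) (hlt y)).1 ((h.commute_iff_sq (hC.mem _) (hC.mem _)).2 q)
          rw [e1] at this
          exact Bool.noConfusion this
    · simp only [Cfsg.Spor.Fi23.extra, Set.mem_setOf_eq, List.mem_cons, List.not_mem_nil, or_false] at hr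
      simp only [ev, List.map_cons, List.map_nil, List.prod_cons, List.prod_nil, mul_one] at r1 r2
      rcases hr with rfl | rfl <;>
        simp only [map_pow, map_mul, FreeGroup.lift_apply_of, img, CfsgLib.Spor.Fi23.num, mul_assoc]
      exacts [r1, r2]
  set φ := PresentedGroup.toGroup hrel
  obtain ⟨hsimp, hcard⟩ := CfsgLib.Spor.Fi23.isFi23
  haveI : Finite Cfsg.Spor.Fi23 := Nat.finite_of_card_ne_zero (by rw [hcard]; norm_num)
  have hinj : Function.Injective φ := by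
    rw [← MonoidHom.ker_eq_bot_iff]
    refine (hsimp.eq_bot_or_eq_top_of_normal φ.ker inferInstance).resolve_right fun e => ?_
    have hm : (PresentedGroup.of Cfsg.Spor.Fi23.Gen.a : Cfsg.Spor.Fi23) ∈ φ.ker := e ▸ Subgroup.mem_top _
    rw [MonoidHom.mem_ker] at hm
    have h1 : img Cfsg.Spor.Fi23.Gen.a = 1 := by
      rw [← hm]; exact (PresentedGroup.toGroup.of hrel).symm
    exact h.ne_one (hC.mem _) h1
  have hbij : Function.Bijective φ := (Nat.bijective_iff_injective_and_card φ).2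
    ⟨hinj, by rw [hcard, (card23 h hprim h23).1]⟩
  refine ⟨MulEquiv.ofBijective φ hbij, fun x => ?_⟩
  show φ (PresentedGroup.of x) ∈ D
  rw [PresentedGroup.toGroup.of]
  exact hC.mem _

/-- A type M(23) group with its class is the presented group with the class of its first generator. -/
theorem exists_equiv_fi23_class (h : Hyp D) (hprim : Cfsg.IsPrimitiveUnderConj D) (h23 : Cfsg.IsOfTypeM23 G D) :
    ∃ e : G ≃* Cfsg.Spor.Fi23, e '' D = conjugatesOf (PresentedGroup.of Cfsg.Spor.Fi23.Gen.a : Cfsg.Spor.Fi23) := by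
  obtain ⟨e, he⟩ := exists_equiv_fi23 h hprim h23
  have ha := he Cfsg.Spor.Fi23.Gen.a
  refine ⟨e.symm, Set.ext fun y => ?_⟩
  rw [conjugatesOf, Set.mem_setOf_eq, isConj_iff]
  constructor
  · rintro ⟨x, hx, rfl⟩
    obtain ⟨g, hg⟩ := h.transitive _ ha x hx
    exact ⟨e.symm g, by rw [← hg, map_mul, map_mul, map_inv, e.symm_apply_apply]⟩
  · rintro ⟨c, rfl⟩
    exact ⟨e c * e (PresentedGroup.of Cfsg.Spor.Fi23.Gen.a) * (e c)⁻¹, h.conj _ _ ha, by
      rw [← map_mul, ← map_inv, ← map_mul, e.symm_apply_apply]⟩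

/-- Two groups of type M(23) correspond with their classes. -/
theorem exists_equiv_classes {G' : Type*} [Group G'] [Finite G'] {D' : Set G'} (h : Hyp D)
    (hprim : Cfsg.IsPrimitiveUnderConj D) (h23 : Cfsg.IsOfTypeM23 G D) (h' : Hyp D')
    (hprim' : Cfsg.IsPrimitiveUnderConj D') (h23' : Cfsg.IsOfTypeM23 G' D') : ∃ e : G ≃* G', e '' D = D' := by
  obtain ⟨e₁, he₁⟩ := exists_equiv_fi23_class h hprim h23
  obtain ⟨e₂, he₂⟩ := exists_equiv_fi23_class h' hprim' h23'
  refine ⟨e₁.trans e₂.symm, ?_⟩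
  rw [MulEquiv.coe_trans, Set.image_comp, he₁, ← he₂, Set.image_image]
  simp

end CfsgLib.Spor.Tri.Y342
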