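/-
Five commuting members in type M(24) determine eight with product one.
-/
import Cfsg.Agent.Lib.Spor.Tri.LevelFour

namespace CfsgLib.Spor.Tri.Level

open CfsgLib.Spor.Tri CfsgLib.Spor.Tri.Relations

variable {G : Type*} [Group G] [Finite G] {D : Set G}

/-- What a commuting triple `a b c` and two members `e g` commuting with it give. -/
def FiveData (D : Set G) (a b c e g : G) : Prop :=
  (∃ l : List G, l.Nodup ∧ l.length = 8 ∧ a ∈ l ∧ b ∈ l ∧ c ∈ l ∧ e ∈ l ∧ g ∈ l ∧ (∀ x ∈ l, x ∈ D) ∧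
    l.prod = 1 ∧ ∀ w ∈ D, Commute w a → Commute w b → Commute w c → Commute w e → Commute w g →
      ∀ x ∈ l, Commute w x) ∧
  (perp D a ∩ perp D b ∩ perp D c ∩ (perp D e ∩ perp D g)).ncard = 51

/-- Five data at a witness triple. -/
theorem five_witness (h : Hyp D) {d f₁ f₂ : G} (W : Loc24 D d) (hf₁ : f₁ ∈ perp D d)
    (W₁ : Loc23 (img D d) (bar hf₁)) (hf₂ : f₂ ∈ perp D d) (m₂ : bar hf₂ ∈ perp (img D d) (bar hf₁))
    (W₂ : Loc22 (img (img D d) (bar hf₁)) (bar m₂)) {e g : G}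
    (he : e ∈ perp D d ∩ perp D f₁ ∩ perp D f₂) (hg : g ∈ perp D d ∩ perp D f₁ ∩ perp D f₂)
    (hne : e ≠ g) (heg : Commute e g) : FiveData D d f₁ f₂ e g := by
  classical
  set Y := perp D d ∩ perp D f₁ ∩ perp D f₂ with hY
  have m1 : ∀ {p}, (hp : p ∈ Y) → bar hp.1.1 ∈ perp (img D d) (bar hf₁) := fun hp =>
    (bar_perp h W.nc hp.1.1 hf₁).2 hp.1.2
  have m3 : ∀ {p}, (hp : p ∈ Y) → bar (m1 hp) ∈ perp (img (img D d) (bar hf₁)) (bar m₂) := fun hp =>
    (bar_perp W.ihyp W₁.nc (m1 hp) m₂).2 ((bar_perp h W.nc hp.1.1 hf₂).2 hp.2)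
  let β : ↥Y → ↥(img (img (img D d) (bar hf₁)) (bar m₂)) := fun p => ⟨bar (m3 p.2), bar_mem _⟩
  have hinj : ∀ p q : ↥Y, β p = β q → p = q := fun p q r =>
    Subtype.ext ((bar_inj h W.nc p.2.1.1 q.2.1.1).1 ((bar_inj W.ihyp W₁.nc (m1 p.2) (m1 q.2)).1
      ((bar_inj W₁.ihyp W₂.nc (m3 p.2) (m3 q.2)).1 (congrArg Subtype.val r))))
  have hsur : ∀ q, ∃ p, β p = q := by
    rintro ⟨q, hq⟩
    obtain ⟨q₁, hq₁, rfl⟩ := exists_bar hq
    obtain ⟨q₂, hq₂, rfl⟩ := exists_bar hq₁.1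
    obtain ⟨p, hp, rfl⟩ := exists_bar hq₂.1
    exact ⟨⟨p, ⟨hp, (bar_perp h W.nc hp hf₁).1 hq₂⟩,
      (bar_perp h W.nc hp hf₂).1 ((bar_perp W.ihyp W₁.nc hq₂ m₂).1 hq₁)⟩, rfl⟩
  have hcom : ∀ p q : ↥Y, Commute (β p).1 (β q).1 ↔ Commute (p : G) q := fun p q =>
    ((bar_commute W₁.ihyp (m3 p.2) (m3 q.2)).trans (bar_commute W.ihyp (m1 p.2) (m1 q.2))).trans
      (bar_commute h p.2.1.1 q.2.1.1)
  have hnz : ∀ p, (β p).1 ∈ nz (img (img (img D d) (bar hf₁)) (bar m₂)) := fun p => by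
    rw [img_nz W₁.ihyp W₂.nc]; exact (β p).2
  refine ⟨?_, ?_⟩
  · obtain ⟨l, hlnd, hlen, hmem, hcomm, hprod, hiff⟩ := W₂.lines _ (hnz ⟨e, he⟩) _ (hnz ⟨g, hg⟩)
      (fun r => hne (congrArg Subtype.val (hinj _ _ (Subtype.ext r)))) ((hcom ⟨e, he⟩ ⟨g, hg⟩).2 heg)
    obtain ⟨M, hM⟩ : ∃ M : List ↥Y, M.map (fun p => (β p).1) = l := by
      clear hlnd hlen hcomm hprod hiff
      induction l with
      | nil => exact ⟨[], rfl⟩
      | cons x r ih =>
        obtain ⟨M, hM⟩ := ih fun y hy => hmem y (List.mem_cons_of_mem x hy)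
        obtain ⟨p, hp⟩ := hsur ⟨x, (hmem x List.mem_cons_self).1⟩
        exact ⟨p :: M, by rw [List.map_cons, hM, hp]⟩
    have hMlen : M.length = 5 := by rw [← hlen, ← hM, List.length_map]
    have hin : ∀ p : ↥Y, (β p).1 ∈ l → (p : G) ∈ M.map Subtype.val := fun p hp => by
      obtain ⟨q, hq, r⟩ := List.mem_map.1 (hM ▸ hp)
      rw [← hinj q p (Subtype.ext r)]; exact List.mem_map_of_mem hq
    have hev := hin ⟨e, he⟩ ((hiff _ (hnz _)).2 fun _ _ r _ => r)
    have hgv := hin ⟨g, hg⟩ ((hiff _ (hnz _)).2 fun _ _ _ r => r)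
    have hMn : (M.map Subtype.val).Nodup := (List.Nodup.of_map _ (hM ▸ hlnd)).map Subtype.val_injective
    set three := [d, f₁, f₂] with hthree
    have hf12 := (bar_perp h W.nc hf₂ hf₁).1 m₂
    have h3 : ∀ x ∈ three, x ∈ D ∧ ∀ p : ↥Y, (p : G) ≠ x ∧ Commute x p := by
      intro x hx
      simp [three] at hx
      rcases hx with rfl | rfl | rfl
      · exact ⟨W.mem, fun p => ⟨p.2.1.1.2.1, p.2.1.1.2.2⟩⟩
      · exact ⟨hf₁.1, fun p => ⟨p.2.1.2.2.1, p.2.1.2.2.2⟩⟩
      · exact ⟨hf₂.1, fun p => ⟨p.2.2.2.1, p.2.2.2.2⟩⟩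
    have h3c : ∀ x ∈ three, ∀ y ∈ three, Commute x y := by
      simp [three, hf₁.2.2, hf₁.2.2.symm, hf₂.2.2, hf₂.2.2.symm, hf12.2.2, hf12.2.2.symm]
    have hall : Tuple D (three ++ M.map Subtype.val) := by
      refine ⟨List.nodup_append.2 ⟨by simp [three, hf₁.2.1.symm, hf₂.2.1.symm, hf12.2.1.symm], hMn,
        fun x hx y hy r => ?_⟩, fun x hx => ?_, fun x hx y hy => ?_⟩
      · obtain ⟨p, -, rfl⟩ := List.mem_map.1 hy
        exact ((h3 x hx).2 p).1 r.symm
      · have hxD : x ∈ D := (List.mem_append.1 hx).elim (fun r => (h3 x r).1) fun r => by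
          obtain ⟨p, -, rfl⟩ := List.mem_map.1 r; exact p.2.1.1.1
        exact ⟨hxD, h.ne_one hxD⟩
      · rcases List.mem_append.1 hx with hx | hx <;> rcases List.mem_append.1 hy with hy | hy
        · exact h3c x hx y hy
        · obtain ⟨p, -, rfl⟩ := List.mem_map.1 hy; exact ((h3 x hx).2 p).2
        · obtain ⟨p, -, rfl⟩ := List.mem_map.1 hx; exact ((h3 y hy).2 p).2.symm
        · obtain ⟨p, hp, rfl⟩ := List.mem_map.1 hx
          obtain ⟨q, hq, rfl⟩ := List.mem_map.1 hy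
          exact (hcom p q).1 (hcomm _ (hM ▸ List.mem_map_of_mem hp) _ (hM ▸ List.mem_map_of_mem hq))
    -- the product comes down to the span of the triple
    have hspan : ∃ s : List G, s.Sublist three ∧ (M.map Subtype.val).prod = s.prod := by
      set mk1 := QuotientGroup.mk' (Subgroup.center ↥(loc D d))
      set mk2 := QuotientGroup.mk' (Subgroup.center ↥(loc (img D d) (bar hf₁)))
      set L1 : List ↥(loc D d) := M.map fun (p : ↥Y) => ⟨(p : G), perp_loc p.2.1.1⟩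
      set L2 : List ↥(loc (img D d) (bar hf₁)) := M.map fun p => ⟨bar p.2.1.1, perp_loc (m1 p.2)⟩
      set L3 : List ↥(loc (img (img D d) (bar hf₁)) (bar m₂)) := M.map fun p => ⟨bar (m1 p.2), perp_loc (m3 p.2)⟩
      have e0 : (L1.prod : G) = (M.map Subtype.val).prod := by
        rw [show ((L1.prod : ↥(loc D d)) : G) = (Subgroup.subtype _) L1.prod from rfl, map_list_prod, List.map_map]; rfl
      have e1 : (L2.prod : ↥(loc D d) ⧸ Subgroup.center ↥(loc D d)) = mk1 L1.prod := by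
        rw [show ((L2.prod : ↥(loc (img D d) (bar hf₁))) : ↥(loc D d) ⧸ Subgroup.center ↥(loc D d)) =
          (Subgroup.subtype _) L2.prod from rfl, map_list_prod, map_list_prod, List.map_map, List.map_map]; rfl
      have e2 : (L3.prod : ↥(loc (img D d) (bar hf₁)) ⧸ Subgroup.center ↥(loc (img D d) (bar hf₁))) = mk2 L2.prod := by
        rw [show ((L3.prod : ↥(loc (img (img D d) (bar hf₁)) (bar m₂))) :
            ↥(loc (img D d) (bar hf₁)) ⧸ Subgroup.center ↥(loc (img D d) (bar hf₁))) =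
          (Subgroup.subtype _) L3.prod from rfl, map_list_prod, map_list_prod, List.map_map, List.map_map]; rfl
      have hz : L3.prod ∈ Subgroup.center _ := by
        apply mk_eq_one.1
        show QuotientGroup.mk' _ L3.prod = 1
        rw [map_list_prod, List.map_map]
        exact (congrArg List.prod hM).trans hprod
      -- two levels up
      have z2 : mk2 L2.prod = 1 ∨ mk2 L2.prod = bar m₂ := e2 ▸ W₂.zl _ hz
      have z1 : mk1 L1.prod = 1 ∨ mk1 L1.prod = bar hf₁ ∨ mk1 L1.prod = bar hf₂ ∨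
          mk1 L1.prod = bar hf₁ * bar hf₂ := by
        rcases z2 with r | r
        · exact (e1 ▸ W₁.zl _ ((QuotientGroup.eq_one_iff _).1 r)).elim Or.inl fun q => Or.inr (Or.inl q)
        · have r2 : mk2 (L2.prod * ⟨bar hf₂, perp_loc m₂⟩) = 1 := by
            rw [map_mul, r]; exact W₁.ihyp.mul_self W₂.mem
          have hv : ((L2.prod * ⟨bar hf₂, perp_loc m₂⟩ : ↥(loc (img D d) (bar hf₁))) :
              ↥(loc D d) ⧸ Subgroup.center ↥(loc D d)) = mk1 L1.prod * bar hf₂ := by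
            rw [Subgroup.coe_mul, e1]
          have hsq : bar hf₂ * bar hf₂ = 1 := W.ihyp.mul_self m₂.1
          rcases hv ▸ W₁.zl _ ((QuotientGroup.eq_one_iff _).1 r2) with q | q
          · exact Or.inr (Or.inr (Or.inl (by rw [← mul_one (mk1 L1.prod), ← hsq, ← mul_assoc, q, one_mul])))
          · exact Or.inr (Or.inr (Or.inr (by rw [← mul_one (mk1 L1.prod), ← hsq, ← mul_assoc, q])))
      have top : ∀ (u : ↥(loc D d)) (U : G), (u : G) = U → U * U = 1 → mk1 L1.prod = mk1 u →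
          (M.map Subtype.val).prod = U ∨ (M.map Subtype.val).prod = d * U := by
        intro u U hu hUU hr
        have r1 : mk1 (L1.prod * u) = 1 := by
          rw [map_mul, hr, ← map_mul, show u * u = 1 from Subtype.ext (by rw [Subgroup.coe_mul, hu, hUU]; rfl),
            map_one]
        have hv := W.zl _ ((QuotientGroup.eq_one_iff _).1 r1)
        rw [Subgroup.coe_mul, e0, hu] at hv
        rcases hv with q | q
        · exact Or.inl (by rw [← mul_one ((M.map Subtype.val).prod), ← hUU, ← mul_assoc, q, one_mul])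
        · exact Or.inr (by rw [← mul_one ((M.map Subtype.val).prod), ← hUU, ← mul_assoc, q])
      have hpp : f₁ * f₂ * (f₁ * f₂) = 1 := by
        have := prod_mul_self [f₁, f₂] (fun x hx => h.mul_self (h3 x (List.mem_cons_of_mem d hx)).1)
          fun x hx y hy => h3c x (List.mem_cons_of_mem d hx) y (List.mem_cons_of_mem d hy)
        simpa using this
      rcases z1 with r | r | r | r
      · rcases top 1 1 rfl (mul_one 1) (by rw [r, map_one]) with q | q
        · exact ⟨[], List.nil_sublist _, q⟩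
        · exact ⟨[d], by simp [three], by simpa using q⟩
      · rcases top ⟨f₁, perp_loc hf₁⟩ f₁ rfl (h.mul_self hf₁.1) r with q | q
        · exact ⟨[f₁], by simp [three], by simpa using q⟩
        · exact ⟨[d, f₁], by simp [three], by simpa using q⟩
      · rcases top ⟨f₂, perp_loc hf₂⟩ f₂ rfl (h.mul_self hf₂.1) r with q | q
        · exact ⟨[f₂], by simp [three], by simpa using q⟩
        · exact ⟨[d, f₂], by simp [three], by simpa using q⟩
      · rcases top (⟨f₁, perp_loc hf₁⟩ * ⟨f₂, perp_loc hf₂⟩) (f₁ * f₂) rfl hpp (by rw [r, map_mul]; rfl) with q | q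
        · exact ⟨[f₁, f₂], by simp [three], by simpa using q⟩
        · exact ⟨three, List.Sublist.refl _, by simpa [three] using q⟩
    obtain ⟨s, hs, hsp⟩ := hspan
    have hT : Tuple D (s ++ M.map Subtype.val) := by
      have hsub := hs.append (List.Sublist.refl (M.map Subtype.val))
      exact ⟨hall.1.sublist hsub, fun x hx => hall.2.1 x (hsub.subset hx),
        fun x hx y hy => hall.2.2 x (hsub.subset hx) y (hsub.subset hy)⟩
    have hone : (s ++ M.map Subtype.val).prod = 1 := by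
      rw [List.prod_append, hsp]
      exact prod_mul_self s (fun x hx => h.mul_self (h3 x (hs.subset hx)).1)
        fun x hx y hy => h3c x (hs.subset hx) y (hs.subset hy)
    have hs3 : s = three := by
      refine hs.eq_of_length_le (Nat.le_of_not_lt fun hlt => ?_)
      refine W.good.norel _ (List.append_ne_nil_of_right_ne_nil _ (List.ne_nil_of_length_pos (by rw [List.length_map]; omega))) hT.1 ?_ hT.2.1 hT.2.2 hone
      simp [three] at hlt
      simp [hMlen]; omega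
    subst hs3
    refine ⟨three ++ M.map Subtype.val, hT.1, by simp [three, hMlen], by simp [three], by simp [three],
      by simp [three], List.mem_append_right _ hev, List.mem_append_right _ hgv, fun x hx => (hT.2.1 x hx).1, hone,
      fun w hw wd w1 w2 we wg x hx => ?_⟩
    rcases List.mem_append.1 hx with hx | hx
    · simp [three] at hx
      rcases hx with rfl | rfl | rfl <;> assumption
    · by_cases hwt : w ∈ three
      · obtain ⟨p, -, rfl⟩ := List.mem_map.1 hx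
        exact ((h3 w hwt).2 p).2
      · simp [three] at hwt
        obtain ⟨p, hp, rfl⟩ := List.mem_map.1 hx
        set q : ↥Y := ⟨w, ⟨⟨hw, hwt.1, wd.symm⟩, hw, hwt.2.1, w1.symm⟩, hw, hwt.2.2, w2.symm⟩ with hq
        refine (hcom q p).1 ?_
        exact ((hiff _ (hnz p)).1 (hM ▸ List.mem_map_of_mem hp)) _ (hnz q)
          ((hcom q ⟨e, he⟩).2 we) ((hcom q ⟨g, hg⟩).2 wg)
  · rw [← W₂.lev.lam _ (β ⟨e, he⟩).2 _ ⟨(β ⟨g, hg⟩).2,
      fun r => hne (congrArg Subtype.val (hinj _ _ (Subtype.ext r))).symm, (hcom ⟨e, he⟩ ⟨g, hg⟩).2 heg⟩]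
    rw [← Nat.card_coe_set_eq, ← Nat.card_coe_set_eq]
    refine Nat.card_congr (Equiv.ofBijective (fun p : ↥(Y ∩ (perp D e ∩ perp D g)) =>
      (⟨(β ⟨p.1, p.2.1⟩).1, ?_, ?_⟩ : ↥(perp _ (β ⟨e, he⟩).1 ∩ perp _ (β ⟨g, hg⟩).1))) ⟨?_, ?_⟩)
    · exact ⟨(β ⟨p.1, p.2.1⟩).2, fun r => p.2.2.1.2.1 (congrArg Subtype.val (hinj _ _ (Subtype.ext r))),
        (hcom ⟨e, he⟩ ⟨p.1, p.2.1⟩).2 p.2.2.1.2.2⟩
    · exact ⟨(β ⟨p.1, p.2.1⟩).2, fun r => p.2.2.2.2.1 (congrArg Subtype.val (hinj _ _ (Subtype.ext r))),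
        (hcom ⟨g, hg⟩ ⟨p.1, p.2.1⟩).2 p.2.2.2.2.2⟩
    · intro p q r
      have r' := congrArg Subtype.val r
      exact Subtype.ext (congrArg Subtype.val (hinj ⟨p.1, p.2.1⟩ ⟨q.1, q.2.1⟩ (Subtype.ext r')) :)
    · rintro ⟨x, hx1, hx2⟩
      obtain ⟨p, hp⟩ := hsur ⟨x, hx1.1⟩
      have hpx : (β p).1 = x := congrArg Subtype.val hp
      refine ⟨⟨p.1, p.2, ⟨p.2.1.1.1, fun r => hx1.2.1 ?_, (hcom ⟨e, he⟩ p).1 (hpx ▸ hx1.2.2)⟩,
        ⟨p.2.1.1.1, fun r => hx2.2.1 ?_, (hcom ⟨g, hg⟩ p).1 (hpx ▸ hx2.2.2)⟩⟩, Subtype.ext hpx⟩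
      · rw [← hpx, show p = ⟨e, he⟩ from Subtype.ext r]
      · rw [← hpx, show p = ⟨g, hg⟩ from Subtype.ext r]

/-- What the parity argument uses about type M(24). -/
structure Data24 (D : Set G) : Prop where
  hyp : Hyp D
  good : Good 7 D
  decomp : Decomp 4 D
  lev : Lev D 306936 31671 3510 3240
  width : WidthIs D 24
  triple : ∀ a b c : G, Tuple D [a, b, c] → (perp D a ∩ perp D b ∩ perp D c).ncard = 693
  five : ∀ a b c e g : G, Tuple D [a, b, c, e, g] → FiveData D a b c e g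
  pair : ∃ d f : G, d ∈ D ∧ f ∈ perp D d ∧ ∀ B : Finset G, d ∈ B → f ∈ B → (∀ b ∈ B, b ∈ D) →
    (∀ b ∈ B, ∀ c ∈ B, Commute b c) → B.card = 24 → (∀ x ∈ D, (∀ b ∈ B, Commute x b) → x ∈ B) →
      ∀ w ∈ D, w ∉ B → ∀ C ⊆ B, d ∈ C → f ∈ C → (∀ c ∈ C, Commute w c) → C.card ≤ 8

theorem data24 (h : Hyp D) (hprim : Cfsg.IsPrimitiveUnderConj D) (h24 : Cfsg.IsOfTypeM24 G D) : Data24 D := by
  classical
  obtain ⟨L, -⟩ := lev24 h hprim h24
  obtain ⟨d, W⟩ := local24 h hprim h24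
  obtain ⟨E₁, W₁⟩ := local23 W.ihyp W.iprim W.type
  obtain ⟨f₁, hf₁, rfl⟩ := exists_bar W₁.mem
  obtain ⟨L₁, -⟩ := lev23 W.ihyp W.iprim W.type
  obtain ⟨E₂, W₂⟩ := local22 W₁.ihyp W₁.iprim W₁.type
  obtain ⟨E', m₂, rfl⟩ := exists_bar W₂.mem
  obtain ⟨f₂, hf₂, rfl⟩ := exists_bar m₂.1
  have hf12 := (bar_perp h W.nc hf₂ hf₁).1 m₂
  have t3 := (tuples24 h W).2.2.1
  have hw3 : Tuple D [d, f₁, f₂] := ⟨by simp [hf₁.2.1.symm, hf₂.2.1.symm, hf12.2.1.symm],
    by simp [nz, W.mem, hf₁.1, hf₂.1, h.ne_one W.mem, h.ne_one hf₁.1, h.ne_one hf₂.1],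
    by simp [hf₁.2.2, hf₁.2.2.symm, hf₂.2.2, hf₂.2.2.symm, hf12.2.2, hf12.2.2.symm]⟩
  have hinter : ∀ u a b c : G, perp D (u * a * u⁻¹) ∩ perp D (u * b * u⁻¹) ∩ perp D (u * c * u⁻¹) =
      (fun x => u * x * u⁻¹) '' (perp D a ∩ perp D b ∩ perp D c) := fun u a b c => by
    rw [image_inter_conj h, perp_conj h, ← Set.image_inter (fun x y e => by simpa using e)]
  refine ⟨h, W.good, decomp24 h hprim h24, L, (card24 h hprim h24).2, ?_, ?_, d, f₁, W.mem, hf₁, ?_⟩
  · intro a b c ht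
    obtain ⟨u, hu⟩ := t3 [d, f₁, f₂] [a, b, c] rfl rfl hw3 ht
    simp at hu
    obtain ⟨rfl, rfl, rfl⟩ := hu
    rw [hinter, Set.ncard_image_of_injective _ (fun x y e => by simpa using e), Set.inter_assoc,
      ← ncard_img_inter h W.nc hf₁ hf₂]
    exact L₁.lam _ (bar_mem hf₁) _ m₂
  · intro a b c e g ht
    obtain ⟨hnd, hmem, hcomm⟩ := ht
    have h3 : Tuple D [a, b, c] := by
      have hs : [a, b, c].Sublist [a, b, c, e, g] := by simp
      exact ⟨hnd.sublist hs, fun x hx => hmem x (hs.subset hx), fun x hx y hy => hcomm x (hs.subset hx) y (hs.subset hy)⟩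
    obtain ⟨u, hu⟩ := t3 [d, f₁, f₂] [a, b, c] rfl rfl hw3 h3
    simp at hu
    obtain ⟨rfl, rfl, rfl⟩ := hu
    obtain ⟨e', rfl⟩ : ∃ e', u * e' * u⁻¹ = e := ⟨u⁻¹ * e * u, by group⟩
    obtain ⟨g', rfl⟩ : ∃ g', u * g' * u⁻¹ = g := ⟨u⁻¹ * g * u, by group⟩
    have back : ∀ {x : G}, u * x * u⁻¹ ∈ D → x ∈ D := fun {x} hx => by
      have := h.conj u⁻¹ _ hx
      rwa [show u⁻¹ * (u * x * u⁻¹) * u⁻¹⁻¹ = x by group] at this
    simp at hnd
    have cc : ∀ x ∈ [u * d * u⁻¹, u * f₁ * u⁻¹, u * f₂ * u⁻¹, u * e' * u⁻¹, u * g' * u⁻¹],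
        ∀ y ∈ [u * d * u⁻¹, u * f₁ * u⁻¹, u * f₂ * u⁻¹, u * e' * u⁻¹, u * g' * u⁻¹], Commute x y := hcomm
    have mk : ∀ {p q : G}, Commute (u * p * u⁻¹) (u * q * u⁻¹) → Commute p q := fun r => (Commute.conj_iff u).1 r
    have he' := back (hmem _ (by simp : u * e' * u⁻¹ ∈ _)).1
    have hg' := back (hmem _ (by simp : u * g' * u⁻¹ ∈ _)).1
    obtain ⟨⟨l, l1, l2, la, lb, lc, le, lg, lD, lp, lw⟩, hc⟩ := five_witness h W hf₁ W₁ hf₂ m₂ W₂
      (e := e') (g := g')
      ⟨⟨⟨he', fun r => by simp [r] at hnd, mk (cc _ (by simp) _ (by simp))⟩,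
        he', fun r => by simp [r] at hnd, mk (cc _ (by simp) _ (by simp))⟩,
        he', fun r => by simp [r] at hnd, mk (cc _ (by simp) _ (by simp))⟩
      ⟨⟨⟨hg', fun r => by simp [r] at hnd, mk (cc _ (by simp) _ (by simp))⟩,
        hg', fun r => by simp [r] at hnd, mk (cc _ (by simp) _ (by simp))⟩,
        hg', fun r => by simp [r] at hnd, mk (cc _ (by simp) _ (by simp))⟩
      (fun r => by simp [r] at hnd) (mk (cc _ (by simp) _ (by simp)))
    refine ⟨⟨l.map fun x => u * x * u⁻¹, l1.map fun x y r => by simpa using r, by simpa using l2,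
      List.mem_map_of_mem la, List.mem_map_of_mem lb, List.mem_map_of_mem lc, List.mem_map_of_mem le,
      List.mem_map_of_mem lg, ?_, ?_, ?_⟩, ?_⟩
    · intro x hx
      obtain ⟨y, hy, rfl⟩ := List.mem_map.1 hx
      exact h.conj u y (lD y hy)
    · rw [show (l.map fun x => u * x * u⁻¹).prod = u * l.prod * u⁻¹ from
        (map_list_prod (MulAut.conj u).toMonoidHom l).symm, lp]
      group
    · intro w hw wa wb wc we wg x hx
      obtain ⟨y, hy, rfl⟩ := List.mem_map.1 hx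
      obtain ⟨w', rfl⟩ : ∃ w', u * w' * u⁻¹ = w := ⟨u⁻¹ * w * u, by group⟩
      exact (Commute.conj_iff u).2 (lw w' (back hw) (mk wa) (mk wb) (mk wc) (mk we) (mk wg) y hy)
    · rw [hinter, image_inter_conj h, ← Set.image_inter (fun x y e => by simpa using e),
        Set.ncard_image_of_injective _ (fun x y e => by simpa using e)]
      exact hc
  · -- at most eight of a base commute with an outside member
    intro B hdB hfB hsub hcB hcard hmax w hw hwB C hCB hdC hfC hwC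
    set B' := (B.erase d).erase f₁ with hB'
    have hper : ∀ x : ↥B', ∃ hx : (x : G) ∈ perp D d, bar hx ∈ perp (img D d) (bar hf₁) := by
      rintro ⟨x, hx⟩
      obtain ⟨hx1, hx'⟩ := Finset.mem_erase.1 hx
      obtain ⟨hx2, hx3⟩ := Finset.mem_erase.1 hx'
      have hd' : x ∈ perp D d := ⟨hsub x hx3, hx2, hcB d hdB x hx3⟩
      exact ⟨hd', (bar_perp h W.nc hd' hf₁).2 ⟨hsub x hx3, hx1, hcB f₁ hfB x hx3⟩⟩
    let ι : ↥B' ↪ _ := ⟨fun x => bar (hper x).2, fun x y r => Subtype.ext ((bar_inj h W.nc _ _).1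
      ((bar_inj W.ihyp W₁.nc _ _).1 r))⟩
    set B₂ := B'.attach.map ι with hB₂
    have hcB' : B'.card = 22 := by
      rw [hB', Finset.card_erase_of_mem (Finset.mem_erase.2 ⟨hf₁.2.1, hfB⟩), Finset.card_erase_of_mem hdB, hcard]
    have hBase : InvolFixed.Base (img (img D d) (bar hf₁)) B₂ := by
      refine ⟨?_, ?_, by rw [hB₂, Finset.card_map, Finset.card_attach, hcB'], ?_⟩
      · intro q hq
        obtain ⟨x, -, rfl⟩ := Finset.mem_map.1 hq
        exact bar_mem (hper x).2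
      · intro q hq q' hq'
        obtain ⟨x, -, rfl⟩ := Finset.mem_map.1 hq
        obtain ⟨y, -, rfl⟩ := Finset.mem_map.1 hq'
        exact (bar_commute W.ihyp (hper x).2 (hper y).2).2 ((bar_commute h (hper x).1 (hper y).1).2 (hcB x (Finset.mem_of_mem_erase
          (Finset.mem_of_mem_erase x.2)) y (Finset.mem_of_mem_erase (Finset.mem_of_mem_erase y.2))))
      · intro q hq hqc
        obtain ⟨Q, hQ, rfl⟩ := exists_bar hq
        obtain ⟨z, hz, rfl⟩ := exists_bar hQ.1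
        have hzf := (bar_perp h W.nc hz hf₁).1 hQ
        have hzB : z ∈ B := hmax z hz.1 fun b hb => by
          by_cases h1 : b = d
          · rw [h1]; exact hz.2.2.symm
          by_cases h2 : b = f₁
          · rw [h2]; exact hzf.2.2.symm
          have hb' : b ∈ B' := Finset.mem_erase.2 ⟨h2, Finset.mem_erase.2 ⟨h1, hb⟩⟩
          exact (bar_commute h hz (hper ⟨b, hb'⟩).1).1 ((bar_commute W.ihyp hQ (hper ⟨b, hb'⟩).2).1
            (hqc (ι ⟨b, hb'⟩) (Finset.mem_map.2 ⟨⟨b, hb'⟩, Finset.mem_attach _ _, rfl⟩)))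
        exact Finset.mem_map.2 ⟨⟨z, Finset.mem_erase.2 ⟨hzf.2.1, Finset.mem_erase.2 ⟨hz.2.1, hzB⟩⟩⟩,
          Finset.mem_attach _ _, rfl⟩
    have hwd : w ∈ perp D d := ⟨hw, fun r => hwB (r ▸ hdB), (hwC d hdC).symm⟩
    have hwf : bar hwd ∈ perp (img D d) (bar hf₁) :=
      (bar_perp h W.nc hwd hf₁).2 ⟨hw, fun r => hwB (r ▸ hfB), (hwC f₁ hfC).symm⟩
    have h6 := InvolFixed.le_six W₁.ihyp W₂.six hBase (w := bar hwf) (bar_mem _) (fun r => by
        obtain ⟨x, -, rx⟩ := Finset.mem_map.1 r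
        refine hwB ?_
        rw [← (bar_inj h W.nc (hper x).1 hwd).1 ((bar_inj W.ihyp W₁.nc (hper x).2 hwf).1 rx)]
        exact Finset.mem_of_mem_erase (Finset.mem_of_mem_erase x.2))
      (C := (B'.attach.filter fun x : ↥B' => (x : G) ∈ C).map ι)
      (Finset.map_subset_map.2 (Finset.filter_subset _ _)) (by
        intro q hq
        obtain ⟨x, hx, rfl⟩ := Finset.mem_map.1 hq
        exact (bar_commute W.ihyp hwf (hper x).2).2 ((bar_commute h hwd (hper x).1).2 (hwC x (Finset.mem_filter.1 hx).2)))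
    rw [Finset.card_map] at h6
    have e : ((B'.attach.filter fun x : ↥B' => (x : G) ∈ C).map (Function.Embedding.subtype (· ∈ B'))) =
        (C.erase d).erase f₁ := by
      ext x
      constructor
      · intro hx
        obtain ⟨y, hy, rfl⟩ := Finset.mem_map.1 hx
        have hy2 := y.2
        simp only [hB', Finset.mem_erase] at hy2
        simp only [Finset.mem_erase]
        exact ⟨hy2.1, hy2.2.1, (Finset.mem_filter.1 hy).2⟩
      · intro hx
        simp only [Finset.mem_erase] at hx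
        exact Finset.mem_map.2 ⟨⟨x, Finset.mem_erase.2 ⟨hx.1, Finset.mem_erase.2 ⟨hx.2.1, hCB hx.2.2⟩⟩⟩,
          Finset.mem_filter.2 ⟨Finset.mem_attach _ _, hx.2.2⟩, rfl⟩
    have hc2 := congrArg Finset.card e
    rw [Finset.card_map, Finset.card_erase_of_mem (Finset.mem_erase.2 ⟨hf₁.2.1, hfC⟩),
      Finset.card_erase_of_mem hdC] at hc2
    omega

end CfsgLib.Spor.Tri.Level
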