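/-
The base of twenty-four in type M(24): octads and the points fib them.
-/
import Cfsg.Agent.Lib.Spor.Tri.LevelFive
import Cfsg.Agent.S0350
import Cfsg.Agent.S0354

namespace CfsgLib.Spor.Tri.Golay

open CfsgLib.Spor.Tri CfsgLib.Spor.Tri.Relations CfsgLib.Spor.Tri.Level

variable {G : Type*} [Group G] [Finite G] {D : Set G}

/-- A largest commuting set of members. -/
structure Base24 (D : Set G) (B : Finset G) : Prop where
  sub : ∀ b ∈ B, b ∈ D
  comm : ∀ b ∈ B, ∀ c ∈ B, Commute b c
  card : B.card = 24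
  max : ∀ x ∈ D, (∀ b ∈ B, Commute x b) → x ∈ B

theorem base_of_sylow (A : Data24 D) (T : Sylow 2 G) :
    ∃ B : Finset G, Base24 D B ∧ (↑B : Set G) = {x | x ∈ D ∧ x ∈ (T : Subgroup G)} := by
  classical
  haveI : Fact (Nat.Prime 2) := ⟨Nat.prime_two⟩
  have h := A.hyp
  obtain ⟨hle, E, hE, hEc, hEn⟩ := A.width
  obtain ⟨P, hP⟩ := (isPGroup_closure_commuting h hE hEc).exists_le_sylow
  obtain ⟨g, hg⟩ := MulAction.exists_smul_eq G P T
  set S := {x | x ∈ D ∧ x ∈ (T : Subgroup G)} with hS
  have hfin : S.Finite := Set.toFinite _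
  have hcomm : ∀ a ∈ S, ∀ b ∈ S, Commute a b := fun a ha b hb =>
    commute_of_mem_two_group h T.isPGroup' ha.1 hb.1 ha.2 hb.2
  have hn : S.ncard = 24 := by
    refine le_antisymm (hle S (fun _ hx => hx.1) hcomm) ?_
    rw [← hEn, ← Set.ncard_image_of_injective E (MulAut.conj g).injective]
    refine Set.ncard_le_ncard ?_ hfin
    rintro _ ⟨x, hx, rfl⟩
    refine ⟨h.conj g x (hE hx), ?_⟩
    rw [← hg, Sylow.smul_def, Sylow.pointwise_smul_def]
    exact ⟨x, hP (Subgroup.subset_closure hx), rfl⟩
  refine ⟨hfin.toFinset, ⟨fun b hb => (hfin.mem_toFinset.1 hb).1,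
    fun b hb c hc => hcomm b (hfin.mem_toFinset.1 hb) c (hfin.mem_toFinset.1 hc),
    by rw [← Set.ncard_eq_toFinset_card S hfin, hn], fun e he hec => ?_⟩, hfin.coe_toFinset⟩
  by_contra hne
  have hne' : e ∉ S := fun r => hne (hfin.mem_toFinset.2 r)
  have := hle (insert e S) (Set.insert_subset he fun _ hx => hx.1) (by
    intro a ha b hb
    rcases ha with ea | ha <;> rcases hb with eb | hb
    · rw [ea, eb]
    · rw [ea]; exact hec b (hfin.mem_toFinset.2 hb)
    · rw [eb]; exact (hec a (hfin.mem_toFinset.2 ha)).symm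
    · exact hcomm a ha b hb)
  rw [Set.ncard_insert_of_notMem hne' hfin, hn] at this
  omega

/-- Every commuting set of members lies in a base. -/
theorem base_through (A : Data24 D) {S : Set G} (hS : S ⊆ D) (hc : ∀ a ∈ S, ∀ b ∈ S, Commute a b) :
    ∃ B : Finset G, Base24 D B ∧ S ⊆ ↑B := by
  haveI : Fact (Nat.Prime 2) := ⟨Nat.prime_two⟩
  obtain ⟨T, hT⟩ := (isPGroup_closure_commuting A.hyp hS hc).exists_le_sylow
  obtain ⟨B, hB, e⟩ := base_of_sylow A T
  exact ⟨B, hB, fun x hx => e ▸ ⟨hS hx, hT (Subgroup.subset_closure hx)⟩⟩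

variable {B : Finset G}

open scoped _root_.Classical in
/-- The members of the base commuting with a member. -/
noncomputable def nb (B : Finset G) (w : G) : Finset G := B.filter fun b => Commute w b

open scoped _root_.Classical in
theorem mem_nb {w b : G} : b ∈ nb B w ↔ b ∈ B ∧ Commute w b := Finset.mem_filter

theorem nb_le_eight (A : Data24 D) (hB : Base24 D B) {w : G} (hw : w ∈ D) (hwB : w ∉ B) :
    (nb B w).card ≤ 8 := by
  classical
  by_contra hbig
  have h := A.hyp
  obtain ⟨a, ha, b, hb, hab⟩ := Finset.one_lt_card.1 (by omega : 1 < (nb B w).card)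
  rw [mem_nb] at ha hb
  obtain ⟨d, f, hd, hf, hpair⟩ := A.pair
  obtain ⟨g, hg⟩ := tup_two_of_lev A.lev (by norm_num) [a, b] [d, f] rfl rfl
    ⟨by simp [hab], by simp [nz, hB.sub a ha.1, hB.sub b hb.1, h.ne_one (hB.sub a ha.1), h.ne_one (hB.sub b hb.1)],
      by simp [hB.comm a ha.1 b hb.1, (hB.comm a ha.1 b hb.1).symm]⟩
    ⟨by simp [hf.2.1.symm], by simp [nz, hd, hf.1, h.ne_one hd, h.ne_one hf.1], by simp [hf.2.2, hf.2.2.symm]⟩
  simp at hg
  have hinj : Function.Injective fun x : G => g * x * g⁻¹ := fun x y r => by simpa using r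
  have h8 := hpair (B.image fun x => g * x * g⁻¹) (Finset.mem_image.2 ⟨a, ha.1, hg.1⟩)
    (Finset.mem_image.2 ⟨b, hb.1, hg.2⟩)
    (fun x hx => by obtain ⟨y, hy, rfl⟩ := Finset.mem_image.1 hx; exact h.conj g y (hB.sub y hy))
    (fun x hx x' hx' => by
      obtain ⟨y, hy, rfl⟩ := Finset.mem_image.1 hx
      obtain ⟨y', hy', rfl⟩ := Finset.mem_image.1 hx'
      exact (Commute.conj_iff g).2 (hB.comm y hy y' hy'))
    (by rw [Finset.card_image_of_injective _ hinj, hB.card])
    (fun x hx hxc => by
      refine Finset.mem_image.2 ⟨g⁻¹ * x * g, hB.max _ (by simpa using h.conj g⁻¹ x hx) fun y hy => ?_, by group⟩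
      refine (Commute.conj_iff g).1 ?_
      rw [show g * (g⁻¹ * x * g) * g⁻¹ = x by group]
      exact hxc _ (Finset.mem_image_of_mem _ hy))
    (g * w * g⁻¹) (h.conj g w hw)
    (fun r => by obtain ⟨y, hy, e⟩ := Finset.mem_image.1 r; exact hwB (hinj e ▸ hy))
    ((nb B w).image fun x => g * x * g⁻¹) (Finset.image_subset_image fun x hx => (mem_nb.1 hx).1)
    (Finset.mem_image.2 ⟨a, mem_nb.2 ha, hg.1⟩) (Finset.mem_image.2 ⟨b, mem_nb.2 hb, hg.2⟩)
    (fun x hx => by
      obtain ⟨y, hy, rfl⟩ := Finset.mem_image.1 hx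
      exact (Commute.conj_iff g).2 (mem_nb.1 hy).2)
  rw [Finset.card_image_of_injective _ hinj] at h8
  exact hbig h8

open scoped _root_.Classical in
/-- The members outside the base. -/
noncomputable def out (D : Set G) (B : Finset G) : Finset G := (Set.toFinite D).toFinset \ B

open scoped _root_.Classical in
theorem mem_out {w : G} : w ∈ out D B ↔ w ∈ D ∧ w ∉ B := by
  simp [out]

open scoped _root_.Classical in
/-- Outside members commuting with some of the base. -/
theorem count_perp (hB : Base24 D B) {Q : Finset G} (hQ : Q ⊆ B) {S : Set G}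
    (hS : ∀ x, x ∈ S ↔ x ∈ D ∧ x ∉ Q ∧ ∀ q ∈ Q, Commute q x) {n : ℕ} (hn : S.ncard = n) :
    ((out D B).filter fun w => ∀ q ∈ Q, Commute w q).card + (24 - Q.card) = n := by
  rw [← hn, Set.ncard_eq_toFinset_card S (Set.toFinite _)]
  have e : (Set.toFinite S).toFinset = ((out D B).filter fun w => ∀ q ∈ Q, Commute w q) ∪ (B \ Q) := by
    ext x
    rw [Set.Finite.mem_toFinset, hS]
    simp only [Finset.mem_union, Finset.mem_filter, Finset.mem_sdiff, mem_out]
    constructor
    · rintro ⟨h1, h2, h3⟩
      by_cases hxB : x ∈ B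
      · exact Or.inr ⟨hxB, h2⟩
      · exact Or.inl ⟨⟨h1, hxB⟩, fun q hq => (h3 q hq).symm⟩
    · rintro (⟨⟨h1, h2⟩, h3⟩ | ⟨h1, h2⟩)
      · exact ⟨h1, fun r => h2 (hQ r), fun q hq => (h3 q hq).symm⟩
      · exact ⟨hB.sub x h1, h2, fun q hq => hB.comm q (hQ hq) x h1⟩
  rw [e, Finset.card_union_of_disjoint, Finset.card_sdiff_of_subset hQ, hB.card]
  rw [Finset.disjoint_left]
  exact fun x hx hx' => (mem_out.1 (Finset.mem_filter.1 hx).1).2 (Finset.mem_sdiff.1 hx').1

open scoped _root_.Classical in
theorem sum_nb_mul (U : Finset G) (f : G → ℕ) :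
    ∑ w ∈ U, (nb B w).card * f w = ∑ b ∈ B, ∑ w ∈ U.filter (fun w => Commute w b), f w := by
  simp only [Finset.sum_filter, nb, Finset.card_filter, Finset.sum_mul, ite_mul, one_mul, zero_mul]
  exact Finset.sum_comm

open scoped _root_.Classical in
theorem sum_split {b : G} (hb : b ∈ B) (f : G → ℕ) {n : ℕ} (hn : ∀ c ∈ B, c ≠ b → f c = n) (hB : B.card = 24) :
    ∑ c ∈ B, f c = f b + 23 * n := by
  rw [← Finset.add_sum_erase B f hb, Finset.sum_congr rfl fun c hc => hn c (Finset.mem_of_mem_erase hc)
    (Finset.ne_of_mem_erase hc), Finset.sum_const, Finset.card_erase_of_mem hb, hB, smul_eq_mul]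

open scoped _root_.Classical in
theorem sum_split_two {b b' : G} (hb : b ∈ B) (hb' : b' ∈ B) (hne : b' ≠ b) (f : G → ℕ) {n : ℕ}
    (hn : ∀ c ∈ B, c ≠ b → c ≠ b' → f c = n) (hB : B.card = 24) :
    ∑ c ∈ B, f c = f b + f b' + 22 * n := by
  rw [← Finset.add_sum_erase B f hb, ← Finset.add_sum_erase (B.erase b) f (Finset.mem_erase.2 ⟨hne, hb'⟩),
    Finset.sum_congr rfl fun c hc => hn c (Finset.mem_of_mem_erase (Finset.mem_of_mem_erase hc))
      (Finset.ne_of_mem_erase (Finset.mem_of_mem_erase hc)) (Finset.ne_of_mem_erase hc),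
    Finset.sum_const, Finset.card_erase_of_mem (Finset.mem_erase.2 ⟨hne, hb'⟩), Finset.card_erase_of_mem hb, hB,
    smul_eq_mul]
  omega

theorem eq_two_or_eight {k : ℕ} (h8 : k ≤ 8) (h : k * (k * k) + 36 * k = 12 * (k * k) + 32) : k = 2 ∨ k = 8 := by
  interval_cases k <;> omega

theorem cubic_le {k : ℕ} (h8 : k ≤ 8) : k * (k * k) + 36 * k ≤ 12 * (k * k) + 32 := by
  interval_cases k <;> omega

/-- An outside member commutes with two or with eight of the base. -/
theorem nb_two_or_eight (A : Data24 D) (hB : Base24 D B) {w : G} (hw : w ∈ D) (hwB : w ∉ B) :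
    (nb B w).card = 2 ∨ (nb B w).card = 8 := by
  classical
  have h := A.hyp
  set U := out D B with hU
  have h0 : U.card = 306912 := by
    have := count_perp hB (Q := ∅) (Finset.empty_subset _) (S := D) (by simp) A.lev.card
    simp [← hU] at this
    omega
  have h1 : ∀ a ∈ B, (U.filter fun x => Commute x a).card = 31648 := by
    intro a ha
    have := count_perp hB (Q := {a}) (by simpa using ha) (S := perp D a) (fun x => by simp [perp]; tauto) (A.lev.deg a (hB.sub a ha))
    simp [← hU] at this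
    omega
  have h2 : ∀ a ∈ B, ∀ b ∈ B, b ≠ a → ((U.filter fun x => Commute x a).filter fun x => Commute x b).card = 3488 := by
    intro a ha b hb hne
    have := count_perp hB (Q := {a, b}) (by simp [Finset.insert_subset_iff, ha, hb]) (S := perp D a ∩ perp D b)
      (by intro x; simp [perp]; tauto) (A.lev.lam a (hB.sub a ha) b ⟨hB.sub b hb, hne, hB.comm a ha b hb⟩)
    rw [Finset.card_pair hne.symm, ← hU] at this
    rw [Finset.filter_filter]
    simp at this
    omega
  have h3 : ∀ a ∈ B, ∀ b ∈ B, b ≠ a → ∀ c ∈ B, c ≠ a → c ≠ b →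
      (((U.filter fun x => Commute x a).filter fun x => Commute x b).filter fun x => Commute x c).card = 672 := by
    intro a ha b hb hne c hc n1 n2
    have := count_perp hB (Q := {a, b, c}) (by simp [Finset.insert_subset_iff, ha, hb, hc])
      (S := perp D a ∩ perp D b ∩ perp D c) (by intro x; simp [perp]; tauto)
      (A.triple a b c ⟨by simp [hne.symm, n1.symm, n2.symm],
        by simp [nz, hB.sub a ha, hB.sub b hb, hB.sub c hc, h.ne_one (hB.sub a ha), h.ne_one (hB.sub b hb),
          h.ne_one (hB.sub c hc)],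
        by simp [hB.comm a ha b hb, hB.comm a ha c hc, hB.comm b hb c hc, (hB.comm a ha b hb).symm,
          (hB.comm a ha c hc).symm, (hB.comm b hb c hc).symm]⟩)
    rw [Finset.card_insert_of_notMem (by simp [hne.symm, n1.symm]), Finset.card_pair n2.symm, ← hU] at this
    rw [Finset.filter_filter, Finset.filter_filter]
    simp [and_assoc] at this ⊢
    omega
  have idem : ∀ (V : Finset G) (a : G), (V.filter fun x => Commute x a).filter (fun x => Commute x a) =
      V.filter fun x => Commute x a := fun V a => by rw [Finset.filter_filter]; simp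
  have swap : ∀ (V : Finset G) (a b : G), (V.filter fun x => Commute x a).filter (fun x => Commute x b) =
      (V.filter fun x => Commute x b).filter fun x => Commute x a := fun V a b => Finset.filter_comm _ _ _
  have s1 : ∑ x ∈ U, (nb B x).card = 759552 := by
    have := sum_nb_mul (B := B) U fun _ => 1
    simp only [mul_one, Finset.sum_const, smul_eq_mul] at this
    rw [this, Finset.sum_congr rfl h1, Finset.sum_const, hB.card, smul_eq_mul]
  have t2 : ∀ a ∈ B, ∑ x ∈ U.filter (fun x => Commute x a), (nb B x).card = 111872 := by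
    intro a ha
    have := sum_nb_mul (B := B) (U.filter fun x => Commute x a) fun _ => 1
    simp only [mul_one, Finset.sum_const, smul_eq_mul] at this
    rw [this, sum_split ha _ (fun b hb hne => h2 a ha b hb hne) hB.card, idem, h1 a ha]
  have s2 : ∑ x ∈ U, (nb B x).card * (nb B x).card = 2684928 := by
    rw [sum_nb_mul U fun x => (nb B x).card, Finset.sum_congr rfl t2, Finset.sum_const, hB.card, smul_eq_mul]
  have s3 : ∑ x ∈ U, (nb B x).card * ((nb B x).card * (nb B x).card) = 14696448 := by
    rw [sum_nb_mul U fun x => (nb B x).card * (nb B x).card]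
    have t3 : ∀ a ∈ B, ∑ x ∈ U.filter (fun x => Commute x a), (nb B x).card * (nb B x).card = 612352 := by
      intro a ha
      rw [sum_nb_mul (U.filter fun x => Commute x a) fun x => (nb B x).card,
        sum_split ha _ (n := 21760) (fun b hb hne => ?_) hB.card, idem, t2 a ha]
      have := sum_nb_mul (B := B) ((U.filter fun x => Commute x a).filter fun x => Commute x b) fun _ => 1
      simp only [mul_one, Finset.sum_const, smul_eq_mul] at this
      rw [this, sum_split_two ha hb hne _ (fun c hc n1 n2 => h3 a ha b hb hne c hc n1 n2) hB.card, idem,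
        h2 a ha b hb hne]
      rw [swap (U.filter fun x => Commute x a) b a, idem, h2 a ha b hb hne]
    rw [Finset.sum_congr rfl t3, Finset.sum_const, hB.card, smul_eq_mul]
  have heq := (Finset.sum_eq_sum_iff_of_le (s := U) fun x hx =>
    cubic_le (nb_le_eight A hB (mem_out.1 hx).1 (mem_out.1 hx).2)).1 (by
      rw [Finset.sum_add_distrib, Finset.sum_add_distrib, ← Finset.mul_sum, ← Finset.mul_sum, s1, s2, s3,
        Finset.sum_const, h0, smul_eq_mul]
      norm_num)
  exact eq_two_or_eight (nb_le_eight A hB hw hwB) (heq w (mem_out.2 ⟨hw, hwB⟩))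

open scoped _root_.Classical in
/-- The octads: sets of eight of the base commuting with an outside member. -/
noncomputable def octs (D : Set G) (B : Finset G) : Finset (Finset G) :=
  ((out D B).filter fun w => (nb B w).card = 8).image (nb B)

open scoped _root_.Classical in
/-- The outside members fib an octad. -/
noncomputable def fib (D : Set G) (B O : Finset G) : Finset G := (out D B).filter fun w => nb B w = O

open scoped _root_.Classical in
theorem mem_fib {O : Finset G} {w : G} : w ∈ fib D B O ↔ (w ∈ D ∧ w ∉ B) ∧ nb B w = O := by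
  simp [fib, mem_out]

open scoped _root_.Classical in
theorem mem_octs {O : Finset G} : O ∈ octs D B ↔ ∃ w, (w ∈ D ∧ w ∉ B) ∧ (nb B w).card = 8 ∧ nb B w = O := by
  simp [octs, mem_out, and_assoc]

/-- Five members of the base: one octad, thirty-two members fib it, and a relation. -/
theorem five_octad (A : Data24 D) (hB : Base24 D B) {a b c e g : G} (hnd : [a, b, c, e, g].Nodup)
    (hm : ∀ x ∈ [a, b, c, e, g], x ∈ B) :
    ∃ O ∈ octs D B, (∀ x ∈ [a, b, c, e, g], x ∈ O) ∧ (fib D B O).card = 32 ∧
      (∀ O' ∈ octs D B, (∀ x ∈ [a, b, c, e, g], x ∈ O') → O' = O) ∧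
      ∃ r : List G, (∀ x ∈ r, x ∈ B) ∧ r.Nodup ∧ r.length = 3 ∧ [a, b, c, e, g].prod = r.prod := by
  classical
  have h := A.hyp
  have ht : Tuple D [a, b, c, e, g] := ⟨hnd, fun x hx => ⟨hB.sub x (hm x hx), h.ne_one (hB.sub x (hm x hx))⟩,
    fun x hx y hy => hB.comm x (hm x hx) y (hm y hy)⟩
  obtain ⟨⟨l, l1, l2, la, lb, lc, le, lg, lD, lp, lw⟩, h51⟩ := A.five a b c e g ht
  have hlB : ∀ x ∈ l, x ∈ B := fun x hx => hB.max x (lD x hx) fun y hy =>
    (lw y (hB.sub y hy) (hB.comm y hy a (hm a (by simp))) (hB.comm y hy b (hm b (by simp)))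
      (hB.comm y hy c (hm c (by simp))) (hB.comm y hy e (hm e (by simp))) (hB.comm y hy g (hm g (by simp))) x hx).symm
  have hfive : ∀ x ∈ [a, b, c, e, g], x ∈ l := by simp [la, lb, lc, le, lg]
  set O := l.toFinset with hO
  have hO8 : O.card = 8 := by rw [hO, List.toFinset_card_of_nodup l1, l2]
  have hclose : ∀ w, w ∈ D → w ∉ B → (∀ x ∈ [a, b, c, e, g], Commute w x) → nb B w = O := by
    intro w hw hwB hwc
    have hsub : O ⊆ nb B w := fun x hx => mem_nb.2 ⟨hlB x (List.mem_toFinset.1 hx), lw w hw (hwc a (by simp))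
      (hwc b (by simp)) (hwc c (by simp)) (hwc e (by simp)) (hwc g (by simp)) x (List.mem_toFinset.1 hx)⟩
    have hle := Finset.card_le_card hsub
    rcases nb_two_or_eight A hB hw hwB with r | r
    · omega
    · exact (Finset.eq_of_subset_of_card_le hsub (by omega)).symm
  have hover : (fib D B O).card = 32 := by
    have hc := count_perp hB (Q := [a, b, c, e, g].toFinset) (fun x hx => hm x (List.mem_toFinset.1 hx))
      (S := perp D a ∩ perp D b ∩ perp D c ∩ (perp D e ∩ perp D g)) (by intro x; simp [perp]; tauto) h51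
    rw [List.toFinset_card_of_nodup hnd] at hc
    have e32 : fib D B O = (out D B).filter fun w => ∀ q ∈ [a, b, c, e, g].toFinset, Commute w q := by
      ext w
      rw [mem_fib, Finset.mem_filter, mem_out]
      exact ⟨fun r => ⟨r.1, fun q hq => (mem_nb.1 (r.2 ▸ List.mem_toFinset.2 (hfive q (List.mem_toFinset.1 hq)) :
        q ∈ nb B w)).2⟩, fun r => ⟨r.1, hclose w r.1.1 r.1.2 fun q hq => r.2 q (List.mem_toFinset.2 hq)⟩⟩
    rw [e32]
    simp only [List.length_cons, List.length_nil] at hc
    omega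
  obtain ⟨w, hw⟩ := Finset.card_pos.1 (by omega : 0 < (fib D B O).card)
  rw [mem_fib] at hw
  refine ⟨O, mem_octs.2 ⟨w, hw.1, hw.2 ▸ hO8, hw.2⟩, fun x hx => List.mem_toFinset.2 (hfive x hx), hover,
    fun O' hO' hsub => ?_, l.filter (fun x => decide (x ∉ [a, b, c, e, g])),
    fun x hx => hlB x (List.mem_of_mem_filter hx), l1.filter _, ?_, ?_⟩
  · obtain ⟨w', hw', -, rfl⟩ := mem_octs.1 hO'
    exact hclose w' hw'.1 hw'.2 fun x hx => (mem_nb.1 (hsub x hx)).2
  all_goals
    set r := l.filter (fun x => decide (x ∉ [a, b, c, e, g])) with hr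
    have hperm : ([a, b, c, e, g] ++ r).Perm l := by
      refine (List.perm_ext_iff_of_nodup (List.nodup_append.2 ⟨hnd, l1.filter _, fun x hx y hy rxy => ?_⟩) l1).2
        fun x => ?_
      · subst rxy
        simp [hr] at hy hx
        tauto
      · simp only [List.mem_append, hr, List.mem_filter, decide_eq_true_eq]
        constructor
        · rintro (hx | hx)
          · exact hfive x hx
          · exact hx.1
        · intro hx
          by_cases hx5 : x ∈ [a, b, c, e, g]
          · exact Or.inl hx5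
          · exact Or.inr ⟨hx, hx5⟩
  · have := hperm.length_eq
    simp [l2] at this
    omega
  · have hcl : ∀ x ∈ [a, b, c, e, g] ++ r, ∀ y ∈ [a, b, c, e, g] ++ r, Commute x y := fun x hx y hy =>
      hB.comm x (hlB x (hperm.subset hx)) y (hlB y (hperm.subset hy))
    have hp := hperm.prod_eq' (List.pairwise_of_forall_mem_list hcl)
    rw [List.prod_append, lp] at hp
    have hrr := prod_mul_self r (fun x hx => h.mul_self (hB.sub x (hlB x (List.mem_of_mem_filter hx))))
      (fun x hx y hy => hcl x (List.mem_append_right _ hx) y (List.mem_append_right _ hy))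
    exact (eq_inv_of_mul_eq_one_left hp).trans (inv_eq_of_mul_eq_one_right hrr)

theorem octs_sub {O : Finset G} (hO : O ∈ octs D B) : O ⊆ B ∧ O.card = 8 := by
  obtain ⟨w, -, h8, rfl⟩ := mem_octs.1 hO
  exact ⟨fun x hx => (mem_nb.1 hx).1, h8⟩

theorem card_fib (A : Data24 D) (hB : Base24 D B) {O : Finset G} (hO : O ∈ octs D B) :
    (fib D B O).card = 32 := by
  classical
  obtain ⟨hsub, h8⟩ := octs_sub hO
  obtain ⟨a, b, c, e, g, r, hl⟩ : ∃ a b c e g r, O.toList = a :: b :: c :: e :: g :: r := by
    have hlen : O.toList.length = 8 := by rw [Finset.length_toList, h8]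
    match O.toList, hlen with
    | a :: b :: c :: e :: g :: r, _ => exact ⟨a, b, c, e, g, r, rfl⟩
    | [], hlen | [_], hlen | [_, _], hlen | [_, _, _], hlen | [_, _, _, _], hlen => simp at hlen
  have hs : [a, b, c, e, g].Sublist O.toList := by rw [hl]; simp
  have hin : ∀ x ∈ [a, b, c, e, g], x ∈ O := fun x hx => Finset.mem_toList.1 (hs.subset hx)
  obtain ⟨O', -, -, h32, huniq, -⟩ := five_octad A hB (O.nodup_toList.sublist hs) fun x hx => hsub (hin x hx)
  rw [huniq O hO hin]
  exact h32

open scoped _root_.Classical in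
/-- The ordered pairs of disjoint octads. -/
noncomputable def pairs (D : Set G) (B : Finset G) : Finset (Finset G × Finset G) :=
  (octs D B ×ˢ octs D B).filter fun p => Disjoint p.1 p.2

theorem card_pairs (A : Data24 D) (hB : Base24 D B) : (pairs D B).card = 22770 := by
  classical
  set emb : ↥B ↪ G := Function.Embedding.subtype _
  set St : Set (Finset ↥B) := {o | o.map emb ∈ octs D B} with hSt
  have hα : Fintype.card ↥B = 24 := by rw [Fintype.card_coe, hB.card]
  have hback : ∀ O ∈ octs D B, (O.subtype (· ∈ B)).map emb = O := fun O hO =>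
    Finset.subtype_map_of_mem fun x hx => (octs_sub hO).1 hx
  have hS : Cfsg.IsSteinerSystem 5 8 St := by
    refine ⟨fun o ho => ?_, fun s hs => ?_⟩
    · rw [← Finset.card_map emb]; exact (octs_sub ho).2
    · have hlen : (s.map emb).toList.length = 5 := by rw [Finset.length_toList, Finset.card_map, hs]
      obtain ⟨a, b, c, e, g, hl⟩ : ∃ a b c e g, (s.map emb).toList = [a, b, c, e, g] := by
        match (s.map emb).toList, hlen with
        | [a, b, c, e, g], _ => exact ⟨a, b, c, e, g, rfl⟩
      have hin : ∀ x, x ∈ [a, b, c, e, g] ↔ x ∈ s.map emb := fun x => by rw [← hl, Finset.mem_toList]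
      obtain ⟨O, hO, hO5, -, huniq, -⟩ := five_octad A hB (hl ▸ (s.map emb).nodup_toList) (fun x hx => by
        obtain ⟨y, -, rfl⟩ := Finset.mem_map.1 ((hin x).1 hx)
        exact y.2)
      refine ⟨O.subtype (· ∈ B), ⟨by show _ ∈ octs D B; rw [hback O hO]; exact hO, fun x hx => ?_⟩, fun o ho => ?_⟩
      · exact Finset.mem_subtype.2 (hO5 x ((hin x).2 (Finset.mem_map_of_mem emb hx)))
      · refine Finset.map_injective emb ?_
        rw [hback O hO]
        exact huniq _ ho.1 fun x hx => Finset.map_subset_map.2 ho.2 ((hin x).1 hx)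
  have himg : St.toFinset.image (fun o => o.map emb) = octs D B := by
    ext O
    simp only [Finset.mem_image, Set.mem_toFinset]
    exact ⟨fun ⟨o, ho, e⟩ => e ▸ ho, fun hO => ⟨O.subtype (· ∈ B), by show _ ∈ octs D B; rw [hback O hO]; exact hO,
      hback O hO⟩⟩
  have h759 : (octs D B).card = 759 := by
    have := Cfsg.Agent.S0350.result hS
    rw [hα, show Nat.choose 24 5 = 42504 by decide, show Nat.choose 8 5 = 56 by decide] at this
    rw [← himg, Finset.card_image_of_injective _ (Finset.map_injective emb), ← Set.ncard_eq_toFinset_card']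
    omega
  have h30 : ∀ O ∈ octs D B, ((octs D B).filter fun O' => Disjoint O O').card = 30 := by
    intro O hO
    have := Cfsg.Agent.S0354.result hα hS (b := O.subtype (· ∈ B)) (by show _ ∈ octs D B; rw [hback O hO]; exact hO)
    rw [← this, Set.ncard_eq_toFinset_card', ← Finset.card_image_of_injective _ (Finset.map_injective emb)]
    congr 1
    ext O'
    simp only [Finset.mem_filter, Finset.mem_image, Set.mem_toFinset, Set.mem_setOf_eq]
    constructor
    · intro r
      refine ⟨O'.subtype (· ∈ B), ⟨by show _ ∈ octs D B; rw [hback O' r.1]; exact r.1, ?_⟩, hback O' r.1⟩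
      rw [← Finset.disjoint_map emb, hback O hO, hback O' r.1]; exact r.2
    · rintro ⟨o, ⟨ho, hd⟩, rfl⟩
      refine ⟨ho, ?_⟩
      rw [← hback O hO]; exact (Finset.disjoint_map emb).2 hd
  rw [pairs, Finset.card_filter, Finset.sum_product]
  simp only [← Finset.card_filter]
  rw [Finset.sum_congr rfl h30, Finset.sum_const, h759, smul_eq_mul]

end CfsgLib.Spor.Tri.Golay
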