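/-
The centralizer of a product of two commuting members in type M(23).
-/
import Cfsg.Agent.Lib.Spor.Tri.LevelTriple

namespace CfsgLib.Spor.Tri.Level

open CfsgLib.Spor.Tri CfsgLib.Spor.Tri.Relations

variable {G : Type*} [Group G] [Finite G] {D : Set G}

theorem tuple_pair (h : Hyp D) {a b : G} (ha : a ∈ D) (hb : b ∈ perp D a) : Tuple D [a, b] :=
  ⟨by simp [hb.2.1.symm], by simp [nz, ha, hb.1, h.ne_one ha, h.ne_one hb.1], by simp [hb.2.2, hb.2.2.symm]⟩

/-- Six around any commuting pair with product the first member. -/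
theorem six23 (h : Hyp D) (hprim : Cfsg.IsPrimitiveUnderConj D) (h23 : Cfsg.IsOfTypeM23 G D) {a b : G}
    (ha : a ∈ D) (hb : b ∈ perp D a) :
    ∃ l : List G, l.length = 6 ∧ (∀ u ∈ l, u ∈ perp D a ∩ perp D b) ∧ l.prod = a := by
  classical
  have hP := pre_of_hyp h
  obtain ⟨e, W⟩ := local23 h hprim h23
  obtain ⟨x, WX⟩ := local22 W.ihyp W.iprim W.type
  obtain ⟨A, B, C, hA, hB, hC, ht, F, hF, fA, fB, fC⟩ := exists_indep W.ihyp WX
  have hne : ∀ {q}, q ∈ img (img D e) x → q ∈ nz (img (img D e) x) := fun {q} hq => by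
    rw [img_nz W.ihyp WX.nc]; exact hq
  have hn := ht.1
  simp at hn
  obtain ⟨q, hqnd, hqlen, hqmem, hqcomm, hqprod, hiff⟩ := WX.lines (bar hA) (hne (bar_mem hA)) (bar hB)
    (hne (bar_mem hB)) (fun r => hn.1.1 ((bar_inj W.ihyp WX.nc hA hB).1 r))
    ((bar_commute W.ihyp hA hB).2 (ht.2.2 A (by simp) B (by simp)))
  have hCq : bar hC ∉ q := fun r => fC ((bar_commute W.ihyp hF hC).1
    ((hiff _ (hne (bar_mem hC))).1 r _ (hne (bar_mem hF)) ((bar_commute W.ihyp hF hA).2 fA)
      ((bar_commute W.ihyp hF hB).2 fB)))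
  have hCall : ∀ u ∈ q, Commute (bar hC) u := fun u hu => (hiff u (hqmem u hu)).1 hu _ (hne (bar_mem hC))
    ((bar_commute W.ihyp hC hA).2 (ht.2.2 C (by simp) A (by simp)))
    ((bar_commute W.ihyp hC hB).2 (ht.2.2 C (by simp) B (by simp)))
  obtain ⟨L, hLe, hLm⟩ := lift_exists (q := q) fun u hu => (hqmem u hu).1
  have hT : Tuple (img D e) (L.map Subtype.val) := lift_tuple W.ihyp hLm (hLe ▸ ⟨hqnd, hqmem, hqcomm⟩)
  have hp : (L.map Subtype.val).prod = x := by
    refine (lift_prod WX.zl (L := L) (by rw [hLe]; exact hqprod)).resolve_left fun r => ?_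
    exact WX.norel _ (fun r0 => by
      have := congrArg List.length r0
      rw [List.length_map, show L.length = 5 by rw [← hqlen, ← hLe, List.length_map]] at this
      simp at this) hT.1 (by rw [List.length_map, ← hqlen, ← hLe, List.length_map]) hT.2.1 hT.2.2 r
  set six := x :: L.map Subtype.val with hsix
  have hsm : ∀ u ∈ six, u ∈ img D e ∧ u ≠ C ∧ Commute C u := by
    intro u hu
    rcases List.mem_cons.1 hu with r | hu
    · rw [r]; exact ⟨WX.mem, hC.2.1.symm, hC.2.2.symm⟩
    · obtain ⟨u', hu', rfl⟩ := List.mem_map.1 hu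
      have hm : QuotientGroup.mk' (Subgroup.center ↥(loc (img D e) x)) u' ∈ q := hLe ▸ List.mem_map_of_mem hu'
      refine ⟨(hLm u' hu').1, fun r => hCq ?_, (bar_commute W.ihyp hC (hLm u' hu')).1 (hCall _ hm)⟩
      have : bar hC = bar (hLm u' hu') := by simp only [bar, r]
      rw [this]; exact hm
  have hsT : Tuple (img D e) six := by
    refine ⟨List.nodup_cons.2 ⟨fun r => ?_, hT.1⟩, fun u hu => ?_, fun u hu w hw => ?_⟩
    · obtain ⟨u', hu', r'⟩ := List.mem_map.1 r
      exact (hLm u' hu').2.1 r'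
    · exact ⟨(hsm u hu).1, W.ihyp.ne_one (hsm u hu).1⟩
    · rcases List.mem_cons.1 hu with r | hu <;> rcases List.mem_cons.1 hw with r' | hw
      · rw [r, r']
      · obtain ⟨w', hw', rfl⟩ := List.mem_map.1 hw
        rw [r]; exact (hLm w' hw').2.2
      · obtain ⟨u', hu', rfl⟩ := List.mem_map.1 hu
        rw [r']; exact (hLm u' hu').2.2.symm
      · exact hT.2.2 u hu w hw
  have hsp : six.prod = 1 := by rw [hsix, List.prod_cons, hp]; exact W.ihyp.mul_self WX.mem
  have hslen : six.length = 6 := by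
    have e5 : L.length = q.length := by rw [← hLe, List.length_map]
    rw [hsix, List.length_cons, List.length_map, e5, hqlen]
  -- lift to the group
  obtain ⟨S, hSe, hSm⟩ := lift_exists (q := six) fun u hu => (hsm u hu).1
  have hS : Tuple D (S.map Subtype.val) := lift_tuple h hSm (hSe ▸ hsT)
  have hSlen : S.length = 6 := by rw [← hslen, ← hSe, List.length_map]
  have hSp : (S.map Subtype.val).prod = e := by
    refine (lift_prod W.zl (L := S) (by rw [hSe]; exact hsp)).resolve_left fun r => ?_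
    exact W.norel _ (fun r0 => by
      have := congrArg List.length r0
      rw [List.length_map, hSlen] at this
      simp at this) hS.1 (by rw [List.length_map, hSlen]) hS.2.1 hS.2.2 r
  obtain ⟨y, hy, hye⟩ := exists_bar hC.1
  have hSy : ∀ u ∈ S.map Subtype.val, u ∈ perp D e ∩ perp D y := by
    intro u hu
    obtain ⟨u', hu', rfl⟩ := List.mem_map.1 hu
    have hm : bar (hSm u' hu') ∈ six := hSe ▸ List.mem_map_of_mem hu'
    refine ⟨hSm u' hu', (hSm u' hu').1, fun r => (hsm _ hm).2.1 ?_, ?_⟩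
    · rw [hye]; exact (bar_inj h W.nc _ hy).2 r
    · exact (bar_commute h hy (hSm u' hu')).1 (hye ▸ (hsm _ hm).2.2)
  obtain ⟨g, hg⟩ := (tuples_m23 hP h23).2.1 [e, y] [a, b] rfl rfl (tuple_pair h W.mem hy) (tuple_pair h ha hb)
  simp at hg
  refine ⟨(S.map Subtype.val).map fun u => g * u * g⁻¹, by simp [hSlen], fun u hu => ?_, ?_⟩
  · obtain ⟨w, hw, rfl⟩ := List.mem_map.1 hu
    have r : g * w * g⁻¹ ∈ perp D (g * e * g⁻¹) ∩ perp D (g * y * g⁻¹) := by
      rw [image_inter_conj h]; exact ⟨w, hSy w hw, rfl⟩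
    rwa [hg.1, hg.2] at r
  · rw [show ((S.map Subtype.val).map fun u => g * u * g⁻¹).prod = g * (S.map Subtype.val).prod * g⁻¹ from
      (map_list_prod (MulAut.conj g).toMonoidHom _).symm, hSp, hg.1]

/-- The joint centralizer of a pair. -/
abbrev pcent (a b : G) : Subgroup G := Subgroup.centralizer ({a, b} : Set G)

theorem mem_pcent {a b g : G} : g ∈ pcent a b ↔ Commute g a ∧ Commute g b := by
  rw [pcent, Subgroup.mem_centralizer_iff]
  simp only [Set.mem_insert_iff, Set.mem_singleton_iff, forall_eq_or_imp, forall_eq]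
  exact ⟨fun r => ⟨r.1.symm, r.2.symm⟩, fun r => ⟨r.1.symm.eq, r.2.symm.eq⟩⟩

/-- What is transported between pairs. -/
def PairData (D : Set G) (a b : G) : Prop :=
  (Subgroup.center ↥(pcent a b)).map (pcent a b).subtype = Subgroup.closure {a, b} ∧
  (∃ (F : Type) (_ : Field F) (_ : Fintype F), Fintype.card F = 4 ∧
    Nonempty (↥(pcent a b) ⧸ Subgroup.center ↥(pcent a b) ≃* Cfsg.PSU 6 F 2)) ∧
  pcent a b ≤ Subgroup.closure (perp D a ∩ perp D b) ⊔ Subgroup.closure {a, b}

theorem pair_witness (h : Hyp D) (hprim : Cfsg.IsPrimitiveUnderConj D) (h23 : Cfsg.IsOfTypeM23 G D) :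
    ∃ e f, e ∈ D ∧ f ∈ perp D e ∧ PairData D e f := by
  classical
  obtain ⟨L, -⟩ := lev23 h hprim h23
  obtain ⟨e, W⟩ := local23 h hprim h23
  obtain ⟨L', -⟩ := lev22 W.ihyp W.iprim W.type
  obtain ⟨x, WX⟩ := local22 W.ihyp W.iprim W.type
  obtain ⟨f, hf, rfl⟩ := exists_bar WX.mem
  refine ⟨e, f, W.mem, hf, ?_⟩
  have hel : e ∈ loc D e := (quasi23 h W).1
  have hfl : bar hf ∈ loc (img D e) (bar hf) := (quasi22 W.ihyp WX).1
  set K := pcent e f
  have hKl : ∀ k : ↥K, (k : G) ∈ loc D e := fun k =>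
    L.cent e W.mem (Subgroup.mem_centralizer_singleton_iff.2 (mem_pcent.1 k.2).1.eq)
  let ι : ↥K →* ↥(loc D e) := MonoidHom.mk' (fun k => ⟨k, hKl k⟩) fun _ _ => rfl
  let mk := QuotientGroup.mk' (Subgroup.center ↥(loc D e))
  have hπ : ∀ k : ↥K, mk (ι k) ∈ loc (img D e) (bar hf) := fun k =>
    L'.cent _ WX.mem (Subgroup.mem_centralizer_singleton_iff.2
      ((show Commute (ι k) ⟨f, perp_loc hf⟩ from Subtype.ext (mem_pcent.1 k.2).2.eq).map mk).eq)
  let π : ↥K →* ↥(loc (img D e) (bar hf)) :=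
    MonoidHom.mk' (fun k => ⟨mk (ι k), hπ k⟩) fun k k' => Subtype.ext (by simp [map_mul])
  let ψ : ↥K →* ↥(loc (img D e) (bar hf)) ⧸ Subgroup.center ↥(loc (img D e) (bar hf)) :=
    (QuotientGroup.mk' _).comp π
  have hsurj : Function.Surjective ψ := by
    intro q
    obtain ⟨⟨p, hp⟩, rfl⟩ := QuotientGroup.mk'_surjective _ q
    obtain ⟨u, rfl⟩ := QuotientGroup.mk'_surjective (Subgroup.center ↥(loc D e)) p
    have hue : Commute (u : G) e := (commute_loc u.2).symm
    have hm : (u : G) * f * (u : G)⁻¹ ∈ perp D e := by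
      have r : (u : G) * f * (u : G)⁻¹ ∈ perp D ((u : G) * e * (u : G)⁻¹) := by
        rw [perp_conj h]; exact ⟨f, hf, rfl⟩
      rwa [hue.eq, mul_inv_cancel_right] at r
    have hb : bar hm = bar hf := by
      have r : Commute (bar hf) (mk u) := commute_loc hp
      show mk ⟨_, _⟩ = bar hf
      rw [show (⟨(u : G) * f * (u : G)⁻¹, perp_loc hm⟩ : ↥(loc D e)) = u * ⟨f, perp_loc hf⟩ * u⁻¹ from rfl,
        map_mul, map_mul, map_inv]
      show mk u * bar hf * (mk u)⁻¹ = bar hf
      rw [← r.eq, mul_inv_cancel_right]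
    have huf : Commute (u : G) f := mul_inv_eq_iff_eq_mul.1 ((bar_inj h W.nc hm hf).1 hb)
    exact ⟨⟨u, mem_pcent.2 ⟨hue, huf⟩⟩, rfl⟩
  have hVK : ∀ v ∈ Subgroup.closure ({e, f} : Set G), v ∈ K := by
    intro v hv
    refine (Subgroup.closure_le K).2 ?_ hv
    rintro v (rfl | rfl)
    · exact mem_pcent.2 ⟨Commute.refl _, hf.2.2⟩
    · exact mem_pcent.2 ⟨hf.2.2.symm, Commute.refl _⟩
  have hker : ∀ k : ↥K, ψ k = 1 → (k : G) ∈ Subgroup.closure ({e, f} : Set G) := by
    intro k hk
    have hme : e ∈ Subgroup.closure ({e, f} : Set G) := Subgroup.subset_closure (Or.inl rfl)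
    have hmf : f ∈ Subgroup.closure ({e, f} : Set G) := Subgroup.subset_closure (Or.inr rfl)
    rcases WX.zl (π k) (mk_eq_one.1 hk) with r | r
    · rcases W.zl (ι k) (mk_eq_one.1 r) with r' | r'
      · rw [show (k : G) = 1 from r']; exact one_mem _
      · rw [show (k : G) = e from r']; exact hme
    · have r2 : mk (ι k * ⟨f, perp_loc hf⟩) = 1 := by
        rw [map_mul, show mk (ι k) = bar hf from r]; exact W.ihyp.mul_self WX.mem
      rcases W.zl (ι k * (⟨f, perp_loc hf⟩ : ↥(loc D e))) ((QuotientGroup.eq_one_iff _).1 r2) with r' | r'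
      · rw [show (k : G) = f⁻¹ from eq_inv_of_mul_eq_one_left r']; exact inv_mem hmf
      · rw [show (k : G) = e * f⁻¹ from eq_mul_inv_of_mul_eq r']; exact mul_mem hme (inv_mem hmf)
  have hVc : ∀ v : ↥K, (v : G) ∈ Subgroup.closure ({e, f} : Set G) → v ∈ Subgroup.center ↥K := by
    intro v hv
    refine Subgroup.mem_center_iff.2 fun k => Subtype.ext ?_
    have hle : Subgroup.closure ({e, f} : Set G) ≤ Subgroup.centralizer {(k : G)} := by
      rw [Subgroup.closure_le]
      rintro u (rfl | rfl)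
      · exact Subgroup.mem_centralizer_singleton_iff.2 (mem_pcent.1 k.2).1.symm.eq
      · exact Subgroup.mem_centralizer_singleton_iff.2 (mem_pcent.1 k.2).2.symm.eq
    exact (Subgroup.mem_centralizer_singleton_iff.1 (hle hv)).symm
  have hkeq : ψ.ker = Subgroup.center ↥K := by
    refine le_antisymm (fun k hk => hVc k (hker k hk)) fun k hk => ?_
    have hc : ψ k ∈ Subgroup.center _ := Subgroup.mem_center_iff.2 fun q => by
      obtain ⟨k', rfl⟩ := hsurj q
      rw [← map_mul, ← map_mul, Subgroup.mem_center_iff.1 hk k']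
    rw [WX.lev.center, Subgroup.mem_bot] at hc
    exact hc
  refine ⟨?_, ?_, fun k hk => ?_⟩
  · ext v
    constructor
    · rintro ⟨k, hk, rfl⟩
      exact hker k (by rw [← MonoidHom.mem_ker, hkeq]; exact hk)
    · exact fun hv => ⟨⟨v, hVK v hv⟩, hVc _ hv, rfl⟩
  · obtain ⟨F, hFf, hFt, hF, ⟨eF⟩⟩ := WX.psu
    exact ⟨F, hFf, hFt, hF, ⟨(((QuotientGroup.quotientMulEquivOfEq hkeq).symm).trans
      (QuotientGroup.quotientKerEquivOfSurjective ψ hsurj)).trans eF⟩⟩
  · set S := Subgroup.closure (perp D e ∩ perp D f)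
    have hle : loc (img D e) (bar hf) ≤
        (S.subgroupOf (loc D e)).map (QuotientGroup.mk' (Subgroup.center ↥(loc D e))) := by
      refine (Subgroup.closure_le _).2 fun q hq => ?_
      obtain ⟨z, hz, rfl⟩ := exists_bar hq.1
      exact ⟨⟨z, perp_loc hz⟩, Subgroup.subset_closure ⟨hz, (bar_perp h W.nc hz hf).1 hq⟩, rfl⟩
    obtain ⟨s, hs, hse⟩ := hle (hπ ⟨k, hk⟩)
    have hz : mk (s⁻¹ * ι ⟨k, hk⟩) = 1 := by
      rw [map_mul, map_inv, show mk s = mk (ι ⟨k, hk⟩) from hse, inv_mul_cancel]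
    have hk' : k = (s : G) * ((s⁻¹ * ι ⟨k, hk⟩ : ↥(loc D e)) : G) := by
      show k = (s : G) * ((s : G)⁻¹ * k)
      rw [mul_inv_cancel_left]
    rw [hk']
    refine Subgroup.mul_mem_sup hs ?_
    rcases W.zl _ (mk_eq_one.1 hz) with r | r <;> rw [r]
    · exact one_mem _
    · exact Subgroup.subset_closure (Or.inl rfl)

theorem pair_all (h : Hyp D) (hprim : Cfsg.IsPrimitiveUnderConj D) (h23 : Cfsg.IsOfTypeM23 G D) {a b : G}
    (ha : a ∈ D) (hb : b ∈ perp D a) : PairData D a b := by
  obtain ⟨e, f, he, hf, h1, ⟨F, hFf, hFt, hF, ⟨eF⟩⟩, h3⟩ := pair_witness h hprim h23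
  obtain ⟨g, hg⟩ := (tuples_m23 (pre_of_hyp h) h23).2.1 [e, f] [a, b] rfl rfl (tuple_pair h he hf) (tuple_pair h ha hb)
  simp at hg
  obtain ⟨rfl, rfl⟩ := hg
  set φ := (MulAut.conj g).toMonoidHom with hφ
  have hinj : Function.Injective φ := (MulAut.conj g).injective
  have hK : pcent (g * e * g⁻¹) (g * f * g⁻¹) = (pcent e f).map φ := by
    ext u
    constructor
    · intro hu
      obtain ⟨hu1, hu2⟩ := mem_pcent.1 hu
      refine ⟨g⁻¹ * u * g, mem_pcent.2 ⟨?_, ?_⟩, by show g * (g⁻¹ * u * g) * g⁻¹ = u; group⟩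
      all_goals
        refine (Commute.conj_iff g).1 ?_
        rw [show g * (g⁻¹ * u * g) * g⁻¹ = u by group]
        assumption
    · rintro ⟨k, hk, rfl⟩
      exact mem_pcent.2 ⟨(Commute.conj_iff g).2 (mem_pcent.1 hk).1, (Commute.conj_iff g).2 (mem_pcent.1 hk).2⟩
  have hV : Subgroup.closure ({g * e * g⁻¹, g * f * g⁻¹} : Set G) = (Subgroup.closure {e, f}).map φ := by
    rw [MonoidHom.map_closure, Set.image_pair]; rfl
  set σ : ↥(pcent e f) ≃* ↥(pcent (g * e * g⁻¹) (g * f * g⁻¹)) :=
    ((pcent e f).equivMapOfInjective φ hinj).trans (MulEquiv.subgroupCongr hK.symm) with hσ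
  have hval : ∀ k, (σ k : G) = φ k := fun k => rfl
  have hcenter : Subgroup.center ↥(pcent (g * e * g⁻¹) (g * f * g⁻¹)) =
      (Subgroup.center ↥(pcent e f)).map σ.toMonoidHom := by
    ext q
    obtain ⟨k, rfl⟩ := σ.surjective q
    rw [show σ k = σ.toMonoidHom k from rfl, Subgroup.mem_map_iff_mem σ.injective, Subgroup.mem_center_iff,
      Subgroup.mem_center_iff]
    refine ⟨fun r y => σ.injective (by rw [map_mul, map_mul]; exact r (σ y)), fun r y => ?_⟩
    obtain ⟨y, rfl⟩ := σ.surjective y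
    show σ y * σ k = σ k * σ y
    rw [← map_mul, r, map_mul]
  refine ⟨?_, ⟨F, hFf, hFt, hF, ⟨(QuotientGroup.congr _ _ σ hcenter.symm).symm.trans eF⟩⟩, ?_⟩
  · rw [hV, ← h1, hcenter, Subgroup.map_map, Subgroup.map_map]
    exact congrArg (fun x => Subgroup.map x _) (MonoidHom.ext hval)
  · rw [hK, hV, image_inter_conj h, show (fun x => g * x * g⁻¹) = ⇑φ from rfl, ← MonoidHom.map_closure,
      ← Subgroup.map_sup]
    exact Subgroup.map_mono h3

/-- Perfectness and generation of the joint centralizer. -/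
theorem pair_perfect (h : Hyp D) (hprim : Cfsg.IsPrimitiveUnderConj D) (h23 : Cfsg.IsOfTypeM23 G D) {a b : G}
    (ha : a ∈ D) (hb : b ∈ perp D a) :
    Cfsg.IsQuasisimple ↥(pcent a b) ∧ pcent a b = Subgroup.closure (perp D a ∩ perp D b) := by
  classical
  have hP := pre_of_hyp h
  obtain ⟨h1, ⟨F, hFf, hFt, hF, ⟨eF⟩⟩, h3⟩ := pair_all h hprim h23 ha hb
  letI := hFf; letI := hFt
  have ha' : a ∈ perp D b := perp_symm ha hb
  obtain ⟨l, hl, hlm, hlp⟩ := six23 h hprim h23 ha hb
  obtain ⟨l', hl', hlm', hlp'⟩ := six23 h hprim h23 hb.1 ha'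
  have hlm'' : ∀ u ∈ l', u ∈ perp D a ∩ perp D b := fun u hu => ⟨(hlm' u hu).2, (hlm' u hu).1⟩
  have hPK : ∀ u ∈ perp D a ∩ perp D b, u ∈ pcent a b := fun u hu =>
    mem_pcent.2 ⟨hu.1.2.2.symm, hu.2.2.2.symm⟩
  have hcl : pcent a b = Subgroup.closure (perp D a ∩ perp D b) := by
    refine le_antisymm (h3.trans (sup_le le_rfl ?_)) ((Subgroup.closure_le _).2 hPK)
    rw [Subgroup.closure_le]
    have ma : a ∈ Subgroup.closure (perp D a ∩ perp D b) := by
      have r : l.prod ∈ Subgroup.closure (perp D a ∩ perp D b) :=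
        list_prod_mem fun w hw => Subgroup.subset_closure (hlm w hw)
      rwa [hlp] at r
    have mb : b ∈ Subgroup.closure (perp D a ∩ perp D b) := by
      have r : l'.prod ∈ Subgroup.closure (perp D a ∩ perp D b) :=
        list_prod_mem fun w hw => Subgroup.subset_closure (hlm'' w hw)
      rwa [hlp'] at r
    rintro u (r | r) <;> rw [r]
    · exact ma
    · exact mb
  have hmem : ∀ (q : List G) (x : G), q.length = 6 → (∀ u ∈ q, u ∈ perp D a ∩ perp D b) → q.prod = x →
      ∀ hx : x ∈ pcent a b, (⟨x, hx⟩ : ↥(pcent a b)) ∈ commutator ↥(pcent a b) := by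
    intro q x hq hqm hqp hx
    set L : List ↥(pcent a b) := q.attach.map fun u => ⟨u.1, hPK u.1 (hqm u.1 u.2)⟩ with hL
    have hval : ((L.prod : ↥(pcent a b)) : G) = x := by
      rw [show ((L.prod : ↥(pcent a b)) : G) = (pcent a b).subtype L.prod from rfl, map_list_prod, hL, List.map_map]
      exact (congrArg List.prod (List.attach_map_subtype_val q)).trans hqp
    obtain ⟨u₀, hu₀⟩ := List.exists_mem_of_ne_nil q (fun r => by rw [r] at hq; simp at hq)
    have e := of_prod_even (l := L) (y := ⟨u₀, hPK u₀ (hqm u₀ hu₀)⟩) (fun w hw => ?_)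
      (Subtype.ext (h.mul_self (hqm u₀ hu₀).1.1)) (by rw [hL, List.length_map, List.length_attach, hq]; decide)
    · rwa [show L.prod = ⟨x, hx⟩ from Subtype.ext hval] at e
    · obtain ⟨⟨u, hu⟩, -, rfl⟩ := List.mem_map.1 hw
      have trip : ∀ {z}, z ∈ perp D a ∩ perp D b → Tuple D [a, b, z] := fun {z} hz =>
        ⟨by simp [hb.2.1.symm, hz.1.2.1.symm, hz.2.2.1.symm],
          by simp [nz, ha, hb.1, hz.1.1, h.ne_one ha, h.ne_one hb.1, h.ne_one hz.1.1],
          by simp [hb.2.2, hb.2.2.symm, hz.1.2.2, hz.1.2.2.symm, hz.2.2.2, hz.2.2.2.symm]⟩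
      obtain ⟨g, hg⟩ := (tuples_m23 hP h23).2.2 [a, b, u₀] [a, b, u] rfl rfl (trip (hqm u₀ hu₀)) (trip (hqm u hu))
      simp at hg
      have hgK : g ∈ pcent a b :=
        mem_pcent.2 ⟨mul_inv_eq_iff_eq_mul.1 hg.1, mul_inv_eq_iff_eq_mul.1 hg.2.1⟩
      rw [show (⟨u, hPK u (hqm u hu)⟩ : ↥(pcent a b)) =
          (⟨g, hgK⟩ : ↥(pcent a b)) * ⟨u₀, hPK u₀ (hqm u₀ hu₀)⟩ * (⟨g, hgK⟩ : ↥(pcent a b))⁻¹ from Subtype.ext hg.2.2.symm,
        map_mul, map_mul, map_inv, mul_comm (Abelianization.of (⟨g, hgK⟩ : ↥(pcent a b))), mul_inv_cancel_right]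
  have haK : a ∈ pcent a b := mem_pcent.2 ⟨Commute.refl a, hb.2.2⟩
  have hbK : b ∈ pcent a b := mem_pcent.2 ⟨hb.2.2.symm, Commute.refl b⟩
  have hsimp : IsSimpleGroup (↥(pcent a b) ⧸ Subgroup.center ↥(pcent a b)) := by
    have hsP : IsSimpleGroup (Cfsg.PSU 6 F 2) :=
      CfsgLib.Classical.psu_isSimple (q := 2) (n := 6) (by rw [hF]; norm_num) (by norm_num) (by norm_num)
    haveI : Nontrivial (↥(pcent a b) ⧸ Subgroup.center ↥(pcent a b)) := eF.toEquiv.nontrivial
    exact IsSimpleGroup.isSimpleGroup_of_surjective eF.symm.toMonoidHom eF.symm.surjective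
  refine ⟨⟨⟨?_⟩, hsimp⟩, hcl⟩
  set Z := Subgroup.center ↥(pcent a b)
  have hZK : Z ≤ commutator ↥(pcent a b) := by
    intro z hz
    have hzm : (z : G) ∈ (Subgroup.center ↥(pcent a b)).map (pcent a b).subtype := ⟨z, hz, rfl⟩
    rw [h1] at hzm
    have hle : Subgroup.closure ({a, b} : Set G) ≤ (commutator ↥(pcent a b)).map (pcent a b).subtype := by
      rw [Subgroup.closure_le]
      rintro u (rfl | rfl)
      · exact ⟨⟨u, haK⟩, hmem l u hl hlm hlp haK, rfl⟩
      · exact ⟨⟨u, hbK⟩, hmem l' u hl' hlm'' hlp' hbK, rfl⟩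
    obtain ⟨w, hw, hwz⟩ := hle hzm
    exact Subtype.ext hwz ▸ hw
  rcases IsSimpleGroup.eq_bot_or_eq_top_of_normal ((commutator ↥(pcent a b)).map (QuotientGroup.mk' Z))
    (Subgroup.Normal.map inferInstance _ (QuotientGroup.mk'_surjective Z)) with r | r
  · exfalso
    rw [Subgroup.map_eq_bot_iff, QuotientGroup.ker_mk'] at r
    haveI := hsimp
    have habel : ∀ p q : ↥(pcent a b) ⧸ Z, p * q = q * p := by
      intro p q
      obtain ⟨p, rfl⟩ := QuotientGroup.mk'_surjective Z p
      obtain ⟨q, rfl⟩ := QuotientGroup.mk'_surjective Z q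
      refine commutatorElement_eq_one_iff_mul_comm.1 ?_
      rw [← map_commutatorElement]
      exact (QuotientGroup.eq_one_iff _).2 (r (Subgroup.commutator_mem_commutator (Subgroup.mem_top p) (Subgroup.mem_top q)))
    letI : CommGroup (↥(pcent a b) ⧸ Z) := { (inferInstance : Group (↥(pcent a b) ⧸ Z)) with mul_comm := habel }
    have hp : (Nat.card (↥(pcent a b) ⧸ Z)).Prime := IsSimpleGroup.prime_card
    rw [Nat.card_congr eF.toEquiv, card_psu_six hF] at hp
    norm_num at hp
  · have := congrArg (Subgroup.comap (QuotientGroup.mk' Z)) r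
    rw [Subgroup.comap_map_eq, QuotientGroup.ker_mk', Subgroup.comap_top, sup_eq_left.2 hZK] at this
    exact this

theorem pair_product (h : Hyp D) (hprim : Cfsg.IsPrimitiveUnderConj D) (h23 : Cfsg.IsOfTypeM23 G D) {a b : G}
    (ha : a ∈ D) (hb : b ∈ perp D a) :
    pcent a b ≤ Subgroup.centralizer ({a * b} : Set G) ∧
      ((pcent a b).subgroupOf (Subgroup.centralizer ({a * b} : Set G))).index = 2 ∧
      ∀ z ∈ Subgroup.centralizer ({a * b} : Set G),
        (∀ u ∈ Subgroup.centralizer ({a * b} : Set G), z * u * z⁻¹ * u⁻¹ ∈ Subgroup.closure ({a, b} : Set G)) →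
          z ∈ Subgroup.closure ({a, b} : Set G) := by
  classical
  have hP := pre_of_hyp h
  have hg := (good_m23 hP h23).1
  set C := Subgroup.centralizer ({a * b} : Set G) with hC
  have hab : a ≠ b := hb.2.1.symm
  have hCmem : ∀ g, g ∈ C ↔ g * (a * b) * g⁻¹ = a * b := fun g => by
    rw [hC, Subgroup.mem_centralizer_singleton_iff, mul_inv_eq_iff_eq_mul]
  have hKC : pcent a b ≤ C := fun g hg => by
    rw [hC, Subgroup.mem_centralizer_singleton_iff]
    exact ((mem_pcent.1 hg).1.mul_right (mem_pcent.1 hg).2).eq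
  have horb : {y | ∃ g ∈ C, g * a * g⁻¹ = y} = {a, b} := by
    ext u
    constructor
    · rintro ⟨g, hgC, rfl⟩
      have t := tuple_map hP g (tuple_pair h ha hb)
      simp only [List.map_cons, List.map_nil] at t
      have e2 : (g * a * g⁻¹) * (g * b * g⁻¹) = a * b := by rw [← (hCmem g).1 hgC]; group
      have hcr : ∀ w ∈ [g * a * g⁻¹, g * b * g⁻¹], Commute w a ∧ Commute w b := fun w hw => by
        refine (commute_mul_iff h.set ha hb.1 (t.2.1 w hw).1 hab hb.2.2).1 (e2 ▸ ?_)
        exact (t.2.2 w hw _ (by simp)).mul_right (t.2.2 w hw _ (by simp))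
      have heq := eq_of_prod_eq hP hg.norel [a, b] [g * a * g⁻¹, g * b * g⁻¹] (by simp [hab]) t.1
        (fun w hw => (List.mem_append.1 hw).elim ((tuple_pair h ha hb).2.1 w) (t.2.1 w))
        (fun w hw w' hw' => by
          rcases List.mem_append.1 hw with hw | hw <;> rcases List.mem_append.1 hw' with hw' | hw'
          · exact (tuple_pair h ha hb).2.2 w hw w' hw'
          · obtain ⟨r1, r2⟩ := hcr w' hw'
            simp at hw
            rcases hw with rfl | rfl
            · exact r1.symm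
            · exact r2.symm
          · obtain ⟨r1, r2⟩ := hcr w hw
            simp at hw'
            rcases hw' with rfl | rfl
            · exact r1
            · exact r2
          · exact t.2.2 w hw w' hw')
        (by simpa using e2.symm) (by
          have a1 := List.length_filter_le (fun e => decide (e ∉ [g * a * g⁻¹, g * b * g⁻¹])) [a, b]
          have a2 := List.length_filter_le (fun e => decide (e ∉ [a, b])) [g * a * g⁻¹, g * b * g⁻¹]
          simp only [List.length_cons, List.length_nil] at a1 a2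
          omega)
      have := (heq (g * a * g⁻¹)).2 (by simp)
      simpa using this
    · rintro (rfl | rfl)
      · exact ⟨1, one_mem _, by simp⟩
      · obtain ⟨g, hg'⟩ := (tuples_m23 hP h23).2.1 [a, u] [u, a] rfl rfl (tuple_pair h ha hb)
          (tuple_pair h hb.1 (perp_symm ha hb))
        simp at hg'
        refine ⟨g, (hCmem g).2 ?_, hg'.1⟩
        rw [show g * (a * u) * g⁻¹ = (g * a * g⁻¹) * (g * u * g⁻¹) by group, hg'.1, hg'.2]
        exact hb.2.2.symm.eq
  have hinf : C ⊓ Subgroup.centralizer ({a} : Set G) = pcent a b := by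
    ext g
    rw [Subgroup.mem_inf, hCmem, Subgroup.mem_centralizer_singleton_iff, mem_pcent]
    constructor
    · rintro ⟨e, ea⟩
      refine ⟨ea, ?_⟩
      have e' : (g * a * g⁻¹) * (g * b * g⁻¹) = a * b := by rw [← e]; group
      rw [mul_inv_eq_iff_eq_mul.2 ea] at e'
      exact mul_inv_eq_iff_eq_mul.1 (mul_left_cancel e')
    · rintro ⟨ea, eb⟩
      exact ⟨mul_inv_eq_iff_eq_mul.2 (ea.mul_right eb).eq, ea.eq⟩
  refine ⟨hKC, ?_, ?_⟩
  · have q := card_orbit_sub C a
    rw [horb, Set.ncard_pair hab, hinf] at q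
    have q2 := Subgroup.card_mul_index ((pcent a b).subgroupOf C)
    rw [Nat.card_congr (Subgroup.subgroupOfEquivOfLe hKC).toEquiv, q, mul_comm 2] at q2
    exact Nat.eq_of_mul_eq_mul_left Nat.card_pos q2
  · intro z hz hcom
    obtain ⟨h1, ⟨F, hFf, hFt, hF, ⟨eF⟩⟩, -⟩ := pair_all h hprim h23 ha hb
    obtain ⟨hq, hcl⟩ := pair_perfect h hprim h23 ha hb
    by_cases hzK : z ∈ pcent a b
    · have hbot : Subgroup.center (↥(pcent a b) ⧸ Subgroup.center ↥(pcent a b)) = ⊥ := by
        haveI := hq.2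
        rcases IsSimpleGroup.eq_bot_or_eq_top_of_normal
          (Subgroup.center (↥(pcent a b) ⧸ Subgroup.center ↥(pcent a b))) inferInstance with r | r
        · exact r
        · exfalso
          letI : CommGroup (↥(pcent a b) ⧸ Subgroup.center ↥(pcent a b)) :=
            { (inferInstance : Group (↥(pcent a b) ⧸ Subgroup.center ↥(pcent a b))) with
              mul_comm := fun p q => Subgroup.mem_center_iff.1 (r ▸ Subgroup.mem_top q) p }
          have hp : (Nat.card (↥(pcent a b) ⧸ Subgroup.center ↥(pcent a b))).Prime := IsSimpleGroup.prime_card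
          letI := hFf; letI := hFt
          rw [Nat.card_congr eF.toEquiv, card_psu_six hF] at hp
          norm_num at hp
      have hzc : QuotientGroup.mk' (Subgroup.center ↥(pcent a b)) ⟨z, hzK⟩ ∈
          Subgroup.center (↥(pcent a b) ⧸ Subgroup.center ↥(pcent a b)) := by
        refine Subgroup.mem_center_iff.2 fun p => ?_
        obtain ⟨u, rfl⟩ := QuotientGroup.mk'_surjective _ p
        have hv := hcom u (hKC u.2)
        rw [← h1] at hv
        obtain ⟨w, hw, hwe⟩ := hv
        have e : (⟨z, hzK⟩ : ↥(pcent a b)) * u = w * (u * ⟨z, hzK⟩) := by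
          refine Subtype.ext ?_
          show z * (u : G) = (w : G) * ((u : G) * z)
          rw [show (w : G) = z * u * z⁻¹ * (u : G)⁻¹ from hwe]; group
        have := congrArg (QuotientGroup.mk' (Subgroup.center ↥(pcent a b))) e
        simp only [map_mul] at this
        rw [show QuotientGroup.mk' (Subgroup.center ↥(pcent a b)) w = 1 from (QuotientGroup.eq_one_iff w).2 hw,
          one_mul] at this
        exact this.symm
      rw [hbot, Subgroup.mem_bot] at hzc
      have := Subgroup.mem_map_of_mem (pcent a b).subtype ((QuotientGroup.eq_one_iff _).1 hzc)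
      rwa [h1] at this
    · exfalso
      apply hzK
      rw [← hinf]
      refine ⟨hz, Subgroup.mem_centralizer_singleton_iff.2 ?_⟩
      have hzP : ∀ u ∈ perp D a ∩ perp D b, Commute z u := by
        intro u hu
        have huC : u ∈ C := hKC (mem_pcent.2 ⟨hu.1.2.2.symm, hu.2.2.2.symm⟩)
        by_contra hne
        have hne' : z * u * z⁻¹ ≠ u := fun r => hne (mul_inv_eq_iff_eq_mul.1 r)
        set v := z * u * z⁻¹ with hv
        have hzinv : v ∈ perp D a ∩ perp D b := by
          have hpair : ({z * a * z⁻¹, z * b * z⁻¹} : Set G) = {a, b} := by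
            have m1 : z * a * z⁻¹ ∈ ({a, b} : Set G) := horb ▸ ⟨z, hz, rfl⟩
            have e' : (z * a * z⁻¹) * (z * b * z⁻¹) = a * b := by rw [← (hCmem z).1 hz]; group
            rcases m1 with r | r
            · rw [r] at e'; rw [r, mul_left_cancel e']
            · rw [r] at e'
              rw [r, mul_left_cancel (e'.trans hb.2.2.eq), Set.pair_comm]
          have r : v ∈ perp D (z * a * z⁻¹) ∩ perp D (z * b * z⁻¹) := by
            rw [image_inter_conj h]; exact ⟨u, hu, rfl⟩
          have ra : a ∈ ({z * a * z⁻¹, z * b * z⁻¹} : Set G) := hpair.symm ▸ Or.inl rfl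
          have rb : b ∈ ({z * a * z⁻¹, z * b * z⁻¹} : Set G) := hpair.symm ▸ Or.inr rfl
          constructor
          · rcases ra with e | e <;> rw [e]
            · exact r.1
            · exact r.2
          · rcases rb with e | e <;> rw [e]
            · exact r.1
            · exact r.2
        have hvu : v * u ∈ Subgroup.closure ({a, b} : Set G) := by
          have := hcom u huC
          rwa [h.inv_eq hu.1.1] at this
        have hcuv : Commute v u := by
          have hle : Subgroup.closure ({a, b} : Set G) ≤ Subgroup.centralizer {u} := by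
            rw [Subgroup.closure_le]
            rintro w (rfl | rfl)
            · exact Subgroup.mem_centralizer_singleton_iff.2 hu.1.2.2.eq
            · exact Subgroup.mem_centralizer_singleton_iff.2 hu.2.2.2.eq
          have r := Subgroup.mem_centralizer_singleton_iff.1 (hle hvu)
          exact mul_right_cancel (r.trans (mul_assoc u v u).symm)
        have hV4 : v * u = 1 ∨ v * u = a ∨ v * u = b ∨ v * u = a * b := by
          refine Subgroup.closure_induction (p := fun x _ => x = 1 ∨ x = a ∨ x = b ∨ x = a * b) ?_ ?_ ?_ ?_ hvu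
          · rintro x (rfl | rfl) <;> simp
          · simp
          · have haa := h.mul_self ha
            have hbb := h.mul_self hb.1
            have e1 : ∀ x, a * (a * x) = x := fun x => by rw [← mul_assoc, haa, one_mul]
            have e2 : ∀ x, b * (b * x) = x := fun x => by rw [← mul_assoc, hbb, one_mul]
            have e3 : b * a = a * b := hb.2.2.symm.eq
            have e4 : ∀ x, b * (a * x) = a * (b * x) := fun x => by rw [← mul_assoc, e3, mul_assoc]
            rintro x y - - (rfl | rfl | rfl | rfl) (rfl | rfl | rfl | rfl) <;>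
              simp [mul_assoc, haa, hbb, e1, e2, e3, e4]
          · rintro x - (rfl | rfl | rfl | rfl) <;>
              simp [h.inv_eq ha, h.inv_eq hb.1, hb.2.2.symm.eq]
        have hT4 : Tuple D [v, u, a, b] := by
          refine ⟨?_, ?_, ?_⟩
          · simp [hne', hu.1.2.1, hu.2.2.1, hzinv.1.2.1, hzinv.2.2.1, hab]
          · simp [nz, ha, hb.1, hu.1.1, hzinv.1.1, h.ne_one ha, h.ne_one hb.1, h.ne_one hu.1.1, h.ne_one hzinv.1.1]
          · simp [hcuv, hcuv.symm, hu.1.2.2, hu.1.2.2.symm, hu.2.2.2, hu.2.2.2.symm, hzinv.1.2.2, hzinv.1.2.2.symm,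
              hzinv.2.2.2, hzinv.2.2.2.symm, hb.2.2, hb.2.2.symm]
        have norel : ∀ q : List G, q ≠ [] → q.Sublist [v, u, a, b] → q.prod ≠ 1 := fun q hq hs =>
          hg.norel q hq (hT4.1.sublist hs) (by have := hs.length_le; simp at this; omega)
            (fun e he => hT4.2.1 e (hs.subset he)) fun e he e' he' => hT4.2.2 e (hs.subset he) e' (hs.subset he')
        rcases hV4 with r | r | r | r
        · exact norel [v, u] (by simp) (List.take_sublist 2 [v, u, a, b]) (by simpa using r)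
        · exact norel [v, u, a] (by simp) (List.take_sublist 3 [v, u, a, b])
            (by simp [← mul_assoc, r, h.mul_self ha])
        · exact norel [v, u, b] (by simp) ((List.sublist_cons_self a [b]).cons_cons u |>.cons_cons v)
            (by simp [← mul_assoc, r, h.mul_self hb.1])
        · exact norel [v, u, a, b] (by simp) (List.Sublist.refl _)
            (by simp [← mul_assoc, r]; rw [mul_assoc (a * b) a b, mul_assoc a b (a * b), ← mul_assoc b a b,
                  hb.2.2.symm.eq, mul_assoc a b b, h.mul_self hb.1, mul_one, h.mul_self ha])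
      have hle : Subgroup.closure (perp D a ∩ perp D b) ≤ Subgroup.centralizer {z} :=
        (Subgroup.closure_le _).2 fun u hu => Subgroup.mem_centralizer_singleton_iff.2 (hzP u hu).symm.eq
      have := hle (hcl ▸ mem_pcent.2 ⟨Commute.refl a, hb.2.2⟩)
      exact (Subgroup.mem_centralizer_singleton_iff.1 this).symm

end CfsgLib.Spor.Tri.Level
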