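/-
Parity in type M(24): a sign representation of a Sylow 2-subgroup, odd on every member.

The even span of the base acts on the commuting pairs over disjoint octads; a member of the base
exchanges its two orbits over each unordered pair of octads, and there is an odd number of those.
-/
import Cfsg.Agent.Lib.Spor.Tri.LevelOctads
import Cfsg.Agent.Lib.Fusion.Tate

namespace CfsgLib.Spor.Tri.Golay

open CfsgLib.Spor.Tri CfsgLib.Spor.Tri.Relations CfsgLib.Spor.Tri.Level

variable {G : Type*} [Group G] [Finite G] {D : Set G} {B : Finset G}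

/-- A word in the base. -/
def Word (B : Finset G) (l : List G) : Prop := ∀ x ∈ l, x ∈ B

omit [Finite G] in
theorem word_comm (hB : Base24 D B) {l : List G} (hl : Word B l) {b : G} (hb : b ∈ B) : Commute b l.prod :=
  Commute.list_prod_right _ _ fun x hx => hB.comm b hb x (hl x hx)

omit [Finite G] in
theorem word_sq (h : Hyp D) (hB : Base24 D B) {l : List G} (hl : Word B l) : l.prod * l.prod = 1 :=
  prod_mul_self l (fun x hx => h.mul_self (hB.sub x (hl x hx))) fun x hx y hy => hB.comm x (hl x hx) y (hl y hy)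

/-- Every word has one with at most four distinct letters and the same parity. -/
theorem word_reduce (A : Data24 D) (hB : Base24 D B) : ∀ l : List G, Word B l →
    ∃ l' : List G, Word B l' ∧ l'.Nodup ∧ l'.length ≤ 4 ∧ l'.length % 2 = l.length % 2 ∧ l'.prod = l.prod := by
  classical
  intro l
  induction l with
  | nil => exact fun _ => ⟨[], by simp [Word], by simp, by simp, rfl, rfl⟩
  | cons a r ih =>
    intro hl
    have haB := hl a List.mem_cons_self
    obtain ⟨r', hr', hnd, hlen, hpar, hprod⟩ := ih fun x hx => hl x (List.mem_cons_of_mem a hx)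
    by_cases har : a ∈ r'
    · have hperm : r'.Perm (a :: r'.erase a) := List.perm_cons_erase har
      have he : r'.prod = a * (r'.erase a).prod := by
        rw [← List.prod_cons]
        exact hperm.prod_eq' (List.pairwise_of_forall_mem_list fun x hx y hy => hB.comm x (hr' x hx) y (hr' y hy))
      refine ⟨r'.erase a, fun x hx => hr' x (List.mem_of_mem_erase hx), hnd.erase a, ?_, ?_, ?_⟩
      · rw [List.length_erase_of_mem har]; omega
      · have := List.length_pos_of_mem har
        rw [List.length_erase_of_mem har, List.length_cons]; omega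
      · rw [List.prod_cons, ← hprod, he, ← mul_assoc, A.hyp.mul_self (hB.sub a haB), one_mul]
    · have hw : Word B (a :: r') := fun x hx => (List.mem_cons.1 hx).elim (fun e => e ▸ haB) (hr' x)
      have hnd' : (a :: r').Nodup := List.nodup_cons.2 ⟨har, hnd⟩
      rcases Nat.lt_or_ge r'.length 4 with hlt | hge
      · exact ⟨a :: r', hw, hnd', by simp; omega, by simp; omega, by rw [List.prod_cons, hprod, List.prod_cons]⟩
      · match r', hge, hlen, hnd', hw, hprod, hpar with
        | [b, c, e, g], _, _, hnd', hw, hprod, hpar =>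
          obtain ⟨-, -, -, -, -, q, hq, hqn, hql, hqp⟩ := five_octad A hB hnd' hw
          refine ⟨q, hq, hqn, by omega, ?_, ?_⟩
          · rw [hql, List.length_cons]
            simp only [List.length_cons, List.length_nil] at hpar
            omega
          · rw [← hqp, List.prod_cons, hprod, List.prod_cons]
        | [], hge, _, _, _, _, _ | [_], hge, _, _, _, _, _ | [_, _], hge, _, _, _, _, _
        | [_, _, _], hge, _, _, _, _, _ => simp at hge
        | _ :: _ :: _ :: _ :: _ :: _, _, hlen, _, _, _, _ => simp at hlen; omega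

/-- A short product with no letter commuting with a member does not commute with it. -/
theorem short_free (h : Hyp D) (hB : Base24 D B) {l : List G} (hl : Word B l) (hnd : l.Nodup) (h1 : 1 ≤ l.length)
    (h3 : l.length ≤ 3) {y : G} (hy : y ∈ D) (hno : ∀ a ∈ l, ¬ Commute y a) : ¬ Commute y l.prod := fun hc => by
  obtain ⟨a, ha⟩ := List.exists_mem_of_length_pos h1
  exact hno a ha (InvolFixed.commute_members h hy
    ⟨hnd, fun x hx => ⟨hB.sub x (hl x hx), h.ne_one (hB.sub x (hl x hx))⟩,
      fun x hx z hz => hB.comm x (hl x hx) z (hl z hz)⟩ h3 hc a ha)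

/-- An odd word does not fix two members over disjoint sets. -/
theorem odd_free (A : Data24 D) (hB : Base24 D B) {l : List G} (hl : Word B l) (ho : Odd l.length) {y z : G}
    (hy : y ∈ D) (hz : z ∈ D) (hdis : Disjoint (nb B y) (nb B z)) (cy : Commute y l.prod)
    (cz : Commute z l.prod) : False := by
  classical
  obtain ⟨l', hl', hnd, hlen, hpar, hprod⟩ := word_reduce A hB l hl
  rw [Nat.odd_iff] at ho
  have h13 : 1 ≤ l'.length ∧ l'.length ≤ 3 := by omega
  rw [← hprod] at cy cz
  obtain ⟨a, ha⟩ := List.exists_mem_of_length_pos h13.1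
  have ht : Tuple D l' := ⟨hnd, fun x hx => ⟨hB.sub x (hl' x hx), A.hyp.ne_one (hB.sub x (hl' x hx))⟩,
    fun x hx w hw => hB.comm x (hl' x hx) w (hl' w hw)⟩
  exact Finset.disjoint_left.1 hdis (mem_nb.2 ⟨hl' a ha, InvolFixed.commute_members A.hyp hy ht h13.2 cy a ha⟩)
    (mem_nb.2 ⟨hl' a ha, InvolFixed.commute_members A.hyp hz ht h13.2 cz a ha⟩)

/-- Conjugates by short words are many. -/
theorem many (h : Hyp D) (hB : Base24 D B) {S : Finset G} (hS : S ⊆ B) {y : G} (hy : y ∈ D)
    (hno : ∀ a ∈ S, ¬ Commute y a) : ∃ Z : Finset G, Z.card = 2 * S.card ∧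
      ∀ z ∈ Z, ∃ l : List G, (∀ x ∈ l, x ∈ S) ∧ z = l.prod * y * l.prod := by
  classical
  rcases S.eq_empty_or_nonempty with rfl | ⟨g, hg⟩
  · exact ⟨∅, by simp, by simp⟩
  have hw : ∀ {l : List G}, (∀ x ∈ l, x ∈ S) → Word B l := fun hl x hx => hS (hl x hx)
  have key : ∀ {P Q : List G}, (∀ x ∈ P, x ∈ S) → (∀ x ∈ Q, x ∈ S) → P.prod * y * P.prod = Q.prod * y * Q.prod →
      Commute y (P ++ Q).prod := by
    intro P Q hP hQ e
    have pp := word_sq h hB (hw hP)
    have qq := word_sq h hB (hw hQ)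
    rw [List.prod_append]
    show y * (P.prod * Q.prod) = P.prod * Q.prod * y
    calc y * (P.prod * Q.prod) = P.prod * P.prod * y * P.prod * Q.prod := by rw [pp, one_mul, mul_assoc]
      _ = P.prod * (P.prod * y * P.prod) * Q.prod := by group
      _ = P.prod * (Q.prod * y * Q.prod) * Q.prod := by rw [e]
      _ = P.prod * Q.prod * y * (Q.prod * Q.prod) := by group
      _ = P.prod * Q.prod * y := by rw [qq, mul_one]
  have free : ∀ {l : List G}, (∀ x ∈ l, x ∈ S) → l.Nodup → 1 ≤ l.length → l.length ≤ 3 →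
      ¬ Commute y l.prod := fun hl hnd a b => short_free h hB (hw hl) hnd a b hy fun x hx => hno x (hl x hx)
  have sq : ∀ {a : G}, a ∈ S → a * a = 1 := fun ha => h.mul_self (hB.sub _ (hS ha))
  have i1 : Set.InjOn (fun a => a * y * a) ↑S := by
    intro a ha b hb e
    rw [Finset.mem_coe] at ha hb
    by_contra hne
    exact free (l := [a, b]) (by simp [ha, hb]) (by simp [hne]) (by simp) (by simp)
      (key (P := [a]) (Q := [b]) (by simp [ha]) (by simp [hb]) (by simpa using e))
  have i2 : Set.InjOn (fun a => g * a * y * (g * a)) ↑S := by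
    intro a ha b hb e
    rw [Finset.mem_coe] at ha hb
    by_contra hne
    have := key (P := [g, a]) (Q := [g, b]) (by simp [hg, ha]) (by simp [hg, hb]) (by simpa using e)
    refine free (l := [a, b]) (by simp [ha, hb]) (by simp [hne]) (by simp) (by simp) ?_
    rwa [show ([g, a] ++ [g, b]).prod = [a, b].prod by
      simp only [List.cons_append, List.nil_append, List.prod_cons, List.prod_nil, mul_one]
      rw [← mul_assoc g a, (hB.comm g (hS hg) a (hS ha)).eq, mul_assoc, ← mul_assoc g g, sq hg, one_mul]] at this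
  refine ⟨S.image (fun a => a * y * a) ∪ S.image (fun a => g * a * y * (g * a)), ?_, ?_⟩
  · rw [Finset.card_union_of_disjoint, Finset.card_image_of_injOn i1, Finset.card_image_of_injOn i2]
    · omega
    rw [Finset.disjoint_left]
    intro z hz hz'
    obtain ⟨a, ha, rfl⟩ := Finset.mem_image.1 hz
    obtain ⟨b, hb, e⟩ := Finset.mem_image.1 hz'
    have hc := key (P := [a]) (Q := [g, b]) (by simp [ha]) (by simp [hg, hb]) (by simpa using e.symm)
    simp only [List.cons_append, List.nil_append, List.prod_cons, List.prod_nil, mul_one] at hc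
    by_cases e1 : a = g
    · rw [e1, ← mul_assoc, sq hg, one_mul] at hc
      exact hno b hb hc
    by_cases e2 : b = g
    · rw [e2, sq hg, mul_one] at hc
      exact hno a ha hc
    by_cases e3 : a = b
    · rw [← e3, ← mul_assoc, (hB.comm a (hS ha) g (hS hg)).eq, mul_assoc, sq ha, mul_one] at hc
      exact hno g hg hc
    exact free (l := [a, g, b]) (by simp [ha, hg, hb]) (by simp [e1, e3, Ne.symm e2]) (by simp) (by simp)
      (by simpa [mul_assoc] using hc)
  · intro z hz
    rcases Finset.mem_union.1 hz with hz | hz <;> obtain ⟨a, ha, rfl⟩ := Finset.mem_image.1 hz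
    · exact ⟨[a], by simpa using ha, by simp⟩
    · exact ⟨[g, a], by simp [hg, ha], by simp⟩

omit [Finite G] in
theorem conj_eq (h : Hyp D) (hB : Base24 D B) {l : List G} (hl : Word B l) (y : G) :
    l.prod * y * l.prod = l.prod * y * l.prod⁻¹ := by
  rw [inv_eq_of_mul_eq_one_right (word_sq h hB hl)]

omit [Finite G] in
theorem word_commute_conj (hB : Base24 D B) {l : List G} (hl : Word B l) {b : G} (hb : b ∈ B) :
    l.prod * b * l.prod⁻¹ = b := by
  rw [← (word_comm hB hl hb).eq, mul_inv_cancel_right]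

/-- Conjugation by an element stabilising the base. -/
theorem nb_conj (g : G) (hg : ∀ b, g * b * g⁻¹ ∈ B ↔ b ∈ B) (y : G) [DecidableEq G] :
    nb B (g * y * g⁻¹) = (nb B y).image (fun x => g * x * g⁻¹) := by
  ext x
  simp only [Finset.mem_image, mem_nb]
  constructor
  · rintro ⟨hx, hc⟩
    refine ⟨g⁻¹ * x * g, ⟨(hg _).1 (by rw [show g * (g⁻¹ * x * g) * g⁻¹ = x by group]; exact hx),
      (Commute.conj_iff g).1 (by rw [show g * (g⁻¹ * x * g) * g⁻¹ = x by group]; exact hc)⟩, by group⟩
  · rintro ⟨b, ⟨hb, hc⟩, rfl⟩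
    exact ⟨(hg b).2 hb, (Commute.conj_iff g).2 hc⟩

theorem nb_word (hB : Base24 D B) {l : List G} (hl : Word B l) (y : G) :
    nb B (l.prod * y * l.prod⁻¹) = nb B y := by
  classical
  have hfix : ∀ b, l.prod * b * l.prod⁻¹ ∈ B ↔ b ∈ B := fun b => by
    constructor
    · intro hb
      have e := word_commute_conj hB hl hb
      have : l.prod * b * l.prod⁻¹ = b := by simpa using e
      rwa [this] at hb
    · exact fun hb => by rw [word_commute_conj hB hl hb]; exact hb
  rw [nb_conj _ hfix]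
  refine (Finset.image_congr fun x hx => word_commute_conj hB hl (mem_nb.1 hx).1).trans Finset.image_id

theorem fib_word (h : Hyp D) (hB : Base24 D B) {l : List G} (hl : Word B l) {O : Finset G} {y : G}
    (hy : y ∈ fib D B O) : l.prod * y * l.prod⁻¹ ∈ fib D B O := by
  obtain ⟨⟨hyD, hyB⟩, hn⟩ := mem_fib.1 hy
  refine mem_fib.2 ⟨⟨h.conj _ y hyD, fun r => hyB ?_⟩, (nb_word hB hl y).trans hn⟩
  have e := word_commute_conj hB hl r
  have : l.prod * y * l.prod⁻¹ = y := by simpa using e
  rwa [this] at r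

/-- The span of the base is transitive over an octad. -/
theorem fib_trans (A : Data24 D) (hB : Base24 D B) {O : Finset G} (hO : O ∈ octs D B) {y y' : G}
    (hy : y ∈ fib D B O) (hy' : y' ∈ fib D B O) : ∃ l, Word B l ∧ l.prod * y * l.prod⁻¹ = y' := by
  classical
  obtain ⟨⟨hyD, -⟩, hn⟩ := mem_fib.1 hy
  obtain ⟨Z, hZ, hZm⟩ := many A.hyp hB (S := B \ O) Finset.sdiff_subset hyD fun a ha hc => by
    obtain ⟨ha1, ha2⟩ := Finset.mem_sdiff.1 ha
    exact ha2 (hn ▸ mem_nb.2 ⟨ha1, hc⟩)
  have hsub : Z ⊆ fib D B O := fun z hz => by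
    obtain ⟨l, hl, rfl⟩ := hZm z hz
    have hw : Word B l := fun x hx => (Finset.mem_sdiff.1 (hl x hx)).1
    rw [conj_eq A.hyp hB hw]; exact fib_word A.hyp hB hw hy
  have e : Z = fib D B O := Finset.eq_of_subset_of_card_le hsub (by
    rw [card_fib A hB hO, hZ, Finset.card_sdiff_of_subset (octs_sub hO).1, hB.card, (octs_sub hO).2])
  obtain ⟨l, hl, rfl⟩ := hZm y' (e ▸ hy')
  have hw : Word B l := fun x hx => (Finset.mem_sdiff.1 (hl x hx)).1
  exact ⟨l, hw, (conj_eq A.hyp hB hw y).symm⟩

/-- Over disjoint octads some members commute and some do not. -/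
theorem fib_both (A : Data24 D) (hB : Base24 D B) {O O' : Finset G} (hO' : O' ∈ octs D B)
    (hdis : Disjoint O O') {y : G} (hy : y ∈ fib D B O) :
    (∃ u ∈ fib D B O', Commute y u) ∧ ∃ u ∈ fib D B O', ¬ Commute y u := by
  classical
  have h := A.hyp
  obtain ⟨z, hz⟩ := Finset.card_pos.1 (by rw [card_fib A hB hO']; norm_num : 0 < (fib D B O').card)
  obtain ⟨⟨hzD, hzB⟩, hzn⟩ := mem_fib.1 hz
  obtain ⟨⟨hyD, hyB⟩, hyn⟩ := mem_fib.1 hy
  obtain ⟨B₂, hB₂, hsub⟩ := base_through A (S := insert z ↑O')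
    (Set.insert_subset hzD fun x hx => hB.sub x ((octs_sub hO').1 hx)) (by
      intro a ha b hb
      have hc : ∀ x ∈ O', Commute z x := fun x hx => (mem_nb.1 (hzn.symm ▸ hx : x ∈ nb B z)).2
      rcases ha with ea | ha <;> rcases hb with eb | hb
      · rw [ea, eb]
      · rw [ea]; exact hc b hb
      · rw [eb]; exact (hc a ha).symm
      · exact hB.comm a ((octs_sub hO').1 ha) b ((octs_sub hO').1 hb))
  have hzB₂ : z ∈ B₂ := hsub (Set.mem_insert _ _)
  have hO₂ : ∀ x ∈ O', x ∈ B₂ := fun x hx => hsub (Set.mem_insert_of_mem _ hx)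
  have hrest : ∀ u ∈ B₂, u ∉ O' → u ∈ fib D B O' := by
    intro u hu huO
    have huD := hB₂.sub u hu
    have huB : u ∉ B := fun r => huO (hzn ▸ mem_nb.2 ⟨r, hB₂.comm z hzB₂ u hu⟩)
    have hs : O' ⊆ nb B u := fun x hx => mem_nb.2 ⟨(octs_sub hO').1 hx, hB₂.comm u hu x (hO₂ x hx)⟩
    refine mem_fib.2 ⟨⟨huD, huB⟩, ?_⟩
    have hle := Finset.card_le_card hs
    rcases nb_two_or_eight A hB huD huB with r | r
    · rw [(octs_sub hO').2] at hle; omega
    · exact (Finset.eq_of_subset_of_card_le hs (by rw [r, (octs_sub hO').2])).symm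
  have hnone : ∀ x ∈ O', ¬ Commute y x := fun x hx hc =>
    Finset.disjoint_right.1 hdis hx (hyn ▸ mem_nb.2 ⟨(octs_sub hO').1 hx, hc⟩)
  obtain ⟨x₀, hx₀⟩ := Finset.card_pos.1 (by rw [(octs_sub hO').2]; norm_num : 0 < O'.card)
  have hyB₂ : y ∉ B₂ := fun r => hnone x₀ hx₀ (hB₂.comm y r x₀ (hO₂ x₀ hx₀))
  constructor
  · obtain ⟨u, hu⟩ := Finset.card_pos.1 (by
      rcases nb_two_or_eight A hB₂ hyD hyB₂ with r | r <;> omega : 0 < (nb B₂ y).card)
    rw [mem_nb] at hu
    exact ⟨u, hrest u hu.1 fun r => hnone u r hu.2, hu.2⟩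
  · by_contra hcon
    push Not at hcon
    have hs : B₂ \ O' ⊆ nb B₂ y := fun u hu =>
      mem_nb.2 ⟨(Finset.mem_sdiff.1 hu).1, hcon u (hrest u (Finset.mem_sdiff.1 hu).1 (Finset.mem_sdiff.1 hu).2)⟩
    have h16 := Finset.card_le_card hs
    rw [Finset.card_sdiff_of_subset hO₂, hB₂.card, (octs_sub hO').2] at h16
    have := nb_le_eight A hB₂ hyD hyB₂
    omega

/-- The span is transitive on commuting pairs over two disjoint octads. -/
theorem pair_trans (A : Data24 D) (hB : Base24 D B) {O O' : Finset G} (hO : O ∈ octs D B) (hO' : O' ∈ octs D B)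
    (hdis : Disjoint O O') {y y' z z' : G} (hy : y ∈ fib D B O) (hy' : y' ∈ fib D B O)
    (hz : z ∈ fib D B O') (hz' : z' ∈ fib D B O') (hc : Commute y z) (hc' : Commute y' z') :
    ∃ l, Word B l ∧ l.prod * y * l.prod⁻¹ = y' ∧ l.prod * z * l.prod⁻¹ = z' := by
  classical
  have h := A.hyp
  obtain ⟨l₁, hl₁, e₁⟩ := fib_trans A hB hO hy hy'
  set z₁ := l₁.prod * z * l₁.prod⁻¹ with hz₁
  have hz₁m : z₁ ∈ fib D B O' := fib_word h hB hl₁ hz
  have hc₁ : Commute y' z₁ := e₁ ▸ (Commute.conj_iff l₁.prod).2 hc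
  obtain ⟨⟨hyD, -⟩, hyn⟩ := mem_fib.1 hy'
  have hfix : ∀ {l : List G}, (∀ x ∈ l, x ∈ O) → l.prod * y' * l.prod⁻¹ = y' := fun {l} hl => by
    have : Commute y' l.prod := Commute.list_prod_right _ _ fun x hx =>
      (mem_nb.1 (hyn.symm ▸ hl x hx : x ∈ nb B y')).2
    rw [← this.eq, mul_inv_cancel_right]
  have orbit : ∀ u ∈ fib D B O', ∃ Z : Finset G, Z.card = 16 ∧ ∀ v ∈ Z, v ∈ fib D B O' ∧
      (Commute y' v ↔ Commute y' u) ∧ ∃ l, (∀ x ∈ l, x ∈ O) ∧ Word B l ∧ v = l.prod * u * l.prod⁻¹ := by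
    intro u hu
    obtain ⟨⟨huD, -⟩, hun⟩ := mem_fib.1 hu
    obtain ⟨Z, hZ, hZm⟩ := many h hB (octs_sub hO).1 huD fun a ha hca =>
      Finset.disjoint_left.1 hdis ha (hun ▸ mem_nb.2 ⟨(octs_sub hO).1 ha, hca⟩)
    refine ⟨Z, by rw [hZ, (octs_sub hO).2], fun v hv => ?_⟩
    obtain ⟨l, hl, rfl⟩ := hZm v hv
    have hw : Word B l := fun x hx => (octs_sub hO).1 (hl x hx)
    rw [conj_eq h hB hw]
    refine ⟨fib_word h hB hw hu, ?_, l, hl, hw, rfl⟩
    conv_lhs => rw [← hfix hl]
    exact Commute.conj_iff _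
  obtain ⟨-, u, hu, hnu⟩ := fib_both A hB hO' hdis hy'
  obtain ⟨N, hN, hNm⟩ := orbit u hu
  obtain ⟨Z, hZ, hZm⟩ := orbit z₁ hz₁m
  set C := (fib D B O').filter fun v => Commute y' v with hC
  have hC16 : C.card ≤ 16 := by
    have hsub : N ⊆ (fib D B O').filter fun v => ¬ Commute y' v := fun v hv =>
      Finset.mem_filter.2 ⟨(hNm v hv).1, fun r => hnu ((hNm v hv).2.1.1 r)⟩
    have h1 := Finset.card_le_card hsub
    have h2 := Finset.card_filter_add_card_filter_not (s := fib D B O') (fun v => Commute y' v)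
    rw [card_fib A hB hO', ← hC] at h2
    omega
  have e : Z = C := Finset.eq_of_subset_of_card_le
    (fun v hv => Finset.mem_filter.2 ⟨(hZm v hv).1, (hZm v hv).2.1.2 hc₁⟩) (by omega)
  obtain ⟨-, -, l, hlO, hl, rfl⟩ := hZm z' (e ▸ Finset.mem_filter.2 ⟨hz', hc'⟩)
  refine ⟨l ++ l₁, fun x hx => (List.mem_append.1 hx).elim (hl x) (hl₁ x), ?_, ?_⟩
  · rw [List.prod_append, show l.prod * l₁.prod * y * (l.prod * l₁.prod)⁻¹ =
      l.prod * (l₁.prod * y * l₁.prod⁻¹) * l.prod⁻¹ by group, e₁, hfix hlO]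
  · rw [List.prod_append, hz₁]; group

open scoped _root_.Classical in
/-- The conjugate of a set. -/
noncomputable def act (g : G) (p : Finset G) : Finset G := p.image fun x => g * x * g⁻¹

open scoped _root_.Classical in
omit [Finite G] in
theorem act_mul (g k : G) (p : Finset G) : act (g * k) p = act g (act k p) := by
  simp only [act, Finset.image_image]
  exact Finset.image_congr fun x _ => by simp [Function.comp]; group

open scoped _root_.Classical in
omit [Finite G] in
theorem act_one (p : Finset G) : act 1 p = p := by simp [act]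

/-- The even span. -/
def Even0 (B : Finset G) (x : G) : Prop := ∃ l, Word B l ∧ Even l.length ∧ l.prod = x

/-- The orbit of a pair under the even span. -/
def orb (B : Finset G) (p : Finset G) : Set (Finset G) := {q | ∃ x, Even0 B x ∧ act x p = q}

omit [Finite G] in
theorem even0_mul {x y : G} (hx : Even0 B x) (hy : Even0 B y) : Even0 B (x * y) := by
  obtain ⟨l, hl, hle, rfl⟩ := hx
  obtain ⟨k, hk, hke, rfl⟩ := hy
  exact ⟨l ++ k, fun a ha => (List.mem_append.1 ha).elim (hl a) (hk a),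
    by rw [List.length_append]; exact hle.add hke, List.prod_append⟩

omit [Finite G] in
theorem orb_eq (h : Hyp D) (hB : Base24 D B) {p q : Finset G} {x : G} (hx : Even0 B x) (e : act x p = q) :
    orb B p = orb B q := by
  subst e
  obtain ⟨l, hl, hle, rfl⟩ := id hx
  ext r
  constructor
  · rintro ⟨y, hy, rfl⟩
    exact ⟨y * l.prod, even0_mul hy hx, by rw [← act_mul, mul_assoc, word_sq h hB hl, mul_one]⟩
  · rintro ⟨y, hy, rfl⟩
    exact ⟨y * l.prod, even0_mul hy hx, by rw [act_mul]⟩

open scoped _root_.Classical in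
/-- A commuting pair over disjoint octads. -/
def IsPair (D : Set G) (B : Finset G) (p : Finset G) : Prop :=
  ∃ O O' y z, (O, O') ∈ pairs D B ∧ y ∈ fib D B O ∧ z ∈ fib D B O' ∧ Commute y z ∧ p = {y, z}

theorem mem_pairs {O O' : Finset G} :
    (O, O') ∈ pairs D B ↔ (O ∈ octs D B ∧ O' ∈ octs D B) ∧ Disjoint O O' := by
  simp [pairs]

theorem octs_ne {O O' : Finset G} (hO : O ∈ octs D B) (hdis : Disjoint O O') : O ≠ O' := by
  rintro rfl
  have := (octs_sub hO).2
  rw [(disjoint_self.1 hdis : O = ⊥)] at this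
  simp at this

/-- An odd word moves every orbit. -/
theorem odd_moves (A : Data24 D) (hB : Base24 D B) {p : Finset G} (hp : IsPair D B p) {l : List G}
    (hl : Word B l) (ho : Odd l.length) : orb B (act l.prod p) ≠ orb B p := by
  classical
  intro e
  have hmem : p ∈ orb B p := ⟨1, ⟨[], by simp [Word], by simp, rfl⟩, act_one p⟩
  rw [← e] at hmem
  obtain ⟨x, ⟨k, hk, hke, rfl⟩, hx⟩ := hmem
  rw [← act_mul, ← List.prod_append] at hx
  have hw : Word B (k ++ l) := fun a ha => (List.mem_append.1 ha).elim (hk a) (hl a)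
  have hodd : Odd (k ++ l).length := by rw [List.length_append]; exact hke.add_odd ho
  obtain ⟨O, O', y, z, hOO, hy, hz, -, rfl⟩ := hp
  obtain ⟨⟨hO, -⟩, hdis⟩ := mem_pairs.1 hOO
  have hfix : ∀ {u v : G} {P Q : Finset G}, u ∈ fib D B P → v ∈ fib D B Q → P ≠ Q →
      (k ++ l).prod * u * (k ++ l).prod⁻¹ ∈ ({u, v} : Finset G) → Commute u (k ++ l).prod := by
    intro u v P Q hu hv hPQ hm
    simp only [Finset.mem_insert, Finset.mem_singleton] at hm
    rcases hm with r | r
    · exact (mul_inv_eq_iff_eq_mul.1 r).symm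
    · refine absurd ?_ hPQ
      rw [← (mem_fib.1 hu).2, ← nb_word hB hw u, r, (mem_fib.1 hv).2]
  have hmy : (k ++ l).prod * y * (k ++ l).prod⁻¹ ∈ ({y, z} : Finset G) := by
    rw [← hx]; exact Finset.mem_image.2 ⟨y, by simp, rfl⟩
  have hmz : (k ++ l).prod * z * (k ++ l).prod⁻¹ ∈ ({z, y} : Finset G) := by
    rw [Finset.pair_comm, ← hx]; exact Finset.mem_image.2 ⟨z, by simp, rfl⟩
  exact odd_free A hB hw hodd (mem_fib.1 hy).1.1 (mem_fib.1 hz).1.1
    (by rw [(mem_fib.1 hy).2, (mem_fib.1 hz).2]; exact hdis)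
    (hfix hy hz (octs_ne hO hdis) hmy) (hfix hz hy (octs_ne hO hdis).symm hmz)

open scoped _root_.Classical in
/-- The two orbits over each unordered pair of octads. -/
noncomputable def orbits (D : Set G) (B : Finset G) : Finset (Set (Finset G)) :=
  (Set.toFinite {p | IsPair D B p}).toFinset.image (orb B)

theorem card_orbits (A : Data24 D) (hB : Base24 D B) : (orbits D B).card = 22770 := by
  classical
  obtain ⟨b, hb⟩ := Finset.card_pos.1 (by rw [hB.card]; norm_num : 0 < B.card)
  -- one chosen pair over each ordered pair of octads, the same for both orders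
  set cfg : Finset (Finset (Finset G)) := (pairs D B).image fun q => {q.1, q.2} with hcfg
  have hex : ∀ c ∈ cfg, ∃ p, IsPair D B p ∧ p.image (nb B) = c := by
    intro c hc
    obtain ⟨⟨O, O'⟩, hq, rfl⟩ := Finset.mem_image.1 hc
    obtain ⟨⟨hO, hO'⟩, hdis⟩ := mem_pairs.1 hq
    obtain ⟨y, hy⟩ := Finset.card_pos.1 (by rw [card_fib A hB hO]; norm_num : 0 < (fib D B O).card)
    obtain ⟨u, hu, hyu⟩ := (fib_both A hB hO' hdis hy).1
    exact ⟨{y, u}, ⟨O, O', y, u, hq, hy, hu, hyu, rfl⟩,
      by rw [Finset.image_insert, Finset.image_singleton, (mem_fib.1 hy).2, (mem_fib.1 hu).2]⟩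
  choose P hP hPc using hex
  have hact : ∀ {l : List G}, Word B l → ∀ p : Finset G, (act l.prod p).image (nb B) = p.image (nb B) := by
    intro l hl p
    simp only [act, Finset.image_image]
    exact Finset.image_congr fun x _ => nb_word hB hl x
  have hb1 : Word B [b] := by simpa [Word] using hb
  let ψ : ↥cfg × Bool → Set (Finset G) := fun cb =>
    if cb.2 then orb B (act b (P cb.1 cb.1.2)) else orb B (P cb.1 cb.1.2)
  have hP_act : ∀ {p : Finset G} {l : List G}, IsPair D B p → Word B l → IsPair D B (act l.prod p) := by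
    rintro p l ⟨O, O', y, z, hq, hy, hz, hc, rfl⟩ hl
    exact ⟨O, O', _, _, hq, fib_word A.hyp hB hl hy, fib_word A.hyp hB hl hz, (Commute.conj_iff _).2 hc,
      by simp [act, Finset.image_insert, Finset.image_singleton]⟩
  have hcfgorb : ∀ {p q : Finset G}, orb B p = orb B q → p.image (nb B) = q.image (nb B) := by
    intro p q e
    have hmem : p ∈ orb B p := ⟨1, ⟨[], by simp [Word], by simp, rfl⟩, act_one p⟩
    rw [e] at hmem
    obtain ⟨x, ⟨k, hk, -, rfl⟩, rfl⟩ := hmem
    exact hact hk q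
  have hψ : Function.Injective ψ := by
    rintro ⟨⟨c, hc⟩, i⟩ ⟨⟨c', hc'⟩, j⟩ e
    have hcc : ∀ i : Bool, (if i then act b (P c hc) else P c hc).image (nb B) = c := fun i => by
      cases i
      · exact hPc c hc
      · have := hact hb1 (P c hc); simp only [List.prod_singleton] at this
        simpa [this] using hPc c hc
    have hcc' : ∀ i : Bool, (if i then act b (P c' hc') else P c' hc').image (nb B) = c' := fun i => by
      cases i
      · exact hPc c' hc'
      · have := hact hb1 (P c' hc'); simp only [List.prod_singleton] at this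
        simpa [this] using hPc c' hc'
    have e' : orb B (if i then act b (P c hc) else P c hc) = orb B (if j then act b (P c' hc') else P c' hc') := by
      cases i <;> cases j <;> simpa [ψ] using e
    have hceq : c = c' := (hcc i).symm.trans ((hcfgorb e').trans (hcc' j))
    subst hceq
    have hmv := odd_moves A hB (hP c hc) hb1 (by simp)
    simp only [List.prod_singleton] at hmv
    cases i <;> cases j
    · rfl
    · exact absurd (by simpa using e'.symm) hmv
    · exact absurd (by simpa using e') hmv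
    · rfl
  have himg : orbits D B = Finset.univ.image ψ := by
    ext o
    simp only [orbits, Finset.mem_image, Set.Finite.mem_toFinset, Finset.mem_univ, true_and]
    constructor
    · rintro ⟨p, ⟨O, O', y, z, hq, hy, hz, hyz, rfl⟩, rfl⟩
      obtain ⟨⟨hO, hO'⟩, hdis⟩ := mem_pairs.1 hq
      have hc : ({O, O'} : Finset (Finset G)) ∈ cfg := Finset.mem_image.2 ⟨(O, O'), hq, rfl⟩
      obtain ⟨O₁, O₁', y₁, z₁, hq₁, hy₁, hz₁, hyz₁, hPe⟩ := hP _ hc
      have hset := hPc _ hc
      rw [hPe, Finset.image_insert, Finset.image_singleton, (mem_fib.1 hy₁).2, (mem_fib.1 hz₁).2] at hset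
      -- align the two orders
      obtain ⟨u, v, hu, hv, huv, hPe'⟩ : ∃ u v, u ∈ fib D B O ∧ v ∈ fib D B O' ∧ Commute u v ∧ P _ hc = {u, v} := by
        have hm : O₁ ∈ ({O, O'} : Finset (Finset G)) := hset ▸ Finset.mem_insert_self _ _
        have hm' : O₁' ∈ ({O, O'} : Finset (Finset G)) := hset ▸ Finset.mem_insert_of_mem (Finset.mem_singleton_self _)
        have hne := octs_ne (mem_pairs.1 hq₁).1.1 (mem_pairs.1 hq₁).2
        simp only [Finset.mem_insert, Finset.mem_singleton] at hm hm'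
        rcases hm with r | r <;> rcases hm' with r' | r'
        · exact absurd (r.trans r'.symm) hne
        · exact ⟨y₁, z₁, r ▸ hy₁, r' ▸ hz₁, hyz₁, hPe⟩
        · exact ⟨z₁, y₁, r' ▸ hz₁, r ▸ hy₁, hyz₁.symm, hPe.trans (Finset.pair_comm _ _)⟩
        · exact absurd (r.trans r'.symm) hne
      obtain ⟨l, hl, ey, ez⟩ := pair_trans A hB hO hO' hdis hy hu hz hv hyz huv
      have hpe : act l.prod {y, z} = P _ hc := by
        rw [hPe', act, Finset.image_insert, Finset.image_singleton, ey, ez]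
      rcases Nat.even_or_odd l.length with he | ho
      · exact ⟨(⟨_, hc⟩, false), by simp only [ψ]; exact (orb_eq A.hyp hB ⟨l, hl, he, rfl⟩ hpe).symm⟩
      · refine ⟨(⟨_, hc⟩, true), ?_⟩
        simp only [ψ, if_true]
        refine (orb_eq A.hyp hB (x := b * l.prod) ⟨b :: l, fun a ha => (List.mem_cons.1 ha).elim (fun r => r ▸ hb) (hl a),
          by rw [List.length_cons]; exact ho.add_one, List.prod_cons⟩ ?_).symm
        rw [act_mul, hpe]
    · rintro ⟨⟨⟨c, hc⟩, i⟩, rfl⟩
      cases i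
      · exact ⟨P c hc, hP c hc, by simp [ψ]⟩
      · have := hP_act (hP c hc) hb1
        simp only [List.prod_singleton] at this
        exact ⟨_, this, by simp [ψ]⟩
  rw [himg, Finset.card_image_of_injective _ hψ, Finset.card_univ, Fintype.card_prod, Fintype.card_coe,
    Fintype.card_bool]
  -- two orders over each unordered pair
  have h2 := Finset.card_eq_sum_card_image (fun q : Finset G × Finset G => ({q.1, q.2} : Finset (Finset G))) (pairs D B)
  rw [card_pairs A hB, ← hcfg] at h2
  rw [h2, Finset.sum_congr rfl (g := fun _ => 2), Finset.sum_const, smul_eq_mul]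
  intro c hc
  obtain ⟨⟨O, O'⟩, hq, rfl⟩ := Finset.mem_image.1 hc
  obtain ⟨⟨hO, hO'⟩, hdis⟩ := mem_pairs.1 hq
  have hne := octs_ne hO hdis
  rw [← Finset.card_pair (show ((O, O') : Finset G × Finset G) ≠ (O', O) from fun r => hne (congrArg Prod.fst r))]
  congr 1
  ext ⟨P₁, P₂⟩
  simp only [Finset.mem_filter, Finset.mem_insert, Finset.mem_singleton, Prod.mk.injEq]
  constructor
  · rintro ⟨hPq, e⟩
    have hne' := octs_ne (mem_pairs.1 hPq).1.1 (mem_pairs.1 hPq).2
    have m1 : P₁ ∈ ({O, O'} : Finset (Finset G)) := e ▸ Finset.mem_insert_self _ _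
    have m2 : P₂ ∈ ({O, O'} : Finset (Finset G)) := e ▸ Finset.mem_insert_of_mem (Finset.mem_singleton_self _)
    simp only [Finset.mem_insert, Finset.mem_singleton] at m1 m2
    rcases m1 with r | r <;> rcases m2 with r' | r'
    · exact absurd (r.trans r'.symm) hne'
    · exact Or.inl ⟨r, r'⟩
    · exact Or.inr ⟨r, r'⟩
    · exact absurd (r.trans r'.symm) hne'
  · rintro (⟨rfl, rfl⟩ | ⟨rfl, rfl⟩)
    · exact ⟨hq, rfl⟩
    · exact ⟨mem_pairs.2 ⟨⟨hO', hO⟩, hdis.symm⟩, Finset.pair_comm _ _⟩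

/-- A member of type M(24) is outside some normal subgroup of index two. -/
theorem exists_index_two (A : Data24 D) {d : G} (hd : d ∈ D) :
    ∃ M : Subgroup G, M.Normal ∧ M.index = 2 ∧ d ∉ M := by
  classical
  have h := A.hyp
  set T : Sylow 2 G := Classical.arbitrary _
  obtain ⟨B, hB, hBT⟩ := base_of_sylow A T
  have hTB : ∀ g ∈ (T : Subgroup G), ∀ b, g * b * g⁻¹ ∈ B ↔ b ∈ B := by
    intro g hg b
    rw [← Finset.mem_coe, hBT, ← Finset.mem_coe, hBT]
    constructor
    · rintro ⟨h1, h2⟩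
      refine ⟨by simpa [mul_assoc] using h.conj g⁻¹ _ h1, ?_⟩
      simpa [mul_assoc] using mul_mem (mul_mem (inv_mem hg) h2) hg
    · exact fun ⟨h1, h2⟩ => ⟨h.conj g b h1, mul_mem (mul_mem hg h2) (inv_mem hg)⟩
  have hpair : ∀ g ∈ (T : Subgroup G), ∀ p, IsPair D B p → IsPair D B (act g p) := by
    rintro g hg _ ⟨O, O', y, z, hq, hy, hz, hc, rfl⟩
    obtain ⟨⟨hO, hO'⟩, hdis⟩ := mem_pairs.1 hq
    have hf : ∀ {P u}, P ∈ octs D B → u ∈ fib D B P →
        g * u * g⁻¹ ∈ fib D B (act g P) ∧ act g P ∈ octs D B := by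
      intro P u hP hu
      obtain ⟨⟨huD, huB⟩, hun⟩ := mem_fib.1 hu
      have hn : nb B (g * u * g⁻¹) = act g P := by rw [nb_conj g (hTB g hg), hun]; rfl
      have hout : g * u * g⁻¹ ∈ D ∧ g * u * g⁻¹ ∉ B := ⟨h.conj g u huD, fun r => huB ((hTB g hg u).1 r)⟩
      refine ⟨mem_fib.2 ⟨hout, hn⟩, mem_octs.2 ⟨_, hout, ?_, hn⟩⟩
      rw [hn, act, Finset.card_image_of_injective _ (fun a b r => by simpa using r), (octs_sub hP).2]
    refine ⟨act g O, act g O', _, _, mem_pairs.2 ⟨⟨(hf hO hy).2, (hf hO' hz).2⟩, ?_⟩, (hf hO hy).1, (hf hO' hz).1,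
      (Commute.conj_iff g).2 hc, by simp [act, Finset.image_insert, Finset.image_singleton]⟩
    exact (Finset.disjoint_image fun a b r => by simpa using r).2 hdis
  have heven : ∀ g ∈ (T : Subgroup G), ∀ x, Even0 B x → Even0 B (g * x * g⁻¹) := by
    rintro g hg _ ⟨l, hl, hle, rfl⟩
    refine ⟨l.map fun a => g * a * g⁻¹, fun a ha => ?_, by simpa using hle,
      (map_list_prod (MulAut.conj g).toMonoidHom l).symm⟩
    obtain ⟨a', ha', rfl⟩ := List.mem_map.1 ha
    exact (hTB g hg a').2 (hl a' ha')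
  have himage : ∀ g ∈ (T : Subgroup G), ∀ p, act g '' orb B p = orb B (act g p) := by
    intro g hg p
    ext q
    constructor
    · rintro ⟨_, ⟨x, hx, rfl⟩, rfl⟩
      exact ⟨g * x * g⁻¹, heven g hg x hx, by rw [← act_mul, ← act_mul]; group⟩
    · rintro ⟨x, hx, rfl⟩
      refine ⟨act (g⁻¹ * x * g⁻¹⁻¹) p, ⟨_, heven g⁻¹ (inv_mem hg) x hx, rfl⟩, ?_⟩
      rw [← act_mul, ← act_mul]; group
  have hmem : ∀ g : ↥(T : Subgroup G), ∀ o ∈ orbits D B, act (g : G) '' o ∈ orbits D B := by
    intro g o ho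
    simp only [orbits, Finset.mem_image, Set.Finite.mem_toFinset] at ho ⊢
    obtain ⟨p, hp, rfl⟩ := ho
    exact ⟨act (g : G) p, hpair g g.2 p hp, (himage g g.2 p).symm⟩
  have hcomp : ∀ (g k : G) (o : Set (Finset G)), act g '' (act k '' o) = act (g * k) '' o := fun g k o => by
    rw [Set.image_image]; exact Set.image_congr fun p _ => (act_mul g k p).symm
  let σ : ↥(T : Subgroup G) →* Equiv.Perm ↥(orbits D B) := MonoidHom.mk' (fun g =>
    { toFun := fun o => ⟨act (g : G) '' o.1, hmem g o.1 o.2⟩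
      invFun := fun o => ⟨act ((g⁻¹ : ↥(T : Subgroup G)) : G) '' o.1, hmem g⁻¹ o.1 o.2⟩
      left_inv := fun o => Subtype.ext (by
        show act _ '' (act _ '' o.1) = o.1
        rw [hcomp, Subgroup.coe_inv, inv_mul_cancel]; simp [act_one])
      right_inv := fun o => Subtype.ext (by
        show act _ '' (act _ '' o.1) = o.1
        rw [hcomp, Subgroup.coe_inv, mul_inv_cancel]; simp [act_one]) })
    fun g k => Equiv.ext fun o => Subtype.ext (hcomp g k o.1).symm
  let χ : ↥(T : Subgroup G) →* ℤˣ := Equiv.Perm.sign.comp σ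
  have hχ : ∀ (b : G) (hb : b ∈ D) (hbT : b ∈ (T : Subgroup G)), χ ⟨b, hbT⟩ = -1 := by
    intro b hb hbT
    have hbB : b ∈ B := by rw [← Finset.mem_coe, hBT]; exact ⟨hb, hbT⟩
    show Equiv.Perm.sign (σ ⟨b, hbT⟩) = -1
    rw [Equiv.Perm.sign_of_pow_two_eq_one (by
      rw [← map_pow, show (⟨b, hbT⟩ : ↥(T : Subgroup G)) ^ 2 = 1 from Subtype.ext (by
        rw [SubgroupClass.coe_pow, pow_two, h.mul_self hb]; rfl), map_one])]
    have hfix : Fintype.card (Function.fixedPoints (σ ⟨b, hbT⟩)) = 0 := by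
      rw [Fintype.card_eq_zero_iff]
      refine ⟨fun ⟨⟨o, ho⟩, hq⟩ => ?_⟩
      have e : act b '' o = o := congrArg Subtype.val hq
      simp only [orbits, Finset.mem_image, Set.Finite.mem_toFinset] at ho
      obtain ⟨p, hp, rfl⟩ := ho
      have hm := odd_moves A hB hp (l := [b]) (by simpa [Word] using hbB) (by simp)
      simp only [List.prod_singleton] at hm
      exact hm ((himage b hbT p).symm.trans e)
    rw [hfix, Fintype.card_coe, card_orbits A hB]
    exact Odd.neg_one_pow ⟨5692, by norm_num⟩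
  have hsurj : Function.Surjective χ := fun z => by
    obtain ⟨b, hb⟩ := Finset.card_pos.1 (by rw [hB.card]; norm_num : 0 < B.card)
    rw [← Finset.mem_coe, hBT] at hb
    rcases Int.units_eq_one_or z with rfl | rfl
    · exact ⟨1, map_one χ⟩
    · exact ⟨⟨b, hb.2⟩, hχ b hb.1 hb.2⟩
  refine CfsgLib.Fusion.thompson_transfer T (Q := χ.ker.map (T : Subgroup G).subtype)
    (Subgroup.map_subtype_le _) ?_ (by rw [pow_two, h.mul_self hd]) fun g hg => ?_
  · rw [Subgroup.relIndex, Subgroup.subgroupOf, Subgroup.comap_map_eq_self_of_injective Subtype.val_injective,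
      Subgroup.index_ker, MonoidHom.range_eq_top.2 hsurj, Subgroup.card_top, Nat.card_eq_fintype_card,
      Fintype.card_units_int]
  · obtain ⟨⟨x, hxT⟩, hx, e⟩ := hg
    have hxD : x ∈ D := by
      rw [show x = g * d * g⁻¹ from e]; exact h.conj g d hd
    rw [SetLike.mem_coe, MonoidHom.mem_ker, hχ x hxD hxT] at hx
    exact absurd hx (by decide)

end CfsgLib.Spor.Tri.Golay
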