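/-
The automorphism group of `PSU(6, 4)` has order at most six times the order of the group.
-/
import Cfsg.Agent.Lib.Spor.Tri.PairCentral

namespace CfsgLib.Spor.Tri.Level

open CfsgLib.SU

theorem card_ringAut_four {F : Type} [Field F] [Fintype F] (hF : Fintype.card F = 4) : Nat.card (RingAut F) ≤ 2 := by
  classical
  obtain ⟨ω, hω0, hω1, -, -, hcases⟩ := Relations.exists_omega (F := F) hF
  haveI : Finite (RingAut F) :=
    Finite.of_injective (fun σ : RingAut F => (σ : F → F)) fun σ τ r => RingEquiv.ext (congrFun r)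
  have key : ∀ σ : RingAut F, σ ω = ω ∨ σ ω = ω ^ 2 := fun σ => by
    rcases hcases (σ ω) with s | s | s | s
    · exact absurd ((map_eq_zero σ).1 s) hω0
    · exact absurd (σ.injective (s.trans (map_one σ).symm)) hω1
    · exact Or.inl s
    · exact Or.inr s
  have hinj : Function.Injective fun σ : RingAut F => decide (σ ω = ω) := by
    intro σ τ r
    simp only [decide_eq_decide] at r
    have eω : σ ω = τ ω := by
      rcases key σ with s | s <;> rcases key τ with t | t
      · rw [s, t]
      · rw [s, r.1 s]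
      · rw [r.2 t, t]
      · rw [s, t]
    refine RingEquiv.ext fun x => ?_
    rcases hcases x with rfl | rfl | rfl | rfl
    · rw [map_zero, map_zero]
    · rw [map_one, map_one]
    · exact eω
    · rw [map_pow, map_pow, eω]
  have := Nat.card_le_card_of_injective _ hinj
  rwa [Nat.card_eq_fintype_card (α := Bool), Fintype.card_bool] at this

theorem card_gu_six {F : Type} [Field F] [Fintype F] (C : UCtx F 2) (hF : Fintype.card F = 4) :
    Nat.card ↥(Cfsg.GU 6 F 2) = 82771476480 := by
  rw [CfsgLib.Classical.card_gu_formula C (by rw [hF]; norm_num) 6]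
  decide

theorem aut_psu6_le {F : Type} [Field F] [Fintype F] (hF : Fintype.card F = 4) :
    Nat.card (MulAut (Cfsg.PSU 6 F 2)) ≤ 55180984320 := by
  classical
  haveI := Fact.mk Nat.prime_two
  obtain ⟨C, hC⟩ := CfsgLib.SU.classify (F := F) (p := 2) (f := 1) (q := 2) (by norm_num) le_rfl
    (by rw [hF]; norm_num) (n := 6) (by norm_num) (by norm_num)
  haveI : Finite (RingAut F) :=
    Finite.of_injective (fun σ : RingAut F => (σ : F → F)) fun σ τ r => RingEquiv.ext (congrFun r)
  have hker : 3 ≤ Nat.card ↥(C.indHom (n := 6)).ker := by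
    have hu3 : Nat.card Fˣ = 3 := by rw [Nat.card_units, Nat.card_eq_fintype_card, hF]
    have hmem : ∀ u : Fˣ, C.gscal (n := 6) ⟨u, C.mem_unitOne.2 (Relations.norm_one C hF u.ne_zero)⟩ ∈
        (C.indHom (n := 6)).ker := fun u => indHom_scalar C (by norm_num) (C.gscal_val _)
    rw [← hu3]
    refine Nat.card_le_card_of_injective (fun u => (⟨_, hmem u⟩ : ↥(C.indHom (n := 6)).ker)) fun u v e => ?_
    have e1 := congrArg (fun g : ↥(C.indHom (n := 6)).ker => g.1.1.1 0 0) e
    simp only [C.gscal_val] at e1
    exact Units.ext (by simpa using e1)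
  have hsurj : Function.Surjective fun p : ↥(C.indHom (n := 6)).range × RingAut F => p.1.1 * C.ind 1 p.2 := by
    intro β
    obtain ⟨g, σ, rfl⟩ := hC β
    refine ⟨(⟨_, g, rfl⟩, σ), ?_⟩
    show C.indHom g * C.ind 1 σ = C.ind g σ
    rw [C.indHom_apply, C.ind_one_mul, mul_one]
  refine (Nat.card_le_card_of_surjective _ hsurj).trans ?_
  rw [Nat.card_prod]
  have h1 := Subgroup.card_eq_card_quotient_mul_card_subgroup (C.indHom (n := 6)).ker
  rw [card_gu_six C hF, Nat.card_congr (QuotientGroup.quotientKerEquivRange (C.indHom (n := 6))).toEquiv] at h1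
  refine (Nat.mul_le_mul_left _ (card_ringAut_four hF)).trans ?_
  have h2 := Nat.mul_le_mul_left (Nat.card ↥(C.indHom (n := 6)).range) hker
  omega

end CfsgLib.Spor.Tri.Level
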