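/-
The centralizer of a product of three commuting members in the derived subgroup of type M(24).
-/
import Cfsg.Agent.Lib.Spor.Tri.LevelPair
import Cfsg.Agent.Lib.Spor.Tri.LevelFour
import Cfsg.Agent.Lib.Spor.Tri.LevelFive
import Cfsg.Agent.Lib.Spor.Tri.LevelParity
import Cfsg.Agent.Lib.Spor.Tri.U6Aut
import Cfsg.Agent.Lib.Coprime.Component

namespace CfsgLib.Spor.Tri.Level

open CfsgLib.Spor.Tri CfsgLib.Spor.Tri.Relations
open scoped commutatorElement

variable {G : Type*} [Group G] [Finite G] {D : Set G}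

theorem comm24_facts (h : Hyp D) (hprim : Cfsg.IsPrimitiveUnderConj D) (h24 : Cfsg.IsOfTypeM24 G D) :
    (commutator G).index = 2 ∧ ∀ a ∈ D, a ∉ commutator G := by
  obtain ⟨L, -⟩ := lev24 h hprim h24
  obtain ⟨d, W⟩ := local24 h hprim h24
  obtain ⟨h2, h3, hr⟩ := h.of_primitive hprim (by
    obtain ⟨q, hq⟩ : (perp D d).Nonempty := (Set.ncard_pos (Set.toFinite _)).1 (by rw [L.deg d W.mem]; norm_num)
    exact ⟨d, W.mem, q, hq.1, hq.2.1.symm, hq.2.2⟩)
  have hle := h.layer_index_le hprim.2.1 h2 h3 hr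
  have hnot : ∀ a ∈ D, a ∉ commutator G := by
    intro a ha hmem
    obtain ⟨M, hM, hMi, haM⟩ := Golay.exists_index_two (data24 h hprim h24) ha
    haveI := hM
    haveI : Fact (Nat.Prime 2) := ⟨Nat.prime_two⟩
    haveI : IsCyclic (G ⧸ M) := isCyclic_of_prime_card (show Nat.card (G ⧸ M) = 2 from hMi)
    refine haM ?_
    have hle2 : commutator G ≤ M := by
      rw [_root_.commutator_def, Subgroup.commutator_le]
      intro u _ v _
      rw [← QuotientGroup.eq_one_iff]
      show QuotientGroup.mk' M ⁅u, v⁆ = 1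
      rw [map_commutatorElement, commutatorElement_eq_one_iff_mul_comm]
      exact IsMulCommutative.is_comm.comm _ _
    exact hle2 hmem
  refine ⟨?_, hnot⟩
  rw [← h.commutator_eq_layer hle] at hle
  have h1 : (commutator G).index ≠ 1 := fun e => hnot d W.mem (Subgroup.index_eq_one.1 e ▸ Subgroup.mem_top d)
  have := Subgroup.index_ne_zero_of_finite (H := commutator G)
  omega

/-- Short tuples with the same product have the same members. -/
theorem set_of_prod_eq [DecidableEq G] (h : Hyp D) (hk : NoRel 7 D) {l l' : List G} (ht : Tuple D l) (ht' : Tuple D l')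
    (hl : l.length ≤ 3) (hl' : l'.length ≤ 3) (hp : l.prod = l'.prod) : ∀ x, x ∈ l ↔ x ∈ l' := by
  have hcross : ∀ a ∈ l, ∀ b ∈ l', Commute a b := fun a ha => InvolFixed.commute_members h (ht.2.1 a ha).1 ht' hl'
    (hp ▸ Commute.list_prod_right _ _ fun b hb => ht.2.2 a ha b hb)
  refine eq_of_prod_eq (pre_of_hyp h) hk l l' ht.1 ht'.1 (fun a ha => (List.mem_append.1 ha).elim (ht.2.1 a) (ht'.2.1 a))
    (fun a ha b hb => ?_) hp ?_
  · rcases List.mem_append.1 ha with ha | ha <;> rcases List.mem_append.1 hb with hb | hb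
    · exact ht.2.2 a ha b hb
    · exact hcross a ha b hb
    · exact (hcross b hb a ha).symm
    · exact ht'.2.2 a ha b hb
  · have := List.length_filter_le (fun a => decide (a ∉ l')) l
    have := List.length_filter_le (fun a => decide (a ∉ l)) l'
    omega

/-- The triple centraliser in the derived subgroup. -/
abbrev tcent (a b c : G) : Subgroup G := commutator G ⊓ Subgroup.centralizer ({a, b, c} : Set G)

theorem mem_tcent {a b c g : G} :
    g ∈ tcent a b c ↔ g ∈ commutator G ∧ Commute g a ∧ Commute g b ∧ Commute g c := by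
  rw [tcent, Subgroup.mem_inf, Subgroup.mem_centralizer_iff]
  simp only [Set.mem_insert_iff, Set.mem_singleton_iff, forall_eq_or_imp, forall_eq]
  exact ⟨fun r => ⟨r.1, r.2.1.symm, r.2.2.1.symm, r.2.2.2.symm⟩, fun r => ⟨r.1, r.2.1.symm.eq, r.2.2.1.symm.eq, r.2.2.2.symm.eq⟩⟩

theorem pair_mem_comm (h : Hyp D) (hprim : Cfsg.IsPrimitiveUnderConj D) (h24 : Cfsg.IsOfTypeM24 G D) {a b : G}
    (ha : a ∈ D) (hb : b ∈ D) : a * b ∈ commutator G := by
  obtain ⟨hi, hn⟩ := comm24_facts h hprim h24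
  rw [Subgroup.mul_mem_iff_of_index_two hi]
  exact iff_of_false (hn a ha) (hn b hb)

/-- Structure of the triple centraliser. -/
theorem tcent_data (h : Hyp D) (hprim : Cfsg.IsPrimitiveUnderConj D) (h24 : Cfsg.IsOfTypeM24 G D) {a b c : G}
    (ht : Tuple D [a, b, c]) : Cfsg.IsQuasisimple ↥(tcent a b c) ∧
      (Subgroup.center ↥(tcent a b c)).map (tcent a b c).subtype = Subgroup.closure {a * b, a * c} ∧
      ∃ (F : Type) (_ : Field F) (_ : Fintype F), Fintype.card F = 4 ∧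
        Nonempty (↥(tcent a b c) ⧸ Subgroup.center ↥(tcent a b c) ≃* Cfsg.PSU 6 F 2) := by
  classical
  obtain ⟨hi, hn⟩ := comm24_facts h hprim h24
  obtain ⟨L24, -⟩ := lev24 h hprim h24
  obtain ⟨d, W⟩ := local24 h hprim h24
  obtain ⟨L23, -⟩ := lev23 W.ihyp W.iprim W.type
  have hnd := ht.1
  simp at hnd
  obtain ⟨⟨hab, hac⟩, hbc⟩ := hnd
  have ha := (ht.2.1 a (by simp)).1
  have hb := (ht.2.1 b (by simp)).1
  have hc := (ht.2.1 c (by simp)).1
  have cab : Commute a b := ht.2.2 a (by simp) b (by simp)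
  have cac : Commute a c := ht.2.2 a (by simp) c (by simp)
  have cbc : Commute b c := ht.2.2 b (by simp) c (by simp)
  obtain ⟨g, hg⟩ := h.transitive a ha d W.mem
  set σ := MulAut.conj g with hσ
  have hσa : σ a = d := hg
  have hB : σ b ∈ perp D d := by rw [← hσa]; exact ⟨h.conj g b hb, fun e => hab (σ.injective e).symm, cab.map σ.toMonoidHom⟩
  have hC : σ c ∈ perp D d := by rw [← hσa]; exact ⟨h.conj g c hc, fun e => hac (σ.injective e).symm, cac.map σ.toMonoidHom⟩
  have hBC : bar hC ∈ perp (img D d) (bar hB) :=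
    (bar_perp h W.nc hC hB).2 ⟨hC.1, fun e => hbc (σ.injective e).symm, cbc.map σ.toMonoidHom⟩
  obtain ⟨hq, -⟩ := pair_perfect W.ihyp W.iprim W.type (bar_mem hB) hBC
  obtain ⟨hz, ⟨F, hFf, hFt, hF, ⟨eF⟩⟩, -⟩ := pair_all W.ihyp W.iprim W.type (bar_mem hB) hBC
  set P := pcent (bar hB) (bar hC) with hP
  have hl : ∀ k : ↥(tcent a b c), σ (k : G) ∈ loc D d := fun k =>
    L24.cent d W.mem (Subgroup.mem_centralizer_singleton_iff.2 (by
      rw [← hσa]; exact ((mem_tcent.1 k.2).2.1.map σ.toMonoidHom).eq))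
  have hpm : ∀ k : ↥(tcent a b c), QuotientGroup.mk' (Subgroup.center ↥(loc D d)) ⟨σ (k : G), hl k⟩ ∈ P := by
    intro k
    refine mem_pcent.2 ⟨?_, ?_⟩
    · exact (show Commute (⟨σ (k : G), hl k⟩ : ↥(loc D d)) ⟨σ b, perp_loc hB⟩ from
        Subtype.ext ((mem_tcent.1 k.2).2.2.1.map σ.toMonoidHom).eq).map (QuotientGroup.mk' _)
    · exact (show Commute (⟨σ (k : G), hl k⟩ : ↥(loc D d)) ⟨σ c, perp_loc hC⟩ from
        Subtype.ext ((mem_tcent.1 k.2).2.2.2.map σ.toMonoidHom).eq).map (QuotientGroup.mk' _)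
  let ψ : ↥(tcent a b c) →* ↥P := MonoidHom.mk'
    (fun k => ⟨QuotientGroup.mk' (Subgroup.center ↥(loc D d)) ⟨σ (k : G), hl k⟩, hpm k⟩) fun k k' => Subtype.ext (by
      show QuotientGroup.mk' (Subgroup.center ↥(loc D d)) ⟨σ ((k : G) * (k' : G)), _⟩ = _ * _
      rw [← map_mul]
      exact congrArg _ (Subtype.ext (map_mul σ (k : G) k')))
  have hinj : Function.Injective ψ := by
    rw [injective_iff_map_eq_one]
    intro k hk
    have e : QuotientGroup.mk' (Subgroup.center ↥(loc D d)) ⟨σ (k : G), hl k⟩ = 1 := congrArg Subtype.val hk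
    rcases W.zl _ (mk_eq_one.1 e) with r | r
    · exact Subtype.ext (σ.injective (r.trans (map_one σ).symm))
    · exact absurd ((σ.injective (r.trans hσa.symm)) ▸ (mem_tcent.1 k.2).1) (hn a ha)
  have hsurj : Function.Surjective ψ := by
    rintro ⟨q, hq'⟩
    obtain ⟨⟨u, hu⟩, rfl⟩ := QuotientGroup.mk'_surjective _ q
    obtain ⟨qb, qc⟩ := mem_pcent.1 hq'
    have hud : Commute u d := (commute_loc hu).symm
    have key : ∀ {y} (hy : y ∈ perp D d),
        Commute (QuotientGroup.mk' (Subgroup.center ↥(loc D d)) ⟨u, hu⟩) (bar hy) → Commute u y := by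
      intro y hy r
      have hm : u * y * u⁻¹ ∈ perp D d := by
        have r' : u * y * u⁻¹ ∈ perp D (u * d * u⁻¹) := by rw [perp_conj h]; exact ⟨y, hy, rfl⟩
        rwa [hud.eq, mul_inv_cancel_right] at r'
      refine mul_inv_eq_iff_eq_mul.1 ((bar_inj h W.nc hm hy).1 ?_)
      rw [show bar hm = QuotientGroup.mk' _ ⟨u, hu⟩ * bar hy * (QuotientGroup.mk' _ ⟨u, hu⟩)⁻¹ from rfl, r.eq,
        mul_inv_cancel_right]
    obtain ⟨v, rfl⟩ : ∃ v, σ v = u := ⟨σ.symm u, σ.apply_symm_apply u⟩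
    have cv : ∀ {y}, Commute (σ v) (σ y) → Commute v y := fun r => (Commute.conj_iff g).1 r
    have va : Commute v a := cv (hσa.symm ▸ hud)
    have vb : Commute v b := cv (key hB qb)
    have vc : Commute v c := cv (key hC qc)
    have hda : QuotientGroup.mk' (Subgroup.center ↥(loc D d)) (⟨d, W.dl⟩ : ↥(loc D d)) = 1 :=
      (QuotientGroup.eq_one_iff _).2 (Subgroup.mem_center_iff.2 fun x => Subtype.ext (commute_loc x.2).symm.eq)
    by_cases hv : v ∈ commutator G
    · exact ⟨⟨v, mem_tcent.2 ⟨hv, va, vb, vc⟩⟩, Subtype.ext rfl⟩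
    · refine ⟨⟨v * a, mem_tcent.2 ⟨(Subgroup.mul_mem_iff_of_index_two hi).2 (iff_of_false hv (hn a ha)),
        va.mul_left (Commute.refl a), vb.mul_left cab, vc.mul_left cac⟩⟩, Subtype.ext ?_⟩
      show QuotientGroup.mk' _ (⟨σ (v * a), _⟩ : ↥(loc D d)) = QuotientGroup.mk' _ ⟨σ v, hu⟩
      rw [show (⟨σ (v * a), hl ⟨v * a, mem_tcent.2 ⟨(Subgroup.mul_mem_iff_of_index_two hi).2 (iff_of_false hv (hn a ha)),
        va.mul_left (Commute.refl a), vb.mul_left cab, vc.mul_left cac⟩⟩⟩ : ↥(loc D d)) = ⟨σ v, hu⟩ * ⟨d, W.dl⟩ from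
        Subtype.ext (by show σ (v * a) = σ v * d; rw [map_mul, hσa]), map_mul, hda, mul_one]
  set e0 : ↥(tcent a b c) ≃* ↥P := MulEquiv.ofBijective ψ ⟨hinj, hsurj⟩
  have hcen : (Subgroup.center ↥(tcent a b c)).map e0.toMonoidHom = Subgroup.center ↥P := by
    ext q
    obtain ⟨k, rfl⟩ := e0.surjective q
    rw [show e0 k = e0.toMonoidHom k from rfl, Subgroup.mem_map_iff_mem (f := e0.toMonoidHom) e0.injective,
      Subgroup.mem_center_iff,
      Subgroup.mem_center_iff]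
    refine ⟨fun r y => ?_, fun r y => e0.injective (by rw [map_mul, map_mul]; exact r (e0 y))⟩
    obtain ⟨y, rfl⟩ := e0.surjective y
    show e0 y * e0 k = e0 k * e0 y
    rw [← map_mul, r, map_mul]
  refine ⟨CfsgLib.Coprime.isQuasisimple_congr e0.symm hq, ?_,
    F, hFf, hFt, hF, ⟨(QuotientGroup.congr _ _ e0 hcen).trans eF⟩⟩
  have hda : QuotientGroup.mk' (Subgroup.center ↥(loc D d)) (⟨d, W.dl⟩ : ↥(loc D d)) = 1 :=
    (QuotientGroup.eq_one_iff _).2 (Subgroup.mem_center_iff.2 fun x => Subtype.ext (commute_loc x.2).symm.eq)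
  have hE : ∀ {y} (hy : y ∈ D) (hyp : σ y ∈ perp D d) (hm : a * y ∈ tcent a b c),
      ((ψ ⟨a * y, hm⟩ : ↥P) : ↥(loc D d) ⧸ Subgroup.center ↥(loc D d)) = bar hyp := by
    intro y hy hyp hm
    show QuotientGroup.mk' _ (⟨σ (a * y), _⟩ : ↥(loc D d)) = bar hyp
    rw [show (⟨σ (a * y), hl ⟨a * y, hm⟩⟩ : ↥(loc D d)) = ⟨d, W.dl⟩ * ⟨σ y, perp_loc hyp⟩ from
      Subtype.ext (by show σ (a * y) = d * σ y; rw [map_mul, hσa]), map_mul, hda, one_mul]
    rfl
  have mab : a * b ∈ tcent a b c := mem_tcent.2 ⟨pair_mem_comm h hprim h24 ha hb,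
    (Commute.refl a).mul_left cab.symm, cab.mul_left (Commute.refl b), cac.mul_left cbc⟩
  have mac : a * c ∈ tcent a b c := mem_tcent.2 ⟨pair_mem_comm h hprim h24 ha hc,
    (Commute.refl a).mul_left cac.symm, cab.mul_left cbc.symm, cac.mul_left (Commute.refl c)⟩
  have himg : ((Subgroup.closure {(⟨a * b, mab⟩ : ↥(tcent a b c)), ⟨a * c, mac⟩}).map ψ).map P.subtype =
      Subgroup.closure {bar hB, bar hC} := by
    rw [MonoidHom.map_closure, MonoidHom.map_closure, Set.image_pair, Set.image_pair]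
    congr 1
    rw [show P.subtype (ψ ⟨a * b, mab⟩) = bar hB from hE hb hB mab,
      show P.subtype (ψ ⟨a * c, mac⟩) = bar hC from hE hc hC mac]
  rw [← hcen] at hz
  have e1 : Subgroup.center ↥(tcent a b c) = Subgroup.closure {(⟨a * b, mab⟩ : ↥(tcent a b c)), ⟨a * c, mac⟩} :=
    Subgroup.map_injective hinj (Subgroup.map_injective P.subtype_injective (hz.trans himg.symm))
  rw [e1, MonoidHom.map_closure, Set.image_pair]
  rfl

end CfsgLib.Spor.Tri.Level
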