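/-
The centralizer of a product of three commuting members modulo the triple centraliser.
-/
import Cfsg.Agent.Lib.Spor.Tri.TripleM24

namespace CfsgLib.Spor.Tri.Level

open CfsgLib.Spor.Tri CfsgLib.Spor.Tri.Relations

variable {G : Type*} [Group G] [Finite G] {D : Set G}

/-- The centraliser of the product in the derived subgroup. -/
abbrev tprod (a b c : G) : Subgroup G := commutator G ⊓ Subgroup.centralizer ({a * b * c} : Set G)

theorem mem_tprod {a b c g : G} : g ∈ tprod a b c ↔ g ∈ commutator G ∧ g * (a * b * c) * g⁻¹ = a * b * c := by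
  rw [tprod, Subgroup.mem_inf, Subgroup.mem_centralizer_singleton_iff, mul_inv_eq_iff_eq_mul]

theorem tcent_eq (h : Hyp D) (hk : NoRel 7 D) {a b c : G} (ht : Tuple D [a, b, c]) :
    tcent a b c = commutator G ⊓ Subgroup.centralizer ((Subgroup.closure ({a * b, a * c} : Set G) : Subgroup G) : Set G) := by
  classical
  ext g
  rw [mem_tcent, Subgroup.mem_inf, Subgroup.centralizer_closure, Subgroup.mem_centralizer_iff]
  simp only [Set.mem_insert_iff, Set.mem_singleton_iff, forall_eq_or_imp, forall_eq]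
  constructor
  · rintro ⟨hg, ca, cb, cc⟩
    exact ⟨hg, (ca.mul_right cb).symm.eq, (ca.mul_right cc).symm.eq⟩
  · rintro ⟨hg, h1, h2⟩
    have hnd := ht.1
    simp at hnd
    have key : ∀ {y}, y ∈ [a, b, c] → a ≠ y → a * y * g = g * (a * y) →
        g * a * g⁻¹ ∈ [a, y] ∧ g * y * g⁻¹ ∈ [a, y] := by
      intro y hy hay e
      have t : Tuple D [a, y] := ⟨by simp [hay], fun x hx => ht.2.1 x (by simp at hx hy ⊢; rcases hx with rfl | rfl <;> simp [*]),
        fun x hx x' hx' => ht.2.2 x (by simp at hx hy ⊢; rcases hx with rfl | rfl <;> simp [*]) x'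
          (by simp at hx' hy ⊢; rcases hx' with rfl | rfl <;> simp [*])⟩
      have r := set_of_prod_eq h hk (tuple_map (pre_of_hyp h) g t) t (by simp) (by simp) (by
        rw [show (List.map (fun x => g * x * g⁻¹) [a, y]).prod = g * (a * y) * g⁻¹ by simp [mul_assoc],
          ← e, mul_inv_cancel_right]
        simp)
      exact ⟨(r _).1 (by simp), (r _).1 (by simp)⟩
    obtain ⟨pa, pb⟩ := key (y := b) (by simp) hnd.1.1 h1
    obtain ⟨qa, qc⟩ := key (y := c) (by simp) hnd.1.2 h2
    simp at pa pb qa qc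
    have ea : g * a * g⁻¹ = a := by
      rcases pa with r | r
      · exact r
      · rcases qa with r' | r'
        · exact r'
        · exact absurd (r.symm.trans r') hnd.2
    have hne : ∀ {y}, a ≠ y → g * y * g⁻¹ ≠ a := fun {y} hay e =>
      hay ((MulAut.conj g).injective (ea.trans e.symm))
    exact ⟨hg, mul_inv_eq_iff_eq_mul.1 ea, mul_inv_eq_iff_eq_mul.1 (pb.resolve_left (hne hnd.1.1)),
      mul_inv_eq_iff_eq_mul.1 (qc.resolve_left (hne hnd.1.2))⟩

/-- The action on the triple. -/
theorem tprod_perm (h : Hyp D) (hprim : Cfsg.IsPrimitiveUnderConj D) (h24 : Cfsg.IsOfTypeM24 G D) {a b c : G}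
    (ht : Tuple D [a, b, c]) : ∃ θ : ↥(tprod a b c) →* Equiv.Perm (Fin 3), Function.Surjective θ ∧
      θ.ker = (tcent a b c).subgroupOf (tprod a b c) := by
  classical
  obtain ⟨hi, hn⟩ := comm24_facts h hprim h24
  obtain ⟨d, W⟩ := local24 h hprim h24
  have hnd := ht.1
  simp at hnd
  set v : Fin 3 → G := ![a, b, c] with hv
  have hmemv : ∀ i, v i ∈ [a, b, c] := by intro i; fin_cases i <;> simp [hv]
  have hvinj : Function.Injective v := by
    intro i j e
    fin_cases i <;> fin_cases j <;>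
      simp [hv, hnd.1.1, hnd.1.2, hnd.2, Ne.symm hnd.1.1, Ne.symm hnd.1.2, Ne.symm hnd.2] at e ⊢
  have hex : ∀ (g : ↥(tprod a b c)) (i : Fin 3), ∃ j, (g : G) * v i * (g : G)⁻¹ = v j := by
    intro g i
    have t := tuple_map (pre_of_hyp h) (g : G) ht
    have r := set_of_prod_eq h W.good.norel t ht (by simp) (by simp) (by
      rw [show ([a, b, c].map fun x => (g : G) * x * (g : G)⁻¹).prod = (g : G) * (a * b * c) * (g : G)⁻¹ by simp [mul_assoc],
        (mem_tprod.1 g.2).2]
      simp [mul_assoc])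
    have hm := (r _).1 (List.mem_map_of_mem (hmemv i))
    simp at hm
    rcases hm with e | e | e
    · exact ⟨0, e⟩
    · exact ⟨1, e⟩
    · exact ⟨2, e⟩
  choose f hf using hex
  have hbij : ∀ g, Function.Bijective (f g) := fun g => Finite.injective_iff_bijective.1 fun i j e => by
    have e' : (g : G) * v i * (g : G)⁻¹ = g * v j * (g : G)⁻¹ := by rw [hf g i, hf g j, e]
    exact hvinj (mul_left_cancel (mul_right_cancel e'))
  let θ : ↥(tprod a b c) →* Equiv.Perm (Fin 3) := MonoidHom.mk' (fun g => Equiv.ofBijective (f g) (hbij g))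
    fun g g' => Equiv.ext fun i => hvinj (by
      show v (f (g * g') i) = v (f g (f g' i))
      rw [← hf, ← hf, ← hf]
      simp [mul_assoc])
  refine ⟨θ, fun p => ?_, ?_⟩
  · have htp : Tuple D [v (p 0), v (p 1), v (p 2)] := by
      refine ⟨?_, fun x hx => ht.2.1 x ?_, fun x hx x' hx' => ht.2.2 x ?_ x' ?_⟩
      · have hne : ∀ {i j}, i ≠ j → v (p i) ≠ v (p j) := fun {i j} hij e => hij (p.injective (hvinj e))
        simp [hne (show (0 : Fin 3) ≠ 1 by decide), hne (show (0 : Fin 3) ≠ 2 by decide), hne (show (1 : Fin 3) ≠ 2 by decide)]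
      all_goals
        simp at *
      · rcases hx with rfl | rfl | rfl <;> simpa using hmemv _
      · rcases hx with rfl | rfl | rfl <;> simpa using hmemv _
      · rcases hx' with rfl | rfl | rfl <;> simpa using hmemv _
    obtain ⟨g, hg⟩ := (tuples24 h W).2.2.1 [a, b, c] [v (p 0), v (p 1), v (p 2)] rfl rfl ht htp
    simp at hg
    obtain ⟨g1, g2, g3⟩ := hg
    -- the product is preserved
    have hprod : v (p 0) * v (p 1) * v (p 2) = a * b * c := by
      have hperm : [v (p 0), v (p 1), v (p 2)].Perm [a, b, c] := by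
        refine (List.subperm_of_subset htp.1 fun x hx => ?_).perm_of_length_le (by simp)
        simp at hx
        rcases hx with rfl | rfl | rfl <;> exact hmemv _
      have := hperm.prod_eq' (List.pairwise_of_forall_mem_list fun x hx y hy => htp.2.2 x hx y hy)
      simpa [mul_assoc] using this
    have hgj : g * (a * b * c) * g⁻¹ = a * b * c := by
      rw [show g * (a * b * c) * g⁻¹ = (g * a * g⁻¹) * (g * b * g⁻¹) * (g * c * g⁻¹) by group, g1, g2, g3, hprod]
    have ha := (ht.2.1 a (by simp)).1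
    have cy : ∀ y ∈ [a, b, c], a * y * a⁻¹ = y := fun y hy =>
      mul_inv_eq_iff_eq_mul.2 (ht.2.2 a (by simp) y hy).eq
    obtain ⟨u, hu, hu1, hu2, hu3⟩ : ∃ u, u ∈ tprod a b c ∧ u * a * u⁻¹ = v (p 0) ∧ u * b * u⁻¹ = v (p 1) ∧
        u * c * u⁻¹ = v (p 2) := by
      by_cases hgL : g ∈ commutator G
      · exact ⟨g, mem_tprod.2 ⟨hgL, hgj⟩, g1, g2, g3⟩
      · have e : ∀ y, g * a * y * (g * a)⁻¹ = g * (a * y * a⁻¹) * g⁻¹ := fun y => by group
        refine ⟨g * a, mem_tprod.2 ⟨(Subgroup.mul_mem_iff_of_index_two hi).2 (iff_of_false hgL (hn a ha)), ?_⟩,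
          by rw [e, cy a (by simp), g1], by rw [e, cy b (by simp), g2], by rw [e, cy c (by simp), g3]⟩
        rw [e, show a * (a * b * c) * a⁻¹ = (a * a * a⁻¹) * (a * b * a⁻¹) * (a * c * a⁻¹) by group,
          cy a (by simp), cy b (by simp), cy c (by simp), hgj]
    refine ⟨⟨u, hu⟩, Equiv.ext fun i => hvinj ?_⟩
    show v (f ⟨u, hu⟩ i) = v (p i)
    rw [← hf]
    fin_cases i
    · exact hu1
    · exact hu2
    · exact hu3
  · ext g
    rw [MonoidHom.mem_ker, Subgroup.mem_subgroupOf, mem_tcent]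
    constructor
    · intro e
      have fix : ∀ i, (g : G) * v i * (g : G)⁻¹ = v i := fun i => by
        rw [hf, show f g i = i from congrArg (fun p : Equiv.Perm (Fin 3) => p i) e]
      exact ⟨g.2.1, mul_inv_eq_iff_eq_mul.1 (fix 0), mul_inv_eq_iff_eq_mul.1 (fix 1), mul_inv_eq_iff_eq_mul.1 (fix 2)⟩
    · rintro ⟨-, c1, c2, c3⟩
      refine Equiv.ext fun i => hvinj ?_
      show v (f g i) = v i
      rw [← hf]
      fin_cases i
      · exact mul_inv_eq_iff_eq_mul.2 c1.eq
      · exact mul_inv_eq_iff_eq_mul.2 c2.eq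
      · exact mul_inv_eq_iff_eq_mul.2 c3.eq

end CfsgLib.Spor.Tri.Level
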