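/-
The joint centralizer of two commuting members in the derived subgroup of type M(24).
-/
import Cfsg.Agent.Lib.Spor.Tri.TripleM24Out
import Cfsg.Agent.Lib.Spor.Tri.M22Iso
import Cfsg.Agent.Lib.Spor.Fi22Out.Out

set_option autoImplicit false

namespace CfsgLib.Spor.Tri.Level

open CfsgLib.Spor.Tri CfsgLib.Spor.Tri.Relations

variable {G : Type*} [Group G] [Finite G] {D : Set G}

theorem center_map_equiv {X Y : Type*} [Group X] [Group Y] (e : X ≃* Y) :
    (Subgroup.center X).map e.toMonoidHom = Subgroup.center Y := by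
  ext q
  obtain ⟨k, rfl⟩ := e.surjective q
  rw [show e k = e.toMonoidHom k from rfl, Subgroup.mem_map_iff_mem (f := e.toMonoidHom) e.injective,
    Subgroup.mem_center_iff, Subgroup.mem_center_iff]
  refine ⟨fun r y => ?_, fun r y => e.injective (by rw [map_mul, map_mul]; exact r (e y))⟩
  obtain ⟨y, rfl⟩ := e.surjective y
  show e y * e k = e k * e y
  rw [← map_mul, r, map_mul]

theorem card_aut_fi22_le : Nat.card (MulAut Cfsg.Spor.Fi22) ≤ 2 * Nat.card Cfsg.Spor.Fi22 := by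
  obtain ⟨-, hcard⟩ := CfsgLib.Spor.Fi22.isFi22
  haveI : Finite Cfsg.Spor.Fi22 := Nat.finite_of_card_ne_zero (by rw [hcard]; norm_num)
  rw [Subgroup.card_eq_card_quotient_mul_card_subgroup (Cfsg.Inn Cfsg.Spor.Fi22)]
  exact Nat.mul_le_mul CfsgLib.Spor.Fi22Out.card_out.le
    (Nat.card_le_card_of_surjective _ (MulAut.conj : Cfsg.Spor.Fi22 →* MulAut Cfsg.Spor.Fi22).rangeRestrict_surjective)

/-- The pair centraliser in the derived subgroup. -/
abbrev dpair (a b : G) : Subgroup G := commutator G ⊓ Subgroup.centralizer ({a, b} : Set G)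

theorem mem_dpair {a b g : G} : g ∈ dpair a b ↔ g ∈ commutator G ∧ Commute g a ∧ Commute g b := by
  rw [dpair, Subgroup.mem_inf, show Subgroup.centralizer ({a, b} : Set G) = pcent a b from rfl, mem_pcent]

/-- Structure of the pair centraliser. -/
theorem dpair_data (h : Hyp D) (hprim : Cfsg.IsPrimitiveUnderConj D) (h24 : Cfsg.IsOfTypeM24 G D) {a b : G}
    (ha : a ∈ D) (hb : b ∈ perp D a) : Cfsg.IsQuasisimple ↥(dpair a b) ∧
      (Subgroup.center ↥(dpair a b)).map (dpair a b).subtype = Subgroup.zpowers (a * b) ∧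
      Nonempty (↥(dpair a b) ⧸ Subgroup.center ↥(dpair a b) ≃* Cfsg.Spor.Fi22) := by
  classical
  obtain ⟨hi, hn⟩ := comm24_facts h hprim h24
  obtain ⟨L24, -⟩ := lev24 h hprim h24
  obtain ⟨d, W⟩ := local24 h hprim h24
  obtain ⟨L23, -⟩ := lev23 W.ihyp W.iprim W.type
  obtain ⟨g, hg⟩ := h.transitive a ha d W.mem
  set σ := MulAut.conj g with hσ
  have hσa : σ a = d := hg
  have cab : Commute a b := hb.2.2
  have hB : σ b ∈ perp D d := by
    rw [← hσa]; exact ⟨h.conj g b hb.1, fun e => hb.2.1 (σ.injective e), cab.map σ.toMonoidHom⟩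
  obtain ⟨e', W'⟩ := local23 W.ihyp W.iprim W.type
  obtain ⟨haL, hq, hz⟩ := quasi_all W.ihyp W'.mem (quasi23 W.ihyp W') (bar hB) (bar_mem hB)
  set P := loc (img D d) (bar hB) with hP
  have hPc : P = Subgroup.centralizer ({bar hB} : Set (↥(loc D d) ⧸ Subgroup.center ↥(loc D d))) :=
    loc_eq_centralizer (L23.cent _ (bar_mem hB))
  have hl : ∀ k : ↥(dpair a b), σ (k : G) ∈ loc D d := fun k =>
    L24.cent d W.mem (Subgroup.mem_centralizer_singleton_iff.2 (by
      rw [← hσa]; exact ((mem_dpair.1 k.2).2.1.map σ.toMonoidHom).eq))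
  have hpm : ∀ k : ↥(dpair a b), QuotientGroup.mk' (Subgroup.center ↥(loc D d)) ⟨σ (k : G), hl k⟩ ∈ P := by
    intro k
    rw [hPc, Subgroup.mem_centralizer_singleton_iff]
    exact ((show Commute (⟨σ (k : G), hl k⟩ : ↥(loc D d)) ⟨σ b, perp_loc hB⟩ from
        Subtype.ext ((mem_dpair.1 k.2).2.2.map σ.toMonoidHom).eq).map (QuotientGroup.mk' _)).eq
  let ψ : ↥(dpair a b) →* ↥P := MonoidHom.mk'
    (fun k => ⟨QuotientGroup.mk' (Subgroup.center ↥(loc D d)) ⟨σ (k : G), hl k⟩, hpm k⟩) fun k k' => Subtype.ext (by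
      show QuotientGroup.mk' (Subgroup.center ↥(loc D d)) ⟨σ ((k : G) * (k' : G)), _⟩ = _ * _
      rw [← map_mul]
      exact congrArg _ (Subtype.ext (map_mul σ (k : G) k')))
  have hinj : Function.Injective ψ := by
    rw [injective_iff_map_eq_one]
    intro k hk
    have e : QuotientGroup.mk' (Subgroup.center ↥(loc D d)) ⟨σ (k : G), hl k⟩ = 1 := congrArg Subtype.val hk
    rcases W.zl _ (mk_eq_one.1 e) with r | r
    · exact Subtype.ext (σ.injective (r.trans (map_one σ).symm))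
    · exact absurd ((σ.injective (r.trans hσa.symm)) ▸ (mem_dpair.1 k.2).1) (hn a ha)
  have hda : QuotientGroup.mk' (Subgroup.center ↥(loc D d)) (⟨d, W.dl⟩ : ↥(loc D d)) = 1 :=
    (QuotientGroup.eq_one_iff _).2 (Subgroup.mem_center_iff.2 fun x => Subtype.ext (commute_loc x.2).symm.eq)
  have hsurj : Function.Surjective ψ := by
    rintro ⟨q, hq'⟩
    obtain ⟨⟨u, hu⟩, rfl⟩ := QuotientGroup.mk'_surjective _ q
    rw [hPc, Subgroup.mem_centralizer_singleton_iff] at hq'
    have hud : Commute u d := (commute_loc hu).symm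
    have hub : Commute u (σ b) := by
      have hm : u * σ b * u⁻¹ ∈ perp D d := by
        have r' : u * σ b * u⁻¹ ∈ perp D (u * d * u⁻¹) := by rw [perp_conj h]; exact ⟨σ b, hB, rfl⟩
        rwa [hud.eq, mul_inv_cancel_right] at r'
      refine mul_inv_eq_iff_eq_mul.1 ((bar_inj h W.nc hm hB).1 ?_)
      rw [show bar hm = QuotientGroup.mk' _ ⟨u, hu⟩ * bar hB * (QuotientGroup.mk' _ ⟨u, hu⟩)⁻¹ from rfl, hq',
        mul_inv_cancel_right]
    obtain ⟨v, rfl⟩ : ∃ v, σ v = u := ⟨σ.symm u, σ.apply_symm_apply u⟩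
    have cv : ∀ {y}, Commute (σ v) (σ y) → Commute v y := fun r => (Commute.conj_iff g).1 r
    have va : Commute v a := cv (hσa.symm ▸ hud)
    have vb : Commute v b := cv hub
    by_cases hv : v ∈ commutator G
    · exact ⟨⟨v, mem_dpair.2 ⟨hv, va, vb⟩⟩, Subtype.ext rfl⟩
    · have hm : v * a ∈ dpair a b := mem_dpair.2 ⟨(Subgroup.mul_mem_iff_of_index_two hi).2 (iff_of_false hv (hn a ha)),
        va.mul_left (Commute.refl a), vb.mul_left cab⟩
      refine ⟨⟨v * a, hm⟩, Subtype.ext ?_⟩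
      show QuotientGroup.mk' _ (⟨σ (v * a), _⟩ : ↥(loc D d)) = QuotientGroup.mk' _ ⟨σ v, hu⟩
      rw [show (⟨σ (v * a), hl ⟨v * a, hm⟩⟩ : ↥(loc D d)) = ⟨σ v, hu⟩ * ⟨d, W.dl⟩ from
        Subtype.ext (by show σ (v * a) = σ v * d; rw [map_mul, hσa]), map_mul, hda, mul_one]
  set e0 : ↥(dpair a b) ≃* ↥P := MulEquiv.ofBijective ψ ⟨hinj, hsurj⟩
  have hcen := center_map_equiv e0
  have mab : a * b ∈ dpair a b := mem_dpair.2 ⟨pair_mem_comm h hprim h24 ha hb.1,
    (Commute.refl a).mul_left cab.symm, cab.mul_left (Commute.refl b)⟩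
  have hψ : ((ψ ⟨a * b, mab⟩ : ↥P) : ↥(loc D d) ⧸ Subgroup.center ↥(loc D d)) = bar hB := by
    show QuotientGroup.mk' _ (⟨σ (a * b), _⟩ : ↥(loc D d)) = bar hB
    rw [show (⟨σ (a * b), hl ⟨a * b, mab⟩⟩ : ↥(loc D d)) = ⟨d, W.dl⟩ * ⟨σ b, perp_loc hB⟩ from
      Subtype.ext (by show σ (a * b) = d * σ b; rw [map_mul, hσa]), map_mul, hda, one_mul]
    rfl
  refine ⟨CfsgLib.Coprime.isQuasisimple_congr e0.symm hq, ?_, ?_⟩
  · have e1 : Subgroup.center ↥(dpair a b) = Subgroup.zpowers (⟨a * b, mab⟩ : ↥(dpair a b)) := by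
      refine Subgroup.map_injective hinj ?_
      rw [show ψ = e0.toMonoidHom from rfl, hcen, hz]
      refine Subgroup.map_injective P.subtype_injective ?_
      rw [Subgroup.map_subgroupOf_eq_of_le ((Subgroup.zpowers_le).2 haL), MonoidHom.map_zpowers,
        MonoidHom.map_zpowers]
      exact congrArg Subgroup.zpowers hψ.symm
    rw [e1, MonoidHom.map_zpowers]
    rfl
  · obtain ⟨e22, -⟩ := Y332.exists_equiv_fi22 W'.ihyp W'.iprim W'.type
    obtain ⟨x, hx⟩ := W.ihyp.transitive e' W'.mem (bar hB) (bar_mem hB)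
    set τ : ↥(loc (img D d) e') ≃* ↥P :=
      ((loc (img D d) e').equivMapOfInjective (MulAut.conj x).toMonoidHom (MulAut.conj x).injective).trans
        (MulEquiv.subgroupCongr (by rw [hP, ← hx, loc_conj W.ihyp]))
    exact ⟨((QuotientGroup.congr _ _ e0 hcen).trans
      (QuotientGroup.congr _ _ τ.symm (center_map_equiv τ.symm))).trans e22.symm⟩

end CfsgLib.Spor.Tri.Level
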