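/-
A double cover of a group with a distinguished elementary subgroup as the centralizer of an
involution: Thompson subgroup, fusion inside the preimage, bound on the primes.
-/
import Cfsg.Agent.Lib.Spor.Tri.CoverBase

namespace CfsgLib.Spor.Tri.CoverCore

open CoverBase (Setting zel zel_comm conj_iff card_comap sq_of_map map_zel map_mul_zel eq_or)

/-- What is used about the quotient. -/
structure Core {X : Type*} [Group X] (E : Subgroup X) (T : Sylow 2 X) (n : ℕ) : Prop where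
  sq : ∀ x ∈ E, x * x = 1
  cardE : Nat.card E = 2 ^ n
  leE : E ≤ (T : Subgroup X)
  uniq : ∀ B : Subgroup X, B ≤ (T : Subgroup X) → (∀ x ∈ B, x * x = 1) → 2 ^ n ≤ Nat.card B → B = E
  invol : ∀ x : X, x * x = 1 → ∃ g, g * x * g⁻¹ ∈ E

variable {G : Type*} [Group G] [Finite G] {d : G} {X : Type*} [Group X]
  {π : ↥(Subgroup.centralizer ({d} : Set G)) →* X} {E : Subgroup X} {T : Sylow 2 X}

/-- No prime that is too large divides the size of a fused set. -/
theorem not_prime_dvd {n : ℕ} {A0 : Subgroup G} (hcard : Nat.card A0 = 2 ^ n) {O : Set G} (hO : ∀ x ∈ O, x ∈ A0)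
    {a : G} (ha : a ∈ O) (htrans : ∀ x ∈ O, ∃ n ∈ Subgroup.normalizer (A0 : Set G), n * a * n⁻¹ = x)
    (hinv : ∀ n ∈ Subgroup.normalizer (A0 : Set G), ∀ x ∈ O, n * x * n⁻¹ ∈ O)
    {p : ℕ} (hp : p.Prime) (hb : ∀ j < n, ¬ p ∣ 2 ^ n - 2 ^ j) : ¬ p ∣ O.ncard := by
  classical
  intro hdvd
  haveI := Fact.mk hp
  let H := (Subgroup.normalizerMonoidHom A0).range
  have horb : MulAction.orbit H (⟨a, hO a ha⟩ : A0) = {x : A0 | (x : G) ∈ O} := by
    ext x
    constructor
    · rintro ⟨⟨_, u, rfl⟩, rfl⟩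
      exact hinv u u.2 a ha
    · intro hx
      obtain ⟨u, hu, hnx⟩ := htrans x hx
      exact ⟨⟨_, ⟨u, hu⟩, rfl⟩, Subtype.ext hnx⟩
  have horbn : O.ncard = (MulAction.orbit H (⟨a, hO a ha⟩ : A0)).ncard := by
    rw [horb, ← Set.ncard_image_of_injective _ Subtype.val_injective]
    congr 1
    ext x
    exact ⟨fun hx => ⟨⟨x, hO x hx⟩, hx, rfl⟩, by rintro ⟨y, hy, rfl⟩; exact hy⟩
  rw [horbn, ← MulAction.index_stabilizer] at hdvd
  obtain ⟨σ, hσ⟩ := exists_prime_orderOf_dvd_card' p (hdvd.trans (Subgroup.index_dvd_card _))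
  rw [← Subgroup.orderOf_coe] at hσ
  set Z := Subgroup.zpowers (σ : MulAut A0)
  have hZ : IsPGroup p Z := IsPGroup.of_card (n := 1) (by rw [Nat.card_zpowers, hσ, pow_one])
  have hmod := hZ.card_modEq_card_fixedPoints (α := A0)
  set F : Subgroup A0 := MonoidHom.eqLocus (σ : MulAut A0).toMonoidHom (MonoidHom.id _)
  have hfix : MulAction.fixedPoints Z A0 = (F : Set A0) := by
    ext x
    constructor
    · intro hx
      exact hx ⟨_, Subgroup.mem_zpowers _⟩
    · intro hx z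
      have hmem : (z : MulAut A0) ∈ MulAction.stabilizer (MulAut A0) x :=
        Subgroup.zpowers_le.2 (show (σ : MulAut A0) ∈ MulAction.stabilizer (MulAut A0) x from hx) z.2
      exact hmem
  rw [hfix, hcard, show Nat.card ↥(F : Set A0) = Nat.card F from rfl] at hmod
  obtain ⟨j, hj, hjF⟩ := (Nat.dvd_prime_pow Nat.prime_two).1 (hcard ▸ Subgroup.card_subgroup_dvd_card F)
  rw [hjF] at hmod
  rcases Nat.lt_or_ge j n with hj' | hj'
  · exact hb j hj' ((Nat.modEq_iff_dvd' (Nat.pow_le_pow_right two_pos hj)).1 hmod.symm)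
  · have hjj : j = n := by omega
    have hF : F = ⊤ := Subgroup.eq_top_of_card_eq F (by rw [hjF, hjj, hcard])
    have h1 : (σ : MulAut A0) = 1 := MulEquiv.ext fun x =>
      show (σ : MulAut A0).toMonoidHom x = x from (hF ▸ Subgroup.mem_top x : x ∈ F)
    rw [h1, orderOf_one] at hσ
    exact hp.ne_one hσ.symm

section main

variable {n : ℕ} (hS : Setting d π) (hB : Core E T n)
include hS hB

/-- The preimage in the group. -/
def up (_hS : Setting d π) (_hB : Core E T n) : Subgroup G :=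
  (E.comap π).map (Subgroup.centralizer ({d} : Set G)).subtype

theorem mem_up {x : G} : x ∈ up hS hB ↔ ∃ c : ↥(Subgroup.centralizer ({d} : Set G)), π c ∈ E ∧ (c : G) = x :=
  Iff.rfl

theorem up_card : Nat.card (up hS hB) = 2 ^ (n + 1) := by
  rw [up, Subgroup.card_map_of_injective (Subgroup.subtype_injective _), card_comap hS, hB.cardE, pow_succ]
  ring

theorem comap_elem : Cfsg.IsElementaryAbelian 2 (E.comap π) := by
  have h : ∀ x ∈ E.comap π, x * x = 1 := fun x hx => sq_of_map hS hB.sq hx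
  refine ⟨⟨⟨fun a b => Subtype.ext ?_⟩⟩, fun a ha => (pow_two a).trans (h a ha)⟩
  have h1 := inv_eq_of_mul_eq_one_right (h _ (mul_mem a.2 b.2))
  rw [mul_inv_rev, inv_eq_of_mul_eq_one_right (h _ a.2), inv_eq_of_mul_eq_one_right (h _ b.2)] at h1
  exact h1.symm

theorem sylow_comap : ∃ P : Sylow 2 ↥(Subgroup.centralizer ({d} : Set G)),
    (P : Subgroup _) = (T : Subgroup X).comap π := by
  haveI := Fact.mk Nat.prime_two
  haveI : Finite X := Finite.of_surjective π hS.surj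
  obtain ⟨a, ha⟩ := T.isPGroup'.exists_card_eq
  have hc : Nat.card ((T : Subgroup X).comap π) = 2 ^ (a + 1) := by rw [card_comap hS, ha, pow_succ]; ring
  have hidx : ¬ 2 ∣ ((T : Subgroup X).comap π).index := by
    rw [Subgroup.index_comap_of_surjective _ hS.surj]
    exact T.not_dvd_index
  exact ⟨(IsPGroup.of_card hc).toSylow hidx, rfl⟩

theorem uniq_comap {B : Subgroup ↥(Subgroup.centralizer ({d} : Set G))} (hle : B ≤ (T : Subgroup X).comap π)
    (h2 : ∀ x ∈ B, x * x = 1) (hc : 2 ^ (n + 1) ≤ Nat.card B) : B = E.comap π := by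
  haveI : Finite X := Finite.of_surjective π hS.surj
  have hsub : B ≤ (B.map π).comap π := Subgroup.le_comap_map π B
  have hcm : 2 ^ n ≤ Nat.card (B.map π) := by
    have := Subgroup.card_le_of_le hsub
    rw [card_comap hS] at this
    rw [pow_succ] at hc
    omega
  have e := hB.uniq (B.map π) (Subgroup.map_le_iff_le_comap.2 hle) (by
    rintro _ ⟨x, hx, rfl⟩
    rw [← map_mul, h2 x hx, map_one]) hcm
  rw [e] at hsub
  refine Subgroup.eq_of_le_of_card_ge hsub ?_
  rw [card_comap hS, hB.cardE]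
  rw [pow_succ] at hc
  omega

/-- Elementary subgroups of order `2 ^ 10` are conjugate to the preimage. -/
theorem elem_conj {B : Subgroup ↥(Subgroup.centralizer ({d} : Set G))} (h2 : ∀ x ∈ B, x * x = 1)
    (hc : Nat.card B = 2 ^ (n + 1)) : ∃ c, B.map (MulAut.conj c).toMonoidHom = E.comap π := by
  haveI := Fact.mk Nat.prime_two
  obtain ⟨P, hP⟩ := (IsPGroup.of_card hc).exists_le_sylow
  obtain ⟨Q, hQ⟩ := sylow_comap hS hB
  obtain ⟨c, hcQ⟩ := MulAction.exists_smul_eq ↥(Subgroup.centralizer ({d} : Set G)) P Q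
  refine ⟨c, uniq_comap hS hB ?_ ?_ ?_⟩
  · rw [← hQ, ← hcQ, Sylow.smul_def, Sylow.pointwise_smul_def]
    exact Subgroup.map_mono hP
  · rintro _ ⟨x, hx, rfl⟩
    rw [← map_mul, h2 x hx, map_one]
  · rw [Subgroup.card_map_of_injective (MulAut.conj c).injective, hc]

theorem thompson_eq (P : Sylow 2 ↥(Subgroup.centralizer ({d} : Set G))) :
    ∃ c, Cfsg.thompsonSubgroupOf 2 (P : Subgroup ↥(Subgroup.centralizer ({d} : Set G))) =
      (E.comap π).map (MulAut.conj c).toMonoidHom := by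
  haveI := Fact.mk Nat.prime_two
  obtain ⟨Q, hQ⟩ := sylow_comap hS hB
  obtain ⟨c, hc⟩ := MulAction.exists_smul_eq ↥(Subgroup.centralizer ({d} : Set G)) Q P
  refine ⟨c, ?_⟩
  have hP : (P : Subgroup ↥(Subgroup.centralizer ({d} : Set G))) = ((T : Subgroup X).comap π).map (MulAut.conj c).toMonoidHom := by
    rw [← hc, ← hQ, Sylow.smul_def, Sylow.pointwise_smul_def]; rfl
  have hcard : Nat.card ((E.comap π).map (MulAut.conj c).toMonoidHom) = 2 ^ (n + 1) := by
    rw [Subgroup.card_map_of_injective (MulAut.conj c).injective, card_comap hS, hB.cardE, pow_succ]; ring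
  have hbig : ∀ B : Subgroup ↥(Subgroup.centralizer ({d} : Set G)), B ≤ P → Cfsg.IsElementaryAbelian 2 B →
      2 ^ (n + 1) ≤ Nat.card B → B = (E.comap π).map (MulAut.conj c).toMonoidHom := by
    intro B hBP hBe hBc
    have hB' : B = (B.map (MulAut.conj c⁻¹).toMonoidHom).map (MulAut.conj c).toMonoidHom := by
      ext x
      constructor
      · exact fun hx => ⟨c⁻¹ * x * c⁻¹⁻¹, ⟨x, hx, rfl⟩, by simp; group⟩
      · rintro ⟨_, ⟨y, hy, rfl⟩, rfl⟩
        simpa [mul_assoc] using hy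
    rw [hB']
    congr 1
    refine uniq_comap hS hB ?_ ?_ ?_
    · rintro _ ⟨x, hx, rfl⟩
      obtain ⟨y, hy, rfl⟩ := (hP ▸ hBP hx : x ∈ ((T : Subgroup X).comap π).map (MulAut.conj c).toMonoidHom)
      have hy' : π y ∈ (T : Subgroup X) := hy
      simpa [mul_assoc] using hy'
    · rintro _ ⟨x, hx, rfl⟩
      rw [← map_mul, ← pow_two, hBe.2 x hx, map_one]
    · rwa [Subgroup.card_map_of_injective (MulAut.conj c⁻¹).injective]
  have hmax : CfsgLib.Fusion.IsMaxEA 2 (P : Subgroup ↥(Subgroup.centralizer ({d} : Set G)))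
      ((E.comap π).map (MulAut.conj c).toMonoidHom) := by
    refine ⟨hP ▸ Subgroup.map_mono (Subgroup.comap_mono hB.leE),
      CfsgLib.Fusion.isElementaryAbelian_map _ (comap_elem hS hB), fun B hBP hBe => ?_⟩
    by_contra hlt
    rw [hcard] at hlt
    have := hbig B hBP hBe (le_of_not_ge hlt)
    rw [this, hcard] at hlt
    exact hlt le_rfl
  rw [CfsgLib.Fusion.thompsonSubgroupOf_eq]
  refine le_antisymm (sSup_le fun B hBm => ?_) (le_sSup hmax)
  exact (hbig B hBm.1 hBm.2.1 (hcard ▸ hBm.2.2 _ hmax.1 hmax.2.1)).le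

/-- Conjugates of `d` in the preimage are fused in its normalizer. -/
theorem fused {x : G} (hx : x ∈ up hS hB) (hdx : IsConj d x) :
    ∃ n ∈ Subgroup.normalizer (up hS hB : Set G), n * d * n⁻¹ = x := by
  obtain ⟨g, rfl⟩ := isConj_iff.1 hdx
  obtain ⟨x', hx', hxe⟩ := hx
  have hab : ∀ a : ↥(Subgroup.centralizer ({d} : Set G)), π a ∈ E → g⁻¹ * (a : G) * g ∈ Subgroup.centralizer ({d} : Set G) := by
    intro a ha
    rw [Subgroup.mem_centralizer_singleton_iff]
    have hc : (a : G) * (g * d * g⁻¹) = (g * d * g⁻¹) * a := by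
      have e := congrArg Subtype.val ((comap_elem hS hB).1.is_comm.comm
        (⟨a, ha⟩ : E.comap π) ⟨x', hx'⟩)
      have e' := congrArg Subtype.val e
      simp at e' hxe
      rwa [hxe] at e'
    calc g⁻¹ * a * g * d = g⁻¹ * ((a : G) * (g * d * g⁻¹)) * g := by group
      _ = d * (g⁻¹ * a * g) := by rw [hc]; group
  let B : Subgroup ↥(Subgroup.centralizer ({d} : Set G)) :=
    ((up hS hB).map (MulAut.conj g⁻¹).toMonoidHom).subgroupOf (Subgroup.centralizer ({d} : Set G))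
  have hle : (up hS hB).map (MulAut.conj g⁻¹).toMonoidHom ≤ Subgroup.centralizer ({d} : Set G) := by
    rintro _ ⟨_, ⟨a, ha, rfl⟩, rfl⟩
    simpa using hab a ha
  obtain ⟨c, hc⟩ := elem_conj hS hB (B := B) (fun y hy => by
      obtain ⟨_, ⟨a, ha, rfl⟩, e⟩ := Subgroup.mem_subgroupOf.1 hy
      apply Subtype.ext
      show (y : G) * y = 1
      have := congrArg Subtype.val (sq_of_map hS hB.sq ha)
      rw [← show MulAut.conj g⁻¹ ((a : G)) = y from e, ← map_mul]
      show MulAut.conj g⁻¹ ((a : G) * a) = 1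
      rw [show (a : G) * a = 1 from this, map_one])
    (by rw [Nat.card_congr (Subgroup.subgroupOfEquivOfLe hle).toEquiv,
      Subgroup.card_map_of_injective (MulAut.conj g⁻¹).injective, up_card hS hB])
  refine ⟨g * (c : G)⁻¹, ?_, ?_⟩
  · apply CfsgLib.Fusion.conjBy_eq_iff.1
    refine CfsgLib.Fusion.conjBy_eq_of_le ?_
    rw [CfsgLib.Fusion.conjBy, Subgroup.map_le_iff_le_comap]
    rintro _ ⟨a, ha, rfl⟩
    have ha' : a ∈ B.map (MulAut.conj c).toMonoidHom := by rw [hc]; exact ha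
    obtain ⟨b, hb, rfl⟩ := ha'
    obtain ⟨y, hy, hye⟩ := Subgroup.mem_subgroupOf.1 hb
    have hye' : (b : G) = g⁻¹ * y * g⁻¹⁻¹ := hye.symm
    show (g * (c : G)⁻¹) * ((c : G) * b * (c : G)⁻¹) * (g * (c : G)⁻¹)⁻¹ ∈ up hS hB
    rw [hye']
    have e : g * (c : G)⁻¹ * ((c : G) * (g⁻¹ * y * g⁻¹⁻¹) * (c : G)⁻¹) * (g * (c : G)⁻¹)⁻¹ = y := by group
    rw [e]
    exact hy
  · have := Subgroup.mem_centralizer_singleton_iff.1 c.2
    calc g * (c : G)⁻¹ * d * (g * (c : G)⁻¹)⁻¹ = g * ((c : G)⁻¹ * (d * c)) * g⁻¹ := by group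
      _ = g * d * g⁻¹ := by rw [← this]; group

/-- The conjugates of `d` in the preimage. -/
def fusedSet (_hS : Setting d π) (_hB : Core E T n) : Set G :=
  {x | x ∈ up _hS _hB ∧ IsConj d x}

theorem fusedSet_inv {u : G} (hn : u ∈ Subgroup.normalizer (up hS hB : Set G)) {x : G}
    (hx : x ∈ fusedSet hS hB) : u * x * u⁻¹ ∈ fusedSet hS hB :=
  ⟨(Subgroup.mem_normalizer_iff.1 hn x).1 hx.1, hx.2.trans (isConj_iff.2 ⟨u, rfl⟩)⟩

theorem d_mem : d ∈ fusedSet hS hB := ⟨⟨zel d, by rw [Subgroup.coe_comap, Set.mem_preimage, map_zel hS]; exact one_mem E, rfl⟩, IsConj.refl d⟩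

theorem not_prime {p : ℕ} (hp : p.Prime) (hb : ∀ j < n + 1, ¬ p ∣ 2 ^ (n + 1) - 2 ^ j) :
    ¬ p ∣ (fusedSet hS hB).ncard :=
  not_prime_dvd (up_card hS hB) (fun _ hx => hx.1) (d_mem hS hB) (fun _ hx => fused hS hB hx.1 hx.2)
    (fun _ hn _ hx => fusedSet_inv hS hB hn hx) hp hb

/-- Translating the fusion to the double cover. -/
theorem move_data {x : ↥(Subgroup.centralizer ({d} : Set G))} (hx : π x ∈ E) (hxc : IsConj d (x : G)) :
    ∃ φ : ↥(Subgroup.centralizer ({d} : Set G)) → ↥(Subgroup.centralizer ({d} : Set G)), φ (zel d) = x ∧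
      (∀ a, π a ∈ E → π (φ a) ∈ E ∧ (IsConj d (φ a : G) ↔ IsConj d (a : G))) ∧
      (∀ a b, π a ∈ E → π b ∈ E → φ (a * b) = φ a * φ b) ∧
      (∀ a b, π a ∈ E → π b ∈ E → φ a = φ b → a = b) ∧
      ∀ b, π b ∈ E → ∃ a, π a ∈ E ∧ φ a = b := by
  classical
  obtain ⟨u, hu, hnd⟩ := fused hS hB ⟨x, hx, rfl⟩ hxc
  have hmem : ∀ a : ↥(Subgroup.centralizer ({d} : Set G)), π a ∈ E →
      ∃ b : ↥(Subgroup.centralizer ({d} : Set G)), π b ∈ E ∧ (b : G) = u * a * u⁻¹ := fun a ha =>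
    (Subgroup.mem_normalizer_iff.1 hu a).1 ⟨a, ha, rfl⟩
  choose f hf hfv using hmem
  refine ⟨fun a => if ha : π a ∈ E then f a ha else a, ?_, fun a ha => ?_, fun a b ha hb => ?_, fun a b ha hb e => ?_,
    fun b hb => ?_⟩
  · have hz : π (zel d) ∈ E := by rw [map_zel hS]; exact one_mem E
    simp only [dif_pos hz]
    exact Subtype.ext ((hfv _ hz).trans hnd)
  · simp only [dif_pos ha]
    refine ⟨hf a ha, ?_⟩
    rw [hfv a ha]
    have h : IsConj (a : G) (u * a * u⁻¹) := isConj_iff.2 ⟨u, rfl⟩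
    exact ⟨fun r => r.trans h.symm, fun r => r.trans h⟩
  · have hab : π (a * b) ∈ E := by rw [map_mul]; exact mul_mem ha hb
    simp only [dif_pos ha, dif_pos hb, dif_pos hab]
    refine Subtype.ext ?_
    show (f (a * b) hab : G) = (f a ha : G) * f b hb
    rw [hfv, hfv, hfv]
    show u * ((a : G) * b) * u⁻¹ = _
    group
  · simp only [dif_pos ha, dif_pos hb] at e
    have e' := congrArg Subtype.val e
    rw [hfv, hfv] at e'
    exact Subtype.ext (mul_left_cancel (mul_right_cancel e'))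
  · obtain ⟨a, ha, hae⟩ := (Subgroup.mem_normalizer_iff.1 (inv_mem hu) b).1 ⟨b, hb, rfl⟩
    have ha' : π a ∈ E := ha
    refine ⟨a, ha', ?_⟩
    simp only [dif_pos ha']
    refine Subtype.ext ?_
    rw [hfv]
    change (a : G) = _ at hae
    rw [hae]
    group

/-- A lift of each involution is conjugate into the preimage of `E`. -/
theorem invol_move {x : ↥(Subgroup.centralizer ({d} : Set G))} (hx : x * x = 1) : ∃ c, π (c * x * c⁻¹) ∈ E := by
  obtain ⟨g, hg⟩ := hB.invol (π x) (by rw [← map_mul, hx, map_one])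
  obtain ⟨c, rfl⟩ := hS.surj g
  exact ⟨c, by rwa [map_mul, map_mul, map_inv]⟩

/-- The Thompson subgroup of a Sylow subgroup of the centralizer. -/
theorem main {k : ℕ} (hk : (fusedSet hS hB).ncard = k)
    (P : Sylow 2 ↥(Subgroup.centralizer ({d} : Set G))) (A : Subgroup G)
    (hA : A = (Cfsg.thompsonSubgroupOf 2 (P : Subgroup ↥(Subgroup.centralizer ({d} : Set G)))).map
      (Subgroup.centralizer ({d} : Set G)).subtype) :
    Cfsg.IsElementaryAbelian 2 A ∧ Nat.card A = 2 ^ (n + 1) ∧ Set.ncard {x : G | x ∈ A ∧ IsConj d x} = k ∧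
      ∀ x ∈ A, ∀ y ∈ A, IsConj d x → IsConj d y → ∃ u ∈ Subgroup.normalizer (A : Set G), u * x * u⁻¹ = y := by
  obtain ⟨c, hc⟩ := thompson_eq hS hB P
  have hA' : A = (up hS hB).map (MulAut.conj (c : G)).toMonoidHom := by
    rw [hA, hc, up, Subgroup.map_map, Subgroup.map_map]
    rfl
  subst hA'
  have hcj : ∀ x : G, IsConj d (MulAut.conj (c : G) x) ↔ IsConj d x := fun x => by
    have h : IsConj x (MulAut.conj (c : G) x) := isConj_iff.2 ⟨c, rfl⟩
    exact ⟨fun r => r.trans h.symm, fun r => r.trans h⟩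
  have hcd : (c : G) * d * (c : G)⁻¹ = d := by
    rw [Subgroup.mem_centralizer_singleton_iff.1 c.2, mul_inv_cancel_right]
  refine ⟨CfsgLib.Fusion.isElementaryAbelian_map _ (CfsgLib.Fusion.isElementaryAbelian_map _ (comap_elem hS hB)), ?_, ?_, ?_⟩
  · rw [Subgroup.card_map_of_injective (MulAut.conj (c : G)).injective, up_card hS hB]
  · rw [show {x : G | x ∈ (up hS hB).map (MulAut.conj (c : G)).toMonoidHom ∧ IsConj d x} =
      MulAut.conj (c : G) '' fusedSet hS hB from ?_, Set.ncard_image_of_injective _ (MulAut.conj (c : G)).injective,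
      hk]
    ext x
    constructor
    · rintro ⟨⟨y, hy, rfl⟩, h⟩; exact ⟨y, ⟨hy, (hcj y).1 h⟩, rfl⟩
    · rintro ⟨y, ⟨hy, h⟩, rfl⟩; exact ⟨⟨y, hy, rfl⟩, (hcj y).2 h⟩
  · rintro _ ⟨x, hx, rfl⟩ _ ⟨y, hy, rfl⟩ hxc hyc
    obtain ⟨m, hm, hmd⟩ := fused hS hB hx ((hcj x).1 hxc)
    obtain ⟨k, hk, hkd⟩ := fused hS hB hy ((hcj y).1 hyc)
    refine ⟨(c : G) * (k * m⁻¹) * (c : G)⁻¹, ?_, ?_⟩
    · have hkm := mul_mem hk (inv_mem hm)
      rw [Subgroup.mem_normalizer_iff]
      intro z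
      have e := Subgroup.mem_normalizer_iff.1 hkm ((MulAut.conj (c : G)).symm z)
      simp only [SetLike.mem_coe, Subgroup.mem_map_equiv, MulAut.conj_symm_apply] at e ⊢
      rw [e]
      constructor <;> intro h <;> convert h using 1 <;> group
    · rw [← hmd, ← hkd]
      show (c : G) * (k * m⁻¹) * (c : G)⁻¹ * ((c : G) * (m * d * m⁻¹) * (c : G)⁻¹) *
        ((c : G) * (k * m⁻¹) * (c : G)⁻¹)⁻¹ = (c : G) * (k * d * k⁻¹) * (c : G)⁻¹
      group

end main

end CfsgLib.Spor.Tri.CoverCore
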