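/-
Elementary groups with a transitive distinguished set: three configurations that cannot occur.
-/
import Mathlib.Algebra.Group.Equiv.Basic
import Mathlib.Data.Set.Basic
import Mathlib.Tactic.Tauto

namespace CfsgLib.Spor.Tri.CoverFusion

variable {V : Type*} [CommGroup V] (hsq : ∀ x : V, x * x = 1) {P : V → Prop} {z : V}

section
include hsq

theorem cancel (a b : V) : a * (a * b) = b := by rw [← mul_assoc, hsq, one_mul]

end

/-- Excludes the set where both lifts of each member are distinguished and nothing else is. -/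
theorem no_double (hmove : ∀ x, P x → ∃ φ : V ≃* V, φ z = x ∧ ∀ a, P (φ a) ↔ P a)
    (hstar : ∀ a, P a → a ≠ z → P (z * a)) {x r : V} (hx : P x) (hr : P r) (hne : r ≠ x) (hxr : ¬ P (x * r)) :
    False := by
  obtain ⟨φ, hz, hP⟩ := hmove x hx
  obtain ⟨a, rfl⟩ := φ.surjective r
  refine hxr ?_
  rw [← hz, ← map_mul, hP]
  exact hstar a ((hP a).1 hr) fun e => hne (by rw [e, hz])

include hsq in
/-- Excludes the set with two lifts of each member and one of each product of two. -/
theorem no_pairs {R : V → V → Prop} {σ : Prop}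
    (hmove : ∀ x, P x → ∃ φ : V ≃* V, φ z = x ∧ (∀ a, P (φ a) ↔ P a) ∧ ∀ a b, R (φ a) (φ b) ↔ R a b)
    (hswap : ∀ u v, P u → P v → P (u * v) → R u v → R v u → (R (u * v) u ↔ R (u * v) v))
    (hdich : ∀ a, P a → P (z * a) → (R z a ↔ ¬ R z (z * a)))
    (hpair : ∀ v w, P v → P (z * v) → P w → P (z * w) → w ≠ v → w ≠ z * v → (P (v * w) ↔ (σ ↔ (R z v ↔ R z w))))
    (hz : P z) {c f g : V} (hc : P c) (hzc : P (z * c)) (hf : P f) (hzf : P (z * f)) (hg : P g) (hzg : P (z * g))
    (hRc : R z c) (hRf : R z f) (hRg : R z g) (hcf : c ≠ f) (hcg : c ≠ g) (hfg : f ≠ g)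
    (hgp : g ≠ c * f) (hcz : c ≠ z) (hfz : f ≠ z) (hzcf : f ≠ z * c) (hgzc : g ≠ z * c) (hf1 : f ≠ 1) (hg1 : g ≠ 1)
    (hthree : ¬ P (c * f * g)) : False := by
  -- the rules at an arbitrary vertex
  have dich : ∀ u v, P u → P v → P (u * v) → (R u v ↔ ¬ R u (u * v)) := by
    intro u v hu hv huv
    obtain ⟨φ, hφ, hP, hR⟩ := hmove u hu
    obtain ⟨a, rfl⟩ := φ.surjective v
    rw [← hφ, ← map_mul] at huv ⊢
    rw [hR, hR]
    exact hdich a ((hP a).1 hv) ((hP _).1 huv)
  have pair : ∀ u v w, P u → P v → P (u * v) → P w → P (u * w) → w ≠ v → w ≠ u * v →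
      (P (v * w) ↔ (σ ↔ (R u v ↔ R u w))) := by
    intro u v w hu hv huv hw huw h1 h2
    obtain ⟨φ, hφ, hP, hR⟩ := hmove u hu
    obtain ⟨a, rfl⟩ := φ.surjective v
    obtain ⟨b, rfl⟩ := φ.surjective w
    rw [← hφ, ← map_mul] at huv huw h2
    rw [← hφ, ← map_mul, hP, hR, hR]
    exact hpair a b ((hP a).1 hv) ((hP _).1 huv) ((hP b).1 hw) ((hP _).1 huw) (fun e => h1 (by rw [e]))
      fun e => h2 (by rw [e])
  have anti : ∀ u v, P u → P v → P (u * v) → (R v u ↔ ¬ R u v) := by
    intro u v hu hv huv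
    have hnot : ∀ a b, P a → P b → P (a * b) → R a b → ¬ R b a := by
      intro a b ha hb hab r r'
      have s := hswap a b ha hb hab r r'
      have d := dich (a * b) a hab ha (by rw [mul_comm a b, mul_assoc, hsq, mul_one]; exact hb)
      rw [show a * b * a = b by rw [mul_comm a b, mul_assoc, hsq, mul_one]] at d
      tauto
    refine ⟨hnot v u hv hu (by rwa [mul_comm]), fun hn => ?_⟩
    have hw : u * (u * v) = v := cancel hsq u v
    have e1 : R u (u * v) := by
      by_contra q
      exact hn ((dich u v hu hv huv).2 q)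
    have e2 : ¬ R (u * v) u := hnot u _ hu huv (by rw [hw]; exact hv) e1
    have e3 : R (u * v) v := by
      have d := dich (u * v) u huv hu (by rw [mul_comm, hw]; exact hv)
      rw [show u * v * u = v by rw [mul_comm u v, mul_assoc, hsq, mul_one]] at d
      tauto
    have e4 : ¬ R v (u * v) := hnot _ v huv hv (by rw [mul_assoc, hsq, mul_one]; exact hu) e3
    have d := dich v u hv hu (by rwa [mul_comm])
    rw [mul_comm v u] at d
    tauto
  have back : ∀ a, P a → P (z * a) → R z a → ¬ R a z := fun a ha hza r q =>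
    ((anti z a hz ha hza).1 q) r
  have hz' : ∀ a, P a → P (z * (z * a)) := fun a ha => by rwa [cancel hsq]
  have comm' : ∀ {a b}, P (a * b) → P (b * a) := fun {a b} q => by rwa [mul_comm]
  by_cases hσ : σ
  · have q : P (c * f) := (hpair c f hc hzc hf hzf hcf.symm hzcf).2 (by tauto)
    have A := pair c z f hc hz (comm' hzc) hf q hfz (by rwa [mul_comm])
    have B := pair f z c hf hz (comm' hzf) hc (comm' q) hcz
      (fun e => hzcf (by rw [e, mul_comm f z, cancel hsq]))
    have := back c hc hzc hRc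
    have := back f hf hzf hRf
    have := anti c f hc hf q
    tauto
  · have step : ∀ x, P x → P (z * x) → R z x → x ≠ 1 → c ≠ x → x ≠ z * c → P (c * (z * x)) ∧ R c (z * x) := by
      intro x hx hzx hRx hx1 hcx hxc
      have nR : ¬ R z (z * x) := (hdich x hx hzx).1 hRx
      have q : P (c * (z * x)) := (hpair c (z * x) hc hzc hzx (hz' x hx)
        (fun e => hxc (by rw [← e, cancel hsq])) (fun e => hcx (mul_left_cancel e).symm)).2 (by tauto)
      refine ⟨q, ?_⟩
      have A := pair c z (z * x) hc hz (comm' hzc) hzx q (fun e => hx1 (mul_eq_left.1 e))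
        (fun e => hcx (mul_left_cancel (e.trans (mul_comm c z))).symm)
      have := (iff_true_left (hz' x hx)).1 A
      have := back c hc hzc hRc
      tauto
    obtain ⟨q1, r1⟩ := step f hf hzf hRf hf1 hcf hzcf
    obtain ⟨q2, r2⟩ := step g hg hzg hRg hg1 hcg hgzc
    have r0 : ¬ R c (c * (z * f)) := (dich c (z * f) hc hzf q1).1 r1
    have A := pair c (c * (z * f)) (z * g) hc q1 (by rwa [cancel hsq]) hzg q2
      (fun e => hgp (by rw [mul_left_comm] at e; exact mul_left_cancel e))
      (fun e => hfg (by rw [cancel hsq] at e; exact (mul_left_cancel e).symm))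
    refine hthree ?_
    have e : c * (z * f) * (z * g) = c * f * g := by
      rw [mul_assoc c (z * f), mul_mul_mul_comm z f z g, hsq, one_mul, mul_assoc]
    rw [← e]
    tauto

include hsq in
/-- Excludes the set with one lift of each member and of each product of two. -/
theorem no_lines {S : Set V}
    (hmove : ∀ x, P x → ∃ φ : V ≃* V, φ z = x ∧ ∀ a, P (φ a) ↔ P a)
    (hcls : ∀ x, P x → x = z ∨ x ∈ S ∨ ∃ a ∈ S, ∃ b ∈ S, a ≠ b ∧ x = z * (a * b))
    (hS : ∀ a ∈ S, P a ∧ a ≠ z) (hnz : ∀ a, P a → ¬ P (z * a)) (hz : P z)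
    (htwo : ∀ a ∈ S, ∀ b ∈ S, a ≠ b → P (a * b) ∨ P (z * (a * b)))
    (hthree : ∀ a ∈ S, ∀ b ∈ S, ∀ c ∈ S, a ≠ b → a ≠ c → b ≠ c → ¬ P (a * b * c) ∧ ¬ P (z * (a * b * c)))
    (hfour : ∀ a ∈ S, ∀ b ∈ S, a ≠ b → ∃ x ∈ S, ∃ y ∈ S, x ≠ a ∧ x ≠ b ∧ y ≠ a ∧ y ≠ b ∧ x ≠ y ∧
      (P (a * b * (x * y)) ∨ P (z * (a * b * (x * y)))))
    (hfour' : ∀ a ∈ S, ∀ b ∈ S, a ≠ b → ∃ x ∈ S, ∃ y ∈ S, x ≠ a ∧ x ≠ b ∧ y ≠ a ∧ y ≠ b ∧ x ≠ y ∧
      ¬ P (z * (a * b * (x * y))))
    {p p' : V} (hp : p ∈ S) (hp' : p' ∈ S) (hpp : p ≠ p') : False := by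
  have hpair : ∀ u v, P u → P v → ¬ P (u * v) := by
    intro u v hu hv
    obtain ⟨φ, rfl, hP⟩ := hmove u hu
    obtain ⟨a, rfl⟩ := φ.surjective v
    rw [← map_mul, hP]
    exact hnz a ((hP a).1 hv)
  have hline : ∀ a ∈ S, ∀ b ∈ S, a ≠ b → P (z * (a * b)) := fun a ha b hb n =>
    (htwo a ha b hb n).resolve_left (hpair a b (hS a ha).1 (hS b hb).1)
  let Φ : V → V → Prop := fun u v => ∀ w w', P w → P w' → P (u * v * w) → P (u * v * w') →
    P (u * w * w') ∨ P (v * w * w')
  have hΦ : ∀ φ : V ≃* V, (∀ a, P (φ a) ↔ P a) → ∀ u v, Φ u v ↔ Φ (φ u) (φ v) := by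
    intro φ hP u v
    constructor
    · intro H w w' hw hw' h1 h2
      obtain ⟨w, rfl⟩ := φ.surjective w
      obtain ⟨w', rfl⟩ := φ.surjective w'
      simp only [← map_mul, hP] at hw hw' h1 h2 ⊢
      exact H w w' hw hw' h1 h2
    · intro H w w' hw hw' h1 h2
      have := H (φ w) (φ w') ((hP w).2 hw) ((hP w').2 hw') (by rwa [← map_mul, ← map_mul, hP])
        (by rwa [← map_mul, ← map_mul, hP])
      simpa only [← map_mul, hP] using this
  -- a member and `z` are related
  have near : ∀ c ∈ S, Φ z c := by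
    intro c hc w w' hw hw' h1 h2
    have key : ∀ u, P u → P (z * c * u) → u = z ∨ u ∈ S ∨ ∃ e ∈ S, c ≠ e ∧ u = z * (c * e) := by
      intro u hu h
      rcases hcls u hu with r | r | ⟨a, ha, b, hb, hab, rfl⟩
      · exact Or.inl r
      · exact Or.inr (Or.inl r)
      · refine Or.inr (Or.inr ?_)
        rcases eq_or_ne c a with rfl | h1
        · exact ⟨b, hb, hab, rfl⟩
        rcases eq_or_ne c b with rfl | h2
        · exact ⟨a, ha, hab.symm, by rw [mul_comm a c]⟩
        rw [mul_mul_mul_comm, hsq, one_mul, ← mul_assoc] at h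
        exact absurd h (hthree c hc a ha b hb h1 h2 hab).1
    have main : ∀ a ∈ S, ∀ b ∈ S, P (z * a * b) := by
      intro a ha b hb
      rcases eq_or_ne a b with rfl | n
      · rwa [mul_assoc, hsq, mul_one]
      · rw [mul_assoc]; exact hline a ha b hb n
    rcases key w hw h1 with r | a | ⟨e, he, -, rfl⟩
    · left; rwa [r, hsq, one_mul]
    all_goals rcases key w' hw' h2 with r' | b | ⟨e', he', -, rfl⟩
    all_goals try subst w'
    · left
      rw [mul_comm z w, mul_assoc, hsq, mul_one]; exact hw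
    · exact Or.inl (main w a w' b)
    · right
      have e1 : c * w * (z * (c * e')) = z * w * e' := by
        simp only [mul_assoc, mul_comm, mul_left_comm, hsq, cancel hsq, mul_one, one_mul]
      rw [e1]; exact main w a e' he'
    · left
      have e1 : z * (z * (c * e)) * z = z * (c * e) := by rw [cancel hsq, mul_comm]
      rw [e1]; exact hw
    · right
      have e1 : c * (z * (c * e)) * w' = z * e * w' := by
        simp only [mul_assoc, mul_comm, mul_left_comm, hsq, cancel hsq, mul_one, one_mul]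
      rw [e1]; exact main e he w' b
    · left
      have e1 : z * (z * (c * e)) * (z * (c * e')) = z * e * e' := by
        simp only [mul_assoc, mul_comm, mul_left_comm, hsq, cancel hsq, mul_one, one_mul]
      rw [e1]; exact main e he e' he'
  -- a product of two members and `z` are not
  have far : ∀ a ∈ S, ∀ b ∈ S, a ≠ b → ¬ Φ z (z * (a * b)) := by
    intro a ha b hb hab H
    obtain ⟨x, hx, y, hy, xa, xb, ya, yb, xy, hf⟩ := hfour a ha b hb hab
    have hq := hline x hx y hy xy
    have hn : ¬ P (a * b * (x * y)) := by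
      have := hpair _ _ (hline a ha b hb hab) hq
      rwa [mul_mul_mul_comm, hsq, one_mul] at this
    rcases H a (z * (x * y)) (hS a ha).1 hq
      (by rw [cancel hsq, mul_comm a b, mul_assoc, hsq, mul_one]; exact (hS b hb).1)
      (by rw [cancel hsq, mul_left_comm]; exact hf.resolve_left hn) with r | r
    · apply (hthree a ha x hx y hy xa.symm ya.symm xy).1
      convert r using 1
      simp only [mul_assoc, mul_comm, mul_left_comm, hsq, cancel hsq, mul_one, one_mul]
    · apply (hthree b hb x hx y hy xb.symm yb.symm xy).1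
      convert r using 1
      simp only [mul_assoc, mul_comm, mul_left_comm, hsq, cancel hsq, mul_one, one_mul]
  have nbr : ∀ v, P v → v ≠ z → Φ z v → v ∈ S := by
    intro v hv hne H
    rcases hcls v hv with r | r | ⟨a, ha, b, hb, hab, rfl⟩
    exacts [absurd r hne, r, absurd H (far a ha b hb hab)]
  obtain ⟨φ, hφ, hP⟩ := hmove p (hS p hp).1
  -- a relative of `p` other than `z`
  obtain ⟨a, ha, haz⟩ : ∃ a ∈ S, φ a ≠ z := by
    by_cases e : φ p = z
    · exact ⟨p', hp', fun e' => hpp (φ.injective (e.trans e'.symm))⟩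
    · exact ⟨p, hp, e⟩
  obtain ⟨v, hv, hvp, hvz, hΦv⟩ : ∃ v, P v ∧ v ≠ p ∧ v ≠ z ∧ Φ p v :=
    ⟨φ a, (hP a).2 (hS a ha).1, fun e => (hS a ha).2 (φ.injective (e.trans hφ.symm)), haz,
      hφ ▸ (hΦ φ hP z a).1 (near a ha)⟩
  -- two relatives of `p` give a distinguished product
  have hprod : P (p * z * v) := by
    obtain ⟨b, rfl⟩ := φ.surjective v
    obtain ⟨b', hb'⟩ := φ.surjective z
    have hsym : Φ p z := fun w w' hw hw' h1 h2 =>
      (near p hp w w' hw hw' (by rwa [mul_comm z p]) (by rwa [mul_comm z p])).symm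
    rw [← hφ] at hΦv hvp
    have k1 : b ∈ S := nbr b ((hP b).1 hv) (fun e => hvp (by rw [e])) ((hΦ φ hP z b).2 hΦv)
    have k2 : b' ∈ S := nbr b' ((hP b').1 (hb'.symm ▸ hz)) (fun e => (hS p hp).2 (by rw [← hb', e, hφ]))
      ((hΦ φ hP z b').2 (by rw [hφ, hb']; exact hsym))
    have key : P (z * b' * b) := by
      rcases eq_or_ne b' b with r | r
      · exact absurd (by rw [← r, hb']) hvz
      · rw [mul_assoc]; exact hline b' k2 b k1 r
    have := (hP _).2 key
    rwa [map_mul, map_mul, hφ, hb'] at this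
  rcases hcls v hv with r | r | ⟨g, hg, k, hk, hgk, rfl⟩
  · exact hvz r
  · -- a member
    obtain ⟨x, hx, y, hy, xa, xb, ya, yb, xy, hf⟩ := hfour p hp v r hvp.symm
    have hn : ¬ P (p * v * (x * y)) := by
      have := hpair _ _ (hline p hp v r hvp.symm) (hline x hx y hy xy)
      rwa [mul_mul_mul_comm, hsq, one_mul] at this
    rcases hΦv z (z * (x * y)) hz (hline x hx y hy xy)
      (by rw [mul_comm]; exact hline p hp v r hvp.symm)
      (by rw [mul_left_comm]; exact hf.resolve_left hn) with q | q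
    · apply (hthree p hp x hx y hy xa.symm ya.symm xy).1
      convert q using 1
      simp only [mul_assoc, mul_comm, mul_left_comm, hsq, cancel hsq, mul_one, one_mul]
    · apply (hthree v r x hx y hy xb.symm yb.symm xy).1
      convert q using 1
      simp only [mul_assoc, mul_comm, mul_left_comm, hsq, cancel hsq, mul_one, one_mul]
  · have other : ∀ f ∈ S, f ≠ p → Φ p (z * (p * f)) → False := by
      intro f hf hfp H
      obtain ⟨x, hx, y, hy, xa, xb, ya, yb, xy, hn⟩ := hfour' p hp f hf hfp.symm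
      have hw : ∀ u ∈ S, u ≠ f → P (p * (z * (p * f)) * u) := fun u hu hne => by
        convert hline f hf u hu hne.symm using 1
        simp only [mul_assoc, mul_comm, mul_left_comm, hsq, cancel hsq, mul_one, one_mul]
      rcases H x y (hS x hx).1 (hS y hy).1 (hw x hx xb) (hw y hy yb) with q | q
      · exact (hthree p hp x hx y hy xa.symm ya.symm xy).1 q
      · apply hn
        convert q using 1
        simp only [mul_assoc]
    rcases eq_or_ne p g with rfl | h1
    · exact other k hk hgk.symm hΦv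
    rcases eq_or_ne p k with rfl | h2
    · exact other g hg hgk (mul_comm g p ▸ hΦv)
    apply (hthree p hp g hg k hk h1 h2 hgk).1
    convert hprod using 1
    simp only [mul_assoc, mul_comm, mul_left_comm, hsq, cancel hsq, mul_one, one_mul]

end CfsgLib.Spor.Tri.CoverFusion
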