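/-
Lifts of the classes of a base to a double cover of a group of type M(22): three configurations of the
fused set are excluded.
-/
import Cfsg.Agent.Lib.Spor.Tri.Base22Local
import Cfsg.Agent.Lib.Spor.Tri.CoverCore
import Cfsg.Agent.Lib.Spor.Tri.CoverFusion

namespace CfsgLib.Spor.Tri.CoverM22

open CfsgLib.Spor.Tri CfsgLib.Spor.Tri.InvolFixed
open CfsgLib.Spor.Tri.CoverBase (Setting zel zel_comm map_zel map_mul_zel eq_or)
open CfsgLib.Spor.Tri.Base22 (span Tk)

variable {G : Type*} [Group G] [Finite G] {d : G} {X : Type*} [Group X] [Finite X] {D : Set X}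
  {π : ↥(Subgroup.centralizer ({d} : Set G)) →* X} {T : Sylow 2 X} {B : Finset X}

omit [Finite G] in
theorem conj_d {g a : G} : IsConj d (g * a * g⁻¹) ↔ IsConj d a :=
  ⟨fun r => r.trans (isConj_iff.2 ⟨g, rfl⟩ : IsConj a (g * a * g⁻¹)).symm,
    fun r => r.trans (isConj_iff.2 ⟨g, rfl⟩)⟩

/-- A double cover of a group of type M(22), with a base in a Sylow subgroup. -/
structure Ctx (d : G) (π : ↥(Subgroup.centralizer ({d} : Set G)) →* X) (D : Set X) (T : Sylow 2 X)
    (B : Finset X) : Prop where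
  set : Setting d π
  hyp : Hyp D
  prim : Cfsg.IsPrimitiveUnderConj D
  type : Cfsg.IsOfTypeM22 X D
  base : Base D B
  base_eq : (↑B : Set X) = {x | x ∈ D ∧ x ∈ (T : Subgroup X)}

variable (K : Ctx d π D T B)
include K

theorem Ctx.core : CoverCore.Core (span B) T 10 where
  sq _ hx := Base22.span_sq K.hyp K.base hx
  cardE := (Base22.card_span K.hyp K.prim K.type K.base).trans (by norm_num)
  leE := Base22.span_le K.hyp K.base_eq
  uniq _ hA h2 hc := Base22.uniq K.hyp K.prim K.type K.base K.base_eq hA h2 hc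
  invol _ hx := Base22.invol K.hyp K.prim K.type K.base K.base_eq hx

theorem Ctx.sq (x : ↥((span B).comap π)) : x * x = 1 :=
  Subtype.ext (CoverBase.sq_of_map K.set K.core.sq x.2)

theorem Ctx.comm (x y : ↥((span B).comap π)) : x * y = y * x :=
  (CoverCore.comap_elem K.set K.core).1.is_comm.comm x y

omit [Finite X] in
theorem Ctx.zel_mem : zel d ∈ (span B).comap π := by
  show π (zel d) ∈ span B
  rw [map_zel K.set]; exact one_mem _

omit [Finite X] in
theorem Ctx.not_one : ¬ IsConj d ((1 : ↥(Subgroup.centralizer ({d} : Set G))) : G) := CoverBase.not_conj_one K.set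

/-- The fusion as an automorphism of the preimage. -/
theorem Ctx.move (x : ↥((span B).comap π)) (hx : IsConj d (x : G)) :
    ∃ φ : ↥((span B).comap π) ≃* ↥((span B).comap π), φ ⟨zel d, K.zel_mem⟩ = x ∧
      ∃ u : G, ∀ a, (φ a : G) = u * a * u⁻¹ := by
  classical
  obtain ⟨u, hu, hud⟩ := CoverCore.fused K.set K.core ⟨x, x.2, rfl⟩ hx
  have hmem : ∀ a : ↥((span B).comap π), ∃ b : ↥((span B).comap π), (b : G) = u * a * u⁻¹ := fun a => by
    obtain ⟨b, hb, e⟩ := (Subgroup.mem_normalizer_iff.1 hu (a : G)).1 ⟨a, a.2, rfl⟩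
    exact ⟨⟨b, hb⟩, e⟩
  choose f hf using hmem
  have inj : ∀ {a b : ↥((span B).comap π)}, (a : G) = (b : G) → a = b := fun e => Subtype.ext (Subtype.ext e)
  let φ : ↥((span B).comap π) →* ↥((span B).comap π) := MonoidHom.mk' f fun a b => inj (by
    show (f (a * b) : G) = (f a : G) * (f b : G)
    rw [hf, hf, hf]
    show u * ((a : G) * (b : G)) * u⁻¹ = _
    group)
  have hbij : Function.Bijective φ := by
    refine ⟨fun a b e => inj ?_, fun b => ?_⟩
    · have e' : (f a : G) = f b := congrArg (fun t : ↥((span B).comap π) => (t : G)) e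
      rw [hf, hf] at e'
      exact mul_left_cancel (mul_right_cancel e')
    · obtain ⟨a, ha, e⟩ := (Subgroup.mem_normalizer_iff.1 (inv_mem hu) (b : G)).1 ⟨b, b.2, rfl⟩
      refine ⟨⟨a, ha⟩, inj ?_⟩
      show (f _ : G) = _
      rw [hf]
      change (a : G) = _ at e
      show u * (a : G) * u⁻¹ = _
      rw [e]; group
  refine ⟨MulEquiv.ofBijective φ hbij, inj ?_, u, fun a => hf a⟩
  show (f _ : G) = _
  rw [hf]
  exact hud

theorem Ctx.cls {x : ↥(Subgroup.centralizer ({d} : Set G))} (hx : π x ∈ span B) (hc : IsConj d (x : G)) :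
    x = zel d ∨ π x ∈ Tk B 1 ∨ π x ∈ Tk B 2 ∨ π x ∈ Tk B 3 := by
  by_cases h1 : π x = 1
  · rcases K.set.ker x h1 with r | r
    · exact absurd (r ▸ hc) K.not_one
    · exact Or.inl (Subtype.ext r)
  · exact Or.inr (Base22.split K.hyp K.prim K.type K.base hx h1)

omit [Finite X] in
theorem Ctx.lift_one {b : X} (hb : b ∈ B) : ∃ x : ↥((span B).comap π), π x = b := by
  obtain ⟨x, rfl⟩ := K.set.surj b
  exact ⟨⟨x, Subgroup.subset_closure hb⟩, rfl⟩

theorem Ctx.exists_three : ∃ b₁ ∈ B, ∃ b₂ ∈ B, ∃ b₃ ∈ B, b₁ ≠ b₂ ∧ b₁ ≠ b₃ ∧ b₂ ≠ b₃ := by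
  obtain ⟨a, b, c, ha, hb, hc, h⟩ := Finset.two_lt_card_iff.1 (by rw [K.base.card]; norm_num : 2 < B.card)
  exact ⟨a, ha, b, hb, c, hc, h⟩

theorem Ctx.tk_ne {k : ℕ} (h1 : 1 ≤ k) (h3 : k ≤ 3) {x : ↥(Subgroup.centralizer ({d} : Set G))}
    (hx : π x ∈ Tk B k) : π x ≠ 1 :=
  (Base22.tk_sub K.hyp K.type K.base h1 (h3.trans (by norm_num)) hx).2

omit K in
/-- Abbreviation for the exclusive choice between two lifts. -/
abbrev One (π : ↥(Subgroup.centralizer ({d} : Set G)) →* X) (S : Set X) : Prop :=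
  ∀ x, π x ∈ S → (IsConj d (x : G) ↔ ¬ IsConj d ((x * zel d : ↥(Subgroup.centralizer ({d} : Set G))) : G))

/-- Excludes the fused set of size `45`. -/
theorem Ctx.no45 (h1 : ∀ x, π x ∈ Tk B 1 → IsConj d (x : G)) (h2 : ∀ x, π x ∈ Tk B 2 → ¬ IsConj d (x : G))
    (h3 : ∀ x, π x ∈ Tk B 3 → ¬ IsConj d (x : G)) : False := by
  letI : CommGroup ↥((span B).comap π) := { (inferInstance : Group ↥((span B).comap π)) with mul_comm := K.comm }
  obtain ⟨b₁, hb₁, b₂, hb₂, -, -, h12, -, -⟩ := K.exists_three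
  obtain ⟨x, hx⟩ := K.lift_one hb₁
  obtain ⟨r, hr⟩ := K.lift_one hb₂
  refine CoverFusion.no_double (V := ↥((span B).comap π)) (P := fun a => IsConj d (a : G))
    (z := ⟨zel d, K.zel_mem⟩) (fun a ha => ?_) (fun a ha hne => ?_)
    (x := x) (r := r) (h1 _ (by rw [hx, Base22.tk_one]; exact hb₁)) (h1 _ (by rw [hr, Base22.tk_one]; exact hb₂))
    (fun e => h12 (by rw [← hx, ← hr, e])) ?_
  · obtain ⟨φ, hφ, u, hu⟩ := K.move a ha
    exact ⟨φ, hφ, fun b => by simp only [hu]; exact conj_d⟩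
  · rcases K.cls a.2 ha with q | q | q | q
    · exact absurd (Subtype.ext q) hne
    · refine h1 _ ?_
      show π (zel d * (a : ↥(Subgroup.centralizer ({d} : Set G)))) ∈ _
      rwa [map_mul, map_zel K.set, one_mul]
    · exact absurd ha (h2 _ q)
    · exact absurd ha (h3 _ q)
  · refine h2 _ ?_
    show π ((x : ↥(Subgroup.centralizer ({d} : Set G))) * r) ∈ _
    rw [map_mul, hx, hr]
    exact Base22.pair_mem h12 hb₁ hb₂

/-- Excludes the fused set of size `254`. -/
theorem Ctx.no254 (h1 : One π (Tk B 1)) (h2 : One π (Tk B 2)) (h3 : ∀ x, π x ∈ Tk B 3 → ¬ IsConj d (x : G)) :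
    False := by
  letI : CommGroup ↥((span B).comap π) := { (inferInstance : Group ↥((span B).comap π)) with mul_comm := K.comm }
  let C := ↥(Subgroup.centralizer ({d} : Set G))
  set z : ↥((span B).comap π) := ⟨zel d, K.zel_mem⟩ with hz
  let P : ↥((span B).comap π) → Prop := fun a => IsConj d (a : G)
  let S : Set ↥((span B).comap π) := {a | π a ∈ Tk B 1 ∧ P a}
  have hzc : ∀ a : ↥((span B).comap π), ((z * a : ↥((span B).comap π)) : C) = (a : C) * zel d := fun a =>
    (zel_comm (a : C)).eq.symm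
  have hπz : ∀ a : ↥((span B).comap π), π (z * a : ↥((span B).comap π)) = π a := fun a => by
    rw [hzc, map_mul_zel K.set]
  have mov : ∀ a, P a → ∃ φ : ↥((span B).comap π) ≃* ↥((span B).comap π), φ z = a ∧ ∀ b, P (φ b) ↔ P b := fun a ha => by
    obtain ⟨φ, hφ, u, hu⟩ := K.move a ha
    exact ⟨φ, hφ, fun b => by simp only [P, hu]; exact conj_d⟩
  have hnz : ∀ a, P a → ¬ P (z * a) := by
    intro a ha hza
    have hza' : IsConj d (((a : C) * zel d : C) : G) := by rw [← hzc]; exact hza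
    rcases K.cls a.2 ha with q | q | q | q
    · rw [q, CoverBase.zel_sq K.set] at hza'; exact K.not_one hza'
    · exact (h1 _ q).1 ha hza'
    · exact (h2 _ q).1 ha hza'
    · exact h3 _ q ha
  have pick : ∀ {k} (a : ↥((span B).comap π)), One π (Tk B k) → π a ∈ Tk B k → P a ∨ P (z * a) := by
    intro k a h ha
    by_cases q : P a
    · exact Or.inl q
    · right
      show IsConj d (((z * a : ↥((span B).comap π)) : C) : G)
      rw [hzc]
      by_contra q'
      exact q ((h _ ha).2 q')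
  have mkS : ∀ b ∈ B, ∃ a ∈ S, π a = b := by
    intro b hb
    obtain ⟨a, ha⟩ := K.lift_one hb
    have ha' : π a ∈ Tk B 1 := by rw [ha, Base22.tk_one]; exact hb
    rcases pick a h1 ha' with q | q
    · exact ⟨a, ⟨ha', q⟩, ha⟩
    · exact ⟨z * a, ⟨by rw [hπz]; exact ha', q⟩, by rw [hπz, ha]⟩
  have inB : ∀ {a}, a ∈ S → π a ∈ B := fun {a} ha => by
    have := ha.1; rw [Base22.tk_one] at this; exact this
  have inj : ∀ {a b}, a ∈ S → b ∈ S → π a = π b → a = b := by
    intro a b ha hb e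
    rcases eq_or K.set e with r | r
    · exact (Subtype.ext r).symm
    · refine absurd hb.2 ?_
      show ¬ IsConj d ((b : C) : G)
      rw [r]
      exact (h1 _ ha.1).1 ha.2
  have hpair : ∀ a b, P a → P b → ¬ P (a * b) := by
    intro u v hu hv
    obtain ⟨φ, rfl, hP⟩ := mov u hu
    obtain ⟨a, rfl⟩ := φ.surjective v
    rw [← map_mul, hP]
    exact hnz a ((hP a).1 hv)
  have three : ∀ x : ↥((span B).comap π), π x ∈ Tk B 3 → ¬ P x ∧ ¬ P (z * x) := fun x hx =>
    ⟨h3 _ hx, h3 _ (by rw [hπz]; exact hx)⟩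
  obtain ⟨b₁, hb₁, b₂, hb₂, -, -, h12, -, -⟩ := K.exists_three
  obtain ⟨p, hp, rfl⟩ := mkS b₁ hb₁
  obtain ⟨p', hp', rfl⟩ := mkS b₂ hb₂
  refine CoverFusion.no_lines (V := ↥((span B).comap π)) (S := S) K.sq mov (fun x hx => ?_)
    (fun a ha => ⟨ha.2, fun e => K.tk_ne le_rfl (by norm_num) ha.1 (by rw [e]; exact map_zel K.set)⟩)
    hnz (IsConj.refl d) (fun a ha b hb n => pick (a * b) h2 ?_)
    (fun a ha b hb c hc ab ac bc => three _ ?_) (fun a ha b hb n => ?_) (fun a ha b hb n => ?_)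
    hp hp' (fun e => h12 (by rw [e]))
  · rcases K.cls x.2 hx with q | q | q | q
    · exact Or.inl (Subtype.ext q)
    · exact Or.inr (Or.inl ⟨q, hx⟩)
    · obtain ⟨l, hl, hlk, hlm, hlp⟩ := id q
      obtain ⟨u, v, rfl⟩ := List.length_eq_two.1 hlk
      obtain ⟨a, ha, rfl⟩ := mkS u (hlm u (by simp))
      obtain ⟨b, hb, rfl⟩ := mkS v (hlm v (by simp))
      refine Or.inr (Or.inr ⟨a, ha, b, hb, fun e => by simp [e] at hl, ?_⟩)
      have e : π ((a * b : ↥((span B).comap π)) : C) = π x := by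
        rw [← hlp, List.prod_cons, List.prod_singleton, ← map_mul]; rfl
      rcases eq_or K.set e with r | r
      · exact absurd ((Subtype.ext r : x = a * b) ▸ hx) (hpair a b ha.2 hb.2)
      · exact Subtype.ext (r.trans (hzc (a * b)).symm)
    · exact absurd hx (h3 _ q)
  · show π ((a : C) * (b : C)) ∈ _
    rw [map_mul]
    exact Base22.pair_mem (fun e => n (inj ha hb e)) (inB ha) (inB hb)
  · show π ((a : C) * (b : C) * (c : C)) ∈ _
    rw [map_mul, map_mul]
    exact Base22.triple_mem (by simp [show π a ≠ π b from fun e => ab (inj ha hb e),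
      show π a ≠ π c from fun e => ac (inj ha hc e), show π b ≠ π c from fun e => bc (inj hb hc e)])
      (inB ha) (inB hb) (inB hc)
  all_goals have n' : π a ≠ π b := fun e => n (inj ha hb e)
  · obtain ⟨u, v, hnd, hu, hv, hm⟩ := Base22.four_two K.hyp K.prim K.type K.base n' (inB ha) (inB hb)
    obtain ⟨x, hx, rfl⟩ := mkS u hu
    obtain ⟨y, hy, rfl⟩ := mkS v hv
    simp at hnd
    refine ⟨x, hx, y, hy, fun e => ?_, fun e => ?_, fun e => ?_, fun e => ?_, fun e => ?_, pick _ h2 ?_⟩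
    all_goals first | (subst e; simp at hnd) | skip
    show π ((a : C) * (b : C) * ((x : C) * (y : C))) ∈ _
    rw [map_mul, map_mul, map_mul]; exact hm
  · obtain ⟨u, v, hnd, hu, hv, hm⟩ := Base22.four_three K.hyp K.prim K.type K.base n' (inB ha) (inB hb)
    obtain ⟨x, hx, rfl⟩ := mkS u hu
    obtain ⟨y, hy, rfl⟩ := mkS v hv
    simp at hnd
    refine ⟨x, hx, y, hy, fun e => ?_, fun e => ?_, fun e => ?_, fun e => ?_, fun e => ?_, (three _ ?_).2⟩
    all_goals first | (subst e; simp at hnd) | skip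
    show π ((a : C) * (b : C) * ((x : C) * (y : C))) ∈ _
    rw [map_mul, map_mul, map_mul]; exact hm

end CfsgLib.Spor.Tri.CoverM22
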