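/-
Lifts of members fall into two classes of the double cover; this excludes the fused set of size `276`.
-/
import Cfsg.Agent.Lib.Spor.Tri.CoverM22Lifts

namespace CfsgLib.Spor.Tri.CoverM22

open CfsgLib.Spor.Tri CfsgLib.Spor.Tri.InvolFixed
open CfsgLib.Spor.Tri.CoverBase (Setting zel zel_comm map_zel map_mul_zel eq_or)
open CfsgLib.Spor.Tri.Base22 (span Tk)

variable {G : Type*} [Group G] [Finite G] {d : G} {X : Type*} [Group X] [Finite X] {D : Set X}
  {π : ↥(Subgroup.centralizer ({d} : Set G)) →* X} {T : Sylow 2 X} {B : Finset X}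
  (K : Ctx d π D T B)
include K

/-- Commuting members lift into a conjugate of the preimage. -/
theorem Ctx.lift_into {S : Set X} (hS : S ⊆ D) (hc : ∀ a ∈ S, ∀ b ∈ S, Commute a b) :
    ∃ g : ↥(Subgroup.centralizer ({d} : Set G)), ∀ x, π x ∈ S → π (g * x * g⁻¹) ∈ span B := by
  obtain ⟨u, hu⟩ := Base22.move_into K.hyp K.prim K.type K.base K.base_eq hS hc
  obtain ⟨g, rfl⟩ := K.set.surj u
  exact ⟨g, fun x hx => by rw [map_mul, map_mul, map_inv]; exact Subgroup.subset_closure (hu _ hx)⟩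

/-- Lifts of commuting members commute. -/
theorem Ctx.lift_commute {x y : ↥(Subgroup.centralizer ({d} : Set G))} (hx : π x ∈ D) (hy : π y ∈ D)
    (h : Commute (π x) (π y)) : Commute x y := by
  obtain ⟨g, hg⟩ := K.lift_into (S := {π x, π y})
    (by intro u hu; rcases hu with rfl | rfl <;> assumption)
    (by
      intro a ha b hb
      rcases ha with rfl | rfl <;> rcases hb with rfl | rfl
      exacts [Commute.refl _, h, h.symm, Commute.refl _])
  have := congrArg Subtype.val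
    (K.comm ⟨_, hg x (Set.mem_insert _ _)⟩ ⟨_, hg y (Set.mem_insert_of_mem _ rfl)⟩)
  exact (Commute.conj_iff g).1 this

/-- Centralizers of members lift. -/
theorem Ctx.cent_lift {x g : ↥(Subgroup.centralizer ({d} : Set G))} (hx : π x ∈ D) (h : Commute (π x) (π g)) :
    Commute x g := by
  have hle : Subgroup.closure {y | y ∈ D ∧ y ≠ π x ∧ Commute (π x) y} ≤
      (Subgroup.centralizer ({x} : Set ↥(Subgroup.centralizer ({d} : Set G)))).map π := by
    rw [Subgroup.closure_le]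
    rintro y ⟨hy, -, hc⟩
    obtain ⟨y, rfl⟩ := K.set.surj y
    exact ⟨y, Subgroup.mem_centralizer_singleton_iff.2 (K.lift_commute hx hy hc).symm.eq, rfl⟩
  obtain ⟨g', hg', e⟩ := hle (Base22.cent_le K.hyp K.prim K.type hx h)
  have hc : Commute x g' := Commute.symm (Subgroup.mem_centralizer_singleton_iff.1 hg')
  rcases eq_or K.set e with r | r <;> rw [r]
  · exact hc
  · exact hc.mul_right (zel_comm x)

/-- A lift of a member is not conjugate to the other lift. -/
theorem Ctx.not_conj_mul_zel {x g : ↥(Subgroup.centralizer ({d} : Set G))} (hx : π x ∈ D) :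
    g * x * g⁻¹ ≠ x * zel d := by
  intro e
  have e' : π g * π x * (π g)⁻¹ = π x := by
    rw [← map_inv, ← map_mul, ← map_mul, e, map_mul_zel K.set]
  have hc : Commute x g := K.cent_lift hx (Eq.symm (mul_inv_eq_iff_eq_mul.1 e'))
  rw [← hc.eq, mul_inv_cancel_right] at e
  exact CoverBase.mul_zel_ne K.set x e.symm

/-- The classes of lifts of members. -/
theorem Ctx.lift_class {x₀ x : ↥(Subgroup.centralizer ({d} : Set G))} (h₀ : π x₀ ∈ D) (hx : π x ∈ D) :
    (∃ g, g * x₀ * g⁻¹ = x) ↔ ¬ ∃ g, g * x₀ * g⁻¹ = x * zel d := by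
  constructor
  · rintro ⟨g, hg⟩ ⟨g', hg'⟩
    refine K.not_conj_mul_zel hx (g := g' * g⁻¹) (Eq.trans ?_ hg')
    rw [← hg]; group
  · intro hn
    obtain ⟨u, hu⟩ := K.hyp.transitive _ h₀ _ hx
    obtain ⟨g, rfl⟩ := K.set.surj u
    rw [← map_inv, ← map_mul, ← map_mul] at hu
    rcases eq_or K.set hu.symm with r | r
    · exact ⟨g, r⟩
    · exact absurd ⟨g, r⟩ hn

/-- Excludes the fused set of size `276`. -/
theorem Ctx.no276 (h1 : ∀ x, π x ∈ Tk B 1 → IsConj d (x : G)) (h2 : One π (Tk B 2))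
    (h3 : ∀ x, π x ∈ Tk B 3 → ¬ IsConj d (x : G)) : False := by
  letI : CommGroup ↥((span B).comap π) := { (inferInstance : Group ↥((span B).comap π)) with mul_comm := K.comm }
  let C := ↥(Subgroup.centralizer ({d} : Set G))
  let V := ↥((span B).comap π)
  set z : ↥((span B).comap π) := ⟨zel d, K.zel_mem⟩ with hz
  have hzc : ∀ a : V, ((z * a : V) : C) = (a : C) * zel d := fun a => (zel_comm (a : C)).eq.symm
  have hπz : ∀ a : V, π (z * a : V) = π a := fun a => by rw [hzc, map_mul_zel K.set]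
  have mem1 : ∀ {b : X}, b ∈ B → b ∈ Tk B 1 := fun {b} hb => by rw [Base22.tk_one]; exact hb
  have of1 : ∀ {b : X}, b ∈ Tk B 1 → b ∈ B := fun {b} hb => by rwa [Base22.tk_one] at hb
  obtain ⟨b₁, hb₁, b₂, hb₂, b₃, hb₃, h12, h13, h23⟩ := K.exists_three
  obtain ⟨x₀, hx₀⟩ := K.lift_one hb₁
  have hx₀D : π (x₀ : C) ∈ D := by rw [hx₀]; exact K.base.sub _ hb₁
  let Kc : C → Prop := fun x => ∃ g, g * (x₀ : C) * g⁻¹ = x
  have hK : ∀ {a : V}, π a ∈ B → (Kc a ↔ ¬ Kc ((z * a : V) : C)) := fun {a} ha => by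
    rw [hzc]; exact K.lift_class hx₀D (K.base.sub _ ha)
  let R : V → V → Prop := fun u v => ∃ g : G, g * d * g⁻¹ = u ∧ g * (x₀ : G) * g⁻¹ = v
  have hR : ∀ a : V, R z a ↔ Kc a := by
    intro a
    constructor
    · rintro ⟨g, e1, e2⟩
      refine ⟨⟨g, Subgroup.mem_centralizer_singleton_iff.2 (mul_inv_eq_iff_eq_mul.1 e1)⟩, Subtype.ext e2⟩
    · rintro ⟨g, e⟩
      refine ⟨g, ?_, congrArg Subtype.val e⟩
      rw [Subgroup.mem_centralizer_singleton_iff.1 g.2, mul_inv_cancel_right]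
      rfl
  let P : V → Prop := fun a => IsConj d (a : G)
  let σ : Prop := ∃ a b : V, π a ∈ B ∧ π b ∈ B ∧ π a ≠ π b ∧ Kc a ∧ Kc b ∧ P (a * b)
  have mem2 : ∀ {v w : V}, π v ∈ B → π w ∈ B → π v ≠ π w → π ((v * w : V) : C) ∈ Tk B 2 := fun {v w} hv hw hne => by
    show π ((v : C) * (w : C)) ∈ _
    rw [map_mul]; exact Base22.pair_mem hne hv hw
  have hσ : ∀ a b : V, π a ∈ B → π b ∈ B → π a ≠ π b → Kc a → Kc b → (P (a * b) ↔ σ) := by
    intro a b ha hb hne hKa hKb
    refine ⟨fun q => ⟨a, b, ha, hb, hne, hKa, hKb, q⟩, ?_⟩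
    rintro ⟨a', b', ha', hb', hne', hKa', hKb', q⟩
    obtain ⟨u, hu⟩ := Base22.tk_class K.hyp K.prim K.type K.base (by norm_num) (by norm_num)
      (mem2 ha' hb' hne') (mem2 ha hb hne)
    obtain ⟨g, rfl⟩ := K.set.surj u
    have mv : ∀ {x : C}, π x ∈ D → π (g * x * g⁻¹) ∈ D := fun {x} hx => by
      rw [map_mul, map_mul, map_inv]; exact K.hyp.conj _ _ hx
    have hD : π (g * (a' : C) * g⁻¹) ∈ D ∧ π (g * (b' : C) * g⁻¹) ∈ D :=
      ⟨mv (K.base.sub _ ha'), mv (K.base.sub _ hb')⟩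
    have hne2 : π (g * (a' : C) * g⁻¹) ≠ π (g * (b' : C) * g⁻¹) := fun e => hne' (by
      rw [map_mul, map_mul, map_mul, map_mul] at e
      exact mul_left_cancel (mul_right_cancel e))
    have hprod : π (g * (a' : C) * g⁻¹) * π (g * (b' : C) * g⁻¹) = π a * π b := by
      rw [← map_mul π, ← map_mul π (a : C)]
      rw [show g * (a' : C) * g⁻¹ * (g * (b' : C) * g⁻¹) = g * ((a' : C) * b') * g⁻¹ by group, map_mul, map_mul,
        map_inv]
      exact hu
    have hcm : Commute (π (g * (a' : C) * g⁻¹)) (π (g * (b' : C) * g⁻¹)) :=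
      Commute.map ((Commute.conj_iff g).2 (congrArg Subtype.val (K.comm a' b'))) π
    have ht : Relations.Tuple D [π (g * (a' : C) * g⁻¹), π (g * (b' : C) * g⁻¹)] := by
      refine ⟨List.nodup_cons.2 ⟨by simpa only [List.mem_singleton] using hne2, List.nodup_singleton _⟩,
        fun e he => ?_, fun e he e' he' => ?_⟩
      · simp only [List.mem_cons, List.not_mem_nil, or_false] at he; rcases he with rfl | rfl
        exacts [⟨hD.1, K.hyp.ne_one hD.1⟩, ⟨hD.2, K.hyp.ne_one hD.2⟩]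
      · simp only [List.mem_cons, List.not_mem_nil, or_false] at he he'
        rcases he with rfl | rfl <;> rcases he' with rfl | rfl
        exacts [Commute.refl _, hcm, hcm.symm, Commute.refl _]
    have hin := Base22.members_in_base K.hyp K.base ht (by simp) (by
      simp only [List.prod_cons, List.prod_nil, mul_one]
      rw [hprod]; exact mul_mem a.2 b.2)
    rcases Base22.eq_or_disjoint K.hyp K.type K.base ht.1 (by simp [hne] : [π (a : C), π (b : C)].Nodup)
      (fun e he => (List.mem_append.1 he).elim (hin e) fun r => by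
        simp only [List.mem_cons, List.not_mem_nil, or_false] at r; rcases r with rfl | rfl <;> assumption)
      (by simpa only [List.prod_cons, List.prod_nil, mul_one] using hprod) (by simp) (by simp) with r | ⟨-, r, -⟩
    swap
    · simp at r
    have same : ∀ {x y : V}, π x ∈ B → Kc x → Kc y → π (g * (y : C) * g⁻¹) = π x → g * (y : C) * g⁻¹ = x := by
      intro x y hx hKx hKy e
      rcases eq_or K.set e.symm with q | q
      · exact q
      · obtain ⟨k, hk⟩ := hKy
        refine absurd ?_ ((K.lift_class hx₀D (K.base.sub _ hx)).1 hKx)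
        exact ⟨g * k, by rw [← q, ← hk]; group⟩
    have q' : IsConj d (((g * ((a' : C) * b') * g⁻¹ : C)) : G) := conj_d.2 q
    have e1 : g * ((a' : C) * b') * g⁻¹ = g * (a' : C) * g⁻¹ * (g * (b' : C) * g⁻¹) := by group
    rw [e1] at q'
    have r1 := (r (π (g * (a' : C) * g⁻¹))).1 (List.mem_cons_self ..)
    have r2 := (r (π (g * (b' : C) * g⁻¹))).1 (List.mem_cons_of_mem _ (List.mem_cons_self ..))
    simp only [List.mem_cons, List.not_mem_nil, or_false] at r1 r2
    rcases r1 with r1 | r1 <;> rcases r2 with r2 | r2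
    · exact absurd (r1.trans r2.symm) hne2
    · rw [same ha hKa hKa' r1, same hb hKb hKb' r2] at q'
      exact q'
    · rw [same hb hKb hKa' r1, same ha hKa hKb' r2] at q'
      rw [K.comm a b]
      exact q'
    · exact absurd (r1.trans r2.symm) hne2
  clear_value σ
  have img : ∀ {a : V}, P a → P (z * a) → π a ∈ B := by
    intro a ha hza
    have hza' : IsConj d (((a : C) * zel d : C) : G) := by rw [← hzc]; exact hza
    rcases K.cls a.2 ha with q | q | q | q
    · rw [q, CoverBase.zel_sq K.set] at hza'; exact absurd hza' K.not_one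
    · exact of1 q
    · exact absurd hza' ((h2 _ q).1 ha)
    · exact absurd ha (h3 _ q)
  have other : ∀ {v w : V}, π v ∈ B → π w ∈ B → π v ≠ π w → (P (z * (v * w)) ↔ ¬ P (v * w)) := by
    intro v w hv hw hne
    have := h2 _ (mem2 hv hw hne)
    have e : P (z * (v * w)) ↔ IsConj d ((((v * w : V) : C) * zel d : C) : G) := by
      show IsConj d (((z * (v * w) : V) : C) : G) ↔ _
      rw [hzc]
    rw [e]
    exact iff_not_comm.1 this
  have hpair : ∀ v w : V, π v ∈ B → π w ∈ B → π v ≠ π w → (P (v * w) ↔ (σ ↔ (Kc v ↔ Kc w))) := by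
    intro v w hv hw hne
    by_cases kv : Kc v <;> by_cases kw : Kc w
    · have := hσ v w hv hw hne kv kw; tauto
    · have hw' : Kc ((z * w : V) : C) := not_not.1 (mt (hK hw).2 kw)
      have := hσ v (z * w) hv (by rw [hπz]; exact hw) (by rw [hπz]; exact hne) kv hw'
      rw [mul_left_comm v z w] at this
      have := other hv hw hne
      tauto
    · have hv' : Kc ((z * v : V) : C) := not_not.1 (mt (hK hv).2 kv)
      have := hσ (z * v) w (by rw [hπz]; exact hv) hw (by rw [hπz]; exact hne) hv' kw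
      rw [mul_assoc z v w] at this
      have := other hv hw hne
      tauto
    · have hv' : Kc ((z * v : V) : C) := not_not.1 (mt (hK hv).2 kv)
      have hw' : Kc ((z * w : V) : C) := not_not.1 (mt (hK hw).2 kw)
      have := hσ (z * v) (z * w) (by rw [hπz]; exact hv) (by rw [hπz]; exact hw)
        (by rw [hπz, hπz]; exact hne) hv' hw'
      rw [mul_mul_mul_comm, K.sq, one_mul] at this
      tauto
  have mk : ∀ b ∈ B, ∃ a : V, π a = b ∧ Kc a ∧ P a ∧ P (z * a) := by
    intro b hb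
    obtain ⟨a, ha⟩ := K.lift_one hb
    have haB : π (a : C) ∈ B := by rw [ha]; exact hb
    have both : ∀ x : V, π x = b → P x := fun x hx => h1 _ (by rw [hx]; exact mem1 hb)
    by_cases ka : Kc a
    · exact ⟨a, ha, ka, both a ha, both _ (by rw [hπz, ha])⟩
    · exact ⟨z * a, by rw [hπz, ha], not_not.1 (mt (hK haB).2 ka), both _ (by rw [hπz, ha]),
        both _ (by rw [hπz, hπz, ha])⟩
  obtain ⟨c, rfl, kc, Pc, Pzc⟩ := mk b₁ hb₁
  obtain ⟨f, rfl, kf, Pf, Pzf⟩ := mk b₂ hb₂
  obtain ⟨g, rfl, kg, Pg, Pzg⟩ := mk b₃ hb₃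
  have ne1 : ∀ {a : V}, π a ∈ B → a ≠ 1 ∧ a ≠ z := fun {a} ha =>
    ⟨fun e => K.tk_ne le_rfl (by norm_num) (mem1 ha) (by rw [e]; exact map_one π),
      fun e => K.tk_ne le_rfl (by norm_num) (mem1 ha) (by rw [e]; exact map_zel K.set)⟩
  refine CoverFusion.no_pairs (V := V) (P := P) (z := z) (R := R) (σ := σ) K.sq
    (fun a ha => ?_) (fun u v hu hv huv r r' => ?_) (fun a ha hza => ?_) (fun v w hv hzv hw hzw n1 n2 => ?_)
    (IsConj.refl d) Pc Pzc Pf Pzf Pg Pzg ((hR c).2 kc) ((hR f).2 kf) ((hR g).2 kg)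
    (fun e => h12 (by rw [e])) (fun e => h13 (by rw [e])) (fun e => h23 (by rw [e]))
    ?_ (ne1 hb₁).2 (ne1 hb₂).2 (fun e => h12 (by rw [e, hπz])) (fun e => h13 (by rw [e, hπz]))
    (ne1 hb₂).1 (ne1 hb₃).1 ?_
  · obtain ⟨φ, hφ, u, hu⟩ := K.move a ha
    refine ⟨φ, hφ, fun b => by simp only [P, hu]; exact conj_d, fun a b => ?_⟩
    simp only [R, hu]
    constructor
    · rintro ⟨k, e1, e2⟩
      refine ⟨u⁻¹ * k, ?_, ?_⟩
      · calc u⁻¹ * k * d * (u⁻¹ * k)⁻¹ = u⁻¹ * (k * d * k⁻¹) * u := by group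
          _ = _ := by rw [e1]; group
      · calc u⁻¹ * k * (x₀ : G) * (u⁻¹ * k)⁻¹ = u⁻¹ * (k * (x₀ : G) * k⁻¹) * u := by group
          _ = _ := by rw [e2]; group
    · rintro ⟨k, e1, e2⟩
      exact ⟨u * k, by rw [← e1]; group, by rw [← e2]; group⟩
  · obtain ⟨k1, a1, a2⟩ := r
    obtain ⟨k2, b1, b2⟩ := r'
    have huv' : ((u * v : V) : G) = (u : G) * (v : G) := rfl
    have e : (k2 * k1⁻¹) * (u : G) * (k2 * k1⁻¹)⁻¹ = v := by rw [← a1, ← b1]; group
    have e' : (k2 * k1⁻¹) * (v : G) * (k2 * k1⁻¹)⁻¹ = u := by rw [← a2, ← b2]; group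
    have ew : (k2 * k1⁻¹) * ((u * v : V) : G) * (k2 * k1⁻¹)⁻¹ = ((u * v : V) : G) := by
      calc _ = ((k2 * k1⁻¹) * (u : G) * (k2 * k1⁻¹)⁻¹) * ((k2 * k1⁻¹) * (v : G) * (k2 * k1⁻¹)⁻¹) := by
            rw [huv']; group
        _ = ((v * u : V) : G) := by rw [e, e']; rfl
        _ = _ := by rw [K.comm v u]
    constructor <;> rintro ⟨k, c1, c2⟩ <;> refine ⟨k2 * k1⁻¹ * k, ?_, ?_⟩
    · refine Eq.trans ?_ ew
      rw [← c1]; group
    · refine Eq.trans ?_ e
      rw [← c2]; group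
    · refine Eq.trans ?_ ew
      rw [← c1]; group
    · refine Eq.trans ?_ e'
      rw [← c2]; group
  · rw [hR, hR]; exact hK (img ha hza)
  · have hvB := img hv hzv
    have hwB := img hw hzw
    rw [hR, hR]
    refine hpair v w hvB hwB fun e => ?_
    rcases eq_or K.set e with q | q
    · exact n1 (Subtype.ext q)
    · exact n2 (Subtype.ext (q.trans (hzc v).symm))
  · intro e
    have hh := mem2 hb₁ hb₂ h12
    rw [← e] at hh
    exact absurd (Base22.tk_unique K.hyp K.prim K.type K.base (by norm_num) (by norm_num) (by norm_num)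
      (by norm_num) (mem1 hb₃) hh) (by norm_num)
  · refine h3 _ ?_
    show π ((c : C) * (f : C) * (g : C)) ∈ _
    rw [map_mul, map_mul]
    exact Base22.triple_mem (by simp [h12, h13, h23]) hb₁ hb₂ hb₃

end CfsgLib.Spor.Tri.CoverM22
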