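/-
A central involution split off: a predicate choosing one of two lifts over the distinguished elementary
subgroup of the quotient gives a complement.
-/
import Cfsg.Agent.Lib.Spor.Tri.CoverBase

namespace CfsgLib.Spor.Tri.CoverSplit

open CoverBase (BaseFacts)

variable {L : Type*} [Group L] [Finite L] {U : Type*} [Group U] {E S U2 U1 : Subgroup U} {T1 T2 T3 : Set U}
  (f : L →* U) (hf : Function.Surjective f) (hB : BaseFacts E S U2 U1 T1 T2 T3)
  {z : L} (hzz : z * z = 1) (hzc : ∀ g, Commute g z) (hfz : f z = 1)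
  {Q : L → Prop} (hQc : ∀ g x, Q (g * x * g⁻¹) ↔ Q x)
  (hQm : ∀ x y, f x ∈ E → f y ∈ E → Q x → Q y → Q (x * y)) (hQ1 : Q 1)
  (hQz : ∀ x, f x ∈ E → (Q x ↔ ¬ Q (x * z)))

/-- The section over the Sylow subgroup. -/
def sect (f : L →* U) (E U2 U1 : Subgroup U) (Q : L → Prop) : Set L :=
  {x | ∃ r w v, f r ∈ E ∧ Q r ∧ f w ∈ U2 ∧ Q w ∧ f v ∈ U1 ∧ Q v ∧ x = r * w * v}

include hf hB hQc hQm in
omit [Finite L] in
theorem mul_moved {V : Subgroup U} (hV : ∃ g, ∀ x ∈ V, g * x * g⁻¹ ∈ E) {x y : L} (hx : f x ∈ V) (hy : f y ∈ V)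
    (qx : Q x) (qy : Q y) : Q (x * y) := by
  obtain ⟨g, hg⟩ := hV
  obtain ⟨c, rfl⟩ := hf g
  have hm : ∀ {u}, f u ∈ V → f (c * u * c⁻¹) ∈ E := fun {u} hu => by
    rw [map_mul, map_mul, map_inv]; exact hg _ hu
  have := hQm _ _ (hm hx) (hm hy) ((hQc c x).2 qx) ((hQc c y).2 qy)
  rw [show c * x * c⁻¹ * (c * y * c⁻¹) = c * (x * y) * c⁻¹ by group] at this
  exact (hQc c _).1 this

include hf hfz hQc hQz in
omit [Finite L] in
theorem pick {V : Subgroup U} (hV : ∃ g, ∀ x ∈ V, g * x * g⁻¹ ∈ E) (hzc : ∀ g, Commute g z) {u : U} (hu : u ∈ V) :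
    ∃ r, f r = u ∧ Q r := by
  obtain ⟨g, hg⟩ := hV
  obtain ⟨c, rfl⟩ := hf g
  obtain ⟨r, rfl⟩ := hf u
  have hm : f (c * r * c⁻¹) ∈ E := by rw [map_mul, map_mul, map_inv]; exact hg _ hu
  by_cases q : Q r
  · exact ⟨r, rfl, q⟩
  refine ⟨r * z, by rw [map_mul, hfz, mul_one], ?_⟩
  by_contra q'
  refine q ((hQc c r).1 ((hQz _ hm).2 fun h => q' ((hQc c (r * z)).1 ?_)))
  have e : c * (r * z) * c⁻¹ = c * r * c⁻¹ * z := by
    rw [← mul_assoc, mul_assoc (c * r) z, ← (hzc c⁻¹).eq, ← mul_assoc]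
  rwa [e]

include hf hB hQc hQm in
omit [Finite L] in
theorem sect_mul {x y : L} (hx : x ∈ sect f E U2 U1 Q) (hy : y ∈ sect f E U2 U1 Q) :
    x * y ∈ sect f E U2 U1 Q := by
  obtain ⟨r, w, v, hr, qr, hw, qw, hv, qv, rfl⟩ := hx
  obtain ⟨r', w', v', hr', qr', hw', qw', hv', qv', rfl⟩ := hy
  have hr'v : f (v * r' * v⁻¹) ∈ E := by rw [map_mul, map_mul, map_inv]; exact hB.norm1 _ hv _ hr'
  have hr'vw : f (w * (v * r' * v⁻¹) * w⁻¹) ∈ E := by
    rw [map_mul f (w * _), map_mul f w, map_inv]; exact hB.norm2 _ hw _ hr'v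
  have hw'v : f (v * w' * v⁻¹) ∈ U2 := by rw [map_mul, map_mul, map_inv]; exact hB.norm12 _ hv _ hw'
  refine ⟨r * (w * (v * r' * v⁻¹) * w⁻¹), w * (v * w' * v⁻¹), v * v', ?_, ?_, ?_, ?_, ?_, ?_, by group⟩
  · rw [map_mul]; exact mul_mem hr hr'vw
  · exact hQm _ _ hr hr'vw qr ((hQc w _).2 ((hQc v r').2 qr'))
  · rw [map_mul]; exact mul_mem hw hw'v
  · exact mul_moved f hf hB hQc hQm hB.conj2 hw hw'v qw ((hQc v w').2 qw')
  · rw [map_mul]; exact mul_mem hv hv'
  · exact mul_moved f hf hB hQc hQm hB.conj1 hv hv' qv qv'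

include hf hB hzz hzc hfz hQc hQm hQ1 hQz in
/-- A complement of the central involution. -/
theorem exists_split : ∃ K : Subgroup L, z ∉ K ∧ ∀ x, x ∈ K ∨ x * z ∈ K := by
  classical
  haveI : Finite U := Finite.of_surjective f hf
  let P : Subgroup L := S.comap f
  have hzP : z ∈ P := by show f z ∈ S; rw [hfz]; exact one_mem S
  have hzne : ¬ Q z := fun q => by
    have := (hQz 1 (by rw [map_one]; exact one_mem E)).1 hQ1
    rw [one_mul] at this
    exact this q
  have one_in : ∀ (V : Subgroup U), f (1 : L) ∈ V := fun V => by rw [map_one]; exact one_mem V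
  let M : Subgroup L :=
    { carrier := sect f E U2 U1 Q
      one_mem' := ⟨1, 1, 1, one_in E, hQ1, one_in U2, hQ1, one_in U1, hQ1, by simp⟩
      mul_mem' := fun hx hy => sect_mul f hf hB hQc hQm hx hy
      inv_mem' := fun {x} hx => by
        have hp : ∀ n : ℕ, x ^ n ∈ sect f E U2 U1 Q := fun n => by
          induction n with
          | zero => rw [pow_zero]; exact ⟨1, 1, 1, one_in E, hQ1, one_in U2, hQ1, one_in U1, hQ1, by simp⟩
          | succ n ih => rw [pow_succ]; exact sect_mul f hf hB hQc hQm ih hx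
        rw [inv_eq_of_mul_eq_one_right (show x * x ^ (orderOf x - 1) = 1 by
          rw [← pow_succ', Nat.sub_add_cancel (orderOf_pos x), pow_orderOf_eq_one])]
        exact hp _ }
  have hker : ∀ k, f k = 1 → (k ∈ M ∨ k * z ∈ M) := by
    intro k hk
    have hkE : f k ∈ E := by rw [hk]; exact one_mem E
    by_cases q : Q k
    · exact Or.inl ⟨k, 1, 1, hkE, q, one_in U2, hQ1, one_in U1, hQ1, by simp⟩
    · exact Or.inr ⟨k * z, 1, 1, by rw [map_mul, hfz, mul_one]; exact hkE,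
        by by_contra q'; exact q ((hQz k hkE).2 q'), one_in U2, hQ1, one_in U1, hQ1, by simp⟩
  have hzM : z ∉ M := by
    rintro ⟨r, w, v, hr, qr, hw, qw, hv, qv, e⟩
    have e1 := congrArg f e
    rw [hfz, map_mul, map_mul] at e1
    obtain ⟨a, b, c⟩ := hB.meet _ hr _ hw _ hv e1.symm
    have inE : ∀ {u}, f u = 1 → f u ∈ E := fun {u} hu => by rw [hu]; exact one_mem E
    refine hzne ?_
    rw [e]
    exact hQm _ _ (by rw [map_mul, a, b, one_mul]; exact one_mem E) (inE c)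
      (hQm _ _ (inE a) (inE b) qr qw) qv
  have hcov : ∀ s ∈ P, s ∈ M ∨ s * z ∈ M := by
    intro s hs
    obtain ⟨a, ha, b, hb, c, hc, e⟩ := hB.gen _ hs
    obtain ⟨r, hr, qr⟩ := pick f hf hfz hQc hQz ⟨1, fun x hx => by simpa using hx⟩ hzc ha
    obtain ⟨w, hw, qw⟩ := pick f hf hfz hQc hQz hB.conj2 hzc hb
    obtain ⟨v, hv, qv⟩ := pick f hf hfz hQc hQz hB.conj1 hzc hc
    have hm : r * w * v ∈ M := ⟨r, w, v, hr ▸ ha, qr, hw ▸ hb, qw, hv ▸ hc, qv, rfl⟩
    have hk : f ((r * w * v)⁻¹ * s) = 1 := by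
      rw [map_mul, map_inv, e, map_mul, map_mul, hr, hw, hv, inv_mul_cancel]
    rcases hker _ hk with q | q
    · left; simpa only [mul_inv_cancel_left] using mul_mem hm q
    · right; simpa only [← mul_assoc, mul_inv_cancel, one_mul] using mul_mem hm q
  let R : Subgroup P := M.subgroupOf P
  have hidx : R.index = 2 := by
    rw [Subgroup.index_eq_two_iff]
    refine ⟨⟨z, hzP⟩, fun b => ?_⟩
    simp only [R, Subgroup.mem_subgroupOf, Subgroup.coe_mul]
    rcases hcov b b.2 with q | q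
    · exact Or.inr ⟨q, fun q' => hzM ((Subgroup.mul_mem_cancel_left M q).1 q')⟩
    · exact Or.inl ⟨q, fun q' => hzM ((Subgroup.mul_mem_cancel_left M q').1 q)⟩
  haveI : R.Normal := Subgroup.normal_of_index_eq_two hidx
  haveI := Fact.mk Nat.prime_two
  have hcardQ : Nat.card (P ⧸ R) = 2 := by rw [← hidx, Subgroup.index]
  haveI : IsCyclic (P ⧸ R) := isCyclic_of_prime_card (p := 2) hcardQ
  letI : CommGroup (P ⧸ R) := IsCyclic.commGroup
  let χ : P →* P ⧸ R := QuotientGroup.mk' R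
  have hodd : ¬ 2 ∣ P.index := by
    rw [Subgroup.index_comap_of_surjective S hf]
    intro h
    refine hB.odd ?_
    rw [← S.card_mul_index, hB.cardS, pow_succ]
    exact Nat.mul_dvd_mul_left _ h
  have key : ∀ (k : ℕ) (g₀ : L), g₀⁻¹ * z ^ k * g₀ ∈ P → g₀⁻¹ * z ^ k * g₀ = z ^ k := fun k g₀ _ => by
    rw [mul_assoc, ← ((hzc g₀).pow_right k).eq, inv_mul_cancel_left]
  have ht := MonoidHom.transfer_eq_pow (H := P) χ z key
  set τ := MonoidHom.transfer χ with hτ
  have hne : τ z ≠ 1 := by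
    intro h1
    rw [h1] at ht
    have hmem := (QuotientGroup.eq_one_iff _).1 ht.symm
    obtain ⟨m, hm⟩ := Nat.not_even_iff_odd.1 fun h => hodd (even_iff_two_dvd.1 h)
    have hz' : z ^ P.index = z := by rw [hm, pow_succ, pow_mul, pow_two, hzz, one_pow, one_mul]
    exact hzM (hz' ▸ (Subgroup.mem_subgroupOf.1 hmem))
  refine ⟨τ.ker, hne, fun x => ?_⟩
  by_cases hx : τ x = 1
  · exact Or.inl hx
  refine Or.inr ?_
  rw [MonoidHom.mem_ker, map_mul]
  obtain ⟨a, b, -, hab⟩ := Nat.card_eq_two_iff.1 hcardQ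
  have mem : ∀ q : P ⧸ R, q = a ∨ q = b := fun q => by
    have := Set.mem_univ q; rw [← hab] at this; simpa using this
  have hxz : τ x = τ z := by
    rcases mem (τ x) with p | p <;> rcases mem (τ z) with q | q <;> rcases mem 1 with o | o
    all_goals first
      | exact p.trans q.symm
      | exact absurd (p.trans o.symm) hx
      | exact absurd (q.trans o.symm) hne
  rw [hxz, ← map_mul, hzz, map_one]

end CfsgLib.Spor.Tri.CoverSplit
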