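/-
When the lifts not conjugate to `d` choose one lift of each involution, the double cover splits over the
centralizer of a member, which contradicts perfection by transfer.
-/
import Cfsg.Agent.Lib.Spor.Tri.CoverM22Lifts
import Cfsg.Agent.Lib.Spor.Tri.CoverSplit
import Cfsg.Agent.Lib.Spor.Tri.U6Cover

namespace CfsgLib.Spor.Tri.CoverM22

open CfsgLib.Spor.Tri CfsgLib.Spor.Tri.InvolFixed
open CfsgLib.Spor.Tri.CoverBase (Setting zel zel_comm map_zel map_mul_zel eq_or)
open CfsgLib.Spor.Tri.Base22 (span Tk)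

section model

open CfsgLib.Spor.Tri.Level CfsgLib.Spor.Tri.Relations

variable {X : Type*} [Group X] [Finite X] {D : Set X}

/-- The centralizer of a member maps onto `PSU(6, 4)` with lifting of involutions. -/
theorem exists_u6 (h : Hyp D) (hprim : Cfsg.IsPrimitiveUnderConj D) (h22 : Cfsg.IsOfTypeM22 X D) {c : X}
    (hc : c ∈ D) :
    ∃ (F : Type) (_ : Field F) (_ : Fintype F), Fintype.card F = 4 ∧
      ∃ f : ↥(Subgroup.centralizer ({c} : Set X)) →* Cfsg.PSU 6 F 2, Function.Surjective f ∧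
        (∀ k, f k = 1 ↔ k = 1 ∨ (k : X) = c) ∧ ∀ q, q * q = 1 → ∃ y, y * y = 1 ∧ f y = q := by
  obtain ⟨d0, W⟩ := local22 h hprim h22
  obtain ⟨g, hg⟩ := h.transitive c hc d0 W.mem
  obtain ⟨f0, hf0s, hf0⟩ := Base22.surj_img h hprim h22 W.mem
  obtain ⟨F, hFf, hFt, hF, ⟨e⟩⟩ := W.psu
  letI := hFf
  letI := hFt
  let m : ↥(Subgroup.centralizer ({c} : Set X)) →* ↥(Subgroup.centralizer ({d0} : Set X)) :=
    { toFun := fun x => ⟨g * x * g⁻¹, Subgroup.mem_centralizer_singleton_iff.2 (by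
        have := (Commute.conj_iff g).2 (Subgroup.mem_centralizer_singleton_iff.1 x.2 : Commute (x : X) c)
        rw [hg] at this
        exact this.eq)⟩
      map_one' := Subtype.ext (by simp)
      map_mul' := fun x y => Subtype.ext (by
        show g * ((x : X) * y) * g⁻¹ = g * x * g⁻¹ * (g * y * g⁻¹)
        group) }
  have hms : Function.Surjective m := fun y => by
    refine ⟨⟨g⁻¹ * y * g, Subgroup.mem_centralizer_singleton_iff.2 ?_⟩, Subtype.ext (by
      show g * (g⁻¹ * (y : X) * g) * g⁻¹ = y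
      group)⟩
    have := (Commute.conj_iff g⁻¹).2 (Subgroup.mem_centralizer_singleton_iff.1 y.2 : Commute (y : X) d0)
    have e : g⁻¹ * d0 * g⁻¹⁻¹ = c :=
      (congrArg (fun t => g⁻¹ * t * g⁻¹⁻¹) hg.symm).trans (show g⁻¹ * (g * c * g⁻¹) * g⁻¹⁻¹ = c by group)
    rw [e, inv_inv] at this
    exact this.eq
  have hdc : (⟨d0, (Base22.cent_eq h hprim h22 W.mem).2 (Commute.refl d0)⟩ : ↥(loc D d0)) ∈
      Subgroup.center ↥(loc D d0) :=
    Subgroup.mem_center_iff.2 fun a => Subtype.ext (commute_loc a.2).symm.eq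
  have hiff : ∀ k, f0 (m k) = 1 ↔ k = 1 ∨ (k : X) = c := by
    intro k
    have hl : ((m k : ↥(Subgroup.centralizer ({d0} : Set X))) : X) ∈ loc D d0 :=
      (Base22.cent_eq h hprim h22 W.mem).2
        (Commute.symm (Subgroup.mem_centralizer_singleton_iff.1 (m k).2))
    rw [hf0 (m k) hl, QuotientGroup.eq_one_iff]
    constructor
    · intro hk
      rcases W.zl _ hk with r | r
      · left; exact Subtype.ext (conj_eq_one_iff.1 r)
      · right; exact mul_left_cancel (mul_right_cancel (Eq.trans r hg.symm))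
    · intro hk
      refine Subgroup.mem_center_iff.2 fun a => Subtype.ext ?_
      show (a : X) * (g * k * g⁻¹) = g * k * g⁻¹ * a
      rcases hk with rfl | r
      · simp
      · rw [r, hg]; exact (commute_loc a.2).symm.eq
  refine ⟨F, hFf, hFt, hF, (e.toMonoidHom.comp f0).comp m, (e.surjective.comp hf0s).comp hms,
    fun k => ?_, fun q hq => ?_⟩
  · rw [← hiff k]
    exact map_eq_one_iff e e.injective
  by_cases hq1 : q = 1
  · exact ⟨1, one_mul 1, by rw [map_one, hq1]⟩
  have hx : orderOf (e.symm q) = 2 :=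
    orderOf_eq_prime (by rw [pow_two, ← map_mul, hq, map_one])
      fun r => hq1 (e.symm.injective (r.trans (map_one e.symm).symm))
  obtain ⟨y, hy, hyx⟩ := DoubleCover.lift_u6 hF e (f0.comp m) (hf0s.comp hms)
    (z := (⟨c, Subgroup.mem_centralizer_singleton_iff.2 rfl⟩ : ↥(Subgroup.centralizer ({c} : Set X))))
    (Subtype.ext (h.mul_self hc)) (fun a => Subtype.ext (Subgroup.mem_centralizer_singleton_iff.1 a.2))
    (fun k hk => ((hiff k).1 hk).imp id fun r => Subtype.ext r) hx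
  refine ⟨y, by rw [← pow_two, ← hy]; exact pow_orderOf_eq_one y, ?_⟩
  show e (f0 (m y)) = q
  rw [show f0 (m y) = e.symm q from hyx, e.apply_symm_apply]

end model

variable {G : Type*} [Group G] [Finite G] {d : G} {X : Type*} [Group X] [Finite X] {D : Set X}
  {π : ↥(Subgroup.centralizer ({d} : Set G)) →* X} {T : Sylow 2 X} {B : Finset X}
  (K : Ctx d π D T B) (hall : One π (span B : Set X))
include K hall

/-- Exactly one lift of each involution is conjugate to `d`. -/
theorem Ctx.hall_all {x : ↥(Subgroup.centralizer ({d} : Set G))} (hx : π x * π x = 1) :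
    IsConj d (x : G) ↔ ¬ IsConj d ((x * zel d : ↥(Subgroup.centralizer ({d} : Set G))) : G) := by
  obtain ⟨u, hu⟩ := K.core.invol _ hx
  obtain ⟨g, rfl⟩ := K.set.surj u
  rw [← map_inv, ← map_mul, ← map_mul] at hu
  have e : g * (x * zel d) * g⁻¹ = g * x * g⁻¹ * zel d := by
    rw [← mul_assoc g x, mul_assoc (g * x) (zel d), ← (zel_comm g⁻¹).eq, ← mul_assoc]
  rw [← CoverBase.conj_iff g x, ← CoverBase.conj_iff g (x * zel d), e]
  exact hall _ hu

/-- Lifts not conjugate to `d` are closed under products inside the preimage. -/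
theorem Ctx.nonconj_mul {r r' : ↥(Subgroup.centralizer ({d} : Set G))} (hr : π r ∈ span B)
    (hrc : ¬ IsConj d (r : G)) (hr' : π r' ∈ span B) (hrc' : ¬ IsConj d (r' : G)) :
    ¬ IsConj d ((r * r' : ↥(Subgroup.centralizer ({d} : Set G))) : G) := by
  intro hc
  let a : ↥((span B).comap π) := ⟨r, hr⟩
  let a' : ↥((span B).comap π) := ⟨r', hr'⟩
  obtain ⟨φ, hφ, u, hu⟩ := K.move (a * a') hc
  obtain ⟨b, hb⟩ := φ.surjective a
  have hbc : ¬ IsConj d (b : G) := fun q => hrc (by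
    show IsConj d (a : G)
    rw [← hb, hu]; exact conj_d.2 q)
  have hzb : IsConj d ((b * ⟨zel d, K.zel_mem⟩ : ↥((span B).comap π)) : G) := by
    show IsConj d (((b : ↥(Subgroup.centralizer ({d} : Set G))) * zel d : ↥(Subgroup.centralizer ({d} : Set G))) : G)
    by_contra q
    exact hbc ((hall _ b.2).2 q)
  have hφc : IsConj d ((φ (b * ⟨zel d, K.zel_mem⟩) : ↥((span B).comap π)) : G) := by
    rw [hu]; exact conj_d.2 hzb
  rw [map_mul, hb, hφ, ← mul_assoc, K.sq, one_mul] at hφc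
  exact hrc' hφc

/-- Products of commuting lifts not conjugate to `d`. -/
theorem Ctx.nonconj_prod {g : ↥(Subgroup.centralizer ({d} : Set G))} {l : List ↥(Subgroup.centralizer ({d} : Set G))}
    (hl : ∀ x ∈ l, π (g * x * g⁻¹) ∈ span B ∧ ¬ IsConj d (x : G)) :
    π (g * l.prod * g⁻¹) ∈ span B ∧ ¬ IsConj d (l.prod : G) := by
  induction l with
  | nil => exact ⟨by simp [one_mem], K.not_one⟩
  | cons a l ih =>
    obtain ⟨ha, hac⟩ := hl a (by simp)
    obtain ⟨hl', hlc⟩ := ih fun x hx => hl x (List.mem_cons_of_mem _ hx)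
    have e : g * (a :: l).prod * g⁻¹ = g * a * g⁻¹ * (g * l.prod * g⁻¹) := by
      rw [List.prod_cons]; group
    refine ⟨by rw [e, map_mul]; exact mul_mem ha hl', fun h => ?_⟩
    refine K.nonconj_mul hall ha (mt (CoverBase.conj_iff g a).1 hac) hl' (mt (CoverBase.conj_iff g l.prod).1 hlc) ?_
    rw [← e]; exact (CoverBase.conj_iff g _).2 h

/-- The lift not conjugate to `d`. -/
theorem Ctx.exists_lift : ∃ ℓ : X → ↥(Subgroup.centralizer ({d} : Set G)),
    ∀ y, y * y = 1 → (π (ℓ y) = y ∧ ¬ IsConj d (ℓ y : G)) ∧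
      ∀ x, π x = y → ¬ IsConj d (x : G) → x = ℓ y := by
  have hex : ∀ y : X, ∃ x, y * y = 1 → π x = y ∧ ¬ IsConj d (x : G) := by
    intro y
    by_cases hy : y * y = 1
    · obtain ⟨x, rfl⟩ := K.set.surj y
      by_cases hc : IsConj d (x : G)
      · exact ⟨x * zel d, fun _ => ⟨map_mul_zel K.set x, (K.hall_all hall hy).1 hc⟩⟩
      · exact ⟨x, fun _ => ⟨rfl, hc⟩⟩
    · exact ⟨1, fun q => absurd q hy⟩
  choose ℓ hℓ using hex
  refine ⟨ℓ, fun y hy => ⟨hℓ y hy, fun x hx hc => ?_⟩⟩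
  rcases eq_or K.set ((hℓ y hy).1.trans hx.symm) with r | r
  · exact r
  · exfalso
    refine hc ?_
    rw [r]
    by_contra q
    exact (hℓ y hy).2 ((K.hall_all hall (by rw [(hℓ y hy).1, hy])).2 q)

/-- The split over the centralizer of a member contains the chosen lifts of its neighbours. -/
theorem Ctx.exists_compl {c : X} (hc : c ∈ D) {ℓ : X → ↥(Subgroup.centralizer ({d} : Set G))}
    (hℓ : ∀ y, y * y = 1 → (π (ℓ y) = y ∧ ¬ IsConj d (ℓ y : G)) ∧ ∀ x, π x = y → ¬ IsConj d (x : G) → x = ℓ y) :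
    ∃ H : Subgroup ↥(Subgroup.centralizer ({d} : Set G)), zel d ∉ H ∧
      ∀ y ∈ D, Commute c y → ℓ y ∈ H := by
  classical
  obtain ⟨F, hFf, hFt, hF, f, hfs, hfk, hfl⟩ := exists_u6 K.hyp K.prim K.type hc
  letI := hFf
  letI := hFt
  obtain ⟨Fr⟩ := U6Base.exists_frame hF
  let C1 := Subgroup.centralizer ({c} : Set X)
  let L : Subgroup ↥(Subgroup.centralizer ({d} : Set G)) := C1.comap π
  let p : ↥L →* ↥C1 := π.subgroupComap C1
  have hps : Function.Surjective p := fun y => by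
    obtain ⟨x, hx⟩ := K.set.surj y
    refine ⟨⟨x, ?_⟩, Subtype.ext hx⟩
    show π x ∈ C1
    rw [hx]; exact y.2
  have hzL : zel d ∈ L := by
    show π (zel d) ∈ C1
    rw [map_zel K.set]; exact one_mem C1
  let z : ↥L := ⟨zel d, hzL⟩
  have hzc : ∀ a : ↥L, Commute a z := fun a =>
    Subtype.ext (zel_comm (a : ↥(Subgroup.centralizer ({d} : Set G)))).eq
  have hfz : f.comp p z = 1 := by
    show f (p z) = 1
    rw [show p z = 1 from Subtype.ext (map_zel K.set), map_one]
  have hsq : ∀ x : ↥L, f.comp p x ∈ Fr.base → π x * π x = 1 := by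
    intro x hx
    obtain ⟨y, hy, hyx⟩ := hfl _ (Fr.base_sq hx)
    have hk : f (y⁻¹ * p x) = 1 := by
      rw [map_mul, map_inv, hyx]; exact inv_mul_cancel _
    have : p x * p x = 1 := by
      rcases (hfk _).1 hk with r | r
      · rw [← inv_mul_eq_one.1 r]; exact hy
      · have e : p x = y * ⟨c, Subgroup.mem_centralizer_singleton_iff.2 rfl⟩ :=
          eq_mul_of_inv_mul_eq (Subtype.ext r)
        have hcc : Commute y (⟨c, Subgroup.mem_centralizer_singleton_iff.2 rfl⟩ : ↥C1) :=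
          Subtype.ext (Subgroup.mem_centralizer_singleton_iff.1 y.2)
        rw [e, hcc.symm.mul_mul_mul_comm, hy, one_mul]
        exact Subtype.ext (K.hyp.mul_self hc)
    exact congrArg Subtype.val this
  -- the preimage of the distinguished subgroup moves into the span of the base
  obtain ⟨u, hu⟩ : ∃ u : X, ∀ x : ↥L, f.comp p x ∈ Fr.base → u * π x * u⁻¹ ∈ span B := by
    let A0 : Subgroup ↥C1 := Fr.base.comap f
    let A : Subgroup X := A0.map C1.subtype
    have hA2 : ∀ a ∈ A, a * a = 1 := by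
      rintro _ ⟨a, ha, rfl⟩
      obtain ⟨x, rfl⟩ := hps a
      exact hsq x ha
    have hker : Nat.card f.ker = 2 := by
      have hz1 : f ⟨c, Subgroup.mem_centralizer_singleton_iff.2 rfl⟩ = 1 := (hfk _).2 (Or.inr rfl)
      have e : (f.ker : Set ↥C1) = {1, ⟨c, Subgroup.mem_centralizer_singleton_iff.2 rfl⟩} := by
        ext k
        refine ⟨fun hk => ?_, ?_⟩
        · rcases (hfk k).1 hk with r | r
          · exact Or.inl r
          · exact Or.inr (Subtype.ext r)
        · rintro (rfl | rfl)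
          · exact one_mem _
          · exact hz1
      show Nat.card ↥(f.ker : Set ↥C1) = 2
      rw [Nat.card_coe_set_eq, e, Set.ncard_pair fun r => K.hyp.ne_one hc (congrArg Subtype.val r).symm]
    haveI : Finite (Cfsg.PSU 6 F 2) := Finite.of_surjective f hfs
    have hcA : Nat.card A = 2 ^ 10 := by
      rw [Subgroup.card_map_of_injective (Subgroup.subtype_injective _)]
      have h1 := Subgroup.card_eq_card_quotient_mul_card_subgroup f.ker
      rw [Nat.card_congr (QuotientGroup.quotientKerEquivOfSurjective f hfs).toEquiv, hker,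
        ← A0.card_mul_index, Subgroup.index_comap_of_surjective _ hfs, ← Fr.base.card_mul_index, Fr.card_base] at h1
      exact Nat.eq_of_mul_eq_mul_right (Nat.pos_of_ne_zero Fr.base.index_ne_zero_of_finite)
        (h1.trans (by ring))
    haveI := Fact.mk Nat.prime_two
    obtain ⟨Q, hQ⟩ := (IsPGroup.of_card hcA).exists_le_sylow
    obtain ⟨u, hu⟩ := MulAction.exists_smul_eq X Q T
    refine ⟨u, fun x hx => ?_⟩
    have e := K.core.uniq (A.map (MulAut.conj u).toMonoidHom) (by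
        rw [← hu, Sylow.smul_def, Sylow.pointwise_smul_def]
        exact Subgroup.map_mono hQ)
      (by rintro _ ⟨a, ha, rfl⟩; rw [← map_mul, hA2 a ha, map_one])
      (by rw [Subgroup.card_map_of_injective (MulAut.conj u).injective, hcA])
    rw [← e]
    exact ⟨π x, ⟨p x, hx, rfl⟩, rfl⟩
  obtain ⟨g, rfl⟩ := K.set.surj u
  obtain ⟨S, hzS, hcov⟩ := CoverSplit.exists_split (f.comp p) (hfs.comp hps) Fr.facts (z := z)
    (Subtype.ext (CoverBase.zel_sq K.set)) hzc hfz
    (Q := fun x => ¬ IsConj d ((x : ↥(Subgroup.centralizer ({d} : Set G))) : G))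
    (fun a x => not_congr (CoverBase.conj_iff
      (a : ↥(Subgroup.centralizer ({d} : Set G))) (x : ↥(Subgroup.centralizer ({d} : Set G)))))
    (fun x y hx hy qx qy q => by
      have mv : ∀ {t : ↥L}, f.comp p t ∈ Fr.base → π (g * (t : ↥(Subgroup.centralizer ({d} : Set G))) * g⁻¹) ∈ span B :=
        fun {t} ht => by rw [map_mul, map_mul, map_inv]; exact hu t ht
      refine K.nonconj_mul hall (mv hx) (mt (CoverBase.conj_iff g _).1 qx) (mv hy) (mt (CoverBase.conj_iff g _).1 qy) ?_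
      rw [show g * (x : ↥(Subgroup.centralizer ({d} : Set G))) * g⁻¹ * (g * (y : ↥(Subgroup.centralizer ({d} : Set G))) * g⁻¹)
        = g * ((x * y : ↥L) : ↥(Subgroup.centralizer ({d} : Set G))) * g⁻¹ by rw [Subgroup.coe_mul]; group]
      exact (CoverBase.conj_iff g _).2 q)
    K.not_one
    (fun x hx => not_congr (K.hall_all hall (hsq x hx)))
  refine ⟨S.map L.subtype, ?_, ?_⟩
  · rintro ⟨s, hs, e⟩
    exact hzS ((Subtype.ext e : s = z) ▸ hs)
  -- the chosen lifts of neighbours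
  have hzm : ∀ {a b : ↥L}, a ∉ S → b ∉ S → a * b ∈ S := by
    intro a b ha hb
    have := mul_mem ((hcov a).resolve_left ha) ((hcov b).resolve_left hb)
    rwa [(hzc b).symm.mul_mul_mul_comm, show z * z = 1 from Subtype.ext (CoverBase.zel_sq K.set), mul_one] at this
  have hnorm : ∀ {a b : ↥L}, b ∈ S → a * b * a⁻¹ ∈ S := by
    intro a b hb
    rcases hcov a with r | r
    · exact mul_mem (mul_mem r hb) (inv_mem r)
    · have := mul_mem (mul_mem r hb) (inv_mem r)
      rwa [mul_inv_rev, mul_assoc a z b, ← (hzc b).eq, ← mul_assoc a b, mul_assoc (a * b) z,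
        mul_inv_cancel_left] at this
  have mL : ∀ {y : X}, y ∈ D → Commute c y → ℓ y ∈ L := fun {y} hy hcy => by
    show π (ℓ y) ∈ C1
    rw [(hℓ y (K.hyp.mul_self hy)).1.1]
    exact Subgroup.mem_centralizer_singleton_iff.2 hcy.symm.eq
  have pc : ∀ {y}, y ∈ perp D c → y * y = 1 := fun {y} hy => K.hyp.mul_self hy.1
  let E : X → Prop := fun y => ∃ hy : ℓ y ∈ L, (⟨ℓ y, hy⟩ : ↥L) ∈ S
  have htrans : ∀ {a b}, a ∈ perp D c → b ∈ perp D c → E a → E b := by
    rintro a b ha hb ⟨ha', haS⟩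
    obtain ⟨q, hq, hqa⟩ := Base22.perp_trans K.hyp K.prim K.type hc ha hb
    obtain ⟨k, rfl⟩ := K.set.surj q
    have hk : k ∈ L := by
      show π k ∈ C1
      exact Subgroup.mem_centralizer_singleton_iff.2 hq.symm.eq
    have e : k * ℓ a * k⁻¹ = ℓ b :=
      (hℓ b (pc hb)).2 _ (by rw [map_mul, map_mul, map_inv, (hℓ a (pc ha)).1.1, hqa])
        (mt (CoverBase.conj_iff k _).1 (hℓ a (pc ha)).1.2)
    exact ⟨mL hb.1 hb.2.2, (Subtype.ext e : (⟨k, hk⟩ : ↥L) * ⟨ℓ a, ha'⟩ * (⟨k, hk⟩)⁻¹ = ⟨ℓ b, _⟩) ▸ hnorm haS⟩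
  have hprod : ∀ l : List X, Relations.Tuple D (c :: l) → l.prod = c → (l.map ℓ).prod = ℓ c := by
    intro l ht hp
    have hin : ∀ x ∈ l, x ∈ D := fun x hx => (ht.2.1 x (List.mem_cons_of_mem _ hx)).1
    obtain ⟨u, hu⟩ := Base22.move_into K.hyp K.prim K.type K.base K.base_eq (S := {x | x ∈ l})
      hin fun a ha b hb => ht.2.2 a (List.mem_cons_of_mem _ ha) b (List.mem_cons_of_mem _ hb)
    obtain ⟨k, rfl⟩ := K.set.surj u
    have key := K.nonconj_prod hall (g := k) (l := l.map ℓ) fun x hx => by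
      obtain ⟨a, ha, rfl⟩ := List.mem_map.1 hx
      have hh := (hℓ a (K.hyp.mul_self (hin a ha))).1
      refine ⟨?_, hh.2⟩
      rw [map_mul, map_mul, map_inv, hh.1]
      exact Subgroup.subset_closure (hu a ha)
    refine (hℓ c (K.hyp.mul_self hc)).2 _ ?_ key.2
    rw [map_list_prod, List.map_map, Function.comp_def, List.map_congr_left (g := id) fun a ha => (hℓ a (K.hyp.mul_self (hin a ha))).1.1,
      List.map_id, hp]
  have mem_perp : ∀ {l : List X}, Relations.Tuple D (c :: l) → ∀ x ∈ l, x ∈ perp D c := fun {l} ht x hx =>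
    ⟨(ht.2.1 x (List.mem_cons_of_mem _ hx)).1, fun r => (List.nodup_cons.1 ht.1).1 (r ▸ hx),
      ht.2.2 c (List.mem_cons_self ..) x (List.mem_cons_of_mem _ hx)⟩
  obtain ⟨l5, h5, t5, p5⟩ := Base22.five_around K.hyp K.prim K.type hc
  obtain ⟨l6, h6, t6, p6⟩ := Base22.six_around K.hyp K.prim K.type hc
  obtain ⟨a1, a2, a3, a4, a5, rfl⟩ : ∃ a1 a2 a3 a4 a5, l5 = [a1, a2, a3, a4, a5] := by
    match l5, h5 with
    | [a1, a2, a3, a4, a5], _ => exact ⟨a1, a2, a3, a4, a5, rfl⟩
  obtain ⟨b1, b2, b3, b4, b5, b6, rfl⟩ : ∃ b1 b2 b3 b4 b5 b6, l6 = [b1, b2, b3, b4, b5, b6] := by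
    match l6, h6 with
    | [b1, b2, b3, b4, b5, b6], _ => exact ⟨b1, b2, b3, b4, b5, b6, rfl⟩
  let w : X → ↥L := fun y => if hy : ℓ y ∈ L then ⟨ℓ y, hy⟩ else 1
  have hw : ∀ {y}, y ∈ D → Commute c y → (w y : ↥(Subgroup.centralizer ({d} : Set G))) = ℓ y := fun {y} hy hcy => by
    simp only [w, dif_pos (mL hy hcy)]
  have hwE : ∀ {y}, y ∈ D → Commute c y → (E y ↔ w y ∈ S) := fun {y} hy hcy => by
    simp only [w, dif_pos (mL hy hcy)]
    exact ⟨fun ⟨_, q⟩ => q, fun q => ⟨_, q⟩⟩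
  have k5 := mem_perp t5
  have k6 := mem_perp t6
  have q5 : w a1 * (w a2 * (w a3 * (w a4 * w a5))) = w c := Subtype.ext (by
    have e := hprod _ t5 p5
    simp only [List.map_cons, List.map_nil, List.prod_cons, List.prod_nil, mul_one] at e
    simp only [Subgroup.coe_mul, hw hc (Commute.refl c)]
    rw [hw (k5 a1 (by simp)).1 (k5 a1 (by simp)).2.2, hw (k5 a2 (by simp)).1 (k5 a2 (by simp)).2.2,
      hw (k5 a3 (by simp)).1 (k5 a3 (by simp)).2.2, hw (k5 a4 (by simp)).1 (k5 a4 (by simp)).2.2,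
      hw (k5 a5 (by simp)).1 (k5 a5 (by simp)).2.2]
    exact e)
  have q6 : w b1 * (w b2 * (w b3 * (w b4 * (w b5 * w b6)))) = w c := Subtype.ext (by
    have e := hprod _ t6 p6
    simp only [List.map_cons, List.map_nil, List.prod_cons, List.prod_nil, mul_one] at e
    simp only [Subgroup.coe_mul, hw hc (Commute.refl c)]
    rw [hw (k6 b1 (by simp)).1 (k6 b1 (by simp)).2.2, hw (k6 b2 (by simp)).1 (k6 b2 (by simp)).2.2,
      hw (k6 b3 (by simp)).1 (k6 b3 (by simp)).2.2, hw (k6 b4 (by simp)).1 (k6 b4 (by simp)).2.2,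
      hw (k6 b5 (by simp)).1 (k6 b5 (by simp)).2.2, hw (k6 b6 (by simp)).1 (k6 b6 (by simp)).2.2]
    exact e)
  have all_in : ∀ y ∈ perp D c, w y ∈ S := by
    intro y hy
    by_contra hn
    have out : ∀ {x}, x ∈ perp D c → w x ∉ S := fun {x} hx q =>
      hn ((hwE hy.1 hy.2.2).1 (htrans hx hy ((hwE hx.1 hx.2.2).2 q)))
    have e6 : w c ∈ S := by
      rw [← q6, ← mul_assoc (w b1), ← mul_assoc (w b3)]
      exact mul_mem (hzm (out (k6 b1 (by simp))) (out (k6 b2 (by simp))))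
        (mul_mem (hzm (out (k6 b3 (by simp))) (out (k6 b4 (by simp)))) (hzm (out (k6 b5 (by simp))) (out (k6 b6 (by simp)))))
    rw [← q5, ← mul_assoc (w a1), ← mul_assoc (w a3)] at e6
    exact out (k5 a5 (by simp)) ((Subgroup.mul_mem_cancel_left S (hzm (out (k5 a3 (by simp))) (out (k5 a4 (by simp))))).1
      ((Subgroup.mul_mem_cancel_left S (hzm (out (k5 a1 (by simp))) (out (k5 a2 (by simp))))).1 e6))
  have c_in : w c ∈ S := by
    rw [← q5]
    exact mul_mem (all_in _ (k5 a1 (by simp))) (mul_mem (all_in _ (k5 a2 (by simp)))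
      (mul_mem (all_in _ (k5 a3 (by simp))) (mul_mem (all_in _ (k5 a4 (by simp))) (all_in _ (k5 a5 (by simp))))))
  intro y hy hcy
  refine ⟨w y, ?_, hw hy hcy⟩
  rcases eq_or_ne y c with rfl | hne
  · exact c_in
  · exact all_in y ⟨hy, hne, hcy⟩

/-- Excludes the fused set of size `1024`. -/
theorem Ctx.no1024 (hperf : commutator ↥(Subgroup.centralizer ({d} : Set G)) = ⊤) : False := by
  classical
  obtain ⟨ℓ, hℓ⟩ := K.exists_lift hall
  obtain ⟨c, hcB, e, heB, hce, hpair⟩ := Base22.exists_pair K.hyp K.base K.base_eq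
  have hc := K.base.sub c hcB
  have he : e ∈ perp D c := ⟨K.base.sub e heB, hce.symm, K.base.comm c hcB e heB⟩
  obtain ⟨H, hzH, hH⟩ := K.exists_compl hall hc hℓ
  let gens : Set ↥(Subgroup.centralizer ({d} : Set G)) := ℓ '' {y | y ∈ D ∧ Commute c y ∧ Commute e y}
  let M := Subgroup.closure gens
  have hzM : zel d ∉ M := fun q => hzH ((Subgroup.closure_le H).2
    (by rintro _ ⟨y, ⟨hy, hy1, -⟩, rfl⟩; exact hH y hy hy1) q)
  have hcov : ∀ {x}, Commute c (π x) → Commute e (π x) → x ∈ M ∨ x * zel d ∈ M := by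
    intro x h1 h2
    have hle : Subgroup.closure {y | y ∈ D ∧ Commute c y ∧ Commute e y} ≤ M.map π :=
      (Subgroup.closure_le _).2 fun y hy =>
        ⟨ℓ y, Subgroup.subset_closure ⟨y, hy, rfl⟩, (hℓ y (K.hyp.mul_self hy.1)).1.1⟩
    obtain ⟨n, hn, hnx⟩ := hle (Base22.pair_gen K.hyp K.prim K.type hc he h1 h2)
    rcases eq_or K.set hnx with r | r
    · exact Or.inl (r ▸ hn)
    · right
      rw [r, mul_assoc, CoverBase.zel_sq K.set, mul_one]; exact hn
  obtain ⟨PS, hPS⟩ := CoverCore.sylow_comap K.set K.core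
  set P := ((T : Subgroup X).comap π) with hP
  have hzP : zel d ∈ P := by show π (zel d) ∈ (T : Subgroup X); rw [map_zel K.set]; exact one_mem _
  have stab : ∀ {t : X}, t ∈ (T : Subgroup X) → ∀ {y}, Commute c y → Commute e y →
      Commute c (t * y * t⁻¹) ∧ Commute e (t * y * t⁻¹) := by
    intro t ht y h1 h2
    rcases hpair t ht with ⟨r1, r2⟩ | ⟨r1, r2⟩
    · exact ⟨r1 ▸ (Commute.conj_iff t).2 h1, r2 ▸ (Commute.conj_iff t).2 h2⟩
    · exact ⟨r2 ▸ (Commute.conj_iff t).2 h2, r1 ▸ (Commute.conj_iff t).2 h1⟩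
  have hnorm : ∀ {g}, g ∈ P → ∀ {x}, x ∈ M → g * x * g⁻¹ ∈ M := by
    intro g hg x hx
    have hle : M ≤ M.comap (MulAut.conj g).toMonoidHom := (Subgroup.closure_le _).2 (by
      rintro _ ⟨y, ⟨hy, h1, h2⟩, rfl⟩
      obtain ⟨s1, s2⟩ := stab hg h1 h2
      refine Subgroup.subset_closure ⟨π g * y * (π g)⁻¹, ⟨K.hyp.conj _ y hy, s1, s2⟩, Eq.symm ?_⟩
      exact (hℓ _ (K.hyp.mul_self (K.hyp.conj _ y hy))).2 _
        (by show π (g * ℓ y * g⁻¹) = _; rw [map_mul, map_mul, map_inv, (hℓ y (K.hyp.mul_self hy)).1.1])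
        (mt (CoverBase.conj_iff g _).1 (hℓ y (K.hyp.mul_self hy)).1.2))
    exact hle hx
  let R : Subgroup P := M.subgroupOf P
  haveI : R.Normal := ⟨fun n hn g => hnorm g.2 (x := (n : ↥(Subgroup.centralizer ({d} : Set G)))) hn⟩
  let χ : P →* P ⧸ R := QuotientGroup.mk' R
  set Z : P ⧸ R := χ ⟨zel d, hzP⟩ with hZ
  have hZc : ∀ q : P ⧸ R, Commute q Z := fun q => by
    obtain ⟨q, rfl⟩ := QuotientGroup.mk'_surjective R q
    exact (show Commute q (⟨zel d, hzP⟩ : P) from Subtype.ext (zel_comm _).eq).map χ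
  have fixes : ∀ a : P, π a * c * (π a)⁻¹ = c → π a * e * (π a)⁻¹ = e → χ a = 1 ∨ χ a = Z := by
    intro a h1 h2
    rcases hcov (x := (a : ↥(Subgroup.centralizer ({d} : Set G)))) (Eq.symm (mul_inv_eq_iff_eq_mul.1 h1))
      (Eq.symm (mul_inv_eq_iff_eq_mul.1 h2)) with r | r
    · exact Or.inl ((QuotientGroup.eq_one_iff a).2 r)
    · right
      have h1' : χ (a * ⟨zel d, hzP⟩) = 1 := (QuotientGroup.eq_one_iff _).2 r
      rw [map_mul, ← hZ] at h1'
      have hZ2 : Z * Z = 1 := by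
        rw [hZ, ← map_mul, show (⟨zel d, hzP⟩ : P) * ⟨zel d, hzP⟩ = 1 from Subtype.ext (CoverBase.zel_sq K.set), map_one]
      calc χ a = χ a * (Z * Z) := by rw [hZ2, mul_one]
        _ = Z := by rw [← mul_assoc, h1', one_mul]
  have hcomm : ∀ q r : P ⧸ R, q * r = r * q := by
    intro q r
    obtain ⟨a, rfl⟩ := QuotientGroup.mk'_surjective R q
    obtain ⟨b, rfl⟩ := QuotientGroup.mk'_surjective R r
    rcases hpair _ a.2 with ⟨a1, a2⟩ | ⟨a1, a2⟩
    · rcases fixes a a1 a2 with q | q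
      · show χ a * χ b = χ b * χ a
        rw [q, one_mul, mul_one]
      · show χ a * χ b = χ b * χ a
        rw [q]; exact (hZc _).symm.eq
    rcases hpair _ b.2 with ⟨b1, b2⟩ | ⟨b1, b2⟩
    · rcases fixes b b1 b2 with q | q
      · show χ a * χ b = χ b * χ a
        rw [q, one_mul, mul_one]
      · show χ a * χ b = χ b * χ a
        rw [q]; exact (hZc _).eq
    · have h1 : π ((a * b : P) : ↥(Subgroup.centralizer ({d} : Set G))) * c *
          (π ((a * b : P) : ↥(Subgroup.centralizer ({d} : Set G))))⁻¹ = c := by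
        rw [Subgroup.coe_mul, map_mul]
        calc _ = π (a : ↥(Subgroup.centralizer ({d} : Set G))) * (π (b : ↥(Subgroup.centralizer ({d} : Set G))) * c *
              (π (b : ↥(Subgroup.centralizer ({d} : Set G))))⁻¹) * (π (a : ↥(Subgroup.centralizer ({d} : Set G))))⁻¹ := by group
          _ = c := by rw [b1, a2]
      have h2 : π ((a * b : P) : ↥(Subgroup.centralizer ({d} : Set G))) * e *
          (π ((a * b : P) : ↥(Subgroup.centralizer ({d} : Set G))))⁻¹ = e := by
        rw [Subgroup.coe_mul, map_mul]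
        calc _ = π (a : ↥(Subgroup.centralizer ({d} : Set G))) * (π (b : ↥(Subgroup.centralizer ({d} : Set G))) * e *
              (π (b : ↥(Subgroup.centralizer ({d} : Set G))))⁻¹) * (π (a : ↥(Subgroup.centralizer ({d} : Set G))))⁻¹ := by group
          _ = e := by rw [b2, a1]
      show χ a * χ b = χ b * χ a
      have e0 : χ b * χ a = (χ a)⁻¹ * (χ (a * b)) * χ a := by rw [map_mul]; group
      rw [e0]
      rcases fixes (a * b) h1 h2 with q | q <;> rw [← map_mul, q]
      · rw [mul_one, inv_mul_cancel]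
      · rw [mul_assoc, ← (hZc (χ a)).eq, inv_mul_cancel_left]
  letI : CommGroup (P ⧸ R) := { (inferInstance : Group (P ⧸ R)) with mul_comm := hcomm }
  have hodd : ¬ 2 ∣ P.index := by
    haveI := Fact.mk Nat.prime_two
    have := PS.not_dvd_index
    rwa [hPS] at this
  have key : ∀ (k : ℕ) (g₀ : ↥(Subgroup.centralizer ({d} : Set G))), g₀⁻¹ * zel d ^ k * g₀ ∈ P →
      g₀⁻¹ * zel d ^ k * g₀ = zel d ^ k := fun k g₀ _ => by
    rw [mul_assoc, ← ((zel_comm g₀).pow_right k).eq, inv_mul_cancel_left]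
  have ht := MonoidHom.transfer_eq_pow (H := P) χ (zel d) key
  have htriv : MonoidHom.transfer χ (zel d) = 1 := by
    have h := Abelianization.commutator_subset_ker (MonoidHom.transfer χ)
    rw [hperf] at h
    exact h (Subgroup.mem_top _)
  rw [htriv] at ht
  have hmem := (QuotientGroup.eq_one_iff _).1 ht.symm
  obtain ⟨m, hm⟩ := Nat.not_even_iff_odd.1 fun h => hodd (even_iff_two_dvd.1 h)
  have hz : zel d ^ P.index = zel d := by
    rw [hm, pow_succ, pow_mul, pow_two, CoverBase.zel_sq K.set, one_pow, one_mul]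
  exact hzM (hz ▸ (Subgroup.mem_subgroupOf.1 hmem))

end CfsgLib.Spor.Tri.CoverM22
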