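/-
The fused set of a double cover of a group of type M(22) as a centralizer of an involution has 23 members.
-/
import Cfsg.Agent.Lib.Spor.Tri.CoverM22Pairs
import Cfsg.Agent.Lib.Spor.Tri.CoverM22Split

namespace CfsgLib.Spor.Tri.CoverM22

open CfsgLib.Spor.Tri CfsgLib.Spor.Tri.InvolFixed
open CfsgLib.Spor.Tri.CoverBase (Setting zel zel_comm map_zel map_mul_zel eq_or)
open CfsgLib.Spor.Tri.Base22 (span Tk)

variable {G : Type*} [Group G] [Finite G] {d : G} {X : Type*} [Group X] [Finite X] {D : Set X}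
  {π : ↥(Subgroup.centralizer ({d} : Set G)) →* X} {T : Sylow 2 X} {B : Finset X}
  (K : Ctx d π D T B)
include K

theorem Ctx.hall_of (h1 : One π (Tk B 1)) (h2 : One π (Tk B 2)) (h3 : One π (Tk B 3)) :
    One π (span B : Set X) := by
  intro x hx
  by_cases h : π x = 1
  · rcases K.set.ker x h with r | r
    · subst r
      rw [one_mul]
      exact ⟨fun q => absurd q K.not_one, fun q => absurd (IsConj.refl d) q⟩
    · have e : x * zel d = 1 := Subtype.ext (by show (x : G) * d = 1; rw [r, K.set.sq])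
      rw [e, r]
      exact ⟨fun _ => K.not_one, fun _ => IsConj.refl d⟩
  · rcases Base22.split K.hyp K.prim K.type K.base hx h with q | q | q
    exacts [h1 x q, h2 x q, h3 x q]

theorem Ctx.fused_card (hperf : commutator ↥(Subgroup.centralizer ({d} : Set G)) = ⊤)
    (hnwc : ∃ g : G, g * d * g⁻¹ ∈ Subgroup.centralizer ({d} : Set G) ∧ g * d * g⁻¹ ≠ d) :
    (CoverCore.fusedSet K.set K.core).ncard = 23 := by
  classical
  let L : Set X → Set ↥(Subgroup.centralizer ({d} : Set G)) := fun S => {x | π x ∈ S ∧ IsConj d (x : G)}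
  have himg : CoverCore.fusedSet K.set K.core = Subtype.val '' L (span B : Set X) := by
    ext x
    constructor
    · rintro ⟨⟨c, hc, rfl⟩, h⟩; exact ⟨c, ⟨hc, h⟩, rfl⟩
    · rintro ⟨c, ⟨hc, h⟩, rfl⟩; exact ⟨⟨c, hc, rfl⟩, h⟩
  have hL : L (span B : Set X) = insert (zel d) (L (Tk B 1) ∪ L (Tk B 2) ∪ L (Tk B 3)) := by
    ext x
    constructor
    · rintro ⟨hx, hc⟩
      rcases K.cls hx hc with q | q | q | q
      exacts [Or.inl q, Or.inr (Or.inl (Or.inl ⟨q, hc⟩)), Or.inr (Or.inl (Or.inr ⟨q, hc⟩)), Or.inr (Or.inr ⟨q, hc⟩)]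
    · have sub : ∀ {k}, 1 ≤ k → k ≤ 3 → ∀ {y : X}, y ∈ Tk B k → y ∈ span B := fun h1 h3 _ hy =>
        (Base22.tk_sub K.hyp K.type K.base h1 (h3.trans (by norm_num)) hy).1
      rintro (rfl | (⟨h, hc⟩ | ⟨h, hc⟩) | ⟨h, hc⟩)
      exacts [⟨K.zel_mem, IsConj.refl d⟩, ⟨sub le_rfl (by norm_num) h, hc⟩, ⟨sub (by norm_num) (by norm_num) h, hc⟩,
        ⟨sub (by norm_num) le_rfl h, hc⟩]
  have hnot : zel d ∉ L (Tk B 1) ∪ L (Tk B 2) ∪ L (Tk B 3) := by
    rintro ((⟨h, -⟩ | ⟨h, -⟩) | ⟨h, -⟩)
    exacts [K.tk_ne le_rfl (by norm_num) h (map_zel K.set), K.tk_ne (by norm_num) (by norm_num) h (map_zel K.set),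
      K.tk_ne (by norm_num) le_rfl h (map_zel K.set)]
  have uniq : ∀ {k k' : ℕ}, 1 ≤ k → k ≤ 3 → 1 ≤ k' → k' ≤ 3 → k ≠ k' → Disjoint (L (Tk B k)) (L (Tk B k')) :=
    fun a b c e n => Set.disjoint_left.2 fun _ p q =>
      n (Base22.tk_unique K.hyp K.prim K.type K.base a b c e p.1 q.1)
  have htot : (CoverCore.fusedSet K.set K.core).ncard =
      1 + ((L (Tk B 1)).ncard + (L (Tk B 2)).ncard + (L (Tk B 3)).ncard) := by
    rw [himg, Set.ncard_image_of_injective _ Subtype.val_injective, hL, Set.ncard_insert_of_notMem hnot,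
      Set.ncard_union_eq (Disjoint.union_left (uniq (by norm_num) (by norm_num) (by norm_num) (by norm_num) (by norm_num))
        (uniq (by norm_num) (by norm_num) (by norm_num) (by norm_num) (by norm_num))),
      Set.ncard_union_eq (uniq (by norm_num) (by norm_num) (by norm_num) (by norm_num) (by norm_num))]
    omega
  have htwo : 2 ≤ (CoverCore.fusedSet K.set K.core).ncard := by
    obtain ⟨g, hgC, hgd⟩ := hnwc
    set x : ↥(Subgroup.centralizer ({d} : Set G)) := ⟨g * d * g⁻¹, hgC⟩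
    obtain ⟨c, hc⟩ := CoverCore.invol_move K.set K.core (x := x) (Subtype.ext (by
      show g * d * g⁻¹ * (g * d * g⁻¹) = 1
      rw [conj_mul, K.set.sq, mul_one, mul_inv_cancel]))
    have hy : ((c * x * c⁻¹ : ↥(Subgroup.centralizer ({d} : Set G))) : G) ∈ CoverCore.fusedSet K.set K.core :=
      ⟨⟨_, hc, rfl⟩, (CoverBase.conj_iff c x).2 (isConj_iff.2 ⟨g, rfl⟩)⟩
    have hne : ((c * x * c⁻¹ : ↥(Subgroup.centralizer ({d} : Set G))) : G) ≠ d := fun e => hgd (by
      have e' : c * x * c⁻¹ = zel d := Subtype.ext e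
      have : x = zel d := by
        calc x = c⁻¹ * (c * x * c⁻¹) * c := by group
          _ = c⁻¹ * (zel d * c) := by rw [e']; group
          _ = zel d := by rw [← (zel_comm c).eq, inv_mul_cancel_left]
      exact congrArg Subtype.val this)
    exact (Set.one_lt_ncard (Set.toFinite _)).2 ⟨_, hy, d, CoverCore.d_mem K.set K.core, hne⟩
  have c1 : (Tk B 1).ncard = 22 := by rw [Base22.tk_one, Set.ncard_coe_finset, K.base.card]
  have c2 := Base22.card_two K.hyp K.prim K.type K.base
  have c3 := Base22.card_three K.hyp K.prim K.type K.base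
  have cls : ∀ {k}, 1 ≤ k → k ≤ 3 → ∀ t ∈ Tk B k, ∀ t' ∈ Tk B k, ∃ g, g * t * g⁻¹ = t' :=
    fun h1 h3 t ht t' ht' => Base22.tk_class K.hyp K.prim K.type K.base h1 h3 ht ht'
  have bad : ∀ p : ℕ, p.Prime → (∀ j < 11, ¬ p ∣ 2 ^ 11 - 2 ^ j) → (CoverCore.fusedSet K.set K.core).ncard % p ≠ 0 :=
    fun p hp hb e => CoverCore.not_prime K.set K.core hp hb (Nat.dvd_of_mod_eq_zero e)
  rcases CoverBase.class_mult K.set (cls le_rfl (by norm_num)) (Set.nonempty_of_ncard_ne_zero (by rw [c1]; norm_num))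
    with ⟨p1, q1⟩ | ⟨p1, q1⟩ | ⟨p1, q1⟩
  all_goals
    rcases CoverBase.class_mult K.set (cls (by norm_num) (by norm_num))
      (Set.nonempty_of_ncard_ne_zero (by rw [c2]; norm_num : (Tk B 2).ncard ≠ 0))
      with ⟨p2, q2⟩ | ⟨p2, q2⟩ | ⟨p2, -⟩
  all_goals first
    | (obtain ⟨b₁, hb₁, b₂, hb₂, -, -, h12, -, -⟩ := K.exists_three
       obtain ⟨x, hx⟩ := K.set.surj (b₁ * b₂)
       have ht : π x ∈ Tk B 2 := hx ▸ Base22.pair_mem h12 hb₁ hb₂
       obtain ⟨y, hy⟩ := Base22.two_square K.hyp K.prim K.type K.base K.base_eq ht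
       exact absurd (p2 _ (by rwa [map_mul_zel K.set]))
         (CoverBase.not_both K.set hy rfl (p2 x ht)))
    | rcases CoverBase.class_mult K.set (cls (by norm_num) le_rfl)
        (Set.nonempty_of_ncard_ne_zero (by rw [c3]; norm_num : (Tk B 3).ncard ≠ 0))
        with ⟨p3, q3⟩ | ⟨p3, q3⟩ | ⟨p3, q3⟩
  all_goals
    simp only [L, q1, q2, q3, c1, c2, c3] at htot
    first
      | omega
      | exact (K.no45 p1 p2 p3).elim
      | exact (K.no254 p1 p2 p3).elim
      | exact (K.no276 p1 p2 p3).elim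
      | exact (K.no1024 (K.hall_of p1 p2 p3) hperf).elim
      | exact absurd (show (CoverCore.fusedSet K.set K.core).ncard % 29 = 0 by omega) (bad 29 (by norm_num) (by decide))
      | exact absurd (show (CoverCore.fusedSet K.set K.core).ncard % 257 = 0 by omega) (bad 257 (by norm_num) (by decide))
      | exact absurd (show (CoverCore.fusedSet K.set K.core).ncard % 13 = 0 by omega) (bad 13 (by norm_num) (by decide))
      | exact absurd (show (CoverCore.fusedSet K.set K.core).ncard % 163 = 0 by omega) (bad 163 (by norm_num) (by decide))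
      | exact absurd (show (CoverCore.fusedSet K.set K.core).ncard % 167 = 0 by omega) (bad 167 (by norm_num) (by decide))
      | exact absurd (show (CoverCore.fusedSet K.set K.core).ncard % 523 = 0 by omega) (bad 523 (by norm_num) (by decide))
      | exact absurd (show (CoverCore.fusedSet K.set K.core).ncard % 67 = 0 by omega) (bad 67 (by norm_num) (by decide))
      | exact absurd (show (CoverCore.fusedSet K.set K.core).ncard % 521 = 0 by omega) (bad 521 (by norm_num) (by decide))
      | exact absurd (show (CoverCore.fusedSet K.set K.core).ncard % 317 = 0 by omega) (bad 317 (by norm_num) (by decide))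
      | exact absurd (show (CoverCore.fusedSet K.set K.core).ncard % 443 = 0 by omega) (bad 443 (by norm_num) (by decide))
      | exact absurd (show (CoverCore.fusedSet K.set K.core).ncard % 227 = 0 by omega) (bad 227 (by norm_num) (by decide))

end CfsgLib.Spor.Tri.CoverM22
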