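/-
A member of a class of 3-transpositions normalises a complement of a normal 2-subgroup that contains the products of
commuting members.
-/
import Cfsg.Agent.Lib.Spor.Tri.Cores
import Cfsg.Agent.Lib.Invol.PrimePowerClass
import Cfsg.Agent.Lib.Coprime.Solvable

set_option autoImplicit false

namespace CfsgLib.Spor.Tri

universe u

variable {G : Type u} [Group G] [Finite G] {D : Set G}

/-- The commuting pair over a common non-commuting member is moved by a conjugate of its product. -/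
theorem Hyp.pair_conj (h : Hyp D) {a a' b : G} (ha : a ∈ D) (ha' : a' ∈ D) (hb : b ∈ D) (hc : Commute a a')
    (hab : ¬ Commute a b) (hab' : ¬ Commute a' b) :
    (b * (a * a') * b) * a * (b * (a * a') * b) = a' := by
  have e1 := h.braid hb ha fun hh => hab hh.symm
  have e2 := h.braid hb ha' fun hh => hab' hh.symm
  have hy1 : a * a' * a = a' := by rw [hc.eq, mul_assoc, h.mul_self ha, mul_one]
  calc (b * (a * a') * b) * a * (b * (a * a') * b)
      = b * (a * a') * (b * a * b) * (a * a') * b := by group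
    _ = b * (a * a' * a) * b * (a * a) * a' * b := by rw [e1]; group
    _ = b * (a' * b * a') * b := by rw [hy1, h.mul_self ha, mul_one]; group
    _ = b * (b * a' * b) * b := by rw [e2]
    _ = (b * b) * a' * (b * b) := by group
    _ = a' := by rw [h.mul_self hb, one_mul, mul_one]

/-- One step over an abelian normal 2-subgroup. -/
theorem Hyp.normalize_step (h : Hyp D) {O W P : Subgroup G} [hWn : W.Normal] (hWO : W ≤ O) (hO2 : IsPGroup 2 O)
    (hW : IsMulCommutative W) (hcp : ∀ a ∈ D, ∀ b ∈ D, Commute a b → a * b ∈ O) {d : G} (hd : d ∈ D)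
    (hP : IsPGroup 3 P) (hdn : d ∈ Subgroup.normalizer ((P ⊔ W : Subgroup G) : Set G)) :
    ∃ v ∈ W, d ∈ Subgroup.normalizer ((P.map (MulAut.conj v).toMonoidHom : Subgroup G) : Set G) := by
  classical
  haveI : Fact (Nat.Prime 3) := ⟨Nat.prime_three⟩
  haveI : Fact (Nat.Prime 2) := ⟨Nat.prime_two⟩
  have hWc : ∀ x ∈ W, ∀ y ∈ W, x * y = y * x := fun x hx y hy => setLike_mul_comm hx hy
  have hW2 : IsPGroup 2 W := hO2.to_le hWO
  have hdisj : P ⊓ W = ⊥ := by
    rw [← disjoint_iff]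
    exact IsPGroup.disjoint_of_ne 3 2 (by norm_num) P W hP hW2
  have hcW : ∀ x ∈ W, x ∈ Subgroup.normalizer (P : Set G) → ∀ p ∈ P, p * x = x * p := by
    intro x hx hxn p hp
    have h1 : x * p * x⁻¹ * p⁻¹ ∈ P ⊓ W := Subgroup.mem_inf.2 ⟨mul_mem ((Subgroup.mem_normalizer_iff.1 hxn p).1 hp)
      (inv_mem hp), by
        rw [show x * p * x⁻¹ * p⁻¹ = x * (p * x⁻¹ * p⁻¹) by group]
        exact mul_mem hx (hWn.conj_mem _ (inv_mem hx) p)⟩
    rw [hdisj, Subgroup.mem_bot, mul_inv_eq_one, mul_inv_eq_iff_eq_mul] at h1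
    exact h1.symm
  -- Sylow conjugacy in `P ⊔ W`
  obtain ⟨w, hw, hwn⟩ : ∃ w ∈ W, w⁻¹ * d ∈ Subgroup.normalizer (P : Set G) := by
    set K := P ⊔ W with hK
    have hPK : P ≤ K := le_sup_left
    have hPd : P.map (MulAut.conj d).toMonoidHom ≤ K := by
      rintro _ ⟨p, hp, rfl⟩
      exact (Subgroup.mem_normalizer_iff.1 hdn p).1 (hPK hp)
    obtain ⟨Q, hQ⟩ := (hP.of_equiv (Subgroup.subgroupOfEquivOfLe hPK).symm).exists_le_sylow
    obtain ⟨R, hR⟩ := ((hP.map (MulAut.conj d).toMonoidHom).of_equiv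
      (Subgroup.subgroupOfEquivOfLe hPd).symm).exists_le_sylow
    obtain ⟨x, hx⟩ := MulAction.exists_smul_eq (↥K) Q R
    have hmax : ∀ y : K, y ∈ (Q : Subgroup K) → (y : G) ∈ P := by
      intro y hy
      have hy' : (y : G) ∈ W ⊔ P := by rw [sup_comm]; exact y.2
      obtain ⟨u, hu, p, hp, e⟩ := Subgroup.mem_sup_of_normal_left.1 hy'
      let uK : K := ⟨u, le_sup_right (a := P) hu⟩
      have huQ : uK ∈ (Q : Subgroup K) := by
        have : uK = y * (⟨p, hPK hp⟩ : K)⁻¹ := Subtype.ext (by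
          show u = (y : G) * p⁻¹; rw [← e, mul_inv_cancel_right])
        rw [this]
        exact mul_mem hy (inv_mem (hQ (show (⟨p, hPK hp⟩ : K) ∈ P.subgroupOf K from hp)))
      obtain ⟨i, hi⟩ := hW2 ⟨u, hu⟩
      obtain ⟨j, hj⟩ := Q.isPGroup' ⟨uK, huQ⟩
      have hi' : orderOf u ∣ 2 ^ i := orderOf_dvd_of_pow_eq_one (by simpa using congrArg Subtype.val hi)
      have hj' : orderOf u ∣ 3 ^ j := orderOf_dvd_of_pow_eq_one (by
        simpa [uK] using congrArg (fun z : ↥(Q : Subgroup K) => ((z : K) : G)) hj)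
      have hu1 := orderOf_eq_one_iff.1 (Nat.eq_one_of_dvd_coprimes
        (Nat.Coprime.pow i j (by norm_num : Nat.Coprime 2 3)) hi' hj')
      rw [hu1, one_mul] at e
      exact e ▸ hp
    obtain ⟨u, hu, p, hp, hxe⟩ : ∃ u ∈ W, ∃ p ∈ P, u * p = (x : G) := by
      have hx' : (x : G) ∈ W ⊔ P := by rw [sup_comm]; exact x.2
      exact Subgroup.mem_sup_of_normal_left.1 hx'
    refine ⟨u, hu, ?_⟩
    have hfwd : ∀ q ∈ P, (u⁻¹ * d) * q * (u⁻¹ * d)⁻¹ ∈ P := by
      intro q hq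
      have hqR : (⟨d * q * d⁻¹, hPd ⟨q, hq, rfl⟩⟩ : K) ∈ (R : Subgroup K) := hR
        (show (⟨d * q * d⁻¹, hPd ⟨q, hq, rfl⟩⟩ : K) ∈ (P.map (MulAut.conj d).toMonoidHom).subgroupOf K from ⟨q, hq, rfl⟩)
      rw [← hx, Sylow.coe_subgroup_smul, Subgroup.mem_pointwise_smul_iff_inv_smul_mem] at hqR
      have := hmax _ hqR
      simp only [MulAut.smul_def, MulAut.inv_apply, MulAut.conj_symm_apply, Subgroup.coe_mul,
        InvMemClass.coe_inv] at this
      rw [← hxe] at this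
      have e : (u⁻¹ * d) * q * (u⁻¹ * d)⁻¹ = p * ((u * p)⁻¹ * (d * q * d⁻¹) * (u * p)) * p⁻¹ := by group
      rw [e]; exact mul_mem (mul_mem hp this) (inv_mem hp)
    have hmap : P.map (MulAut.conj (u⁻¹ * d)).toMonoidHom = P := Subgroup.eq_of_le_of_card_ge
      (by rintro _ ⟨q, hq, rfl⟩; exact hfwd q hq)
      (le_of_eq (Subgroup.card_map_of_injective (MulAut.conj (u⁻¹ * d)).injective).symm)
    rw [Subgroup.mem_normalizer_iff]
    refine fun q => ⟨hfwd q, fun hq => ?_⟩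
    rw [← hmap] at hq
    obtain ⟨r, hr, e⟩ := hq
    exact (MulAut.conj (u⁻¹ * d)).injective e ▸ hr
  obtain ⟨n, hn⟩ : ∃ n, n = w⁻¹ * d := ⟨_, rfl⟩
  rw [← hn] at hwn
  have hdd := h.mul_self hd
  have hnd : d = w * n := by rw [hn, mul_inv_cancel_left]
  have hnwn : n * w * n = w⁻¹ := by rw [hn]; calc w⁻¹ * d * w * (w⁻¹ * d) = w⁻¹ * (d * d) := by group
                                                  _ = w⁻¹ := by rw [hdd, mul_one]
  -- the fixed part
  obtain ⟨c0, hc0⟩ : ∃ c0, c0 = w * (d * w * d) := ⟨_, rfl⟩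
  have hσ : ∀ x ∈ W, d * x * d ∈ W := fun x hx => by
    have := hWn.conj_mem x hx d; rwa [h.inv_eq hd] at this
  have hc0W : c0 ∈ W := hc0 ▸ mul_mem hw (hσ w hw)
  have hnn : n * n = c0⁻¹ := by
    rw [hn, hc0, hWc w hw _ (hσ w hw)]
    simp only [mul_inv_rev, h.inv_eq hd]
    group
  have hc0n : c0 ∈ Subgroup.normalizer (P : Set G) := by
    rw [← inv_inv c0, ← hnn]; exact inv_mem (mul_mem hwn hwn)
  have hc0c := hcW c0 hc0W hc0n
  let C : Subgroup G := W ⊓ Subgroup.centralizer (P : Set G)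
  have hc0C : c0 ∈ C := Subgroup.mem_inf.2 ⟨hc0W, Subgroup.mem_centralizer_iff.2 hc0c⟩
  let S : Subgroup W :=
    { carrier := {z | ∃ x ∈ W, ∃ c ∈ C, (z : G) = x⁻¹ * (d * x * d) * c}
      one_mem' := ⟨1, one_mem W, 1, one_mem C, by simp [hdd]⟩
      mul_mem' := by
        rintro z z' ⟨x, hx, c, hc, e⟩ ⟨x', hx', c', hc', e'⟩
        refine ⟨x * x', mul_mem hx hx', c * c', mul_mem hc hc', ?_⟩
        have hcW' := (Subgroup.mem_inf.1 hc).1
        have key : d * (x * x') * d = (d * x * d) * (d * x' * d) := by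
          calc d * (x * x') * d = d * x * 1 * x' * d := by group
            _ = d * x * (d * d) * x' * d := by rw [hdd]
            _ = _ := by group
        show (z : G) * (z' : G) = _
        rw [e, e', key]
        let k : W → G := Subtype.val
        have h' : (⟨x, hx⟩⁻¹ * ⟨_, hσ x hx⟩ * ⟨c, hcW'⟩ * (⟨x', hx'⟩⁻¹ * ⟨_, hσ x' hx'⟩ * ⟨c', (Subgroup.mem_inf.1 hc').1⟩) : W)
            = (⟨x, hx⟩ * ⟨x', hx'⟩)⁻¹ * (⟨_, hσ x hx⟩ * ⟨_, hσ x' hx'⟩) * (⟨c, hcW'⟩ * ⟨c', (Subgroup.mem_inf.1 hc').1⟩) := by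
          letI : CommGroup W := { (inferInstance : Group W) with mul_comm := fun a b => Subtype.ext (hWc a a.2 b b.2) }
          simp only [mul_inv_rev]; ac_rfl
        exact congrArg Subtype.val h'
      inv_mem' := by
        rintro z ⟨x, hx, c, hc, e⟩
        refine ⟨x⁻¹, inv_mem hx, c⁻¹, inv_mem hc, ?_⟩
        have key : d * x⁻¹ * d = (d * x * d)⁻¹ := by rw [mul_inv_rev, mul_inv_rev, h.inv_eq hd]; group
        show (z : G)⁻¹ = _
        rw [e, key, inv_inv, mul_inv_rev, mul_inv_rev, inv_inv]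
        have hcW' := (Subgroup.mem_inf.1 hc).1
        rw [← mul_assoc, hWc c⁻¹ (inv_mem hcW') _ (inv_mem (hσ x hx)),
          hWc _ (mul_mem (inv_mem (hσ x hx)) (inv_mem hcW')) x hx]
        group }
  suffices hwS : (⟨w, hw⟩ : W) ∈ S by
    obtain ⟨x, hx, c, hc, e⟩ := hwS
    have e' : w = x⁻¹ * (d * x * d) * c := e
    obtain ⟨hcW', hcP⟩ := Subgroup.mem_inf.1 hc
    refine ⟨x⁻¹, inv_mem hx, ?_⟩
    -- `x d x⁻¹ = c n`
    have hxd : x * d * x⁻¹ = c * n := by
      have hwi : w⁻¹ = c⁻¹ * ((d * x * d)⁻¹ * x) := by rw [e']; group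
      have h3 := hWc _ (inv_mem (hσ x hx)) x hx
      calc x * d * x⁻¹ = x * (d * x * d)⁻¹ * d := by
            rw [mul_inv_rev, mul_inv_rev, h.inv_eq hd,
              show x * (d * (x⁻¹ * d)) * d = x * d * x⁻¹ * (d * d) by group, hdd, mul_one]
        _ = c * n := by rw [hn, hwi, h3]; group
    have hcn : c * n ∈ Subgroup.normalizer (P : Set G) :=
      mul_mem (Subgroup.centralizer_le_normalizer _ hcP) hwn
    rw [← hxd] at hcn
    rw [Subgroup.mem_normalizer_iff]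
    intro q
    have hmem : ∀ q, q ∈ P.map (MulAut.conj x⁻¹).toMonoidHom ↔ x * q * x⁻¹ ∈ P := fun q => by
      constructor
      · rintro ⟨r, hr, rfl⟩; simpa [mul_assoc] using hr
      · exact fun hq => ⟨_, hq, by simp [mul_assoc]⟩
    rw [hmem, hmem, show x * (d * q * d⁻¹) * x⁻¹ = (x * d * x⁻¹) * (x * q * x⁻¹) * (x * d * x⁻¹)⁻¹ by group]
    exact Subgroup.mem_normalizer_iff.1 hcn _
  -- averaging
  letI : CommGroup W := { (inferInstance : Group W) with mul_comm := fun a b => Subtype.ext (hWc a a.2 b b.2) }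
  haveI : Fintype P := Fintype.ofFinite P
  let f : P → W ⧸ S := fun p => QuotientGroup.mk (⟨(p : G) * w * (p : G)⁻¹, hWn.conj_mem w hw p⟩ : W)
  let τ : P → P := fun p => ⟨n * p * n⁻¹, (Subgroup.mem_normalizer_iff.1 hwn p).1 p.2⟩
  have hττ : ∀ p, τ (τ p) = p := fun p => Subtype.ext (by
    show n * (n * p * n⁻¹) * n⁻¹ = p
    rw [show n * (n * (p : G) * n⁻¹) * n⁻¹ = (n * n) * p * (n * n)⁻¹ by group, hnn, inv_inv]
    rw [mul_assoc, hc0c p p.2, inv_mul_cancel_left])
  have hpair : ∀ p, f p * f (τ p) = 1 := by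
    intro p
    rw [← QuotientGroup.mk_mul, QuotientGroup.eq_one_iff]
    obtain ⟨x, hx⟩ : ∃ x, x = (p : G) * w * (p : G)⁻¹ := ⟨_, rfl⟩
    have hxW : x ∈ W := hx ▸ hWn.conj_mem w hw p
    have hσx : d * x * d = (n * p * n⁻¹) * w⁻¹ * (n * p * n⁻¹)⁻¹ * c0 := by
      set q := n * (p : G) * n⁻¹ with hq
      have hqc : q * c0 * q⁻¹ = c0 := by
        rw [hc0c q ((Subgroup.mem_normalizer_iff.1 hwn p).1 p.2), mul_inv_cancel_right]
      have hσw : d * w * d = w⁻¹ * c0 := by rw [hc0, inv_mul_cancel_left]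
      have hnx : n * x * n⁻¹ = d * x * d := by
        have := hWc w⁻¹ (inv_mem hw) _ (hσ x hxW)
        rw [hn, mul_inv_rev, inv_inv, h.inv_eq hd,
          show w⁻¹ * d * x * (d * w) = w⁻¹ * (d * x * d) * w by group, this, inv_mul_cancel_right]
      have hnw : n * w * n⁻¹ = d * w * d := by
        have := hWc w⁻¹ (inv_mem hw) _ (hσ w hw)
        rw [hn, mul_inv_rev, inv_inv, h.inv_eq hd,
          show w⁻¹ * d * w * (d * w) = w⁻¹ * (d * w * d) * w by group, this, inv_mul_cancel_right]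
      calc d * x * d = n * x * n⁻¹ := hnx.symm
        _ = q * (n * w * n⁻¹) * q⁻¹ := by rw [hx, hq]; group
        _ = q * w⁻¹ * q⁻¹ * (q * c0 * q⁻¹) := by rw [hnw, hσw]; group
        _ = q * w⁻¹ * q⁻¹ * c0 := by rw [hqc]
    refine ⟨x⁻¹, inv_mem hxW, c0, hc0C, ?_⟩
    show ((p : G) * w * (p : G)⁻¹) * ((n * p * n⁻¹) * w * (n * p * n⁻¹)⁻¹) = x⁻¹⁻¹ * (d * x⁻¹ * d) * c0
    generalize hq : n * (p : G) * n⁻¹ = q at hσx ⊢
    rw [← hx, show d * x⁻¹ * d = (d * x * d)⁻¹ by rw [mul_inv_rev, mul_inv_rev, h.inv_eq hd]; group, hσx, inv_inv,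
      mul_inv_rev (q * w⁻¹ * q⁻¹) c0, mul_assoc x]
    congr 1
    rw [hWc c0⁻¹ (inv_mem hc0W) _ (inv_mem (hWn.conj_mem _ (inv_mem hw) q))]
    group
  have hfix : ∀ p, τ p = p → f p = f 1 := by
    intro p hp
    rw [eq_comm, QuotientGroup.eq]
    show ∃ x ∈ W, ∃ c ∈ C, (((1 : P) : G) * w * ((1 : P) : G)⁻¹)⁻¹ * ((p : G) * w * (p : G)⁻¹) = x⁻¹ * (d * x * d) * c
    simp only [OneMemClass.coe_one, one_mul, inv_one, mul_one]
    set t := (p : G)
    set d' := t * d * t⁻¹ with hd'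
    have hd'D : d' ∈ D := h.conj t d hd
    have htn : t * n * t⁻¹ = n := by
      have : n * t * n⁻¹ = t := congrArg Subtype.val hp
      have h' : n * t = t * n := mul_inv_eq_iff_eq_mul.1 this
      rw [← h', mul_inv_cancel_right]
    have hy : d' * d = w⁻¹ * (t * w * t⁻¹) := by
      have e : d' = (t * w * t⁻¹) * n := by
        calc d' = (t * w * t⁻¹) * (t * n * t⁻¹) := by rw [hd', hnd]; group
          _ = _ := by rw [htn]
      rw [e, hnd, show t * w * t⁻¹ * n * (w * n) = t * w * t⁻¹ * (n * w * n) by group, hnwn,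
        hWc _ (hWn.conj_mem w hw t) _ (inv_mem hw)]
    have hyW : d' * d ∈ W := hy ▸ mul_mem (inv_mem hw) (hWn.conj_mem w hw t)
    rw [← hy]
    by_cases hne : d' = d
    · exact ⟨1, one_mem W, 1, one_mem C, by simp [hne, hdd]⟩
    have hcomm : Commute d d' := by
      by_contra hn'
      obtain ⟨i, hi⟩ := hW2 ⟨_, hyW⟩
      have h1 : orderOf (d' * d) ∣ 2 ^ i := orderOf_dvd_of_pow_eq_one (by simpa using congrArg Subtype.val hi)
      have h2 : orderOf (d' * d) ∣ 3 := orderOf_dvd_of_pow_eq_one (h.cube hd'D hd fun e => hn' e.symm)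
      exact hne (by
        rw [eq_inv_of_mul_eq_one_left (orderOf_eq_one_iff.1 (Nat.eq_one_of_dvd_coprimes
          (Nat.Coprime.pow_left i (by norm_num : Nat.Coprime 2 3)) h1 h2)), h.inv_eq hd])
    obtain ⟨b, hb, hdb⟩ := h.exists_not_commute hd hd'D (Ne.symm hne)
    have hd'b : ¬ Commute d' b := by
      intro hc'
      have h1 : d * d' ∈ O := hcp d hd d' hd'D hcomm
      have h2 : d' * b ∈ O := hcp d' hd'D b hb hc'
      have h3 : d * b ∈ O := by
        have e : d * b = (d * d') * (d' * b) := by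
          rw [show d * d' * (d' * b) = d * (d' * d') * b by group, h.mul_self hd'D, mul_one]
        rw [e]; exact mul_mem h1 h2
      obtain ⟨i, hi⟩ := hO2 ⟨_, h3⟩
      have h4 : orderOf (d * b) ∣ 2 ^ i := orderOf_dvd_of_pow_eq_one (by simpa using congrArg Subtype.val hi)
      have h5 : orderOf (d * b) ∣ 3 := orderOf_dvd_of_pow_eq_one (h.cube hd hb hdb)
      exact ne_of_not_commute hdb (by
        rw [eq_inv_of_mul_eq_one_left (orderOf_eq_one_iff.1 (Nat.eq_one_of_dvd_coprimes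
          (Nat.Coprime.pow_left i (by norm_num : Nat.Coprime 2 3)) h4 h5)), h.inv_eq hb])
    set z := b * (d * d') * b with hz
    have hzW : z ∈ W := by
      have := hWn.conj_mem _ hyW b
      rwa [h.inv_eq hb, ← hcomm.eq] at this
    have hzz : z * z = 1 := by
      calc z * z = b * (d * d') * (b * b) * (d * d') * b := by rw [hz]; group
        _ = b * (d * d' * d * d') * b := by rw [h.mul_self hb]; group
        _ = 1 := by
            rw [show d * d' * d * d' = d * (d' * d) * d' by group, ← hcomm.eq,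
              show d * (d * d') * d' = (d * d) * (d' * d') by group, hdd, h.mul_self hd'D, mul_one, mul_one,
              h.mul_self hb]
    refine ⟨z, hzW, 1, one_mem C, ?_⟩
    rw [inv_eq_of_mul_eq_one_right hzz, mul_one]
    conv_lhs => rw [← h.pair_conj hd hd'D hb hcomm hdb hd'b]
    simp only [hz]
    group
  have hX : ∏ p, f p = 1 := by
    set X : W := ∏ p : P, ⟨(p : G) * w * (p : G)⁻¹, hWn.conj_mem w hw p⟩ with hX
    have hXC : (X : G) ∈ C := by
      refine Subgroup.mem_inf.2 ⟨X.2, Subgroup.mem_centralizer_iff.2 fun q hq => ?_⟩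
      let φ : W →* W := ⟨⟨fun z => ⟨q * z * q⁻¹, hWn.conj_mem z z.2 q⟩, Subtype.ext (by simp)⟩,
        fun a b => Subtype.ext (by simp [mul_assoc])⟩
      have hfx : φ X = X := by
        rw [hX, map_prod]
        refine Fintype.prod_bijective (fun p => ⟨q, hq⟩ * p) (Group.mulLeft_bijective _) _ _ fun p => Subtype.ext ?_
        show q * ((p : G) * w * (p : G)⁻¹) * q⁻¹ = (q * p) * w * (q * p)⁻¹
        group
      exact mul_inv_eq_iff_eq_mul.1 (congrArg Subtype.val hfx)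
    have : (QuotientGroup.mk X : W ⧸ S) = 1 := (QuotientGroup.eq_one_iff X).2 ⟨1, one_mem W, X, hXC, by simp [hdd]⟩
    rw [← this, hX]
    exact (map_prod (QuotientGroup.mk' S) _ _).symm
  let T : Subgroup P :=
    { carrier := {p | τ p = p}
      one_mem' := Subtype.ext (by simp [τ])
      mul_mem' := fun {a b} (ha : τ a = a) (hb : τ b = b) => Subtype.ext (by
        show n * ((a : G) * b) * n⁻¹ = a * b
        have e1 : n * (a : G) * n⁻¹ = a := congrArg Subtype.val ha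
        have e2 : n * (b : G) * n⁻¹ = b := congrArg Subtype.val hb
        calc n * ((a : G) * b) * n⁻¹ = (n * a * n⁻¹) * (n * b * n⁻¹) := by group
          _ = _ := by rw [e1, e2])
      inv_mem' := fun {a} (ha : τ a = a) => Subtype.ext (by
        show n * (a : G)⁻¹ * n⁻¹ = (a : G)⁻¹
        have e1 : n * (a : G) * n⁻¹ = a := congrArg Subtype.val ha
        conv_rhs => rw [← e1]
        group) }
  rw [← Finset.prod_filter_mul_prod_filter_not Finset.univ (fun p => τ p = p)] at hX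
  have hnot : ∏ p ∈ Finset.univ.filter (fun p => ¬ τ p = p), f p = 1 :=
    Finset.prod_involution (fun p _ => τ p) (fun p _ => hpair p) (fun p hp _ => (Finset.mem_filter.1 hp).2)
      (fun p hp => Finset.mem_filter.2 ⟨Finset.mem_univ _, fun e => (Finset.mem_filter.1 hp).2 (by
        conv_rhs => rw [← hττ p]
        exact e.symm)⟩) (fun p _ => hττ p)
  rw [hnot, mul_one, Finset.prod_congr rfl (fun p hp => hfix p (Finset.mem_filter.1 hp).2), Finset.prod_const] at hX
  have hT : (Finset.univ.filter fun p => τ p = p).card = Nat.card T :=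
    (Nat.subtype_card _ fun p => by simp only [Finset.mem_filter, Finset.mem_univ, true_and]; exact Iff.rfl).symm
  obtain ⟨j, hj⟩ := IsPGroup.iff_card.1 (hP.to_subgroup T)
  rw [hT, hj] at hX
  obtain ⟨i, hi⟩ := hW2 ⟨w, hw⟩
  have hf1 : f 1 = QuotientGroup.mk (⟨w, hw⟩ : W) := congrArg QuotientGroup.mk (Subtype.ext (by simp))
  have h1 : orderOf (f 1) ∣ 3 ^ j := orderOf_dvd_of_pow_eq_one hX
  have h2 : orderOf (f 1) ∣ 2 ^ i := orderOf_dvd_of_pow_eq_one (by rw [hf1, ← QuotientGroup.mk_pow, hi]; rfl)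
  have h3 := orderOf_eq_one_iff.1 (Nat.eq_one_of_dvd_coprimes
    (Nat.Coprime.pow j i (by norm_num : Nat.Coprime 3 2)) h1 h2)
  rw [hf1, QuotientGroup.eq_one_iff] at h3
  exact h3

/-- A member normalises a conjugate, by the normal 2-subgroup, of a 3-subgroup normalised modulo it. -/
theorem Hyp.exists_normalized_conj : ∀ (m : ℕ) (G : Type u) [Group G] [Finite G] (D : Set G), Hyp D →
    ∀ (O P : Subgroup G) [O.Normal], Nat.card G = m → IsPGroup 2 O →
    (∀ a ∈ D, ∀ b ∈ D, Commute a b → a * b ∈ O) → ∀ d ∈ D, d ∉ O → IsPGroup 3 P →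
    d ∈ Subgroup.normalizer ((P ⊔ O : Subgroup G) : Set G) →
    ∃ v ∈ O, d ∈ Subgroup.normalizer ((P.map (MulAut.conj v).toMonoidHom : Subgroup G) : Set G) := by
  intro m
  induction m using Nat.strong_induction_on with
  | _ m ih =>
  intro G _ _ D h O P _ hm hO2 hcp d hd hdO hP hdn
  haveI : Fact (Nat.Prime 2) := ⟨Nat.prime_two⟩
  by_cases hO : O = ⊥
  · refine ⟨1, one_mem O, ?_⟩
    rw [map_one, show (1 : MulAut G).toMonoidHom = MonoidHom.id G from rfl, Subgroup.map_id]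
    rwa [hO, sup_bot_eq] at hdn
  haveI : Nontrivial O := (Subgroup.nontrivial_iff_ne_bot O).2 hO
  haveI := hO2.center_nontrivial
  let W : Subgroup G := (Subgroup.center O).map O.subtype
  haveI hWn : W.Normal := inferInstance
  have hWO : W ≤ O := Subgroup.map_subtype_le _
  have hWc : IsMulCommutative W := ⟨⟨by
    intro x y
    obtain ⟨a, ha, ea⟩ := x.2
    obtain ⟨b, hb, eb⟩ := y.2
    refine Subtype.ext ?_
    show (x : G) * y = y * x
    rw [← ea, ← eb, ← map_mul, ← map_mul, Subgroup.mem_center_iff.1 hb a]⟩⟩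
  have hW1 : 1 < Nat.card W := by
    rw [Subgroup.card_map_of_injective O.subtype_injective]
    exact Finite.one_lt_card
  have hlt : Nat.card (G ⧸ W) < m := by
    rw [← hm, Subgroup.card_eq_card_quotient_mul_card_subgroup W]
    exact lt_mul_of_one_lt_right Nat.card_pos hW1
  obtain ⟨f, hf⟩ : ∃ f : G →* G ⧸ W, f = QuotientGroup.mk' W := ⟨_, rfl⟩
  have hker : f.ker = W := hf ▸ QuotientGroup.ker_mk' W
  have hfs : Function.Surjective f := hf ▸ QuotientGroup.mk'_surjective W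
  have hone : ∀ x, f x = 1 ↔ x ∈ W := fun x => by rw [← MonoidHom.mem_ker, hker]
  have hnotO : ∀ a ∈ D, a ∉ O := by
    intro a ha hmem
    obtain ⟨g, hg⟩ := h.transitive a ha d hd
    exact hdO (hg ▸ (inferInstance : O.Normal).conj_mem a hmem g)
  have hD' : Hyp (f '' D) := by
    refine ⟨⟨?_, ?_⟩, ?_, ?_, ?_⟩
    · rintro _ ⟨a, ha, rfl⟩
      refine orderOf_eq_prime (by rw [← map_pow, pow_two, h.mul_self ha, map_one]) fun e => ?_
      exact hnotO a ha (hWO ((hone a).1 e))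
    · rintro _ ⟨a, ha, rfl⟩ _ ⟨b, hb, rfl⟩
      rw [← map_mul, ← map_pow, ← map_pow]
      exact (h.set.2 a ha b hb).imp (fun e => by rw [e, map_one]) (fun e => by rw [e, map_one])
    · rintro q _ ⟨a, ha, rfl⟩
      obtain ⟨g, rfl⟩ := hfs q
      exact ⟨_, h.conj g a ha, by simp⟩
    · rintro _ ⟨a, ha, rfl⟩ _ ⟨b, hb, rfl⟩
      obtain ⟨g, hg⟩ := h.transitive a ha b hb
      exact ⟨f g, by rw [← hg]; simp⟩
    · rw [← MonoidHom.map_closure, h.gen, Subgroup.map_top_of_surjective f hfs]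
  haveI : (O.map f).Normal := Subgroup.Normal.map inferInstance f hfs
  have hcp' : ∀ a ∈ f '' D, ∀ b ∈ f '' D, Commute a b → a * b ∈ O.map f := by
    rintro _ ⟨a, ha, rfl⟩ _ ⟨b, hb, rfl⟩ hc
    rw [← map_mul]
    refine Subgroup.mem_map_of_mem f ?_
    by_cases hab : Commute a b
    · exact hcp a ha b hb hab
    have h3 := h.cube ha hb hab
    have hm2 : (a * b) ^ 2 ∈ W := by
      rw [← hone, map_pow, map_mul, hc.mul_pow, ← map_pow, ← map_pow, pow_two, pow_two, h.mul_self ha,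
        h.mul_self hb, map_one, one_mul]
    rw [show a * b = ((a * b) ^ 2) ^ 2 by rw [← pow_mul, pow_succ, h3, one_mul]]
    exact hWO (pow_mem hm2 2)
  obtain ⟨_, ⟨v, hv, rfl⟩, hn⟩ := ih _ hlt (G ⧸ W) (f '' D) hD' (O.map f) (P.map f) rfl (hO2.map f) hcp' (f d)
    ⟨d, hd, rfl⟩ (fun ⟨o, ho, e⟩ => hdO (by
      have : o⁻¹ * d ∈ W := by rw [← hone, map_mul, map_inv, e, inv_mul_cancel]
      have := mul_mem ho (hWO this)
      rwa [mul_inv_cancel_left] at this))
    (hP.map f) (by rw [← Subgroup.map_sup]; exact Subgroup.le_normalizer_map f ⟨d, hdn, rfl⟩)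
  obtain ⟨P1, hP1⟩ : ∃ P1, P1 = P.map (MulAut.conj v).toMonoidHom := ⟨_, rfl⟩
  have hmap : (P.map f).map (MulAut.conj (f v)).toMonoidHom = P1.map f := by
    rw [hP1, Subgroup.map_map, Subgroup.map_map]
    congr 1
    ext x; simp
  rw [hmap] at hn
  have hcm : ∀ x, x ∈ P1 ⊔ W ↔ f x ∈ P1.map f := fun x => by
    rw [← Subgroup.mem_comap, Subgroup.comap_map_eq, hker]
  have hdn1 : d ∈ Subgroup.normalizer ((P1 ⊔ W : Subgroup G) : Set G) := by
    rw [Subgroup.mem_normalizer_iff]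
    intro x
    rw [hcm, hcm, map_mul, map_mul, map_inv]
    exact Subgroup.mem_normalizer_iff.1 hn (f x)
  obtain ⟨w, hw, hwn⟩ := h.normalize_step hWO hO2 hWc hcp hd (hP1 ▸ hP.map _) hdn1
  refine ⟨w * v, mul_mem (hWO hw) hv, ?_⟩
  have : P.map (MulAut.conj (w * v)).toMonoidHom = P1.map (MulAut.conj w).toMonoidHom := by
    rw [hP1, Subgroup.map_map]
    congr 1
    ext x; simp [mul_assoc]
  rwa [this]

/-- Equality of commuting and same commuting sets gives a normalised Sylow 3-subgroup covering the quotient. -/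
theorem Hyp.exists_sylow_three (h : Hyp D) {d : G} (hd : d ∈ D)
    (hV : ∀ y ∈ D, Commute d y → ∀ e ∈ D, Commute y e ↔ Commute d e) :
    ∃ P : Sylow 3 G, d ∈ Subgroup.normalizer (P : Set G) ∧
      Subgroup.zpowers d ⊔ (P : Subgroup G) ⊔ Cfsg.pCore 2 G = ⊤ := by
  haveI : Fact (Nat.Prime 3) := ⟨Nat.prime_three⟩
  haveI : Fact (Nat.Prime 2) := ⟨Nat.prime_two⟩
  haveI hOn := CfsgLib.Coprime.pCore_normal' (G := G) 2
  have hO2 := CfsgLib.Coprime.pCore_isPGroup (G := G) 2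
  by_cases hdO : d ∈ Cfsg.pCore 2 G
  · have htop : Cfsg.pCore 2 G = ⊤ := by
      rw [eq_top_iff, ← h.gen, Subgroup.closure_le]
      intro y hy
      obtain ⟨g, rfl⟩ := h.transitive d hd y hy
      exact hOn.conj_mem d hdO g
    obtain ⟨P⟩ := (inferInstance : Nonempty (Sylow 3 G))
    have hP1 : (P : Subgroup G) = ⊥ := by
      have hd := IsPGroup.disjoint_of_ne 3 2 (by norm_num) (P : Subgroup G) (Cfsg.pCore 2 G) P.isPGroup' hO2
      rwa [htop, disjoint_top] at hd
    refine ⟨P, ?_, by rw [htop, sup_top_eq]⟩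
    have : Subgroup.normalizer ((P : Subgroup G) : Set G) = ⊤ := by
      rw [hP1]; exact Subgroup.normalizer_eq_top_iff.2 inferInstance
    exact this.symm ▸ Subgroup.mem_top d
  have hcp : ∀ a ∈ D, ∀ b ∈ D, Commute a b → a * b ∈ Cfsg.pCore 2 G := by
    intro a ha b hb hab
    refine h.mul_mem_two_core ha hb fun e he => ?_
    obtain ⟨g, hg⟩ := h.transitive a ha d hd
    have hc : Commute d (g * b * g⁻¹) := by rw [← hg]; exact (Commute.conj_iff g).2 hab
    have := hV _ (h.conj g b hb) hc _ (h.conj g e he)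
    rw [← hg, Commute.conj_iff, Commute.conj_iff] at this
    exact this.symm
  obtain ⟨f, hf⟩ : ∃ f : G →* G ⧸ Cfsg.pCore 2 G, f = QuotientGroup.mk' _ := ⟨_, rfl⟩
  have hker : f.ker = Cfsg.pCore 2 G := hf ▸ QuotientGroup.ker_mk' _
  have hfs : Function.Surjective f := hf ▸ QuotientGroup.mk'_surjective _
  have hone : ∀ x, f x = 1 ↔ x ∈ Cfsg.pCore 2 G := fun x => by rw [← MonoidHom.mem_ker, hker]
  have hord : orderOf (f d) = 2 :=
    orderOf_eq_prime (by rw [← map_pow, pow_two, h.mul_self hd, map_one]) fun e => hdO ((hone d).1 e)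
  have hall : ∀ q, ∃ k, orderOf (f d * (q * f d * q⁻¹)) = 3 ^ k := by
    intro q
    obtain ⟨g, rfl⟩ := hfs q
    rw [← map_inv, ← map_mul, ← map_mul, ← map_mul]
    by_cases hc : Commute d (g * d * g⁻¹)
    · exact ⟨0, by rw [(hone _).2 (hcp d hd _ (h.conj g d hd) hc), orderOf_one, pow_zero]⟩
    · have h1 : orderOf (f (d * (g * d * g⁻¹))) ∣ 3 ^ 1 := by
        rw [pow_one]; exact orderOf_dvd_of_pow_eq_one (by rw [← map_pow, h.cube hd (h.conj g d hd) hc, map_one])
      obtain ⟨k, -, hk⟩ := (Nat.dvd_prime_pow Nat.prime_three).1 h1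
      exact ⟨k, hk⟩
  have hO3 := fun q => CfsgLib.Invol.mul_conj_mem_pCore Nat.prime_three (by norm_num) hord hall q
  haveI hMn := CfsgLib.Coprime.pCore_normal' (G := G ⧸ Cfsg.pCore 2 G) 3
  obtain ⟨π, hπ⟩ : ∃ π : G ⧸ Cfsg.pCore 2 G →* (G ⧸ Cfsg.pCore 2 G) ⧸ Cfsg.pCore 3 (G ⧸ Cfsg.pCore 2 G),
      π = QuotientGroup.mk' _ := ⟨_, rfl⟩
  have hgen : ∀ x : G, π (f x) ∈ Subgroup.zpowers (π (f d)) := by
    intro x
    have hle : Subgroup.closure D ≤ (Subgroup.zpowers (π (f d))).comap (π.comp f) := by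
      rw [Subgroup.closure_le]
      intro e he
      obtain ⟨g, hg⟩ := h.transitive d hd e he
      have h1 : π (f d * (f g * f d * (f g)⁻¹)) = 1 := by rw [hπ]; exact (QuotientGroup.eq_one_iff _).2 (hO3 (f g))
      rw [← map_inv, ← map_mul, ← map_mul, hg, map_mul] at h1
      show π (f e) ∈ Subgroup.zpowers (π (f d))
      rw [eq_inv_of_mul_eq_one_right h1]
      exact inv_mem (Subgroup.mem_zpowers _)
    exact hle (h.gen ▸ Subgroup.mem_top x)
  obtain ⟨P0⟩ := (inferInstance : Nonempty (Sylow 3 G))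
  have hle1 : (P0 : Subgroup G).map f ≤ Cfsg.pCore 3 (G ⧸ Cfsg.pCore 2 G) := by
    rintro _ ⟨x, hx, rfl⟩
    rw [← QuotientGroup.eq_one_iff, ← orderOf_eq_one_iff]
    show orderOf (QuotientGroup.mk' _ (f x)) = 1
    rw [← hπ]
    obtain ⟨i, hi⟩ := P0.isPGroup' ⟨x, hx⟩
    have h1 : orderOf (π (f x)) ∣ 3 ^ i := orderOf_dvd_of_pow_eq_one (by
      rw [← map_pow, ← map_pow, show x ^ 3 ^ i = 1 by simpa using congrArg Subtype.val hi, map_one, map_one])
    have h2 : orderOf (π (f x)) ∣ 2 := by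
      have h2' := Subgroup.orderOf_dvd_natCard _ (hgen x)
      rw [Nat.card_zpowers] at h2'
      exact h2'.trans (orderOf_dvd_of_pow_eq_one (by rw [← map_pow, ← map_pow, pow_two, h.mul_self hd, map_one, map_one]))
    exact Nat.eq_one_of_dvd_coprimes (Nat.Coprime.pow_left i (by norm_num : Nat.Coprime 3 2)) h1 h2
  have hle2 : Cfsg.pCore 3 (G ⧸ Cfsg.pCore 2 G) ≤ (P0 : Subgroup G).map f := by
    rw [show (P0 : Subgroup G).map f = (P0.mapSurjective hfs : Subgroup (G ⧸ Cfsg.pCore 2 G)) from rfl]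
    exact CfsgLib.Coprime.pCore_le_sylow _
  have hdn : d ∈ Subgroup.normalizer (((P0 : Subgroup G) ⊔ Cfsg.pCore 2 G : Subgroup G) : Set G) := by
    have e : (P0 : Subgroup G) ⊔ Cfsg.pCore 2 G = (Cfsg.pCore 3 (G ⧸ Cfsg.pCore 2 G)).comap f := by
      rw [← le_antisymm hle1 hle2, Subgroup.comap_map_eq, hker]
    rw [e, Subgroup.normalizer_eq_top_iff.2 (hMn.comap f)]
    exact Subgroup.mem_top d
  obtain ⟨v, hv, hn⟩ := Hyp.exists_normalized_conj _ G D h _ _ rfl hO2 hcp d hd hdO P0.isPGroup' hdn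
  refine ⟨v • P0, hn, ?_⟩
  have hfv : f v = 1 := (hone v).2 hv
  have hmapv : ((v • P0 : Sylow 3 G) : Subgroup G).map f = Cfsg.pCore 3 (G ⧸ Cfsg.pCore 2 G) := by
    rw [← le_antisymm hle1 hle2, Sylow.coe_subgroup_smul]
    ext y
    constructor
    · rintro ⟨_, ⟨z, hz, rfl⟩, rfl⟩; exact ⟨z, hz, by simp [hfv]⟩
    · rintro ⟨z, hz, rfl⟩; exact ⟨_, ⟨z, hz, rfl⟩, by simp [hfv]⟩
  set S := Subgroup.zpowers d ⊔ ((v • P0 : Sylow 3 G) : Subgroup G) ⊔ Cfsg.pCore 2 G with hS
  have hmapS : S.map f = ⊤ := by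
    rw [eq_top_iff]
    intro q _
    obtain ⟨x, rfl⟩ := hfs q
    obtain ⟨k, hk⟩ := Subgroup.mem_zpowers_iff.1 (hgen x)
    have hk' : π ((f d) ^ k) = π (f x) := by rw [map_zpow]; exact hk
    rw [hπ] at hk'
    have hm : ((f d) ^ k)⁻¹ * f x ∈ Cfsg.pCore 3 (G ⧸ Cfsg.pCore 2 G) := QuotientGroup.eq.1 hk'
    rw [← hmapv] at hm
    obtain ⟨p, hp, e⟩ := hm
    refine ⟨d ^ k * p, mul_mem (zpow_mem ?_ k) ?_, by rw [map_mul, map_zpow, e, mul_inv_cancel_left]⟩
    · exact le_sup_left (a := Subgroup.zpowers d ⊔ _) (le_sup_left (a := Subgroup.zpowers d) (Subgroup.mem_zpowers d))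
    · exact le_sup_left (a := Subgroup.zpowers d ⊔ _) (le_sup_right (a := Subgroup.zpowers d) hp)
  have h2 := congrArg (Subgroup.comap f) hmapS
  rwa [Subgroup.comap_map_eq, hker, Subgroup.comap_top, sup_eq_left.2 (le_sup_right : Cfsg.pCore 2 G ≤ S)] at h2

end CfsgLib.Spor.Tri
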