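/-
A checker for equations between words in involutions along the diagram Y332.
-/
import Cfsg.Agent.Lib.Spor.TC.Word

set_option autoImplicit false

namespace CfsgLib.Spor.Tri.Y332

open CfsgLib.Spor.TC

variable {G : Type*} [Group G]

/-- The edges: the branch point is 3, the arms are 3-2-1-0, 3-4-5-6, 3-7-8. -/
def edge (x y : ℕ) : Bool :=
  match x, y with
  | 0, 1 | 1, 0 | 1, 2 | 2, 1 | 2, 3 | 3, 2 | 3, 4 | 4, 3 | 4, 5 | 5, 4 | 5, 6 | 6, 5 | 3, 7 | 7, 3 | 7, 8 | 8, 7 => true
  | _, _ => false

/-- Deleting a square, exchanging two letters, or braiding, at the start of a word. -/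
def head : ℕ → List ℕ → Option (List ℕ)
  | 0, x :: y :: w => if Nat.beq x y then some w else none
  | 1, x :: y :: w => if !edge x y && (Nat.blt x 9 && Nat.blt y 9) then some (y :: x :: w) else none
  | _ + 2, x :: y :: z :: w => if edge x y && Nat.beq x z then some (y :: x :: y :: w) else none
  | _, _ => none

/-- The same at a position. -/
def act (t : ℕ) : ℕ → List ℕ → Option (List ℕ)
  | 0, w => head t w
  | _ + 1, [] => none
  | k + 1, x :: w => (act t k w).map (x :: ·)

/-- A sequence of coded moves reduces a word to nothing. -/
def kills : List ℕ → List ℕ → Bool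
  | w, [] => w.isEmpty
  | w, m :: ms =>
    match act (m % 4) (m / 4) w with
    | some w' => kills w' ms
    | none => false

/-- Nine involutions with the relations of the diagram. -/
structure Diag (g : ℕ → G) : Prop where
  sq : ∀ x, g x * g x = 1
  comm : ∀ x y, x < 9 → y < 9 → edge x y = false → g x * g y = g y * g x
  braid : ∀ x y, edge x y = true → g x * g y * g x = g y * g x * g y

variable {g : ℕ → G}

theorem head_ev (hg : Diag g) {t : ℕ} {w w' : List ℕ} (h : head t w = some w') : ev g w = ev g w' := by
  match t, w with
  | 0, x :: y :: r =>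
    simp only [head] at h
    split at h
    · rename_i e
      obtain rfl : x = y := Nat.eq_of_beq_eq_true e
      cases h
      simp [ev, ← mul_assoc, hg.sq]
    · simp at h
  | 1, x :: y :: r =>
    simp only [head] at h
    split at h
    · rename_i e
      simp only [Bool.and_eq_true, Bool.not_eq_true'] at e
      cases h
      simp [ev, ← mul_assoc, hg.comm x y (Nat.le_of_ble_eq_true e.2.1) (Nat.le_of_ble_eq_true e.2.2) e.1]
    · simp at h
  | n + 2, x :: y :: z :: r =>
    simp only [head] at h
    split at h
    · rename_i e
      simp only [Bool.and_eq_true] at e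
      obtain rfl : x = z := Nat.eq_of_beq_eq_true e.2
      cases h
      simp [ev, ← mul_assoc, hg.braid x y e.1]
    · simp at h
  | 0, [] => simp [head] at h
  | 0, [_] => simp [head] at h
  | 1, [] => simp [head] at h
  | 1, [_] => simp [head] at h
  | n + 2, [] => simp [head] at h
  | n + 2, [_] => simp [head] at h
  | n + 2, [_, _] => simp [head] at h

theorem act_ev (hg : Diag g) {t : ℕ} : ∀ {k : ℕ} {w w' : List ℕ}, act t k w = some w' → ev g w = ev g w' := by
  intro k
  induction k with
  | zero => exact fun h => head_ev hg h
  | succ k ih =>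
    intro w w' h
    match w with
    | [] => simp [act] at h
    | x :: w =>
      simp only [act, Option.map_eq_some_iff] at h
      obtain ⟨r, hr, rfl⟩ := h
      have e : ev g w = ev g r := ih hr
      show (List.map g (x :: w)).prod = (List.map g (x :: r)).prod
      rw [List.map_cons, List.prod_cons, List.map_cons, List.prod_cons]
      exact congrArg (g x * ·) e

theorem kills_ev (hg : Diag g) : ∀ {ms w : List ℕ}, kills w ms = true → ev g w = 1 := by
  intro ms
  induction ms with
  | nil =>
    intro w h
    simp only [kills, List.isEmpty_iff] at h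
    simp [h, ev]
  | cons m ms ih =>
    intro w h
    simp only [kills] at h
    split at h
    · rename_i w' e
      exact (act_ev hg e).trans (ih h)
    · simp at h

theorem ev_rev (hg : Diag g) : ∀ w : List ℕ, ev g w.reverse = (ev g w)⁻¹ := by
  intro w
  induction w with
  | nil => simp [ev]
  | cons a w ih =>
    rw [List.reverse_cons, ev_append, ih]
    simp [ev, inv_eq_of_mul_eq_one_right (hg.sq a)]

/-- A certified commutation with a letter. -/
theorem commute_of_kills (hg : Diag g) {x : ℕ} {u ms : List ℕ} (h : kills ([x] ++ u ++ [x] ++ u.reverse) ms = true) :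
    Commute (g x) (ev g u) := by
  have e := kills_ev hg h
  rw [ev_append, ev_append, ev_append, ev_rev hg] at e
  have e2 : g x * ev g u * g x = ev g u := by
    have := eq_of_mul_inv_eq_one (a := g x * ev g u * g x) (b := ev g u) (by simpa [ev] using e)
    exact this
  show g x * ev g u = ev g u * g x
  calc g x * ev g u = g x * ev g u * g x * g x := by rw [mul_assoc (g x * ev g u), hg.sq, mul_one]
    _ = ev g u * g x := by rw [e2]

/-- A certified equation. -/
theorem eq_of_kills (hg : Diag g) {u v ms : List ℕ} (h : kills (u ++ v.reverse) ms = true) : ev g u = ev g v := by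
  have e := kills_ev hg h
  rw [ev_append, ev_rev hg] at e
  exact eq_of_mul_inv_eq_one e

end CfsgLib.Spor.Tri.Y332
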